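import Groth.Prelude.Def_GrSyz

/-!
# The standard grading of a polynomial ring over a field: the irrelevant ideal and constant terms
-/

set_option autoImplicit false
universe u v

namespace Groth.Agent.Lib.Helper66

open MvPolynomial

section
variable (k : Type u) [CommRing k] (σ : Type v)

/-- the weight (all weights one, values in `ℤ`) of a monomial is the sum of its exponents -/
theorem weight_one_eq (m : σ →₀ ℕ) :
    Finsupp.weight (fun _ : σ => (1 : ℤ)) m = ∑ i ∈ m.support, (m i : ℤ) := by
  rw [Finsupp.weight_apply, Finsupp.sum]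
  refine Finset.sum_congr rfl fun i _ => ?_
  simp

theorem eq_zero_of_weight_one_nonpos (m : σ →₀ ℕ)
    (h : Finsupp.weight (fun _ : σ => (1 : ℤ)) m ≤ 0) : m = 0 := by
  rw [weight_one_eq] at h
  have h0 : ∀ i ∈ m.support, (0 : ℤ) ≤ (m i : ℤ) := fun i _ => Int.natCast_nonneg _
  have h1 : ∑ i ∈ m.support, (m i : ℤ) = 0 := le_antisymm h (Finset.sum_nonneg h0)
  have h2 := (Finset.sum_eq_zero_iff_of_nonneg h0).mp h1
  ext i
  by_cases hi : i ∈ m.support
  · have := h2 i hi
    simpa using this
  · simpa using hi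

/-- Elements of the irrelevant ideal of the standard grading have zero constant term. -/
theorem constantCoeff_eq_zero_of_mem_irrel (p : MvPolynomial σ k)
    (hp : p ∈ (GrSyz.irrel (GrSyz.stdGr k σ)).toIdeal) : constantCoeff p = 0 := by
  have hle : (GrSyz.irrel (GrSyz.stdGr k σ)).toIdeal ≤ RingHom.ker (constantCoeff (R := k) (σ := σ)) := by
    change Ideal.span _ ≤ _
    rw [Ideal.span_le]
    rintro r ⟨n, hn, hr⟩
    rw [SetLike.mem_coe, RingHom.mem_ker]
    by_contra hne
    have hr' : r.IsWeightedHomogeneous (fun _ : σ => (1 : ℤ)) n := hr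
    have := hr' (d := 0) (by simpa [constantCoeff_eq] using hne)
    rw [map_zero] at this
    omega
  exact (RingHom.mem_ker).mp (hle hp)

/-- A nonzero homogeneous polynomial with zero constant term has degree at least one. -/
theorem one_le_of_mem_stdGr (n : ℤ) (p : MvPolynomial σ k) (hp : p ∈ GrSyz.stdGr k σ n)
    (h0 : constantCoeff p = 0) (hne : p ≠ 0) : 1 ≤ n := by
  by_contra hn
  have hn' : n ≤ 0 := by omega
  obtain ⟨m, hm⟩ := MvPolynomial.ne_zero_iff.mp hne
  have hp' : p.IsWeightedHomogeneous (fun _ : σ => (1 : ℤ)) n := hp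
  have hw := hp' hm
  have hm0 : m = 0 := eq_zero_of_weight_one_nonpos σ m (hw ▸ hn')
  rw [hm0] at hm
  exact hm (by simpa [constantCoeff_eq] using h0)

end

section
variable (k : Type u) [Field k] (σ : Type v)

theorem one_notMem_irrel : (1 : MvPolynomial σ k) ∉ (GrSyz.irrel (GrSyz.stdGr k σ)).toIdeal := by
  intro h
  have := constantCoeff_eq_zero_of_mem_irrel k σ 1 h
  simp at this

end

end Groth.Agent.Lib.Helper66

namespace Groth.Agent.Lib.Helper66

open MvPolynomial

section
variable (k : Type u) [Field k] (σ : Type v)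

/-- A homogeneous polynomial outside the irrelevant ideal is a nonzero constant, hence a unit. -/
theorem isUnit_of_mem_stdGr_of_notMem_irrel (n : ℤ) (p : MvPolynomial σ k) (hp : p ∈ GrSyz.stdGr k σ n)
    (hnot : p ∉ (GrSyz.irrel (GrSyz.stdGr k σ)).toIdeal) : IsUnit p := by
  have hn : n ≤ 0 := by
    by_contra hn
    exact hnot (Ideal.subset_span ⟨n, by omega, hp⟩)
  have hp' : p.IsWeightedHomogeneous (fun _ : σ => (1 : ℤ)) n := hp
  have hC : p = C (coeff 0 p) := by
    classical
    ext m
    rw [coeff_C]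
    by_cases hm : 0 = m
    · rw [if_pos hm, hm]
    · rw [if_neg hm]
      by_contra hne
      have hw := hp' hne
      exact hm (eq_zero_of_weight_one_nonpos σ m (hw ▸ hn)).symm
  have hc : coeff 0 p ≠ 0 := by
    intro h0
    rw [h0, map_zero] at hC
    exact hnot (hC ▸ Ideal.zero_mem _)
  rw [hC]
  exact (isUnit_iff_ne_zero.mpr hc).map C

end

end Groth.Agent.Lib.Helper66
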