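import Mathlib
import Groth.Prelude.Def_GrSyz
import Groth.Agent.Lib.Helper66.StdGr
import Groth.Agent.Lib.Helper73.PdQuotient

/-!
# The quotient of a polynomial ring by its variables has finite projective dimension (helper66)

`pd_quot_I`: `S/(x_0, …, x_{j-1})` has projective dimension `< j + 1` over `S = k[x_0..x_{n-1}]`
(any commutative ring `k`).  `pd_quot_irrel`: `S/𝔪` has projective dimension `< r + 2` over
`S = k[x_0..x_r]`, `𝔪` the irrelevant ideal of the standard grading.
-/

set_option autoImplicit false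
universe u

namespace Groth.Agent.Lib.Helper66.PdVars

open MvPolynomial CategoryTheory

variable (k : Type u) [CommRing k] (n : ℕ)

/-- the ideal generated by the first `j` variables -/
noncomputable def I (j : ℕ) : Ideal (MvPolynomial (Fin n) k) :=
  Ideal.span (X '' {i : Fin n | i.val < j})

theorem mem_I_of_X_mul_mem (j : ℕ) (hj : j < n) (p : MvPolynomial (Fin n) k)
    (h : (X (⟨j, hj⟩ : Fin n) : MvPolynomial (Fin n) k) * p ∈ I k n j) : p ∈ I k n j := by
  unfold I at h ⊢
  rw [mem_ideal_span_X_image] at h ⊢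
  intro m hm
  have hm' : Finsupp.single (⟨j, hj⟩ : Fin n) 1 + m ∈
      ((X (⟨j, hj⟩ : Fin n) : MvPolynomial (Fin n) k) * p).support := by
    rw [support_X_mul]
    exact Finset.mem_map_of_mem _ hm
  obtain ⟨i, hi, hne⟩ := h _ hm'
  refine ⟨i, hi, ?_⟩
  have hij : i ≠ ⟨j, hj⟩ := by
    rintro rfl
    exact lt_irrefl j hi
  rwa [Finsupp.add_apply, Finsupp.single_eq_of_ne hij, zero_add] at hne

theorem I_succ (j : ℕ) (hj : j < n) :
    I k n (j + 1) = I k n j ⊔ Ideal.span {(X ⟨j, hj⟩ : MvPolynomial (Fin n) k)} := by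
  unfold I
  have hset : {i : Fin n | i.val < j + 1} = {i : Fin n | i.val < j} ∪ {⟨j, hj⟩} := by
    ext i
    simp only [Set.mem_ofPred_eq, Set.mem_union, Set.mem_singleton_iff, Fin.ext_iff]
    omega
  rw [hset, Set.image_union, Set.image_singleton, Ideal.span_union]

theorem pd_quot_I (j : ℕ) (hj : j ≤ n) :
    HasProjectiveDimensionLT (ModuleCat.of (MvPolynomial (Fin n) k)
      (MvPolynomial (Fin n) k ⧸ I k n j)) (j + 1) := by
  induction j with
  | zero =>
    have hI : I k n 0 = ⊥ := by
      unfold I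
      simp
    rw [zero_add, ← projective_iff_hasProjectiveDimensionLT_one, ← IsProjective.iff_projective]
    exact Module.Projective.of_equiv (Submodule.quotEquivOfEqBot _ hI).symm
  | succ j ih =>
    have hj' : j < n := hj
    have ih' := ih (le_of_lt hj')
    have hle : I k n j ≤ I k n (j + 1) := by
      rw [I_succ k n j hj']
      exact le_sup_left
    let f : (MvPolynomial (Fin n) k ⧸ I k n j) →ₗ[MvPolynomial (Fin n) k]
        (MvPolynomial (Fin n) k ⧸ I k n j) :=
      LinearMap.lsmul (MvPolynomial (Fin n) k) _ (X ⟨j, hj'⟩)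
    let g : (MvPolynomial (Fin n) k ⧸ I k n j) →ₗ[MvPolynomial (Fin n) k]
        (MvPolynomial (Fin n) k ⧸ I k n (j + 1)) := Submodule.factor hle
    have hfmk : ∀ c : MvPolynomial (Fin n) k,
        f (Submodule.Quotient.mk c : MvPolynomial (Fin n) k ⧸ I k n j) =
          (Submodule.Quotient.mk ((X (⟨j, hj'⟩ : Fin n) : MvPolynomial (Fin n) k) * c) :
            MvPolynomial (Fin n) k ⧸ I k n j) := by
      intro c
      change (X (⟨j, hj'⟩ : Fin n) : MvPolynomial (Fin n) k) •
        (Submodule.Quotient.mk c : MvPolynomial (Fin n) k ⧸ I k n j) = _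
      rw [← Submodule.Quotient.mk_smul, smul_eq_mul]
    have hf : Function.Injective f := by
      rw [injective_iff_map_eq_zero]
      intro y hy
      obtain ⟨p, rfl⟩ := Submodule.Quotient.mk_surjective _ y
      rw [hfmk, Submodule.Quotient.mk_eq_zero] at hy
      rw [Submodule.Quotient.mk_eq_zero]
      exact mem_I_of_X_mul_mem k n j hj' p hy
    have hg : Function.Surjective g := Submodule.factor_surjective hle
    have hfg : Function.Exact f g := by
      intro y
      obtain ⟨p, rfl⟩ := Submodule.Quotient.mk_surjective _ y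
      change Submodule.factor hle (Submodule.mkQ _ p) = 0 ↔ _
      rw [Submodule.factor_mk, Submodule.mkQ_apply, Submodule.Quotient.mk_eq_zero,
        I_succ k n j hj', Submodule.mem_sup]
      constructor
      · rintro ⟨a, ha, b, hb, hab⟩
        obtain ⟨c, rfl⟩ := Ideal.mem_span_singleton'.mp hb
        refine ⟨(Submodule.Quotient.mk c : MvPolynomial (Fin n) k ⧸ I k n j), ?_⟩
        rw [hfmk, ← hab, Submodule.Quotient.mk_add,
          (Submodule.Quotient.mk_eq_zero _).mpr ha, zero_add, mul_comm]
      · rintro ⟨z, hz⟩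
        obtain ⟨c, rfl⟩ := Submodule.Quotient.mk_surjective _ z
        rw [hfmk, Submodule.Quotient.eq] at hz
        refine ⟨p - X ⟨j, hj'⟩ * c, ?_, X ⟨j, hj'⟩ * c,
          Ideal.mul_mem_right _ _ (Ideal.subset_span (Set.mem_singleton _)), by ring⟩
        have := (I k n j).neg_mem hz
        rwa [neg_sub] at this
    have hS := Groth.Agent.Lib.Helper73.PdQuotient.shortExact_of_linear
      (A := MvPolynomial (Fin n) k) f g hf hg hfg
    exact hS.hasProjectiveDimensionLT_X₃ (j + 1) ih'
      (hasProjectiveDimensionLT_of_ge _ (j + 1) (j + 1 + 1) (by omega))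

end Groth.Agent.Lib.Helper66.PdVars

namespace Groth.Agent.Lib.Helper66.PdVars

open MvPolynomial CategoryTheory

variable (k : Type u) [Field k] (r : ℕ)

theorem I_top_eq_irrel :
    I k (r + 1) (r + 1) = (GrSyz.irrel (GrSyz.stdGr k (Fin (r + 1)))).toIdeal := by
  apply le_antisymm
  · unfold I
    rw [Ideal.span_le]
    rintro _ ⟨i, -, rfl⟩
    exact Ideal.subset_span ⟨1, one_pos, MvPolynomial.isWeightedHomogeneous_X k (fun _ => (1 : ℤ)) i⟩
  · intro p hp
    have h0 := Groth.Agent.Lib.Helper66.constantCoeff_eq_zero_of_mem_irrel k (Fin (r + 1)) p hp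
    unfold I
    rw [mem_ideal_span_X_image]
    intro m hm
    have hm0 : m ≠ 0 := by
      rintro rfl
      rw [mem_support_iff, ← constantCoeff_eq] at hm
      exact hm h0
    obtain ⟨i, hi⟩ : ∃ i, m i ≠ 0 := by
      by_contra hcon
      push Not at hcon
      exact hm0 (Finsupp.ext hcon)
    exact ⟨i, i.isLt, hi⟩

theorem pd_quot_irrel :
    HasProjectiveDimensionLT (ModuleCat.of (MvPolynomial (Fin (r + 1)) k)
      (MvPolynomial (Fin (r + 1)) k ⧸ (GrSyz.irrel (GrSyz.stdGr k (Fin (r + 1)))).toIdeal))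
      (r + 1 + 1) := by
  have h := pd_quot_I k (r + 1) (r + 1) le_rfl
  rw [I_top_eq_irrel] at h
  exact h

end Groth.Agent.Lib.Helper66.PdVars
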