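import Mathlib
import Groth.Prelude.Def_CAlgX

/-!
# Hilbert–Burch: matrix identities (helper66)

`Ψ` a `(t+1) × t` matrix, `d i` its maximal minors, `aug Ψ w = [Ψ | w]`.
-/

set_option autoImplicit false
universe u

namespace Groth.Agent.Lib.Helper66.HilbertBurch

open Matrix

variable {R : Type u} [CommRing R] {t : ℕ} (Ψ : Matrix (Fin (t + 1)) (Fin t) R)

/-- the maximal minors -/
def d (i : Fin (t + 1)) : R := (Ψ.submatrix i.succAbove id).det

/-- the augmented matrix `[Ψ | w]` -/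
def aug (w : Fin (t + 1) → R) : Matrix (Fin (t + 1)) (Fin (t + 1)) R :=
  Matrix.of fun i j => Fin.lastCases (w i) (fun j' => Ψ i j') j

@[simp] theorem aug_last (w : Fin (t + 1) → R) (i : Fin (t + 1)) :
    aug Ψ w i (Fin.last t) = w i := by
  simp [aug]

@[simp] theorem aug_castSucc (w : Fin (t + 1) → R) (i : Fin (t + 1)) (j : Fin t) :
    aug Ψ w i j.castSucc = Ψ i j := by
  simp [aug]

theorem aug_submatrix (w : Fin (t + 1) → R) (i : Fin (t + 1)) :
    (aug Ψ w).submatrix i.succAbove (Fin.last t).succAbove = Ψ.submatrix i.succAbove id := by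
  ext a b
  simp [Fin.succAbove_last]

theorem det_aug (w : Fin (t + 1) → R) :
    (aug Ψ w).det = ∑ i : Fin (t + 1), (-1) ^ ((i : ℕ) + t) * w i * d Ψ i := by
  rw [Matrix.det_succ_column (aug Ψ w) (Fin.last t)]
  refine Finset.sum_congr rfl fun i _ => ?_
  rw [aug_last, aug_submatrix, Fin.val_last]
  rfl

theorem adjugate_aug_last (w : Fin (t + 1) → R) (i : Fin (t + 1)) :
    (aug Ψ w).adjugate (Fin.last t) i = (-1) ^ ((i : ℕ) + t) * d Ψ i := by
  rw [Matrix.adjugate_fin_succ_eq_det_submatrix, aug_submatrix, Fin.val_last]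
  rfl

/-- the signed sum `Σ (-1)^i d_i w_i` -/
def Δ (w : Fin (t + 1) → R) : R := ∑ i : Fin (t + 1), (-1) ^ (i : ℕ) * d Ψ i * w i

theorem det_aug_eq (w : Fin (t + 1) → R) : (aug Ψ w).det = (-1) ^ t * Δ Ψ w := by
  rw [det_aug, Δ, Finset.mul_sum]
  refine Finset.sum_congr rfl fun i _ => ?_
  rw [pow_add]
  ring

theorem Δ_eq_zero_iff (w : Fin (t + 1) → R) : Δ Ψ w = 0 ↔ (aug Ψ w).det = 0 := by
  rw [det_aug_eq]
  constructor
  · intro h; rw [h, mul_zero]
  · intro h
    have h2 : (-1 : R) ^ t * ((-1) ^ t * Δ Ψ w) = 0 := by rw [h, mul_zero]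
    rwa [← mul_assoc, ← pow_add, ← two_mul, pow_mul, neg_one_sq, one_pow, one_mul] at h2

/-- if `det [Ψ | w] = 0` then every maximal minor multiplies `w` into the image of `Ψ` -/
theorem d_smul_mem_range (w : Fin (t + 1) → R) (h : (aug Ψ w).det = 0) (i : Fin (t + 1)) :
    d Ψ i • w ∈ LinearMap.range Ψ.mulVecLin := by
  have hmul := Matrix.mul_adjugate (aug Ψ w)
  rw [h, zero_smul] at hmul
  refine ⟨fun j => -((-1) ^ ((i : ℕ) + t) * (aug Ψ w).adjugate j.castSucc i), ?_⟩
  funext a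
  have ha := congrFun (congrFun hmul a) i
  rw [Matrix.mul_apply, Fin.sum_univ_castSucc] at ha
  simp only [aug_last, aug_castSucc, adjugate_aug_last, Matrix.zero_apply] at ha
  rw [Matrix.mulVecLin_apply, Matrix.mulVec, dotProduct, Pi.smul_apply, smul_eq_mul]
  have h1 : ∑ j : Fin t, Ψ a j * -((-1) ^ ((i : ℕ) + t) * (aug Ψ w).adjugate j.castSucc i) =
      -((-1) ^ ((i : ℕ) + t) * ∑ j : Fin t, Ψ a j * (aug Ψ w).adjugate j.castSucc i) := by
    rw [Finset.mul_sum, ← Finset.sum_neg_distrib]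
    refine Finset.sum_congr rfl fun j _ => ?_
    ring
  rw [h1, eq_neg_of_add_eq_zero_left ha]
  have hsq : ((-1 : R) ^ ((i : ℕ) + t)) * ((-1) ^ ((i : ℕ) + t)) = 1 := by
    rw [← pow_add, ← two_mul, pow_mul, neg_one_sq, one_pow]
  generalize (-1 : R) ^ ((i : ℕ) + t) = s at hsq ⊢
  linear_combination (w a * d Ψ i) * hsq

/-- `Δ ∘ Ψ = 0` -/
theorem Δ_mulVec (v : Fin t → R) : Δ Ψ (Ψ.mulVec v) = 0 := by
  have hcol : ∀ j : Fin t, Δ Ψ (fun a => Ψ a j) = 0 := by
    intro j
    rw [Δ_eq_zero_iff]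
    apply Matrix.det_zero_of_column_eq (i := j.castSucc) (j := Fin.last t)
      (Fin.castSucc_lt_last j).ne
    intro k
    simp
  have : Δ Ψ (Ψ.mulVec v) = ∑ j : Fin t, v j * Δ Ψ (fun a => Ψ a j) := by
    simp only [Δ, Matrix.mulVec, dotProduct, Finset.mul_sum]
    rw [Finset.sum_comm]
    refine Finset.sum_congr rfl fun j _ => Finset.sum_congr rfl fun i _ => ?_
    ring
  rw [this]
  exact Finset.sum_eq_zero fun j _ => by rw [hcol j, mul_zero]

/-- a vector killed by `Ψ` is killed by the maximal minors -/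
theorem d_smul_eq_zero_of_mulVec_eq_zero (v : Fin t → R) (hv : Ψ.mulVec v = 0) (i : Fin (t + 1)) :
    d Ψ i • v = 0 := by
  have h1 : (Ψ.submatrix i.succAbove id).mulVec v = 0 := by
    funext a
    have := congrFun hv (i.succAbove a)
    simpa [Matrix.mulVec, dotProduct] using this
  have h2 := congrArg (fun u => (Ψ.submatrix i.succAbove id).adjugate.mulVec u) h1
  simp only [Matrix.mulVec_mulVec, Matrix.adjugate_mul, Matrix.mulVec_zero] at h2
  rw [Matrix.smul_mulVec, Matrix.one_mulVec] at h2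
  exact h2

end Groth.Agent.Lib.Helper66.HilbertBurch
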