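import Mathlib
import Groth.Prelude.Def_CAlgX
import Groth.Agent.Lib.Helper66.HilbertBurchA
import Groth.Agent.Lib.Helper29.DepthRees

/-!
# Hilbert–Burch: the converse (helper66)
-/

set_option autoImplicit false
universe u

namespace Groth.Agent.Lib.Helper66.HilbertBurch

open Matrix

variable {R : Type u} [CommRing R] {t : ℕ} (Ψ : Matrix (Fin (t + 1)) (Fin t) R)

theorem d_mem_minorIdeal (i : Fin (t + 1)) : d Ψ i ∈ CAlgX.minorIdeal Ψ t :=
  Ideal.subset_span ⟨(i.succAbove, id), rfl⟩

/-- a row-minor is `0` or `±` a maximal minor -/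
theorem det_submatrix_rows_mem (f : Fin t → Fin (t + 1)) :
    (Ψ.submatrix f id).det ∈ Ideal.span (Set.range (d Ψ)) := by
  classical
  by_cases hf : Function.Injective f
  · -- some row is missed
    have hns : ¬ Function.Surjective f := by
      intro hs
      have := Fintype.card_le_of_surjective f hs
      simp at this
    obtain ⟨i, hi⟩ : ∃ i, ∀ j, f j ≠ i := by
      by_contra hcon
      push Not at hcon
      exact hns hcon
    choose σ hσ using fun j => Fin.exists_succAbove_eq (hi j)
    have hσinj : Function.Injective σ := by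
      intro j j' h
      apply hf
      rw [← hσ j, ← hσ j', h]
    have hσbij : Function.Bijective σ := Finite.injective_iff_bijective.mp hσinj
    let e : Equiv.Perm (Fin t) := Equiv.ofBijective σ hσbij
    have h1 : Ψ.submatrix f id = (Ψ.submatrix i.succAbove id).submatrix e id := by
      ext a b
      simp [e, hσ a]
    rw [h1, Matrix.det_permute]
    exact Ideal.mul_mem_left _ _ (Ideal.subset_span ⟨i, rfl⟩)
  · rw [Function.Injective] at hf
    push Not at hf
    obtain ⟨j, j', hjj', hne⟩ := hf
    rw [Matrix.det_zero_of_row_eq hne (by ext b; simp [hjj'])]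
    exact zero_mem _

theorem det_submatrix_mem (f : Fin t → Fin (t + 1)) (g : Fin t → Fin t) :
    (Ψ.submatrix f g).det ∈ Ideal.span (Set.range (d Ψ)) := by
  classical
  by_cases hg : Function.Injective g
  · have hgbij : Function.Bijective g := Finite.injective_iff_bijective.mp hg
    let e : Equiv.Perm (Fin t) := Equiv.ofBijective g hgbij
    have h1 : Ψ.submatrix f g = (Ψ.submatrix f id).submatrix id e := by
      ext a b
      simp [e]
    rw [h1, Matrix.det_permute']
    exact Ideal.mul_mem_left _ _ (det_submatrix_rows_mem Ψ f)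
  · rw [Function.Injective] at hg
    push Not at hg
    obtain ⟨j, j', hjj', hne⟩ := hg
    rw [Matrix.det_zero_of_column_eq hne (by intro k; simp [hjj'])]
    exact zero_mem _

theorem minorIdeal_eq : CAlgX.minorIdeal Ψ t = Ideal.span (Set.range (d Ψ)) := by
  apply le_antisymm
  · unfold CAlgX.minorIdeal
    rw [Ideal.span_le]
    rintro _ ⟨⟨f, g⟩, rfl⟩
    exact det_submatrix_mem Ψ f g
  · rw [Ideal.span_le]
    rintro _ ⟨i, rfl⟩
    exact d_mem_minorIdeal Ψ i

/-- elements of the ideal of maximal minors kill the kernel of `Ψ` -/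
theorem smul_eq_zero_of_mem_minorIdeal (v : Fin t → R) (hv : Ψ.mulVec v = 0) (x : R)
    (hx : x ∈ CAlgX.minorIdeal Ψ t) : x • v = 0 := by
  rw [minorIdeal_eq] at hx
  induction hx using Submodule.span_induction with
  | mem x hx =>
    obtain ⟨i, rfl⟩ := hx
    exact d_smul_eq_zero_of_mulVec_eq_zero Ψ v hv i
  | zero => exact zero_smul _ _
  | add x y _ _ hx hy => rw [add_smul, hx, hy, add_zero]
  | smul c x _ hx => rw [smul_eq_mul, mul_smul, hx, smul_zero]

/-- elements of the ideal of maximal minors multiply the kernel of `Δ` into the image of `Ψ` -/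
theorem smul_mem_range_of_mem_minorIdeal (w : Fin (t + 1) → R) (hw : Δ Ψ w = 0) (x : R)
    (hx : x ∈ CAlgX.minorIdeal Ψ t) : x • w ∈ LinearMap.range Ψ.mulVecLin := by
  rw [minorIdeal_eq] at hx
  induction hx using Submodule.span_induction with
  | mem x hx =>
    obtain ⟨i, rfl⟩ := hx
    exact d_smul_mem_range Ψ w ((Δ_eq_zero_iff Ψ w).mp hw) i
  | zero => rw [zero_smul]; exact zero_mem _
  | add x y _ _ hx hy => rw [add_smul]; exact add_mem hx hy
  | smul c x _ hx => rw [smul_eq_mul, mul_smul]; exact Submodule.smul_mem _ _ hx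

/-- A "regular sequence of length two" in the form we use. -/
theorem exists_regular_pair [IsNoetherianRing R] (I : Ideal R)
    (hdepth : 2 ≤ LocCoh.idealDepth I R) :
    ∃ x y : R, x ∈ I ∧ y ∈ I ∧ IsSMulRegular R x ∧
      ∀ u u' : R, y * u = x * u' → ∃ u'' : R, u = x * u'' := by
  have h2 : ((2 : ℕ) : ℕ∞) ≤ LocCoh.idealDepth I R := by exact_mod_cast hdepth
  rcases (Groth.Agent.Lib.Helper29.le_idealDepth_iff I R 2).mp h2 with htop | ⟨rs, hlen, hmem, hreg⟩
  · have hI : I = ⊤ := by
      rw [Ideal.smul_top_eq_map, Algebra.algebraMap_self, Ideal.map_id] at htop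
      have : (Submodule.restrictScalars R I : Submodule R R) = ⊤ := htop
      ext z
      have hz : z ∈ (Submodule.restrictScalars R I : Submodule R R) := by rw [this]; trivial
      simpa using hz
    refine ⟨1, 1, hI ▸ Submodule.mem_top, hI ▸ Submodule.mem_top, (IsSMulRegular.one R : IsSMulRegular R (1 : R)), ?_⟩
    intro u u' _
    exact ⟨u, (one_mul u).symm⟩
  · match rs, hlen with
    | [x, y], _ =>
      rw [RingTheory.Sequence.isWeaklyRegular_cons_iff,
        RingTheory.Sequence.isWeaklyRegular_cons_iff] at hreg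
      obtain ⟨hx, hy, -⟩ := hreg
      refine ⟨x, y, hmem x (by simp), hmem y (by simp), hx, ?_⟩
      intro u u' huu'
      have h0 : y • (Submodule.Quotient.mk u : QuotSMulTop x R) = y • 0 := by
        rw [smul_zero, ← Submodule.Quotient.mk_smul, Submodule.Quotient.mk_eq_zero, smul_eq_mul,
          huu']
        exact Submodule.smul_mem_pointwise_smul u' x ⊤ Submodule.mem_top
      have h1 := hy h0
      rw [Submodule.Quotient.mk_eq_zero, Submodule.mem_smul_pointwise_iff_exists] at h1
      obtain ⟨u'', -, hu''⟩ := h1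
      exact ⟨u'', hu''.symm⟩

/-- **Hilbert–Burch, converse direction.** -/
theorem hilbertBurch_exact [IsNoetherianRing R]
    (hdepth : 2 ≤ LocCoh.idealDepth (CAlgX.minorIdeal Ψ t) R) (a : R) (ha : a ∈ nonZeroDivisors R) :
    LinearMap.ker Ψ.mulVecLin = ⊥ ∧
      LinearMap.ker (Fintype.linearCombination R
          (fun i : Fin (t + 1) => a * ((-1 : R) ^ (i : ℕ) * (Ψ.submatrix i.succAbove id).det))) =
        LinearMap.range Ψ.mulVecLin ∧
      LinearMap.range (Fintype.linearCombination R
          (fun i : Fin (t + 1) => a * ((-1 : R) ^ (i : ℕ) * (Ψ.submatrix i.succAbove id).det))) =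
        Ideal.span {a} * CAlgX.minorIdeal Ψ t := by
  obtain ⟨x, y, hxI, hyI, hxreg, hxy⟩ := exists_regular_pair (CAlgX.minorIdeal Ψ t) hdepth
  have hxregV : ∀ {n : ℕ} (v v' : Fin n → R), x • v = x • v' → v = v' := by
    intro n v v' h
    funext j
    exact hxreg (congrFun h j)
  have hlc : ∀ w : Fin (t + 1) → R, Fintype.linearCombination R
      (fun i : Fin (t + 1) => a * ((-1 : R) ^ (i : ℕ) * (Ψ.submatrix i.succAbove id).det)) w =
        a * Δ Ψ w := by
    intro w
    rw [Fintype.linearCombination_apply, Δ, Finset.mul_sum]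
    refine Finset.sum_congr rfl fun i _ => ?_
    rw [smul_eq_mul]
    change w i * (a * ((-1) ^ (i : ℕ) * d Ψ i)) = _
    ring
  have hinj : LinearMap.ker Ψ.mulVecLin = ⊥ := by
    rw [LinearMap.ker_eq_bot']
    intro v hv
    rw [Matrix.mulVecLin_apply] at hv
    have h1 := smul_eq_zero_of_mem_minorIdeal Ψ v hv x hxI
    exact hxregV v 0 (by rw [h1, smul_zero])
  refine ⟨hinj, ?_, ?_⟩
  · apply le_antisymm
    · intro w hw
      rw [LinearMap.mem_ker, hlc] at hw
      have hΔ : Δ Ψ w = 0 := by
        have := (mem_nonZeroDivisors_iff.mp ha).1 (Δ Ψ w)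
        exact (mem_nonZeroDivisors_iff_right.mp ha) _ (by rw [mul_comm]; exact hw)
      obtain ⟨u, hu⟩ := smul_mem_range_of_mem_minorIdeal Ψ w hΔ x hxI
      obtain ⟨u', hu'⟩ := smul_mem_range_of_mem_minorIdeal Ψ w hΔ y hyI
      rw [Matrix.mulVecLin_apply] at hu hu'
      -- `y u = x u'`
      have h1 : y • u = x • u' := by
        have h2 : Ψ.mulVecLin (y • u - x • u') = 0 := by
          rw [map_sub, map_smul, map_smul, Matrix.mulVecLin_apply, Matrix.mulVecLin_apply, hu,
            hu', smul_smul, smul_smul, mul_comm, sub_self]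
        have h3 : y • u - x • u' ∈ LinearMap.ker Ψ.mulVecLin := h2
        rw [hinj, Submodule.mem_bot, sub_eq_zero] at h3
        exact h3
      -- divide `u` by `x`
      have h4 : ∀ j, ∃ u'' : R, u j = x * u'' := fun j =>
        hxy (u j) (u' j) (by simpa using congrFun h1 j)
      choose u'' hu'' using h4
      refine ⟨u'', ?_⟩
      apply hxregV
      rw [Matrix.mulVecLin_apply, ← Matrix.mulVec_smul, ← hu]
      congr 1
      funext j
      rw [Pi.smul_apply, smul_eq_mul, hu'' j]
    · rintro _ ⟨v, rfl⟩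
      rw [LinearMap.mem_ker, hlc, Matrix.mulVecLin_apply, Δ_mulVec, mul_zero]
  · rw [Fintype.range_linearCombination, minorIdeal_eq, Ideal.span_mul_span]
    apply le_antisymm
    · rw [Submodule.span_le]
      rintro _ ⟨i, rfl⟩
      have : a * ((-1 : R) ^ (i : ℕ) * (Ψ.submatrix i.succAbove id).det) =
          (-1 : R) ^ (i : ℕ) * (a * d Ψ i) := by
        change a * ((-1 : R) ^ (i : ℕ) * d Ψ i) = _
        ring
      rw [SetLike.mem_coe]
      beta_reduce
      rw [this]
      exact Ideal.mul_mem_left _ _ (Ideal.subset_span (Set.mul_mem_mul rfl ⟨i, rfl⟩))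
    · rw [Ideal.span_le]
      rintro _ ⟨a', ha', _, ⟨i, rfl⟩, rfl⟩
      rw [Set.mem_singleton_iff] at ha'
      have ha'' : a = a' := ha'.symm
      subst ha''
      have : a * d Ψ i = (-1 : R) ^ (i : ℕ) *
          (a * ((-1 : R) ^ (i : ℕ) * (Ψ.submatrix i.succAbove id).det)) := by
        change a * d Ψ i = (-1 : R) ^ (i : ℕ) * (a * ((-1 : R) ^ (i : ℕ) * d Ψ i))
        have hsq : ((-1 : R) ^ (i : ℕ)) * ((-1) ^ (i : ℕ)) = 1 := by
          rw [← pow_add, ← two_mul, pow_mul, neg_one_sq, one_pow]
        generalize (-1 : R) ^ (i : ℕ) = s at hsq ⊢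
        linear_combination (-(a * d Ψ i)) * hsq
      rw [SetLike.mem_coe]
      beta_reduce
      rw [this]
      exact Submodule.smul_mem _ _ (Submodule.subset_span ⟨i, rfl⟩)

end Groth.Agent.Lib.Helper66.HilbertBurch
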