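import Mathlib.RingTheory.HopfAlgebra.Convolution
import Mathlib.RingTheory.HopfAlgebra.TensorProduct

/-!
# Commutative Hopf algebras: the antipode is an anti-coalgebra map

`Groth.Agent.Lib.Helper66.comul_antipode`: for a commutative Hopf algebra `A` over `k`,
`Δ (S a) = (S ⊗ S) (τ (Δ a))` with `τ` the swap.
-/

set_option autoImplicit false
universe u v

namespace Groth.Agent.Lib.Helper66

open TensorProduct WithConv

variable {k : Type u} [CommRing k] {A : Type v} [CommRing A] [HopfAlgebra k A]

/-- In the convolution group `Hom_alg(A, A ⊗ A)`, the comultiplication is the product of the two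
inclusions. -/
theorem includeLeft_mul_includeRight :
    (toConv (Algebra.TensorProduct.includeLeft : A →ₐ[k] A ⊗[k] A)) *
      (toConv (Algebra.TensorProduct.includeRight : A →ₐ[k] A ⊗[k] A)) =
        toConv (Bialgebra.comulAlgHom k A) := by
  apply WithConv.ofConv_injective
  apply AlgHom.ext
  intro a
  rw [AlgHom.convMul_apply]
  simp only [ofConv_toConv, Bialgebra.comulAlgHom_apply]
  generalize Coalgebra.comul (R := k) a = x
  induction x using TensorProduct.induction_on with
  | zero => simp
  | tmul a b => simp
  | add x y hx hy => rw [map_add, hx, hy]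

/-- The antipode of a commutative Hopf algebra is an anti-coalgebra map. -/
theorem comul_antipode (a : A) :
    Coalgebra.comul (R := k) (HopfAlgebra.antipode k a) =
      TensorProduct.map (HopfAlgebra.antipode k (A := A)) (HopfAlgebra.antipode k (A := A))
        (TensorProduct.comm k A A (Coalgebra.comul (R := k) a)) := by
  have h : (toConv (Algebra.TensorProduct.includeRight : A →ₐ[k] A ⊗[k] A))⁻¹ *
      (toConv (Algebra.TensorProduct.includeLeft : A →ₐ[k] A ⊗[k] A))⁻¹ =
      (toConv (Bialgebra.comulAlgHom k A))⁻¹ := by
    rw [← includeLeft_mul_includeRight]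
    exact (mul_inv_rev (toConv (Algebra.TensorProduct.includeLeft : A →ₐ[k] A ⊗[k] A))
      (toConv (Algebra.TensorProduct.includeRight : A →ₐ[k] A ⊗[k] A))).symm
  have h' := congrArg (fun g => g.ofConv a) h
  rw [AlgHom.convMul_apply] at h'
  have hR : ((toConv (Bialgebra.comulAlgHom k A))⁻¹).ofConv a =
      Coalgebra.comul (R := k) (HopfAlgebra.antipode k a) := rfl
  rw [hR] at h'
  rw [← h']
  generalize Coalgebra.comul (R := k) a = x
  induction x using TensorProduct.induction_on with
  | zero => simp
  | tmul a b =>
    have e1 : ((toConv (Algebra.TensorProduct.includeRight : A →ₐ[k] A ⊗[k] A))⁻¹).ofConv a =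
        (1 : A) ⊗ₜ[k] HopfAlgebra.antipode k a := rfl
    have e2 : ((toConv (Algebra.TensorProduct.includeLeft : A →ₐ[k] A ⊗[k] A))⁻¹).ofConv b =
        HopfAlgebra.antipode k b ⊗ₜ[k] (1 : A) := rfl
    simp only [Algebra.TensorProduct.lift_tmul, e1, e2, Algebra.TensorProduct.tmul_mul_tmul,
      one_mul, mul_one, TensorProduct.comm_tmul, TensorProduct.map_tmul]
  | add x y hx hy => rw [map_add, map_add, map_add, hx, hy]

end Groth.Agent.Lib.Helper66
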