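import Groth.Prelude.Def_W4c1tameactTame
import Groth.Agent.Lib.Helper66.Hopf

/-!
# The Reynolds operator of a total integral

For a commutative Hopf algebra `A` over `k`, a commutative `k`-algebra `B` with a multiplicative coaction,
a comodule map `α : A → B` and a `(B, A)`-module `M`, the Reynolds map `E(m) = Σ α(S m₁) • m₀` lands in
the invariants; if `α 1 = 1` it fixes the invariants; it is linear over the invariants of `B`.
-/

set_option autoImplicit false
universe u v w w' w''

namespace Groth.Agent.Lib.Helper66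

open TensorProduct HopfRep

section
variable (k : Type u) [CommRing k] (A : Type v) [CommRing A] [HopfAlgebra k A]
  (B : Type w) [CommRing B] [Algebra k B]
  (M : Type w') [AddCommGroup M] [Module k M] [Module B M] [IsScalarTower k B M]
  (α : A →ₗ[k] B)

/-- `Θ(m ⊗ a) = α(S a) • m`. -/
noncomputable def theta : M ⊗[k] A →ₗ[k] M :=
  TensorProduct.lift
      ((Algebra.lsmul k k M : B →ₐ[k] Module.End k M).toLinearMap ∘ₗ α ∘ₗ
        (HopfAlgebraStruct.antipode (R := k) (A := A))).flip

@[simp] theorem theta_tmul (m : M) (a : A) :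
    theta k A B M α (m ⊗ₜ[k] a) = α (HopfAlgebraStruct.antipode (R := k) a) • m := by
  simp [theta]

theorem reynolds_eq [HopfRep.Comod k A M] :
    TameAct.reynolds k A B M α = theta k A B M α ∘ₗ HopfRep.Comod.coact (k := k) (A := A) := rfl

theorem reynolds_apply [HopfRep.Comod k A M] (m : M) :
    TameAct.reynolds k A B M α m = theta k A B M α (HopfRep.Comod.coact (k := k) (A := A) m) := rfl

/-- `G y z = (α S ⊗ S)(τ y) · z`. -/
noncomputable def bigG : A ⊗[k] A →ₗ[k] M ⊗[k] A →ₗ[k] M ⊗[k] A :=
  TameAct.hmSMul k A B M ∘ₗ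
    TensorProduct.map (α ∘ₗ HopfAlgebraStruct.antipode (R := k) (A := A))
      (HopfAlgebraStruct.antipode (R := k) (A := A)) ∘ₗ (TensorProduct.comm k A A).toLinearMap

@[simp] theorem bigG_tmul (b c : A) (m : M) (a : A) :
    bigG k A B M α (b ⊗ₜ[k] c) (m ⊗ₜ[k] a) =
      (α (HopfAlgebraStruct.antipode (R := k) c) • m) ⊗ₜ[k]
        (HopfAlgebraStruct.antipode (R := k) b * a) := by
  simp [bigG]

variable [HopfRep.Comod k A B] [HopfRep.Comod k A M]

/-- Step 1: `ρ(Θ(m ⊗ a)) = G(Δ a)(ρ m)`. -/
theorem coact_theta_tmul [TameAct.IsHopfMod k A B M] (hα : Hoch.IsComodHom A α) (m : M) (a : A) :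
    HopfRep.Comod.coact (k := k) (A := A) (theta k A B M α (m ⊗ₜ[k] a)) =
      bigG k A B M α (Coalgebra.comul (R := k) a) (HopfRep.Comod.coact (k := k) (A := A) m) := by
  rw [theta_tmul, TameAct.IsHopfMod.coact_smul]
  have h := LinearMap.congr_fun hα (HopfAlgebraStruct.antipode (R := k) a)
  simp only [LinearMap.comp_apply] at h
  rw [h]
  have h2 : HopfRep.Comod.coact (k := k) (A := A) (HopfAlgebraStruct.antipode (R := k) a) =
      Coalgebra.comul (R := k) (HopfAlgebra.antipode k a) := rfl
  rw [h2, comul_antipode]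
  unfold bigG
  simp only [LinearMap.comp_apply, LinearEquiv.coe_coe]
  congr 1
  generalize (TensorProduct.comm k A A) (Coalgebra.comul (R := k) a) = y
  induction y using TensorProduct.induction_on with
  | zero => simp
  | tmul b c => simp
  | add x y hx hy => simp only [map_add, hx, hy]

/-- uncurried `G`. -/
noncomputable def bigGu : (M ⊗[k] A) ⊗[k] (A ⊗[k] A) →ₗ[k] M ⊗[k] A :=
  TensorProduct.lift (bigG k A B M α).flip

@[simp] theorem bigGu_tmul (z : M ⊗[k] A) (y : A ⊗[k] A) :
    bigGu k A B M α (z ⊗ₜ[k] y) = bigG k A B M α y z := by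
  simp [bigGu]

/-- Step 1, linear form. -/
theorem coact_theta [TameAct.IsHopfMod k A B M] (hα : Hoch.IsComodHom A α) (x : M ⊗[k] A) :
    HopfRep.Comod.coact (k := k) (A := A) (theta k A B M α x) =
      bigGu k A B M α (TensorProduct.map (HopfRep.Comod.coact (k := k) (A := A))
        (Coalgebra.comul (R := k) (A := A)) x) := by
  induction x using TensorProduct.induction_on with
  | zero => simp
  | tmul m a => rw [coact_theta_tmul k A B M α hα, TensorProduct.map_tmul, bigGu_tmul]
  | add x y hx hy => simp only [map_add, hx, hy]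

/-- Step 2: coassociativity. -/
theorem map_coact_comul_coact (m : M) :
    TensorProduct.map (HopfRep.Comod.coact (k := k) (A := A)) (Coalgebra.comul (R := k) (A := A))
        (HopfRep.Comod.coact (k := k) (A := A) m) =
      (Coalgebra.comul (R := k) (A := A)).lTensor (M ⊗[k] A)
        ((TensorProduct.assoc k M A A).symm
          ((Coalgebra.comul (R := k) (A := A)).lTensor M (HopfRep.Comod.coact (k := k) (A := A) m))) := by
  have h := LinearMap.congr_fun (HopfRep.Comod.coassoc (k := k) (A := A) (V := M)) m
  simp only [LinearMap.comp_apply, LinearEquiv.coe_coe] at h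
  rw [← h, LinearEquiv.symm_apply_apply]
  generalize HopfRep.Comod.coact (k := k) (A := A) m = x
  induction x using TensorProduct.induction_on with
  | zero => simp
  | tmul m a => simp
  | add x y hx hy => simp only [map_add, hx, hy]

/-- `L m (x ⊗ c) = (α(S c) • m) ⊗ x`. -/
noncomputable def bigL (m : M) : A ⊗[k] A →ₗ[k] M ⊗[k] A :=
  TensorProduct.map (theta k A B M α ∘ₗ TensorProduct.mk k M A m) LinearMap.id ∘ₗ
    (TensorProduct.comm k A A).toLinearMap

@[simp] theorem bigL_tmul (m : M) (x c : A) :
    bigL k A B M α m (x ⊗ₜ[k] c) = (α (HopfAlgebraStruct.antipode (R := k) c) • m) ⊗ₜ[k] x := by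
  simp [bigL]

/-- Step 3 on pure tensors. -/
theorem bigGu_comul_tmul (m : M) (a : A) :
    bigGu k A B M α ((Coalgebra.comul (R := k) (A := A)).lTensor (M ⊗[k] A)
        ((TensorProduct.assoc k M A A).symm (m ⊗ₜ[k] Coalgebra.comul (R := k) a))) =
      (α (HopfAlgebraStruct.antipode (R := k) a) • m) ⊗ₜ[k] (1 : A) := by
  let T₀ : A ⊗[k] (A ⊗[k] A) →ₗ[k] M ⊗[k] A :=
    bigGu k A B M α ∘ₗ (TensorProduct.assoc k M A (A ⊗[k] A)).symm.toLinearMap ∘ₗ
      TensorProduct.mk k M (A ⊗[k] (A ⊗[k] A)) m
  have e1 : ∀ y : A ⊗[k] A, bigGu k A B M α ((Coalgebra.comul (R := k) (A := A)).lTensor (M ⊗[k] A)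
        ((TensorProduct.assoc k M A A).symm (m ⊗ₜ[k] y))) =
      T₀ ((Coalgebra.comul (R := k) (A := A)).lTensor A y) := by
    intro y
    induction y using TensorProduct.induction_on with
    | zero => simp
    | tmul a₁ a₂ => simp [T₀]
    | add x y hx hy => simp only [map_add, TensorProduct.tmul_add, hx, hy]
  rw [e1, ← Coalgebra.coassoc_apply]
  let T' : (A ⊗[k] A) ⊗[k] A →ₗ[k] M ⊗[k] A :=
    bigL k A B M α m ∘ₗ (LinearMap.mul' k A ∘ₗ
      (HopfAlgebraStruct.antipode (R := k) (A := A)).lTensor A).rTensor A
  have e2 : T₀ ∘ₗ (TensorProduct.assoc k A A A).toLinearMap = T' := by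
    refine TensorProduct.ext_threefold fun a₁ b c => ?_
    simp [T₀, T', mul_comm]
  have e3 := LinearMap.congr_fun e2 ((Coalgebra.comul (R := k) (A := A)).rTensor A (Coalgebra.comul (R := k) a))
  simp only [LinearMap.comp_apply, LinearEquiv.coe_coe] at e3
  rw [e3]
  simp only [T', LinearMap.comp_apply]
  rw [← LinearMap.comp_apply (LinearMap.rTensor A _), ← LinearMap.rTensor_comp]
  have e4 : (LinearMap.mul' k A ∘ₗ (HopfAlgebraStruct.antipode (R := k) (A := A)).lTensor A) ∘ₗ
      Coalgebra.comul (R := k) (A := A) = Algebra.linearMap k A ∘ₗ Coalgebra.counit (R := k) (A := A) := by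
    rw [LinearMap.comp_assoc]
    exact HopfAlgebra.mul_antipode_lTensor_comul
  rw [e4, LinearMap.rTensor_comp, LinearMap.comp_apply, Coalgebra.rTensor_counit_comul]
  simp

/-- Step 3. -/
theorem bigGu_comul (x : M ⊗[k] A) :
    bigGu k A B M α ((Coalgebra.comul (R := k) (A := A)).lTensor (M ⊗[k] A)
        ((TensorProduct.assoc k M A A).symm ((Coalgebra.comul (R := k) (A := A)).lTensor M x))) =
      (theta k A B M α x) ⊗ₜ[k] (1 : A) := by
  induction x using TensorProduct.induction_on with
  | zero => simp
  | tmul m a => rw [LinearMap.lTensor_tmul, bigGu_comul_tmul, theta_tmul]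
  | add x y hx hy => simp only [map_add, hx, hy, TensorProduct.add_tmul]

/-- The Reynolds operator lands in the invariants. -/
theorem coact_reynolds [TameAct.IsHopfMod k A B M] (hα : Hoch.IsComodHom A α) (m : M) :
    HopfRep.Comod.coact (k := k) (A := A) (TameAct.reynolds k A B M α m) =
      (TameAct.reynolds k A B M α m) ⊗ₜ[k] (1 : A) := by
  rw [reynolds_apply, coact_theta k A B M α hα, map_coact_comul_coact, bigGu_comul]

theorem reynolds_mem_fixedPts [TameAct.IsHopfMod k A B M] (hα : Hoch.IsComodHom A α) (m : M) :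
    TameAct.reynolds k A B M α m ∈ HopfRep.fixedPts k A M :=
  coact_reynolds k A B M α hα m

/-- The Reynolds operator of a total integral fixes the invariants. -/
theorem reynolds_of_mem_fixedPts (hα1 : α 1 = 1) (m : M) (hm : m ∈ HopfRep.fixedPts k A M) :
    TameAct.reynolds k A B M α m = m := by
  have h : HopfRep.Comod.coact (k := k) (A := A) m = m ⊗ₜ[k] (1 : A) := hm
  rw [TameAct.reynolds_apply_of_coact_eq k A B M α m m 1 h]
  have : HopfAlgebraStruct.antipode (R := k) (1 : A) = 1 := HopfAlgebra.antipode_one
  rw [this, hα1, one_smul]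

end

end Groth.Agent.Lib.Helper66

namespace Groth.Agent.Lib.Helper66

open TensorProduct HopfRep

section Functorial
variable (k : Type u) [CommRing k] (A : Type v) [CommRing A] [HopfAlgebra k A]
  (B : Type w) [CommRing B] [Algebra k B]
  (M : Type w') [AddCommGroup M] [Module k M] [Module B M] [IsScalarTower k B M]
  (N : Type w'') [AddCommGroup N] [Module k N] [Module B N] [IsScalarTower k B N]
  (α : A →ₗ[k] B)

theorem theta_rTensor (f : M →ₗ[B] N) (x : M ⊗[k] A) :
    theta k A B N α ((f.restrictScalars k).rTensor A x) = f (theta k A B M α x) := by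
  induction x using TensorProduct.induction_on with
  | zero => simp
  | tmul m a => simp
  | add x y hx hy => simp only [map_add, hx, hy]

variable [HopfRep.Comod k A M] [HopfRep.Comod k A N]

/-- The Reynolds operator commutes with `B`-linear comodule maps. -/
theorem reynolds_comodHom (f : M →ₗ[B] N) (hf : Hoch.IsComodHom A (f.restrictScalars k)) (m : M) :
    TameAct.reynolds k A B N α (f m) = f (TameAct.reynolds k A B M α m) := by
  rw [reynolds_apply, reynolds_apply, ← theta_rTensor]
  have h := LinearMap.congr_fun hf m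
  simp only [LinearMap.comp_apply, LinearMap.restrictScalars_apply] at h
  rw [h]

end Functorial

end Groth.Agent.Lib.Helper66

namespace Groth.Agent.Lib.Helper66

open TensorProduct HopfRep

section Invariants
variable (k : Type u) [CommRing k] (A : Type v) [CommRing A] [HopfAlgebra k A]
  (B : Type w) [CommRing B] [Algebra k B]
  (M : Type w') [AddCommGroup M] [Module k M] [Module B M] [IsScalarTower k B M]
  (α : A →ₗ[k] B)

theorem theta_hmSMul_tmul_one (c : B) (x : M ⊗[k] A) :
    theta k A B M α (TameAct.hmSMul k A B M (c ⊗ₜ[k] (1 : A)) x) = c • theta k A B M α x := by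
  induction x using TensorProduct.induction_on with
  | zero => simp
  | tmul m a => simp [smul_comm c]
  | add x y hx hy => simp only [map_add, hx, hy, smul_add]

/-- On `B ⊗ A` the product `hmSMul` is the multiplication. -/
theorem hmSMul_self (x y : B ⊗[k] A) : TameAct.hmSMul k A B B x y = x * y := by
  induction x using TensorProduct.induction_on with
  | zero => simp
  | tmul b a =>
    induction y using TensorProduct.induction_on with
    | zero => simp
    | tmul b' a' => simp
    | add y z hy hz => simp only [map_add, hy, hz, mul_add]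
  | add x z hx hz => simp only [map_add, LinearMap.add_apply, hx, hz, add_mul]

variable [HopfRep.Comod k A B]

/-- `B` is a `(B, A)`-module over itself. -/
theorem isHopfMod_self [GLin.IsCoactAlg k A B] : TameAct.IsHopfMod k A B B where
  coact_smul b m := by
    rw [smul_eq_mul, GLin.IsCoactAlg.coact_mul, hmSMul_self]

variable [HopfRep.Comod k A M]

/-- The Reynolds operator is linear over the invariants of `B`. -/
theorem reynolds_smul_of_fixed [TameAct.IsHopfMod k A B M] (c : B)
    (hc : HopfRep.Comod.coact (k := k) (A := A) c = c ⊗ₜ[k] (1 : A)) (m : M) :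
    TameAct.reynolds k A B M α (c • m) = c • TameAct.reynolds k A B M α m := by
  rw [reynolds_apply, reynolds_apply, TameAct.IsHopfMod.coact_smul, hc, theta_hmSMul_tmul_one]

end Invariants

section Retraction

/-- If the algebra `B` over `C` has a `C`-linear retraction onto `C`, ideals of `C` are contracted. -/
theorem comap_map_eq_of_retraction {C : Type u} {B : Type v} [CommRing C] [CommRing B] [Algebra C B]
    (E : B →ₗ[C] C) (hE : ∀ c, E (algebraMap C B c) = c) (c : Ideal C) :
    (c.map (algebraMap C B)).comap (algebraMap C B) = c := by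
  refine le_antisymm ?_ Ideal.le_comap_map
  intro x hx
  rw [Ideal.mem_comap] at hx
  have key : ∀ y ∈ c.map (algebraMap C B), ∀ b : B, E (b * y) ∈ c := by
    intro y hy
    unfold Ideal.map at hy
    induction hy using Submodule.span_induction with
    | mem y hy =>
      obtain ⟨c₀, hc₀, rfl⟩ := hy
      intro b
      have : b * algebraMap C B c₀ = c₀ • b := by rw [Algebra.smul_def, mul_comm]
      rw [this, map_smul]
      exact c.mul_mem_right _ hc₀
    | zero => intro b; simp
    | add y z _ _ hy hz => intro b; rw [mul_add, map_add]; exact c.add_mem (hy b) (hz b)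
    | smul b' y _ hy => intro b; rw [smul_eq_mul, ← mul_assoc]; exact hy (b * b')
  have := key _ hx 1
  rwa [one_mul, hE] at this

end Retraction

section InvariantRing
variable (k : Type u) [CommRing k] (A : Type v) [CommRing A] [HopfAlgebra k A]
  (B : Type w) [CommRing B] [Algebra k B] [HopfRep.Comod k A B] [GLin.IsCoactAlg k A B]
  (α : A →ₗ[k] B)

/-- The Reynolds operator of `B` as a `B^A`-linear map `B → B^A`. -/
noncomputable def reynoldsInv (hα : Hoch.IsComodHom A α) : B →ₗ[GLin.invariants k A B] GLin.invariants k A B :=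
  haveI := isHopfMod_self k A B
  { toFun := fun b => ⟨TameAct.reynolds k A B B α b, coact_reynolds k A B B α hα b⟩
    map_add' := fun x y => by
      apply Subtype.ext
      simp
    map_smul' := fun c x => by
      apply Subtype.ext
      simp only [RingHom.id_apply]
      have h1 : c • x = (c : B) • x := rfl
      rw [h1, reynolds_smul_of_fixed k A B B α (c : B) c.2]
      rfl }

theorem reynoldsInv_coe (hα : Hoch.IsComodHom A α) (b : B) :
    (reynoldsInv k A B α hα b : B) = TameAct.reynolds k A B B α b := rfl

theorem reynoldsInv_algebraMap (hα : Hoch.IsComodHom A α) (hα1 : α 1 = 1) (c : GLin.invariants k A B) :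
    reynoldsInv k A B α hα (algebraMap (GLin.invariants k A B) B c) = c := by
  apply Subtype.ext
  rw [reynoldsInv_coe]
  exact reynolds_of_mem_fixedPts k A B B α hα1 (c : B) c.2

end InvariantRing

end Groth.Agent.Lib.Helper66

namespace Groth.Agent.Lib.Helper66

open TensorProduct HopfRep

section Retraction2

/-- A `C`-linear retraction `B → C` maps the extension of an ideal of `C` into that ideal. -/
theorem retraction_mem_of_mem_map {C : Type u} {B : Type v} [CommRing C] [CommRing B] [Algebra C B]
    (E : B →ₗ[C] C) (c : Ideal C) (y : B) (hy : y ∈ c.map (algebraMap C B)) : E y ∈ c := by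
  have key : ∀ y ∈ c.map (algebraMap C B), ∀ b : B, E (b * y) ∈ c := by
    intro y hy
    unfold Ideal.map at hy
    induction hy using Submodule.span_induction with
    | mem y hy =>
      obtain ⟨c₀, hc₀, rfl⟩ := hy
      intro b
      have : b * algebraMap C B c₀ = c₀ • b := by rw [Algebra.smul_def, mul_comm]
      rw [this, map_smul]
      exact c.mul_mem_right _ hc₀
    | zero => intro b; simp
    | add y z _ _ hy hz => intro b; rw [mul_add, map_add]; exact c.add_mem (hy b) (hz b)
    | smul b' y _ hy => intro b; rw [smul_eq_mul, ← mul_assoc]; exact hy (b * b')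
  have := key _ hy 1
  rwa [one_mul] at this

/-- Lying over for an ideal stable under a retraction. -/
theorem exists_prime_of_retraction {C : Type u} {B : Type v} [CommRing C] [CommRing B] [Algebra C B]
    (E : B →ₗ[C] C) (hE : ∀ c, E (algebraMap C B c) = c) (b : Ideal B)
    (hb : ∀ β ∈ b, algebraMap C B (E β) ∈ b) (p : Ideal C) [p.IsPrime]
    (hp : b.comap (algebraMap C B) ≤ p) :
    ∃ q : Ideal B, q.IsPrime ∧ b ≤ q ∧ q.comap (algebraMap C B) = p := by
  have hJ : (b ⊔ p.map (algebraMap C B)).comap (algebraMap C B) ≤ p := by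
    intro x hx
    rw [Ideal.mem_comap] at hx
    obtain ⟨β, hβ, y, hy, hxy⟩ := Submodule.mem_sup.mp hx
    have h1 : E (algebraMap C B x) = x := hE x
    rw [← hxy, map_add] at h1
    rw [← h1]
    refine p.add_mem (hp ?_) (retraction_mem_of_mem_map E p y hy)
    rw [Ideal.mem_comap]
    exact hb β hβ
  obtain ⟨q, hq₁, hq₂, hq₃⟩ := Ideal.exists_le_prime_disjoint _ _
    (Ideal.disjoint_map_primeCompl_iff_comap_le.mpr hJ)
  refine ⟨q, hq₁, le_trans le_sup_left hq₂, le_antisymm
    (Ideal.disjoint_map_primeCompl_iff_comap_le.mp hq₃) ?_⟩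
  exact Ideal.map_le_iff_le_comap.mp (le_trans le_sup_right hq₂)

end Retraction2

section Subcomod
variable (k : Type u) [CommRing k] (A : Type v) [CommRing A] [HopfAlgebra k A]
  (B : Type w) [CommRing B] [Algebra k B] [HopfRep.Comod k A B]
  (α : A →ₗ[k] B)

/-- The Reynolds operator preserves ideals that are subcomodules. -/
theorem reynolds_mem_of_isSubcomod (b : Ideal B)
    (hb : HopfRep.IsSubcomod (k := k) (A := A) (b.restrictScalars k)) (β : B) (hβ : β ∈ b) :
    TameAct.reynolds k A B B α β ∈ b := by
  obtain ⟨z, hz⟩ := hb β hβ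
  rw [reynolds_apply, ← hz]
  clear hz
  induction z using TensorProduct.induction_on with
  | zero => simp
  | tmul β' a =>
    rw [LinearMap.rTensor_tmul, theta_tmul]
    exact b.mul_mem_left _ β'.2
  | add x y hx hy => rw [map_add, map_add]; exact b.add_mem hx hy

end Subcomod

end Groth.Agent.Lib.Helper66
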