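import Groth.Prelude.Def_FibCat2
import Groth.Agent.Lib.Helper90.LiftSqFp

/-!
# 2-fibre products of categories over a base: composition of equivalences and base change
-/

set_option autoImplicit false
set_option backward.isDefEq.respectTransparency false
set_option backward.isDefEq.respectTransparency.types false
universe v₇ u₇ v₆ u₆ v₅ u₅ v₄ u₄ v₃ u₃ v₂ u₂ v u

open CategoryTheory

namespace Groth.Agent.Lib.Helper66.StackBC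

open Groth.Agent.Lib.Helper90.LiftSqComp Groth.Agent.Lib.Helper90.LiftSqFp

variable {C : Type u} [Category.{v} C]
  {𝒜 : BasedCategory.{v₂, u₂} C} {ℬ : BasedCategory.{v₃, u₃} C}
  {𝒳 : BasedCategory.{v₄, u₄} C} {𝒴 : BasedCategory.{v₅, u₅} C} {𝒵 : BasedCategory.{v₆, u₆} C}
  {𝒰 : BasedCategory.{v₇, u₇} C}

section Equiv

theorem comp_assoc_rfl (F : 𝒜 ⥤ᵇ ℬ) (G : ℬ ⥤ᵇ 𝒳) (H : 𝒳 ⥤ᵇ 𝒴) :
    BasedFunctor.comp (BasedFunctor.comp F G) H = BasedFunctor.comp F (BasedFunctor.comp G H) := rfl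

theorem comp_id_rfl (F : 𝒜 ⥤ᵇ ℬ) : BasedFunctor.comp F (BasedFunctor.id ℬ) = F := rfl

theorem id_comp_rfl (F : 𝒜 ⥤ᵇ ℬ) : BasedFunctor.comp (BasedFunctor.id 𝒜) F = F := rfl

/-- equivalences over the base compose -/
theorem isEquivOver_comp {F : 𝒜 ⥤ᵇ ℬ} {G : ℬ ⥤ᵇ 𝒳} (hF : FibCat.IsEquivOver F)
    (hG : FibCat.IsEquivOver G) : FibCat.IsEquivOver (BasedFunctor.comp F G) := by
  obtain ⟨F', ⟨e1⟩, ⟨e2⟩⟩ := hF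
  obtain ⟨G', ⟨e3⟩, ⟨e4⟩⟩ := hG
  refine ⟨BasedFunctor.comp G' F', ⟨?_⟩, ⟨?_⟩⟩
  · -- (F ≫ G) ≫ (G' ≫ F') = F ≫ ((G ≫ G') ≫ F') ≅ F ≫ F' ≅ id
    exact (whiskerLeftIso F (whiskerRightIso e3 F')) ≪≫ e1
  · exact (whiskerLeftIso G' (whiskerRightIso e2 G)) ≪≫ e4

end Equiv

section Simp
variable {F : 𝒳 ⥤ᵇ 𝒴} {G : 𝒵 ⥤ᵇ 𝒴}

@[simp] theorem fpLift_obj_iso_hom (a : 𝒰 ⥤ᵇ 𝒳) (b : 𝒰 ⥤ᵇ 𝒵)
    (e : BasedFunctor.comp a F ≅ BasedFunctor.comp b G) (w : 𝒰.obj) :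
    ((FibCat.fpLift a b e).obj w).obj.iso.hom = app e.hom w := rfl

@[simp] theorem fpLift_obj_iso_inv (a : 𝒰 ⥤ᵇ 𝒳) (b : 𝒰 ⥤ᵇ 𝒵)
    (e : BasedFunctor.comp a F ≅ BasedFunctor.comp b G) (w : 𝒰.obj) :
    ((FibCat.fpLift a b e).obj w).obj.iso.inv = app e.inv w := rfl

@[simp] theorem fpLift_obj_fst (a : 𝒰 ⥤ᵇ 𝒳) (b : 𝒰 ⥤ᵇ 𝒵)
    (e : BasedFunctor.comp a F ≅ BasedFunctor.comp b G) (w : 𝒰.obj) :
    ((FibCat.fpLift a b e).obj w).obj.fst = a.obj w := rfl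

@[simp] theorem fpLift_obj_snd (a : 𝒰 ⥤ᵇ 𝒳) (b : 𝒰 ⥤ᵇ 𝒵)
    (e : BasedFunctor.comp a F ≅ BasedFunctor.comp b G) (w : 𝒰.obj) :
    ((FibCat.fpLift a b e).obj w).obj.snd = b.obj w := rfl

@[simp] theorem fpIso_hom_app (w : (FibCat.fp F G).obj) :
    app (FibCat.fpIso F G).hom w = w.obj.iso.hom := rfl

@[simp] theorem fpIso_inv_app (w : (FibCat.fp F G).obj) :
    app (FibCat.fpIso F G).inv w = w.obj.iso.inv := rfl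

@[simp] theorem fpFst_obj (w : (FibCat.fp F G).obj) : (FibCat.fpFst F G).obj w = w.obj.fst := rfl

@[simp] theorem fpSnd_obj (w : (FibCat.fp F G).obj) : (FibCat.fpSnd F G).obj w = w.obj.snd := rfl

@[simp] theorem app_whiskerRightIso_hom {P Q : 𝒜 ⥤ᵇ ℬ} (e : P ≅ Q) (H : ℬ ⥤ᵇ 𝒳) (w : 𝒜.obj) :
    app (whiskerRightIso e H).hom w = H.map (app e.hom w) := rfl

@[simp] theorem app_whiskerRightIso_inv {P Q : 𝒜 ⥤ᵇ ℬ} (e : P ≅ Q) (H : ℬ ⥤ᵇ 𝒳) (w : 𝒜.obj) :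
    app (whiskerRightIso e H).inv w = H.map (app e.inv w) := rfl

@[simp] theorem app_whiskerLeftIso_hom (P : 𝒜 ⥤ᵇ ℬ) {Q R : ℬ ⥤ᵇ 𝒳} (e : Q ≅ R) (w : 𝒜.obj) :
    app (whiskerLeftIso P e).hom w = app e.hom (P.obj w) := rfl

@[simp] theorem app_whiskerLeftIso_inv (P : 𝒜 ⥤ᵇ ℬ) {Q R : ℬ ⥤ᵇ 𝒳} (e : Q ≅ R) (w : 𝒜.obj) :
    app (whiskerLeftIso P e).inv w = app e.inv (P.obj w) := rfl

@[simp] theorem app_trans_hom {P Q R : 𝒜 ⥤ᵇ ℬ} (e : P ≅ Q) (e' : Q ≅ R) (w : 𝒜.obj) :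
    app (e ≪≫ e').hom w = app e.hom w ≫ app e'.hom w := rfl

@[simp] theorem app_trans_inv {P Q R : 𝒜 ⥤ᵇ ℬ} (e : P ≅ Q) (e' : Q ≅ R) (w : 𝒜.obj) :
    app (e ≪≫ e').inv w = app e'.inv w ≫ app e.inv w := rfl

@[simp] theorem app_symm_hom {P Q : 𝒜 ⥤ᵇ ℬ} (e : P ≅ Q) (w : 𝒜.obj) :
    app e.symm.hom w = app e.inv w := rfl

@[simp] theorem app_symm_inv {P Q : 𝒜 ⥤ᵇ ℬ} (e : P ≅ Q) (w : 𝒜.obj) :
    app e.symm.inv w = app e.hom w := rfl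

@[simp] theorem app_refl_hom (P : 𝒜 ⥤ᵇ ℬ) (w : 𝒜.obj) : app (Iso.refl P).hom w = 𝟙 _ := rfl

@[simp] theorem app_refl_inv (P : 𝒜 ⥤ᵇ ℬ) (w : 𝒜.obj) : app (Iso.refl P).inv w = 𝟙 _ := rfl

@[simp] theorem fpSnd_map_app_fpIsoMk_hom {P Q : 𝒰 ⥤ᵇ FibCat.fp F G}
    (α : BasedFunctor.comp P (FibCat.fpFst F G) ≅ BasedFunctor.comp Q (FibCat.fpFst F G))
    (β : BasedFunctor.comp P (FibCat.fpSnd F G) ≅ BasedFunctor.comp Q (FibCat.fpSnd F G))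
    (h) (w : 𝒰.obj) :
    (FibCat.fpSnd F G).map (app (fpIsoMk α β h).hom w) = app β.hom w := rfl

@[simp] theorem fpFst_map_app_fpIsoMk_hom {P Q : 𝒰 ⥤ᵇ FibCat.fp F G}
    (α : BasedFunctor.comp P (FibCat.fpFst F G) ≅ BasedFunctor.comp Q (FibCat.fpFst F G))
    (β : BasedFunctor.comp P (FibCat.fpSnd F G) ≅ BasedFunctor.comp Q (FibCat.fpSnd F G))
    (h) (w : 𝒰.obj) :
    (FibCat.fpFst F G).map (app (fpIsoMk α β h).hom w) = app α.hom w := rfl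

@[simp] theorem fpSnd_map_app_fpIsoMk_inv {P Q : 𝒰 ⥤ᵇ FibCat.fp F G}
    (α : BasedFunctor.comp P (FibCat.fpFst F G) ≅ BasedFunctor.comp Q (FibCat.fpFst F G))
    (β : BasedFunctor.comp P (FibCat.fpSnd F G) ≅ BasedFunctor.comp Q (FibCat.fpSnd F G))
    (h) (w : 𝒰.obj) :
    (FibCat.fpSnd F G).map (app (fpIsoMk α β h).inv w) = app β.inv w := rfl

@[simp] theorem fpFst_map_app_fpIsoMk_inv {P Q : 𝒰 ⥤ᵇ FibCat.fp F G}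
    (α : BasedFunctor.comp P (FibCat.fpFst F G) ≅ BasedFunctor.comp Q (FibCat.fpFst F G))
    (β : BasedFunctor.comp P (FibCat.fpSnd F G) ≅ BasedFunctor.comp Q (FibCat.fpSnd F G))
    (h) (w : 𝒰.obj) :
    (FibCat.fpFst F G).map (app (fpIsoMk α β h).inv w) = app α.inv w := rfl

@[simp] theorem app_basedNatTrans_id (P : 𝒜 ⥤ᵇ ℬ) (w : 𝒜.obj) :
    app (BasedNatTrans.id P) w = 𝟙 _ := rfl

@[simp] theorem app_basedNatTrans_comp {P Q R : 𝒜 ⥤ᵇ ℬ} (α : BasedNatTrans P Q)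
    (β : BasedNatTrans Q R) (w : 𝒜.obj) :
    app (BasedNatTrans.comp α β) w = app α w ≫ app β w := rfl

@[simp] theorem comp_obj' (P : 𝒜 ⥤ᵇ ℬ) (Q : ℬ ⥤ᵇ 𝒳) (w : 𝒜.obj) :
    (BasedFunctor.comp P Q).obj w = Q.obj (P.obj w) := rfl

@[simp] theorem id_obj' (w : 𝒜.obj) : (BasedFunctor.id 𝒜).obj w = w := rfl

end Simp

section BaseChangeSnd
variable (f : 𝒳 ⥤ᵇ 𝒴) (z : 𝒵 ⥤ᵇ 𝒴) (x : 𝒰 ⥤ᵇ 𝒳)

/-- `(u, z', χ : f (x u) ≅ z z') ↦ (z', x u, χ⁻¹)` -/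
def bcT : FibCat.fp (BasedFunctor.comp x f) z ⥤ᵇ FibCat.fp z f :=
  FibCat.fpLift (FibCat.fpSnd (BasedFunctor.comp x f) z)
    (BasedFunctor.comp (FibCat.fpFst (BasedFunctor.comp x f) z) x)
    (FibCat.fpIso (BasedFunctor.comp x f) z).symm

/-- `(u, z', χ) ↦ (u, (z', x u, χ⁻¹), 𝟙)` -/
def bcE' : FibCat.fp (BasedFunctor.comp x f) z ⥤ᵇ FibCat.fp x (FibCat.fpSnd z f) :=
  FibCat.fpLift (FibCat.fpFst (BasedFunctor.comp x f) z) (bcT f z x) (Iso.refl _)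

/-- the 2-isomorphism used to define `bcE` -/
def bcEIso : BasedFunctor.comp (FibCat.fpFst x (FibCat.fpSnd z f)) (BasedFunctor.comp x f) ≅
    BasedFunctor.comp (BasedFunctor.comp (FibCat.fpSnd x (FibCat.fpSnd z f)) (FibCat.fpFst z f)) z :=
  whiskerRightIso (FibCat.fpIso x (FibCat.fpSnd z f)) f ≪≫
    whiskerLeftIso (FibCat.fpSnd x (FibCat.fpSnd z f)) (FibCat.fpIso z f).symm

/-- `(u, (z', x', φ), ψ : x u ≅ x') ↦ (u, z', f ψ ≫ φ⁻¹)` -/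
def bcE : FibCat.fp x (FibCat.fpSnd z f) ⥤ᵇ FibCat.fp (BasedFunctor.comp x f) z :=
  FibCat.fpLift (FibCat.fpFst x (FibCat.fpSnd z f))
    (BasedFunctor.comp (FibCat.fpSnd x (FibCat.fpSnd z f)) (FibCat.fpFst z f)) (bcEIso f z x)

theorem bcE'_fst : BasedFunctor.comp (bcE' f z x) (FibCat.fpFst x (FibCat.fpSnd z f)) =
    FibCat.fpFst (BasedFunctor.comp x f) z := rfl

/-- `bcE' ≫ bcE ≅ 𝟭` -/
def bcE'E : BasedFunctor.comp (bcE' f z x) (bcE f z x) ≅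
    BasedFunctor.id (FibCat.fp (BasedFunctor.comp x f) z) :=
  fpIsoMk (Iso.refl _) (Iso.refl _) (fun w => by
    simp [bcE', bcE, bcT, bcEIso])

/-- `bcE ≫ bcT ≅ fpSnd` -/
def bcET : BasedFunctor.comp (bcE f z x) (bcT f z x) ≅ FibCat.fpSnd x (FibCat.fpSnd z f) :=
  fpIsoMk (Iso.refl _) (FibCat.fpIso x (FibCat.fpSnd z f)) (fun w => by
    simp [bcE, bcT, bcEIso])

/-- `bcE ≫ bcE' ≅ 𝟭` -/
def bcEE' : BasedFunctor.comp (bcE f z x) (bcE' f z x) ≅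
    BasedFunctor.id (FibCat.fp x (FibCat.fpSnd z f)) :=
  fpIsoMk (Iso.refl _) (bcET f z x) (fun w => by
    simp [bcE', bcE, bcT, bcEIso, bcET])

theorem isEquivOver_bcE' : FibCat.IsEquivOver (bcE' f z x) :=
  ⟨bcE f z x, ⟨bcE'E f z x⟩, ⟨bcEE' f z x⟩⟩

end BaseChangeSnd

end Groth.Agent.Lib.Helper66.StackBC
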