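import Groth.Prelude.Def_AlgSt2
import Groth.Agent.Lib.Helper66.StackBC

/-!
# Base change for functors over `(Sch/S)` representable by algebraic spaces with a property
-/

set_option autoImplicit false
set_option backward.isDefEq.respectTransparency false
set_option backward.isDefEq.respectTransparency.types false
universe w'' v'' w' v' w v u

open CategoryTheory AlgebraicGeometry

namespace Groth.Agent.Lib.Helper66.AlgStBC

open Groth.Agent.Lib.Helper66.StackBC

variable {S : Scheme.{u}} {𝒳 : BasedCategory.{v, w} (Over S)} {𝒴 : BasedCategory.{v', w'} (Over S)}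
  {𝒵 : BasedCategory.{v'', w''} (Over S)}

/-- The base change `fpSnd z f` of `z` along `f` is representable with property `P` if `z` is. -/
theorem repByAlgSpWith_fpSnd (P : MorphismProperty (AlgSp.Sp S)) (f : 𝒳 ⥤ᵇ 𝒴) (z : 𝒵 ⥤ᵇ 𝒴)
    (hz : AlgSt.RepByAlgSpWith P z) : AlgSt.RepByAlgSpWith P (FibCat.fpSnd z f) := by
  intro U x
  obtain ⟨F, e, he, hP⟩ := hz U (BasedFunctor.comp x f)
  refine ⟨F, BasedFunctor.comp e (bcE' f z x), isEquivOver_comp he (isEquivOver_bcE' f z x), ?_⟩
  exact hP

end Groth.Agent.Lib.Helper66.AlgStBC
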