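import Groth.Agent.Lib.Helper66.AlgStBridge
import Groth.Agent.S9900

/-!
# The diagonal of a morphism representable by algebraic spaces is representable by schemes
-/

set_option autoImplicit false
set_option backward.isDefEq.respectTransparency false
set_option backward.isDefEq.respectTransparency.types false
universe u

open CategoryTheory CategoryTheory.Limits AlgebraicGeometry Opposite

namespace Groth.Agent.Lib.Helper66.AlgStBridgeRep

open FibCat Groth.Agent.Lib.Helper31 Groth.Agent.Lib.Helper65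

variable {S : Scheme.{u}} {𝒳 𝒴 : AlgSt.Cat S}

theorem isEquivOver_ofSpMap_of_isIso {F G : AlgSp.Sp S} (φ : F ⟶ G) [IsIso φ] :
    IsEquivOver (AlgSt.ofSpMap φ) := by
  have h1 : (φ ≫ inv φ).hom = (𝟙 F : F ⟶ F).hom := congrArg (fun ψ : F ⟶ F => ψ.hom) (IsIso.hom_inv_id φ)
  have h2 : (inv φ ≫ φ).hom = (𝟙 G : G ⟶ G).hom := congrArg (fun ψ : G ⟶ G => ψ.hom) (IsIso.inv_hom_id φ)
  refine ⟨AlgSt.ofSpMap (inv φ), ⟨eqToIso ?_⟩, ⟨eqToIso ?_⟩⟩
  · change Stk.ofPshMap ((φ ≫ inv φ).hom) = BasedFunctor.id _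
    rw [h1]; rfl
  · change Stk.ofPshMap ((inv φ ≫ φ).hom) = BasedFunctor.id _
    rw [h2]; rfl

theorem stableBC_representable : StableBC (AlgSp.Representable (S := S)) := by
  intro X₁ Y₁ X₂ Y₂ _ _ _ _ a b a' b' sq ha
  exact MorphismProperty.of_isPullback (P := AlgSp.Representable) sq ha

/-- An algebraic space with a representable morphism to a scheme is (the sheaf of) a scheme. -/
theorem isRepresentable_of_representable {𝒲 : AlgSt.Cat S} {E : AlgSp.Sp S} {T : Over S}
    (e : AlgSt.ofSp E ⥤ᵇ 𝒲) (he : IsEquivOver e) (b : E ⟶ (AlgSp.yon S).obj T)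
    (hb : AlgSp.Representable b) : FibCat.IsRepresentable 𝒲 := by
  obtain ⟨X, snd, fst, sq⟩ := hb (𝟙 ((AlgSp.yon S).obj T))
  have hiso : IsIso fst := sq.isIso_fst_of_isIso
  obtain ⟨e', he', -, -⟩ := exists_inverse_equivOver e he
  refine ⟨X, BasedFunctor.comp (BasedFunctor.comp e' (AlgSt.ofSpMap (inv fst))) (AlgSt.toOverCat X), ?_⟩
  exact isEquivOver_comp _ _ (isEquivOver_comp _ _ he' (isEquivOver_ofSpMap_of_isIso (inv fst)))
    (toOverCat_isEquivOver X)

/-- The diagonal of a morphism representable by algebraic spaces is representable by schemes. -/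
theorem isRepresentable1_diag (f : 𝒳 ⥤ᵇ 𝒴) (hf : AlgSt.RepByAlgSp1 f) :
    FibCat.IsRepresentable1 (FibCat.diag f) := by
  have hf' := (repByAlgSp1_iff_top f).1 hf
  have H : AlgSt.RepByAlgSpWith AlgSp.Representable (FibCat.diag f) :=
    Groth.Agent.Lib.Helper66.AlgStBridge.repByAlgSpWith_diag_of_rep AlgSp.Representable ⊤
      stableBC_representable f hf' (fun V T a _ =>
        (Groth.Agent.S9900.result (X := V) (Y := ⟨(AlgSp.yon S).obj T, AlgSp.IsAlgSpace.yon_obj T⟩)
          (ObjectProperty.homMk a)).1)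
  intro T t
  obtain ⟨E, e, he, hrep⟩ := H T t
  exact isRepresentable_of_representable e he _ hrep

end Groth.Agent.Lib.Helper66.AlgStBridgeRep
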