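import Groth.Agent.Lib.Helper65.RepWithP
import Groth.Agent.H52.QC5
import Groth.Agent.H52.QS
import Groth.Agent.S9984
import Groth.Agent.S9985
import Groth.Agent.S10505
import Groth.Agent.S10543
import Groth.Agent.S10541
import Groth.Agent.S10275
import Groth.Agent.S10276
import Groth.Agent.S10536
import Groth.Agent.S10519
import Groth.Agent.S10520

/-!
# Permanence properties (base change, composition, fppf locality) of the properties of morphisms of
algebraic spaces used for diagonals of algebraic stacks (helper66)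

Repackaging of landed rows of helpers 52/53/54 in the forms `StableBC`, `StableComp`,
`IsLocalOnBase IsFppfCover` used by `Lib/Helper65/RepWithP`.
-/

set_option autoImplicit false
universe u

open CategoryTheory CategoryTheory.Limits AlgebraicGeometry

namespace Groth.Agent.Lib.Helper66.AlgStPFacts

open Groth.Agent.Lib.Helper65

variable {S : Scheme.{u}}

/-- fpqc local on the base implies fppf local on the base -/
theorem isLocalOnBase_fppf_of_fpqc (P : MorphismProperty (AlgSp.Sp S))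
    (h : AlgSp.IsLocalOnBase AlgSp.IsFpqcCover P) : AlgSp.IsLocalOnBase AlgSp.IsFppfCover P := by
  intro ι Y Yi g hY hYi hcov X f hX Xi p q hXi hsq
  refine h Yi g hY hYi ?_ f hX Xi p q hXi hsq
  exact Groth.Agent.S10505.result (X := ⟨Y, hY⟩) (fun i => ⟨Yi i, hYi i⟩)
    (fun i => ObjectProperty.homMk (g i)) hcov

theorem isLocalOnBase_inf {τ : AlgSp.CovNotion S} (P Q : MorphismProperty (AlgSp.Sp S))
    (hP : AlgSp.IsLocalOnBase τ P) (hQ : AlgSp.IsLocalOnBase τ Q) :
    AlgSp.IsLocalOnBase τ (P ⊓ Q) := by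
  intro ι Y Yi g hY hYi hcov X f hX Xi p q hXi hsq
  have h1 := hP Yi g hY hYi hcov f hX Xi p q hXi hsq
  have h2 := hQ Yi g hY hYi hcov f hX Xi p q hXi hsq
  constructor
  · rintro ⟨hp, hq⟩ i
    exact ⟨h1.mp hp i, h2.mp hq i⟩
  · intro h
    exact ⟨h1.mpr fun i => (h i).1, h2.mpr fun i => (h i).2⟩

/-- the list of scheme-level properties handled by the landed permanence rows for `LocP` -/
def Listed (P : MorphismProperty Scheme.{u}) : Prop :=
  P = @LocallyOfFiniteType ∨ P = @LocallyOfFinitePresentation ∨ P = @Flat ∨ P = @Smooth ∨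
    P = @Etale ∨
    (∀ ⦃A B : Scheme.{u}⦄ (g : A ⟶ B), P g ↔ (LocallyQuasiFinite g ∧ LocallyOfFiniteType g)) ∨
    (∀ ⦃A B : Scheme.{u}⦄ (g : A ⟶ B), P g ↔ (LocallyOfFiniteType g ∧ FormallyUnramified g))

theorem stableBC_locP (P : MorphismProperty Scheme.{u}) (hP : Listed P) :
    StableBC (AlgSp.LocP (S := S) P) := by
  intro X₁ Y₁ X₂ Y₂ h1 h2 h3 h4 a b a' b' sq ha
  exact Groth.Agent.S9984.result P hP
    (X := ⟨X₁, h1⟩) (Y := ⟨Y₁, h2⟩) (Y' := ⟨Y₂, h4⟩) (X' := ⟨X₂, h3⟩)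
    (ObjectProperty.homMk a) (ObjectProperty.homMk b) (ObjectProperty.homMk b') (ObjectProperty.homMk a')
    sq ha

theorem stableComp_locP (P : MorphismProperty Scheme.{u}) (hP : Listed P) :
    StableComp (AlgSp.LocP (S := S) P) := by
  intro X Y Z hX hY hZ a b ha hb
  exact Groth.Agent.S9985.result P hP (X := ⟨X, hX⟩) (Y := ⟨Y, hY⟩) (Z := ⟨Z, hZ⟩)
    (ObjectProperty.homMk a) (ObjectProperty.homMk b) ha hb

theorem listed_unramified : Listed.{u} (@LocallyOfFiniteType ⊓ @FormallyUnramified) :=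
  Or.inr (Or.inr (Or.inr (Or.inr (Or.inr (Or.inr (fun _ _ _ => Iff.rfl))))))

theorem listed_lqf : Listed.{u} (@LocallyQuasiFinite ⊓ @LocallyOfFiniteType) :=
  Or.inr (Or.inr (Or.inr (Or.inr (Or.inr (Or.inl (fun _ _ _ => Iff.rfl))))))

theorem isLocalOnBase_fppf_unramified :
    AlgSp.IsLocalOnBase (AlgSp.IsFppfCover (S := S))
      (AlgSp.LocP (@LocallyOfFiniteType ⊓ @FormallyUnramified)) :=
  isLocalOnBase_fppf_of_fpqc _ (Groth.Agent.S10543.result S)

theorem isLocalOnBase_fppf_lqf :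
    AlgSp.IsLocalOnBase (AlgSp.IsFppfCover (S := S))
      (AlgSp.LocP (@LocallyQuasiFinite ⊓ @LocallyOfFiniteType)) :=
  isLocalOnBase_fppf_of_fpqc _ (Groth.Agent.S10541.result S).1

theorem stableBC_isProperMor : StableBC (AlgSp.IsProperMor (S := S)) := by
  intro X₁ Y₁ X₂ Y₂ h1 h2 h3 h4 a b a' b' sq ha
  exact Groth.Agent.S10275.result
    (X := ⟨X₁, h1⟩) (Y := ⟨Y₁, h2⟩) (Y' := ⟨Y₂, h4⟩) (X' := ⟨X₂, h3⟩)
    (ObjectProperty.homMk a) (ObjectProperty.homMk b) (ObjectProperty.homMk b') (ObjectProperty.homMk a')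
    sq ha

theorem stableComp_isProperMor : StableComp (AlgSp.IsProperMor (S := S)) := by
  intro X Y Z hX hY hZ a b ha hb
  exact Groth.Agent.S10276.result (X := ⟨X, hX⟩) (Y := ⟨Y, hY⟩) (Z := ⟨Z, hZ⟩)
    (ObjectProperty.homMk a) (ObjectProperty.homMk b) ha hb

theorem isLocalOnBase_fppf_isProperMor :
    AlgSp.IsLocalOnBase (AlgSp.IsFppfCover (S := S)) AlgSp.IsProperMor :=
  isLocalOnBase_fppf_of_fpqc _ (Groth.Agent.S10536.result S)

theorem stableBC_qcqs :
    StableBC (AlgSp.IsQuasiCompactMor (S := S) ⊓ AlgSp.IsQuasiSeparatedMor) := by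
  intro X₁ Y₁ X₂ Y₂ h1 h2 h3 h4 a b a' b' sq ha
  exact ⟨Groth.Agent.H52.isQuasiCompactMor_of_isPullback sq ha.1,
    Groth.Agent.H52.repWith_diagonal_of_isPullback @QuasiCompact sq ha.2⟩

theorem stableComp_qcqs :
    StableComp (AlgSp.IsQuasiCompactMor (S := S) ⊓ AlgSp.IsQuasiSeparatedMor) := by
  intro X Y Z hX hY hZ a b ha hb
  exact ⟨Groth.Agent.H52.isQuasiCompactMor_comp hY hZ a b ha.1 hb.1,
    Groth.Agent.H52.repWith_diagonal_comp @QuasiCompact a b ha.2 hb.2⟩

theorem isLocalOnBase_fppf_qcqs :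
    AlgSp.IsLocalOnBase (AlgSp.IsFppfCover (S := S))
      (AlgSp.IsQuasiCompactMor ⊓ AlgSp.IsQuasiSeparatedMor) :=
  isLocalOnBase_inf _ _ (isLocalOnBase_fppf_of_fpqc _ (Groth.Agent.S10519.result S))
    (isLocalOnBase_fppf_of_fpqc _ (Groth.Agent.S10520.result S))

end Groth.Agent.Lib.Helper66.AlgStPFacts
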