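import Groth.Agent.Lib.Helper65.AlgStRep
import Groth.Agent.Lib.Helper65.RepDesc
import Groth.Agent.Lib.Helper66.AlgStBC
import Groth.Agent.Lib.Helper66.AlgStBridgeRep
import Groth.Agent.Lib.Helper66.AlgStPFacts

/-!
# A morphism representable by schemes with `Q` has `Q` read on one chart square
-/

set_option autoImplicit false
set_option backward.isDefEq.respectTransparency false
set_option backward.isDefEq.respectTransparency.types false
universe u

open CategoryTheory CategoryTheory.Limits AlgebraicGeometry Opposite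

namespace Groth.Agent.Lib.Helper66.AlgStLocQImm

open FibCat Groth.Agent.Lib.Helper31 Groth.Agent.Lib.Helper65 Groth.Agent.Lib.Helper66

variable {S : Scheme.{u}} {𝒳 𝒴 : AlgSt.Cat S}

/-- If every base change of `f` to a scheme is representable by schemes with `Q`, and `Q ≤ R` with `R` one of
the listed classes, then `f` has `R` read on a chart square. -/
theorem locQ_of_repByAlgSpWith_repWith (Q R : MorphismProperty Scheme.{u}) (hR : AlgStPFacts.Listed R)
    (hQR : ∀ ⦃A B : Scheme.{u}⦄ (φ : A ⟶ B), Q φ → R φ)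
    (hatlas : AlgSt.HasAtlas (AlgSp.LocP @Smooth) 𝒴) (f : 𝒳 ⥤ᵇ 𝒴)
    (hf : AlgSt.RepByAlgSpWith (AlgSp.RepWith Q) f) : AlgSt.LocQ (AlgSp.LocP R) f := by
  obtain ⟨V, y, hy1, hy2⟩ := hatlas
  obtain ⟨G, e, he, ha⟩ := hf V y
  let a : G.obj ⟶ (AlgSp.yon S).obj V := AlgSt.spMapOfOver (BasedFunctor.comp e (fpFst y f))
  have hrep : AlgSp.Representable a := ha.rep
  let U : Over S := hrep.pullback (𝟙 ((AlgSp.yon S).obj V))
  let k : U ⟶ V := hrep.snd (𝟙 _)
  let φ : (AlgSp.yon S).obj U ⟶ G.obj := hrep.fst (𝟙 _)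
  have sq : IsPullback φ ((AlgSp.yon S).map k) a (𝟙 _) := hrep.isPullback (𝟙 _)
  have hφ : IsIso φ := sq.isIso_fst_of_isIso
  have hk : Q k.left := ha.property_snd (𝟙 _)
  have hw : φ ≫ a = (AlgSp.yon S).map k := by rw [sq.w, Category.comp_id]
  have hEq : IsEquivOver (chartFunctor φ) :=
    isEquivOver_comp _ _ (ofOverCat_isEquivOver U)
      (Groth.Agent.Lib.Helper66.AlgStBridgeRep.isEquivOver_ofSpMap_of_isIso φ)
  let x : FibCat.overCat U ⥤ᵇ 𝒳 :=
    BasedFunctor.comp (chartFunctor φ) (BasedFunctor.comp e (fpSnd y f))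
  have hx1 : AlgSt.RepByAlgSpWith (AlgSp.LocP @Smooth) x :=
    repByAlgSpWith_equiv_comp _ (chartFunctor φ) hEq _ (repByAlgSpWith_equiv_comp _ e he _
      (Groth.Agent.Lib.Helper66.AlgStBC.repByAlgSpWith_fpSnd _ f y hy1))
  have hx2 : AlgSt.RepByAlgSpWith AlgSp.IsSurjectiveMor x :=
    repByAlgSpWith_equiv_comp _ (chartFunctor φ) hEq _ (repByAlgSpWith_equiv_comp _ e he _
      (Groth.Agent.Lib.Helper66.AlgStBC.repByAlgSpWith_fpSnd _ f y hy2))
  -- the 2-isomorphism
  have e1 : BasedFunctor.comp (chartFunctor φ) (AlgSt.ofSpMap a) = chartFunctor ((AlgSp.yon S).map k) := by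
    rw [← hw]; rfl
  let i1 : BasedFunctor.comp (BasedFunctor.comp e (fpSnd y f)) f ≅
      BasedFunctor.comp (BasedFunctor.comp e (fpFst y f)) y :=
    bWhiskerLeftIso e (fpIso y f).symm
  let i2 : BasedFunctor.comp (BasedFunctor.comp e (fpFst y f)) y ≅
      BasedFunctor.comp (BasedFunctor.comp (AlgSt.ofSpMap a) (AlgSt.toOverCat V)) y :=
    bWhiskerRightIso (isoSpMapOfOver (BasedFunctor.comp e (fpFst y f))) y
  let i3 : BasedFunctor.comp x f ≅ BasedFunctor.comp (chartFunctor φ)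
      (BasedFunctor.comp (BasedFunctor.comp (AlgSt.ofSpMap a) (AlgSt.toOverCat V)) y) :=
    bWhiskerLeftIso (chartFunctor φ) (i1 ≪≫ i2)
  have e2 : BasedFunctor.comp (chartFunctor φ)
      (BasedFunctor.comp (BasedFunctor.comp (AlgSt.ofSpMap a) (AlgSt.toOverCat V)) y) =
      BasedFunctor.comp (AlgSt.overMap k) y := by
    change BasedFunctor.comp (BasedFunctor.comp (chartFunctor φ) (AlgSt.ofSpMap a))
      (BasedFunctor.comp (AlgSt.toOverCat V) y) = _
    rw [e1]
    rfl
  have hkR : AlgSp.LocP R ((AlgSp.yon S).map k) := by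
    have hbc : R.IsStableUnderBaseChange := (Groth.Agent.H52.isEtLocal_of_list R hR).baseChange
    exact (Groth.Agent.H52.isEtLocal_of_list R hR).locP_of_repWith' _
      ((AlgSp.repWith_yon_map_iff R k).2 (hQR _ hk))
  exact ⟨U, V, x, y, k, i3 ≪≫ eqToIso e2, hx1, hx2, hy1, hkR⟩

end Groth.Agent.Lib.Helper66.AlgStLocQImm
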