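import Groth.Agent.Lib.Helper66.SmoothLocalNoeth
import Groth.Agent.Lib.Helper66.AlgStLocQImm

/-!
# Locally of finite type over a locally Noetherian base is locally of finite presentation
-/

set_option autoImplicit false
universe u

open CategoryTheory CategoryTheory.Limits AlgebraicGeometry Opposite

namespace Groth.Agent.Lib.Helper66.LfpNoeth

theorem locallyOfFinitePresentation_of_isLocallyNoetherian {X Y : Scheme.{u}} (f : X ⟶ Y)
    [LocallyOfFiniteType f] [IsLocallyNoetherian Y] : LocallyOfFinitePresentation f := by
  rw [HasRingHomProperty.iff_appLE (P := @LocallyOfFinitePresentation)]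
  intro U V e
  have : IsNoetherianRing Γ(Y, U.1) := IsLocallyNoetherian.component_noetherian U
  exact RingHom.FinitePresentation.of_finiteType.1
    (HasRingHomProperty.appLE (P := @LocallyOfFiniteType) f inferInstance U V e)

variable {S : Scheme.{u}}

theorem locP_lfp_yon_map {U V : Over S} (k : U ⟶ V) (hk : LocallyOfFinitePresentation k.left) :
    AlgSp.LocP @LocallyOfFinitePresentation ((AlgSp.yon S).map k) := by
  have hR : Groth.Agent.Lib.Helper66.AlgStPFacts.Listed
      (@LocallyOfFinitePresentation : MorphismProperty Scheme.{u}) := Or.inr (Or.inl rfl)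
  exact (Groth.Agent.H52.isEtLocal_of_list _ hR).locP_of_repWith' _
    ((AlgSp.repWith_yon_map_iff @LocallyOfFinitePresentation k).2 hk)

end Groth.Agent.Lib.Helper66.LfpNoeth
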