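import Groth.Agent.Lib.Helper66.RepWithPDet
import Groth.Agent.H52.AffineMor
import Groth.Agent.H53.IntegralComp

/-!
# Affine, integral and finite morphisms: base change, composition, detection on schemes (helper66)
-/

set_option autoImplicit false
universe u

open CategoryTheory CategoryTheory.Limits AlgebraicGeometry Opposite

namespace Groth.Agent.Lib.Helper66.AlgStAffFacts

open Groth.Agent.Lib.Helper65 Groth.Agent.Lib.Helper66.RepWithPDet AlgSp

variable {S : Scheme.{u}}

theorem isIntegralMor_of_isPullback {F G F' G' : Sp S} {f : F ⟶ G} {g : G' ⟶ G} {fst : F' ⟶ F}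
    {f' : F' ⟶ G'} (sq : IsPullback fst f' f g) (hf : IsIntegralMor f) : IsIntegralMor f' := by
  intro Z hZ y
  obtain ⟨W, i, fstW, sqW, hW, hi⟩ := hf hZ (y ≫ g)
  refine ⟨W, i, sq.lift fstW ((yon S).map i ≫ y) (by rw [sqW.w, Category.assoc]), ?_, hW, hi⟩
  exact IsPullback.of_right (by rwa [sq.lift_fst]) (sq.lift_snd _ _ _) sq

theorem isFiniteMor_of_isPullback {F G F' G' : Sp S} {f : F ⟶ G} {g : G' ⟶ G} {fst : F' ⟶ F}
    {f' : F' ⟶ G'} (sq : IsPullback fst f' f g) (hf : IsFiniteMor f) : IsFiniteMor f' := by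
  intro Z hZ y
  obtain ⟨W, i, fstW, sqW, hW, hi⟩ := hf hZ (y ≫ g)
  refine ⟨W, i, sq.lift fstW ((yon S).map i ≫ y) (by rw [sqW.w, Category.assoc]), ?_, hW, hi⟩
  exact IsPullback.of_right (by rwa [sq.lift_fst]) (sq.lift_snd _ _ _) sq

theorem isFiniteMor_comp {X Y Z : Sp S} (f : X ⟶ Y) (g : Y ⟶ Z) (hf : IsFiniteMor f)
    (hg : IsFiniteMor g) : IsFiniteMor (f ≫ g) := by
  intro T hT y
  obtain ⟨W, i, fst, sq, hW, hi⟩ := hg hT y
  obtain ⟨W', i', fst', sq', hW', hi'⟩ := hf hW fst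
  refine ⟨W', i' ≫ i, fst', ?_, hW', ?_⟩
  · have := sq'.paste_vert sq
    rwa [← Functor.map_comp] at this
  · rw [Over.comp_left]
    infer_instance

theorem stableBC_isAffineMor : StableBC (IsAffineMor (S := S)) :=
  fun _ _ _ _ _ _ _ _ _ _ _ _ sq ha => Groth.Agent.H52.isAffineMor_of_isPullback sq ha

theorem stableComp_isAffineMor : StableComp (IsAffineMor (S := S)) :=
  fun _ _ _ _ _ _ a b ha hb => Groth.Agent.H52.isAffineMor_comp a b ha hb

theorem stableBC_isIntegralMor : StableBC (IsIntegralMor (S := S)) :=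
  fun _ _ _ _ _ _ _ _ _ _ _ _ sq ha => isIntegralMor_of_isPullback sq ha

theorem stableComp_isIntegralMor : StableComp (IsIntegralMor (S := S)) :=
  fun _ _ _ _ _ _ a b ha hb => Groth.Agent.H53.isIntegralMor_comp a b ha hb

theorem stableBC_isFiniteMor : StableBC (IsFiniteMor (S := S)) :=
  fun _ _ _ _ _ _ _ _ _ _ _ _ sq ha => isFiniteMor_of_isPullback sq ha

theorem stableComp_isFiniteMor : StableComp (IsFiniteMor (S := S)) :=
  fun _ _ _ _ _ _ a b ha hb => isFiniteMor_comp a b ha hb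

theorem detected_isAffineMor : Detected (IsAffineMor (S := S)) := by
  intro V Z a h T hT g
  have sq : IsPullback (pullback.fst a g) (pullback.snd a g) a g := IsPullback.of_hasPullback a g
  have sq' := sq.map (sheafToPresheaf (AlgSp.J S) (Type (u + 1)))
  obtain ⟨hsh, -, hQW⟩ := h g.hom (pullback.fst a g).hom (pullback.snd a g).hom sq'
  obtain ⟨W, i, fstW, sqW, hWaff⟩ := hQW.1 hT (𝟙 _)
  refine ⟨W, i, fstW ≫ pullback.fst a g, ?_, hWaff⟩
  have := sqW.paste_horiz sq
  rwa [Category.id_comp] at this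

theorem detected_isIntegralMor : Detected (IsIntegralMor (S := S)) := by
  intro V Z a h T hT g
  have sq : IsPullback (pullback.fst a g) (pullback.snd a g) a g := IsPullback.of_hasPullback a g
  have sq' := sq.map (sheafToPresheaf (AlgSp.J S) (Type (u + 1)))
  obtain ⟨hsh, -, hQW⟩ := h g.hom (pullback.fst a g).hom (pullback.snd a g).hom sq'
  obtain ⟨W, i, fstW, sqW, hWaff, hi⟩ := hQW.1 hT (𝟙 _)
  refine ⟨W, i, fstW ≫ pullback.fst a g, ?_, hWaff, hi⟩
  have := sqW.paste_horiz sq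
  rwa [Category.id_comp] at this

theorem detected_isFiniteMor : Detected (IsFiniteMor (S := S)) := by
  intro V Z a h T hT g
  have sq : IsPullback (pullback.fst a g) (pullback.snd a g) a g := IsPullback.of_hasPullback a g
  have sq' := sq.map (sheafToPresheaf (AlgSp.J S) (Type (u + 1)))
  obtain ⟨hsh, -, hQW⟩ := h g.hom (pullback.fst a g).hom (pullback.snd a g).hom sq'
  obtain ⟨W, i, fstW, sqW, hWaff, hi⟩ := hQW.1 hT (𝟙 _)
  refine ⟨W, i, fstW ≫ pullback.fst a g, ?_, hWaff, hi⟩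
  have := sqW.paste_horiz sq
  rwa [Category.id_comp] at this

end Groth.Agent.Lib.Helper66.AlgStAffFacts
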