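import Groth.Agent.H52.QC2
import Groth.Agent.H52.Compact
import Groth.Agent.H52.Top2
import Groth.Agent.H53.Proper
import Groth.Agent.H53.FibrePts
import Groth.Agent.S10174

/-!
# Universally closed morphisms of algebraic spaces are quasi-compact
-/

set_option autoImplicit false
universe u

open CategoryTheory CategoryTheory.Limits AlgebraicGeometry Opposite TopologicalSpace
open AlgSp

namespace Groth.Agent.Lib.Helper66.UnivClosedQC

variable {S : Scheme.{u}}

open PrimeSpectrum MvPolynomial in
/-- An algebraic space universally closed over a field has a quasi-compact space of points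
(port of `AlgebraicGeometry.compactSpace_of_universallyClosed`). -/
theorem compactSpace_points_of_isUnivClosedMor_field {K : Type u} [Field K]
    (sK : Spec (CommRingCat.of K) ⟶ S) {P : Sp S} (hP : IsAlgSpace P)
    (t : P ⟶ (yon S).obj (Over.mk sK)) (ht : IsUnivClosedMor t) : CompactSpace (Points P) := by
  classical
  obtain ⟨W, q, hqe, hqs⟩ := hP.atlas
  let 𝒰 : W.left.OpenCover := W.left.affineCover
  let ofq : ↥W.left → Points P := Points.ofPt q
  have hofq : ofq = Points.map q ∘ Points.ofScheme W := funext (Points.ofPt_eq_map_ofScheme q)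
  have hofq_open : IsOpenMap ofq := by
    rw [hofq]
    exact (H52.isOpenMap_points_of_etale q hqe).comp (Points.schemeHomeo W).isOpenMap
  have hofq_surj : Function.Surjective ofq := by
    rw [hofq]
    exact (H52.surjective_points_of_repWith_surjective q hqs).comp (Points.schemeEquiv W).surjective
  let U (i : 𝒰.I₀) : Set (Points P) := ofq '' (Set.range (𝒰.f i))
  have hUopen (i) : IsOpen (U i) := hofq_open _ (𝒰.f i).isOpenEmbedding.isOpen_range
  have hUcompact (i) : IsCompact (U i) :=
    (isCompact_range (𝒰.f i).continuous).image (Points.continuous_ofPt q)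
  have hUcover (x : Points P) : ∃ i, x ∈ U i := by
    obtain ⟨w, rfl⟩ := hofq_surj x
    exact ⟨𝒰.idx w, w, 𝒰.covers w, rfl⟩
  let R := MvPolynomial 𝒰.I₀ K
  let T : Scheme := Spec (.of R)
  let T₀ : Over S := Over.mk (Spec.map (CommRingCat.ofHom (MvPolynomial.C : K →+* R)) ≫ sK)
  let qT : T₀ ⟶ Over.mk sK := Over.homMk (Spec.map (CommRingCat.ofHom MvPolynomial.C)) rfl
  let Ti (i : 𝒰.I₀) : T.Opens := basicOpen (MvPolynomial.X i)
  let PT := pullback t ((yon S).map qT)
  let fst : PT ⟶ P := pullback.fst _ _
  let snd : PT ⟶ (yon S).obj T₀ := pullback.snd _ _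
  have sq : IsPullback fst snd t ((yon S).map qT) := IsPullback.of_hasPullback _ _
  have hclosed : IsClosedMap (Points.map snd) := ht (IsAlgSpace.yon_obj T₀) _ fst snd sq
  let fT : Points PT → ↥T := (Points.schemeHomeo T₀).symm ∘ Points.map snd
  have hfTc : Continuous fT := (Points.schemeHomeo T₀).symm.continuous.comp (Points.continuous_map snd)
  have hfTcl : IsClosedMap fT := (Points.schemeHomeo T₀).symm.isClosedMap.comp hclosed
  let p : Points PT → Points P := Points.map fst
  have hpc : Continuous p := Points.continuous_map fst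
  let Zs : Set (Points PT) := (⋃ i, fT ⁻¹' (Ti i : Set ↥T) ∩ p ⁻¹' (U i))ᶜ
  have hZ : IsClosed Zs := by
    rw [isClosed_compl_iff]
    exact isOpen_iUnion fun i => ((Ti i).isOpen.preimage hfTc).inter ((hUopen i).preimage hpc)
  let Zc : T.Opens := ⟨(fT '' Zs)ᶜ, (hfTcl _ hZ).isOpen_compl⟩
  let ψ : R →ₐ[K] K := MvPolynomial.aeval (fun _ ↦ 1)
  let t₁ : T := Spec.map (CommRingCat.ofHom ψ.toRingHom) default
  have ht₁ (i : 𝒰.I₀) : t₁ ∈ Ti i := show ψ (.X i) ≠ 0 by
    rw [show ψ (.X i) = 1 from MvPolynomial.aeval_X _ i]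
    exact one_ne_zero
  have ht₁Zc : t₁ ∈ Zc := by
    rintro ⟨z, hz, hzt⟩
    obtain ⟨i, hi⟩ := hUcover (p z)
    exact hz (Set.mem_iUnion.2 ⟨i, by rw [Set.mem_preimage, hzt]; exact ht₁ i, hi⟩)
  obtain ⟨U', ⟨g, rfl⟩, htU', hU'le⟩ := Opens.isBasis_iff_nbhd.mp isBasis_basic_opens ht₁Zc
  let σ : Finset 𝒰.I₀ := MvPolynomial.vars g
  let φ : R →+* R :=
    (MvPolynomial.aeval fun i : 𝒰.I₀ ↦ if i ∈ σ then MvPolynomial.X i else 0).toRingHom
  let t' : T := Spec.map (CommRingCat.ofHom φ) t₁
  have ht'g : t' ∈ PrimeSpectrum.basicOpen g :=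
    show φ g ∉ t₁.asIdeal from (show φ g = g from aeval_ite_mem_eq_self g subset_rfl).symm ▸ htU'
  have h : t' ∉ fT '' Zs := hU'le ht'g
  suffices hcov : ⋃ i ∈ σ, U i = Set.univ from
    ⟨hcov ▸ Finset.isCompact_biUnion _ fun i _ ↦ hUcompact i⟩
  rw [Set.iUnion₂_eq_univ_iff]
  by_contra hne
  push Not at hne
  obtain ⟨x, hx⟩ := hne
  obtain ⟨z, hz1, hz2⟩ := H52.exists_point_of_isPullback sq x (Points.schemeHomeo T₀ t')
    (Subsingleton.elim _ _)
  have hfz : fT z = t' := by
    change (Points.schemeHomeo T₀).symm (Points.map snd z) = t'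
    rw [hz2]
    exact (Points.schemeHomeo T₀).symm_apply_apply t'
  apply h
  refine ⟨z, ?_, hfz⟩
  simp only [Zs, Set.mem_compl_iff, Set.mem_iUnion, not_exists]
  rintro i ⟨hi₁, hi₂⟩
  rw [Set.mem_preimage, hfz] at hi₁
  by_cases hiσ : i ∈ σ
  · exact hx i hiσ (hz1 ▸ hi₂)
  · have h0 : φ (.X i) = 0 := by
      change (MvPolynomial.aeval fun i : 𝒰.I₀ ↦ if i ∈ σ then (MvPolynomial.X i : R) else 0) (.X i) = 0
      rw [MvPolynomial.aeval_X, if_neg hiσ]
    exact hi₁ (show φ (.X i) ∈ t₁.asIdeal by rw [h0]; exact zero_mem _)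

/-- An algebraic space universally closed over a quasi-compact scheme has a quasi-compact space of points. -/
theorem compactSpace_points_of_isUnivClosedMor {Z : Over S} [CompactSpace ↥Z.left] {P : Sp S}
    (hP : IsAlgSpace P) (t : P ⟶ (yon S).obj Z) (ht : IsUnivClosedMor t) : CompactSpace (Points P) := by
  let τ : Points P → ↥Z.left := (Points.schemeHomeo Z).symm ∘ Points.map t
  have hτc : Continuous τ := (Points.schemeHomeo Z).symm.continuous.comp (Points.continuous_map t)
  have hτcl : IsClosedMap τ :=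
    (Points.schemeHomeo Z).symm.isClosedMap.comp (H53.univSp_self _ (IsAlgSpace.yon_obj Z) ht)
  have hfib : ∀ z : ↥Z.left, IsCompact (τ ⁻¹' {z}) := by
    intro z
    let sK : Spec (CommRingCat.of (Z.left.residueField z)) ⟶ S := Z.left.fromSpecResidueField z ≫ Z.hom
    let Zz : Over S := Over.mk sK
    let j : Zz ⟶ Z := Over.homMk (Z.left.fromSpecResidueField z) rfl
    have sq : IsPullback (pullback.fst t ((yon S).map j)) (pullback.snd t ((yon S).map j)) t
        ((yon S).map j) := IsPullback.of_hasPullback _ _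
    have hPz : IsAlgSpace (pullback t ((yon S).map j)) :=
      H52.isAlgSpace_of_isPullback sq hP (IsAlgSpace.yon_obj Z) (IsAlgSpace.yon_obj Zz)
    have hsnd : IsUnivClosedMor (pullback.snd t ((yon S).map j)) := H53.univSp_of_isPullback _ sq ht
    have hc : CompactSpace (Points (pullback t ((yon S).map j))) :=
      compactSpace_points_of_isUnivClosedMor_field sK hPz _ hsnd
    have hj : ∀ u : ↥Zz.left, j.left u = z := fun u => Scheme.fromSpecResidueField_apply z u
    have heq : τ ⁻¹' {z} = Set.range (Points.map (pullback.fst t ((yon S).map j))) := by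
      ext x
      constructor
      · intro hx
        have hx' : τ x = z := hx
        have h1 : Points.map t x = Points.map ((yon S).map j)
            (Points.ofScheme Zz (IsLocalRing.closedPoint (Z.left.residueField z))) := by
          rw [H52.points_map_ofScheme, hj, ← hx']
          exact ((Points.schemeHomeo Z).apply_symm_apply _).symm
        obtain ⟨w, hw1, -⟩ := H52.exists_point_of_isPullback sq x _ h1
        exact ⟨w, hw1⟩
      · rintro ⟨w, rfl⟩
        change (Points.schemeHomeo Z).symm (Points.map t (Points.map (pullback.fst t ((yon S).map j)) w)) = z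
        rw [← Points.map_comp, sq.w, Points.map_comp]
        obtain ⟨u, hu⟩ := (Points.schemeEquiv Zz).surjective (Points.map (pullback.snd t ((yon S).map j)) w)
        rw [← hu]
        change (Points.schemeHomeo Z).symm (Points.map ((yon S).map j) (Points.ofScheme Zz u)) = z
        rw [H52.points_map_ofScheme, hj]
        exact (Points.schemeHomeo Z).symm_apply_apply z
    rw [heq]
    exact isCompact_range (Points.continuous_map _)
  have hproper : IsProperMap τ := isProperMap_iff_isClosedMap_and_compact_fibers.2 ⟨hτc, hτcl, hfib⟩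
  exact ⟨by simpa using hproper.isCompact_preimage isCompact_univ⟩

/-- A universally closed morphism of algebraic spaces is quasi-compact. -/
theorem isQuasiCompactMor_of_isUnivClosedMor {X Y : Sp S} (hX : IsAlgSpace X) (hY : IsAlgSpace Y)
    (f : X ⟶ Y) (hf : IsUnivClosedMor f) : IsQuasiCompactMor f := by
  apply H52.isQuasiCompactMor_of_affine hX hY f
  intro Z hZ g P fst snd sq
  have : CompactSpace ↥Z.left := by
    have : IsAffine Z.left := hZ
    infer_instance
  have hPalg : IsAlgSpace P := H52.isAlgSpace_of_isPullback sq hX hY (IsAlgSpace.yon_obj Z)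
  have hsnd : IsUnivClosedMor snd := H53.univSp_of_isPullback _ sq hf
  have hc := compactSpace_points_of_isUnivClosedMor hPalg snd hsnd
  exact (Groth.Agent.S10174.result (⟨P, hPalg⟩ : AlgSp.Space S)).2 hc

end Groth.Agent.Lib.Helper66.UnivClosedQC
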