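import Groth.Agent.Lib.Helper66.AlgSpSmLocalLft
import Groth.Agent.S10553

/-!
# Smoothness of morphisms of algebraic spaces is smooth local on source-and-target
-/

set_option autoImplicit false
set_option backward.isDefEq.respectTransparency false
set_option backward.isDefEq.respectTransparency.types false

universe u

open CategoryTheory CategoryTheory.Functor CategoryTheory.Limits Opposite AlgebraicGeometry

namespace Groth.Agent.Lib.Helper66.AlgSpSmLocalLft

open Groth.Agent.Lib.Helper65

variable {S : Scheme.{u}}

/-- Smoothness of morphisms of algebraic spaces is smooth local on source-and-target. -/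
theorem isSmoothLocalST_locP_smooth :
    AlgSp.IsSmoothLocalST (AlgSp.LocP (S := S) @Smooth) := by
  refine Groth.Agent.S10567.result _ (Groth.Agent.S10553.result S)
    (isLocalOnBase_sm_of_fppf isLocalOnBase_fppf_locP_smooth) ?_
  intro X Y Z f g hf hg
  exact stableComp_locP @Smooth (Or.inr (Or.inr (Or.inr (Or.inl rfl)))) X.property Y.property
    Z.property f.hom g.hom hf hg

end Groth.Agent.Lib.Helper66.AlgSpSmLocalLft
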