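import Groth.Agent.Lib.Helper66.SmoothSourceLocal2
import Groth.Agent.Lib.Helper65.FlatLocal
import Groth.Agent.Lib.Helper54.EtLocalBridge
import Groth.Agent.Lib.Helper54.EtLocalInst

/-!
# Locally of finite type / presentation for morphisms of algebraic spaces is smooth local on
source-and-target
-/

set_option autoImplicit false
set_option backward.isDefEq.respectTransparency false
set_option backward.isDefEq.respectTransparency.types false

universe u

open CategoryTheory CategoryTheory.Functor CategoryTheory.Limits Opposite AlgebraicGeometry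

namespace Groth.Agent.Lib.Helper66.AlgSpSmLocalLft

open Groth.Agent.Lib.Helper65 Groth.Agent.Lib.Helper66.SmoothSourceLocal

variable {S : Scheme.{u}}

theorem sigmaDesc_surjective {ι : Type u} {U : Scheme.{u}} (Ui : ι → Scheme.{u})
    (k : ∀ i, Ui i ⟶ U) (hsurj : ∀ u : ↥U, ∃ i, u ∈ Set.range (k i)) :
    Surjective (Sigma.desc k) := by
  constructor
  intro x
  obtain ⟨i, y, rfl⟩ := hsurj x
  exact ⟨Sigma.ι Ui i y, by simp [← Scheme.Hom.comp_apply]⟩

/-- Locally of finite type descends along a jointly surjective family of smooth morphisms on the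
source. -/
theorem lft_of_comp_of_smooth_family {ι : Type u} {U V : Scheme.{u}} (Ui : ι → Scheme.{u})
    (k : ∀ i, Ui i ⟶ U) (h : U ⟶ V) (hk : ∀ i, Smooth (k i))
    (hsurj : ∀ u : ↥U, ∃ i, u ∈ Set.range (k i)) (hkh : ∀ i, LocallyOfFiniteType (k i ≫ h)) :
    LocallyOfFiniteType h := by
  have h1 : Smooth (Sigma.desc k) := IsZariskiLocalAtSource.sigmaDesc (fun i => hk i)
  have h2 : Surjective (Sigma.desc k) := sigmaDesc_surjective Ui k hsurj
  apply locallyOfFiniteType_of_comp_smooth_surjective (Sigma.desc k) h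
  have : Sigma.desc k ≫ h = Sigma.desc (fun i => k i ≫ h) := by
    ext i
    simp
  rw [this]
  exact IsZariskiLocalAtSource.sigmaDesc (fun i => hkh i)

/-- Locally of finite presentation descends along a jointly surjective family of smooth morphisms
on the source. -/
theorem lfp_of_comp_of_smooth_family {ι : Type u} {U V : Scheme.{u}} (Ui : ι → Scheme.{u})
    (k : ∀ i, Ui i ⟶ U) (h : U ⟶ V) (hk : ∀ i, Smooth (k i))
    (hsurj : ∀ u : ↥U, ∃ i, u ∈ Set.range (k i))
    (hkh : ∀ i, LocallyOfFinitePresentation (k i ≫ h)) :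
    LocallyOfFinitePresentation h := by
  have h1 : Smooth (Sigma.desc k) := IsZariskiLocalAtSource.sigmaDesc (fun i => hk i)
  have h2 : Surjective (Sigma.desc k) := sigmaDesc_surjective Ui k hsurj
  apply locallyOfFinitePresentation_of_comp_smooth_surjective (Sigma.desc k) h
  have : Sigma.desc k ≫ h = Sigma.desc (fun i => k i ≫ h) := by
    ext i
    simp
  rw [this]
  exact IsZariskiLocalAtSource.sigmaDesc (fun i => hkh i)

theorem lfp_le_lft :
    (@LocallyOfFinitePresentation : MorphismProperty Scheme.{u}) ≤ @LocallyOfFiniteType := by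
  intro X Y f hf
  have : LocallyOfFinitePresentation f := hf
  exact (inferInstance : LocallyOfFiniteType f)

theorem smooth_le_lft : (@Smooth : MorphismProperty Scheme.{u}) ≤ @LocallyOfFiniteType :=
  smooth_le_lfp.trans lfp_le_lft

theorem locP_lft_of_smooth_cover {X Y : AlgSp.Sp S} (hX : AlgSp.IsAlgSpace X)
    (hY : AlgSp.IsAlgSpace Y)
    {ι : Type u} {Xi : ι → AlgSp.Sp S} (hXi : ∀ i, AlgSp.IsAlgSpace (Xi i)) (g : ∀ i, Xi i ⟶ X)
    (hg : ∀ i, AlgSp.LocP @Smooth (g i))
    (hsurj : ∀ x : AlgSp.Points X, ∃ i, x ∈ Set.range (AlgSp.Points.map (g i))) (f : X ⟶ Y)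
    (hf : ∀ i, AlgSp.LocP @LocallyOfFiniteType (g i ≫ f)) :
    AlgSp.LocP @LocallyOfFiniteType f := by
  refine Groth.Agent.Lib.Helper54.locP_of_source_cover Groth.Agent.Lib.Helper54.etLocal_lft
    Groth.Agent.Lib.Helper54.etLocal_smooth ?_ hX hY hXi g hg hsurj f hf
  intro ι' U V Ui k h hk hsurj hkh
  exact lft_of_comp_of_smooth_family Ui k h hk hsurj hkh

theorem locP_lfp_of_smooth_cover {X Y : AlgSp.Sp S} (hX : AlgSp.IsAlgSpace X)
    (hY : AlgSp.IsAlgSpace Y)
    {ι : Type u} {Xi : ι → AlgSp.Sp S} (hXi : ∀ i, AlgSp.IsAlgSpace (Xi i)) (g : ∀ i, Xi i ⟶ X)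
    (hg : ∀ i, AlgSp.LocP @Smooth (g i))
    (hsurj : ∀ x : AlgSp.Points X, ∃ i, x ∈ Set.range (AlgSp.Points.map (g i))) (f : X ⟶ Y)
    (hf : ∀ i, AlgSp.LocP @LocallyOfFinitePresentation (g i ≫ f)) :
    AlgSp.LocP @LocallyOfFinitePresentation f := by
  refine Groth.Agent.Lib.Helper54.locP_of_source_cover Groth.Agent.Lib.Helper54.etLocal_lfp
    Groth.Agent.Lib.Helper54.etLocal_smooth ?_ hX hY hXi g hg hsurj f hf
  intro ι' U V Ui k h hk hsurj hkh
  exact lfp_of_comp_of_smooth_family Ui k h hk hsurj hkh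

theorem isLocalOnSource_sm_locP_lft :
    AlgSp.IsLocalOnSource AlgSp.IsSmCover (AlgSp.LocP (S := S) @LocallyOfFiniteType) := by
  intro ι X Xi g hX hXi hcov Y f hY
  constructor
  · intro hf i
    exact stableComp_locP @LocallyOfFiniteType (Or.inl rfl) (hXi i) hX hY (g i) f
      (locP_mono smooth_le_lft _ (hcov.1 i)) hf
  · intro hf
    exact locP_lft_of_smooth_cover hX hY hXi g (fun i => hcov.1 i) hcov.2 f hf

theorem isLocalOnSource_sm_locP_lfp :
    AlgSp.IsLocalOnSource AlgSp.IsSmCover (AlgSp.LocP (S := S) @LocallyOfFinitePresentation) := by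
  intro ι X Xi g hX hXi hcov Y f hY
  constructor
  · intro hf i
    exact stableComp_locP @LocallyOfFinitePresentation (Or.inr (Or.inl rfl)) (hXi i) hX hY (g i) f
      (locP_mono smooth_le_lfp _ (hcov.1 i)) hf
  · intro hf
    exact locP_lfp_of_smooth_cover hX hY hXi g (fun i => hcov.1 i) hcov.2 f hf

/-- Locally of finite type for morphisms of algebraic spaces is smooth local on
source-and-target. -/
theorem isSmoothLocalST_locP_lft :
    AlgSp.IsSmoothLocalST (AlgSp.LocP (S := S) @LocallyOfFiniteType) := by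
  refine Groth.Agent.S10567.result _ isLocalOnSource_sm_locP_lft
    (isLocalOnBase_sm_of_fppf isLocalOnBase_fppf_locP_lft) ?_
  intro X Y Z f g hf hg
  exact stableComp_locP @LocallyOfFiniteType (Or.inl rfl) X.property Y.property Z.property
    f.hom g.hom hf (locP_mono smooth_le_lft _ hg)

/-- Locally of finite presentation for morphisms of algebraic spaces is smooth local on
source-and-target. -/
theorem isSmoothLocalST_locP_lfp :
    AlgSp.IsSmoothLocalST (AlgSp.LocP (S := S) @LocallyOfFinitePresentation) := by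
  refine Groth.Agent.S10567.result _ isLocalOnSource_sm_locP_lfp
    (isLocalOnBase_sm_of_fppf isLocalOnBase_fppf_locP_lfp) ?_
  intro X Y Z f g hf hg
  exact stableComp_locP @LocallyOfFinitePresentation (Or.inr (Or.inl rfl)) X.property Y.property
    Z.property f.hom g.hom hf (locP_mono smooth_le_lfp _ hg)

end Groth.Agent.Lib.Helper66.AlgSpSmLocalLft
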