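import Groth.Agent.Lib.Helper65.LocQFlat
import Groth.Agent.Lib.Helper66.AlgSpSmLocalLft
import Groth.Agent.H52.LocPCalc3
import Groth.Agent.Lib.Helper66.LfpNoeth

/-!
# Cancellation for locally of finite presentation morphisms of algebraic stacks
-/

set_option autoImplicit false
set_option backward.isDefEq.respectTransparency false
set_option backward.isDefEq.respectTransparency.types false
universe u

open CategoryTheory CategoryTheory.Limits AlgebraicGeometry Opposite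

namespace Groth.Agent.Lib.Helper66.AlgStLocQLfp

open FibCat Groth.Agent.Lib.Helper31 Groth.Agent.Lib.Helper65 Groth.Agent.Lib.Helper66
  Groth.Agent.Lib.Helper66.AlgStLocQSq Groth.Agent.Lib.Helper65.LocQFlat
  Groth.Agent.Lib.Helper66.AlgSpSmLocalLft

variable {S : Scheme.{u}} {𝒳 𝒴 𝒵 : AlgSt.Cat S}

/-- Cancellation for morphisms of schemes seen as maps of sheaves. -/
theorem locP_lfp_yon_of_comp {U V W : Over S} (h : U ⟶ V) (k : V ⟶ W)
    (hhk : AlgSp.LocP @LocallyOfFinitePresentation ((AlgSp.yon S).map (h ≫ k)))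
    (hk : AlgSp.LocP @LocallyOfFiniteType ((AlgSp.yon S).map k)) :
    AlgSp.LocP @LocallyOfFinitePresentation ((AlgSp.yon S).map h) := by
  have h1 : LocallyOfFinitePresentation (h ≫ k).left := AlgSp.locP_yon_map hhk
  have h2 : LocallyOfFiniteType k.left := AlgSp.locP_yon_map hk
  rw [Over.comp_left] at h1
  exact Groth.Agent.Lib.Helper66.LfpNoeth.locP_lfp_yon_map h
    (Groth.Agent.H52.lfp_of_comp_of_lft h1 h2)

/-- S13005: if `f ≫ g` is locally of finite presentation and `g` is locally of finite type then `f`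
is locally of finite presentation. -/
theorem locQ_lfp_of_comp
    (h𝒳 : AlgSt.IsAlgStack Scheme.fppfPrecoverage 𝒳) (h𝒴 : AlgSt.IsAlgStack Scheme.fppfPrecoverage 𝒴)
    (h𝒵 : AlgSt.IsAlgStack Scheme.fppfPrecoverage 𝒵) (f : 𝒳 ⥤ᵇ 𝒴) (g : 𝒴 ⥤ᵇ 𝒵)
    (hfg : AlgSt.LocQ (AlgSp.LocP @LocallyOfFinitePresentation) (BasedFunctor.comp f g))
    (hg : AlgSt.LocQ (AlgSp.LocP @LocallyOfFiniteType) g) :
    AlgSt.LocQ (AlgSp.LocP @LocallyOfFinitePresentation) f := by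
  have hP : AlgSp.IsSmoothLocalST (AlgSp.LocP (S := S) @LocallyOfFinitePresentation) :=
    isSmoothLocalST_locP_lfp
  have hT : AlgSp.IsSmoothLocalST (AlgSp.LocP (S := S) @LocallyOfFiniteType) :=
    isSmoothLocalST_locP_lft
  obtain ⟨W, w, hw1, hw2⟩ := h𝒵.atlas
  have hW := isAlgStack_overCat W
  have h𝒴W : AlgSt.IsAlgStack Scheme.fppfPrecoverage (fp w g) :=
    Groth.Agent.S12763.result h𝒵.isStack h𝒵.diag hW h𝒴 w g
  have hs1 : AlgSt.RepByAlgSpWith (AlgSp.LocP @Smooth) (fpSnd w g) :=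
    Groth.Agent.Lib.Helper66.AlgStBC.repByAlgSpWith_fpSnd _ g w hw1
  have hs2 : AlgSt.RepByAlgSpWith AlgSp.IsSurjectiveMor (fpSnd w g) :=
    Groth.Agent.Lib.Helper66.AlgStBC.repByAlgSpWith_fpSnd _ g w hw2
  have h𝒳' : AlgSt.IsAlgStack Scheme.fppfPrecoverage (fp (fpSnd w g) f) :=
    Groth.Agent.S12763.result h𝒴.isStack h𝒴.diag h𝒴W h𝒳 (fpSnd w g) f
  refine locQ_of_locQ_fpFst _ h𝒳.isStack.1 h𝒴.isStack.1 h𝒴W.isStack.1 f (fpSnd w g) hs1 hs2 ?_
  -- `g_W` is locally of finite type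
  have hgW : AlgSt.LocQ (AlgSp.LocP @LocallyOfFiniteType) (fpFst w g) :=
    locQ_fpFst_of_smooth _ hT h𝒴 h𝒵 hW g w hw1 hg
  -- the composite `f' ≫ g_W`
  have hfgW : AlgSt.LocQ (AlgSp.LocP @LocallyOfFinitePresentation)
      (fpFst w (BasedFunctor.comp f g)) :=
    locQ_fpFst_of_smooth _ hP h𝒳 h𝒵 hW (BasedFunctor.comp f g) w hw1 hfg
  have hE : AlgSt.RepByAlgSpWith (AlgSp.LocP @Smooth) (fpPasteSnd w g f) :=
    repByAlgSpWith_of_isEquivOver _ (fun U => Groth.Agent.Lib.Helper54.locP_smooth_id _) _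
      (fpPasteSnd_isEquivOver w g f)
  have hcomp : AlgSt.LocQ (AlgSp.LocP @LocallyOfFinitePresentation)
      (BasedFunctor.comp (fpFst (fpSnd w g) f) (fpFst w g)) :=
    locQ_precomp_smooth _ hP h𝒳'.isStack.1
      (isFibGrpd_fp w (BasedFunctor.comp f g) hW.isStack.1 h𝒳.isStack.1 h𝒵.isStack.1) hW.isStack.1
      (fpPasteSnd w g f) (fpFst w (BasedFunctor.comp f g)) hE hfgW
  -- charts
  obtain ⟨V, v, hv1, hv2⟩ := h𝒴W.atlas
  obtain ⟨U, x, k₁, α₁, hx1, hx2, -⟩ :=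
    exists_good_square h𝒳' h𝒴W (fpFst (fpSnd w g) f) V v hv1 hv2
  obtain ⟨k₂, -, ⟨i₂⟩⟩ :=
    Groth.Agent.Lib.Helper65.exists_iso_overMap (BasedFunctor.comp v (fpFst w g))
  have hP₂ : AlgSp.LocP @LocallyOfFiniteType ((AlgSp.yon S).map k₂) :=
    prop_of_locQ_to_overCat _ hT h𝒴W _ hgW V v k₂ i₂ hv1
  let β : BasedFunctor.comp x (BasedFunctor.comp (fpFst (fpSnd w g) f) (fpFst w g)) ≅
      AlgSt.overMap (k₁ ≫ k₂) :=
    bWhiskerRightIso α₁ (fpFst w g) ≪≫ bWhiskerLeftIso (AlgSt.overMap k₁) i₂ ≪≫ overMapComp k₁ k₂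
  have hP₁₂ : AlgSp.LocP @LocallyOfFinitePresentation ((AlgSp.yon S).map (k₁ ≫ k₂)) :=
    prop_of_locQ_to_overCat _ hP h𝒳' _ hcomp U x (k₁ ≫ k₂) β hx1
  exact ⟨U, V, x, v, k₁, α₁, hx1, hx2, hv1, locP_lfp_yon_of_comp k₁ k₂ hP₁₂ hP₂⟩

end Groth.Agent.Lib.Helper66.AlgStLocQLfp
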