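import Groth.Agent.Lib.Helper66.AlgStQC5
import Groth.Agent.Lib.Helper65.StOpen

/-!
# From chart squares to a representable smooth cover: two properties at once
-/

set_option autoImplicit false
set_option backward.isDefEq.respectTransparency false
set_option backward.isDefEq.respectTransparency.types false
universe u

open CategoryTheory CategoryTheory.Limits AlgebraicGeometry Opposite

namespace Groth.Agent.Lib.Helper66.AlgStLocQCover2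

open FibCat Groth.Agent.Lib.Helper31 Groth.Agent.Lib.Helper65 Groth.Agent.Lib.Helper66
open Groth.Agent.Lib.Helper66.AlgStQC5

variable {S : Scheme.{u}} {𝒳 𝒴 : AlgSt.Cat S}

/-- If `f` has `R₁` and `R₂` (listed classes containing the smooth morphisms), each read on one chart square,
there is a smooth surjective representable `p : 𝒲 ⟶ 𝒳` from an algebraic stack such that `p ≫ f` is
representable by algebraic spaces with both `R₁` and `R₂`. -/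
theorem exists_smooth_cover_of_locQ (R₁ R₂ : MorphismProperty Scheme.{u})
    (hR₁ : AlgStPFacts.Listed R₁) (hR₂ : AlgStPFacts.Listed R₂)
    (hs₁ : (@Smooth : MorphismProperty Scheme.{u}) ≤ R₁) (hs₂ : (@Smooth : MorphismProperty Scheme.{u}) ≤ R₂)
    (hl₁ : AlgSp.IsLocalOnBase AlgSp.IsFppfCover (AlgSp.LocP (S := S) R₁))
    (hl₂ : AlgSp.IsLocalOnBase AlgSp.IsFppfCover (AlgSp.LocP (S := S) R₂))
    (h𝒳 : AlgSt.IsAlgStack Scheme.fppfPrecoverage 𝒳) (f : 𝒳 ⥤ᵇ 𝒴)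
    (hf₁ : AlgSt.LocQ (AlgSp.LocP R₁) f) (hf₂ : AlgSt.LocQ (AlgSp.LocP R₂) f) :
    ∃ (𝒲 : AlgSt.Cat S) (_ : AlgSt.IsAlgStack Scheme.fppfPrecoverage 𝒲) (p : 𝒲 ⥤ᵇ 𝒳),
      AlgSt.RepByAlgSpWith (AlgSp.LocP @Smooth) p ∧ AlgSt.RepByAlgSpWith AlgSp.IsSurjectiveMor p ∧
      AlgSt.RepByAlgSpWith (AlgSp.LocP R₁) (BasedFunctor.comp p f) ∧
      AlgSt.RepByAlgSpWith (AlgSp.LocP R₂) (BasedFunctor.comp p f) := by
  obtain ⟨U₁, V₁, x₁, y₁, k₁, α₁, hx₁, hx₁s, hy₁, hk₁⟩ := hf₁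
  obtain ⟨U₂, V₂, x₂, y₂, k₂, α₂, hx₂, hx₂s, hy₂, hk₂⟩ := hf₂
  have hU₁ : AlgSt.IsAlgStack Scheme.fppfPrecoverage (FibCat.overCat U₁) := isAlgStack_overCat U₁
  have hU₂ : AlgSt.IsAlgStack Scheme.fppfPrecoverage (FibCat.overCat U₂) := isAlgStack_overCat U₂
  have hW : AlgSt.IsAlgStack Scheme.fppfPrecoverage (fp x₁ x₂) :=
    Groth.Agent.S12763.result h𝒳.isStack h𝒳.diag hU₁ hU₂ x₁ x₂
  have hWf := hW.isStack.1
  let p₁ : fp x₁ x₂ ⥤ᵇ FibCat.overCat U₁ := fpFst x₁ x₂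
  let p₂ : fp x₁ x₂ ⥤ᵇ FibCat.overCat U₂ := fpSnd x₁ x₂
  let p : fp x₁ x₂ ⥤ᵇ 𝒳 := BasedFunctor.comp p₁ x₁
  let w : fp x₁ x₂ ⥤ᵇ 𝒴 := BasedFunctor.comp p f
  have hp₁ : AlgSt.RepByAlgSpWith (AlgSp.LocP @Smooth) p₁ := repByAlgSpWith_fpFst _ x₂ x₁ hx₂
  have hp₁s : AlgSt.RepByAlgSpWith AlgSp.IsSurjectiveMor p₁ := repByAlgSpWith_fpFst _ x₂ x₁ hx₂s
  have hp₂ : AlgSt.RepByAlgSpWith (AlgSp.LocP @Smooth) p₂ :=
    Groth.Agent.Lib.Helper66.AlgStBC.repByAlgSpWith_fpSnd _ x₂ x₁ hx₁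
  have hp : AlgSt.RepByAlgSpWith (AlgSp.LocP @Smooth) p :=
    repByAlgSpWith_comp _ stableBC_locP_smooth
      (Helper65.stableComp_locP _ (Or.inr (Or.inr (Or.inr (Or.inl rfl))))) isLocalOnBase_fppf_locP_smooth hWf
      (isFibGrpd_overForget U₁) p₁ x₁ hp₁ hx₁
  have hps : AlgSt.RepByAlgSpWith AlgSp.IsSurjectiveMor p :=
    repByAlgSpWith_comp _ stableBC_isSurjectiveMor stableComp_isSurjectiveMor
      isLocalOnBase_fppf_isSurjectiveMor hWf (isFibGrpd_overForget U₁) p₁ x₁ hp₁s hx₁s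
  have hw₁ : AlgSt.RepByAlgSpWith (AlgSp.LocP R₁) w := by
    have h1 : AlgSt.RepByAlgSpWith (AlgSp.LocP R₁) (BasedFunctor.comp (AlgSt.overMap k₁) y₁) :=
      repByAlgSpWith_overMap_comp _ hR₁ hl₁ k₁ hk₁ y₁ (repByAlgSpWith_mono (locP_mono hs₁) y₁ hy₁)
    have h2 : AlgSt.RepByAlgSpWith (AlgSp.LocP R₁)
        (BasedFunctor.comp p₁ (BasedFunctor.comp (AlgSt.overMap k₁) y₁)) :=
      repByAlgSpWith_comp _ (AlgStPFacts.stableBC_locP _ hR₁) (AlgStPFacts.stableComp_locP _ hR₁)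
        hl₁ hWf (isFibGrpd_overForget U₁) p₁ _ (repByAlgSpWith_mono (locP_mono hs₁) p₁ hp₁) h1
    exact Groth.Agent.Lib.Helper66.RepWithPDet.repByAlgSpWith_of_iso _ (bWhiskerLeftIso p₁ α₁) h2
  have hw₂ : AlgSt.RepByAlgSpWith (AlgSp.LocP R₂) w := by
    have h1 : AlgSt.RepByAlgSpWith (AlgSp.LocP R₂) (BasedFunctor.comp (AlgSt.overMap k₂) y₂) :=
      repByAlgSpWith_overMap_comp _ hR₂ hl₂ k₂ hk₂ y₂ (repByAlgSpWith_mono (locP_mono hs₂) y₂ hy₂)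
    have h2 : AlgSt.RepByAlgSpWith (AlgSp.LocP R₂)
        (BasedFunctor.comp p₂ (BasedFunctor.comp (AlgSt.overMap k₂) y₂)) :=
      repByAlgSpWith_comp _ (AlgStPFacts.stableBC_locP _ hR₂) (AlgStPFacts.stableComp_locP _ hR₂)
        hl₂ hWf (isFibGrpd_overForget U₂) p₂ _ (repByAlgSpWith_mono (locP_mono hs₂) p₂ hp₂) h1
    have i : w ≅ BasedFunctor.comp p₂ (BasedFunctor.comp (AlgSt.overMap k₂) y₂) :=
      bWhiskerRightIso (fpIso x₁ x₂) f ≪≫ bWhiskerLeftIso p₂ α₂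
    exact Groth.Agent.Lib.Helper66.RepWithPDet.repByAlgSpWith_of_iso _ i h2
  exact ⟨fp x₁ x₂, hW, p, hp, hps, hw₁, hw₂⟩

/-- S13008: flat + locally of finite presentation (chart-wise) implies open on points. -/
theorem isOpenMor_of_locQ_flat_lfp
    (h𝒳 : AlgSt.IsAlgStack Scheme.fppfPrecoverage 𝒳) (h𝒴 : AlgSt.IsAlgStack Scheme.fppfPrecoverage 𝒴)
    (f : 𝒳 ⥤ᵇ 𝒴) (hf₁ : AlgSt.LocQ (AlgSp.LocP @Flat) f)
    (hf₂ : AlgSt.LocQ (AlgSp.LocP @LocallyOfFinitePresentation) f) : AlgSt.IsOpenMor f := by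
  obtain ⟨𝒲, hW, p, hp, hps, hw₁, hw₂⟩ := exists_smooth_cover_of_locQ @Flat @LocallyOfFinitePresentation
    (Or.inr (Or.inr (Or.inl rfl))) (Or.inr (Or.inl rfl)) smooth_le_flat smooth_le_lfp
    isLocalOnBase_fppf_locP_flat isLocalOnBase_fppf_locP_lfp h𝒳 f hf₁ hf₂
  have hopen : IsOpenMap (AlgSt.Points.map (BasedFunctor.comp p f)) :=
    isOpenMap_points_map hW.isStack.1 hW.atlas h𝒴.isStack.1 _ hw₁ hw₂
  have hcont : Continuous (AlgSt.Points.map p) := continuous_points_map h𝒳.isStack.1 h𝒳.atlas p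
  have hsurj : Function.Surjective (AlgSt.Points.map p) :=
    isSurjective_of_repByAlgSpWith hW.isStack.1 h𝒳.isStack.1 p hps
  intro A hA
  have : AlgSt.Points.map f '' A =
      AlgSt.Points.map (BasedFunctor.comp p f) '' (AlgSt.Points.map p ⁻¹' A) := by
    ext t
    constructor
    · rintro ⟨a, ha, rfl⟩
      obtain ⟨b, rfl⟩ := hsurj a
      exact ⟨b, ha, points_map_comp p f b⟩
    · rintro ⟨b, hb, rfl⟩
      exact ⟨AlgSt.Points.map p b, hb, (points_map_comp p f b).symm⟩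
  rw [this]
  exact hopen _ (hA.preimage hcont)

end Groth.Agent.Lib.Helper66.AlgStLocQCover2
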