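import Groth.Agent.Lib.Helper66.AlgStLocQSq8
import Groth.Agent.Lib.Helper66.AlgStLocQCover2
import Groth.Agent.Lib.Helper65.SubStImage

/-!
# Descent of a property read on a chart square along a flat, lfp, surjective base change
-/

set_option autoImplicit false
set_option backward.isDefEq.respectTransparency false
set_option backward.isDefEq.respectTransparency.types false
universe u

open CategoryTheory CategoryTheory.Limits AlgebraicGeometry Opposite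

namespace Groth.Agent.Lib.Helper66.AlgStLocQSq

open FibCat Groth.Agent.Lib.Helper31 Groth.Agent.Lib.Helper65 Groth.Agent.Lib.Helper66

variable {S : Scheme.{u}}

section Inv

variable {𝒳 𝒳' 𝒴 : AlgSt.Cat S}

theorem locQ_of_iso (P : MorphismProperty (AlgSp.Sp S)) {f f' : 𝒳 ⥤ᵇ 𝒴} (i : f ≅ f')
    (hf : AlgSt.LocQ P f) : AlgSt.LocQ P f' := by
  obtain ⟨U, V, x, y, k, α, hx, hxs, hy, hk⟩ := hf
  exact ⟨U, V, x, y, k, bWhiskerLeftIso x i.symm ≪≫ α, hx, hxs, hy, hk⟩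

theorem locQ_of_equiv_comp (P : MorphismProperty (AlgSp.Sp S)) (E : 𝒳' ⥤ᵇ 𝒳) (hE : IsEquivOver E)
    (h : 𝒳 ⥤ᵇ 𝒴) (hh : AlgSt.LocQ P (BasedFunctor.comp E h)) : AlgSt.LocQ P h := by
  obtain ⟨U, V, x, y, k, α, hx, hxs, hy, hk⟩ := hh
  exact ⟨U, V, BasedFunctor.comp x E, y, k, α,
    Groth.Agent.Lib.Helper66.AlgStEquiv.repByAlgSpWith_comp_equiv _ x E hE hx,
    Groth.Agent.Lib.Helper66.AlgStEquiv.repByAlgSpWith_comp_equiv _ x E hE hxs, hy, hk⟩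

theorem locQ_equiv_comp (P : MorphismProperty (AlgSp.Sp S)) (hP : AlgSp.IsSmoothLocalST P)
    (h𝒳' : IsFibGrpd 𝒳'.p) (h𝒳 : IsFibGrpd 𝒳.p) (h𝒴 : IsFibGrpd 𝒴.p) (E : 𝒳' ⥤ᵇ 𝒳) (hE : IsEquivOver E)
    (h : 𝒳 ⥤ᵇ 𝒴) (hh : AlgSt.LocQ P h) : AlgSt.LocQ P (BasedFunctor.comp E h) :=
  locQ_precomp_smooth P hP h𝒳' h𝒳 h𝒴 E h
    (repByAlgSpWith_of_isEquivOver _ (fun U => Groth.Agent.Lib.Helper54.locP_smooth_id _) E hE) hh

end Inv

section Descent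

variable {𝒳 𝒴 𝒵 : AlgSt.Cat S}

/-- Descent along a representable flat, lfp, surjective morphism. -/
theorem locQ_of_fpFst_rep_fppf (P : MorphismProperty (AlgSp.Sp S)) (hP : AlgSp.IsSmoothLocalST P)
    (hPl : AlgSp.IsLocalOnBase AlgSp.IsFppfCover P)
    (h𝒳 : AlgSt.IsAlgStack Scheme.fppfPrecoverage 𝒳) (h𝒴 : AlgSt.IsAlgStack Scheme.fppfPrecoverage 𝒴)
    (h𝒵 : AlgSt.IsAlgStack Scheme.fppfPrecoverage 𝒵) (f : 𝒳 ⥤ᵇ 𝒴) (z : 𝒵 ⥤ᵇ 𝒴)
    (hz₁ : AlgSt.RepByAlgSpWith (AlgSp.LocP @Flat) z)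
    (hz₂ : AlgSt.RepByAlgSpWith (AlgSp.LocP @LocallyOfFinitePresentation) z)
    (hz₃ : AlgSt.RepByAlgSpWith AlgSp.IsSurjectiveMor z)
    (hf : AlgSt.LocQ P (fpFst z f)) : AlgSt.LocQ P f := by
  obtain ⟨V, y, hy1, hy2⟩ := h𝒴.atlas
  obtain ⟨U, x, k, α, hx1, hx2, hc⟩ := exists_good_square h𝒳 h𝒴 f V y hy1 hy2
  refine ⟨U, V, x, y, k, α, hx1, hx2, hy1, ?_⟩
  have hU := isAlgStack_overCat U
  have hV := isAlgStack_overCat V
  -- the base change of `z` to `V`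
  have hz₁₂ := repByAlgSpWith_and
    (AlgStPFacts.stableBC_locP (S := S) @LocallyOfFinitePresentation (Or.inr (Or.inl rfl))) z hz₁ hz₂
  have hz₁₂₃ := repByAlgSpWith_and stableBC_isSurjectiveMor z hz₁₂ hz₃
  obtain ⟨G, e, he, ⟨hb₁, hb₂⟩, hb₃⟩ := hz₁₂₃ V y
  have hG := isAlgStack_ofSp G
  let b : G.obj ⟶ (AlgSp.yon S).obj V := AlgSt.spMapOfOver (BasedFunctor.comp e (fpFst y z))
  let bV : AlgSt.ofSp G.obj ⥤ᵇ FibCat.overCat V := BasedFunctor.comp (AlgSt.ofSpMap b) (AlgSt.toOverCat V)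
  let yG : AlgSt.ofSp G.obj ⥤ᵇ 𝒵 := BasedFunctor.comp e (fpSnd y z)
  have hyG : AlgSt.RepByAlgSpWith (AlgSp.LocP @Smooth) yG :=
    repByAlgSpWith_equiv_comp _ e he _ (Groth.Agent.Lib.Helper66.AlgStBC.repByAlgSpWith_fpSnd _ z y hy1)
  have hfzf : AlgSt.IsAlgStack Scheme.fppfPrecoverage (fp z f) :=
    Groth.Agent.S12763.result h𝒴.isStack h𝒴.diag h𝒵 h𝒳 z f
  have hfyf : AlgSt.IsAlgStack Scheme.fppfPrecoverage (fp y f) :=
    Groth.Agent.S12763.result h𝒴.isStack h𝒴.diag hV h𝒳 y f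
  -- (i) smooth base change along `yG`
  have h1 : AlgSt.LocQ P (fpFst yG (fpFst z f)) :=
    locQ_fpFst_of_smooth P hP hfzf h𝒵 hG (fpFst z f) yG hyG hf
  -- (ii) reorganise the fibre product
  have h2 : AlgSt.LocQ P (fpFst (BasedFunctor.comp yG z) f) :=
    locQ_of_equiv_comp P (fpPasteFst yG z f) (fpPasteFst_isEquivOver yG z f) _ h1
  let ι : BasedFunctor.comp yG z ≅ BasedFunctor.comp bV y :=
    bWhiskerLeftIso e (fpIso y z).symm ≪≫
      bWhiskerRightIso (isoSpMapOfOver (BasedFunctor.comp e (fpFst y z))) y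
  let E₂ : fp (BasedFunctor.comp yG z) f ⥤ᵇ fp (BasedFunctor.comp bV y) f :=
    fpMap (F := BasedFunctor.comp yG z) (G := f) (F' := BasedFunctor.comp bV y) (G' := f)
      (BasedFunctor.id _) (BasedFunctor.id _) (BasedFunctor.id _) ι (Iso.refl _)
  have hE₂ : IsEquivOver E₂ :=
    fpMap_isEquivOver _ _ _ _ _ (isEquivOver_id _) (isEquivOver_id _) (isEquivOver_id _)
  have h3 : AlgSt.LocQ P (fpFst (BasedFunctor.comp bV y) f) :=
    locQ_of_equiv_comp P E₂ hE₂ _ h2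
  have hfib3 : IsFibGrpd (fp (BasedFunctor.comp bV y) f).p :=
    isFibGrpd_fp _ _ hG.isStack.1 h𝒳.isStack.1 h𝒴.isStack.1
  have hfib4 : IsFibGrpd (fp bV (fpFst y f)).p :=
    isFibGrpd_fp _ _ hG.isStack.1 hfyf.isStack.1 hV.isStack.1
  have h4 : AlgSt.LocQ P (fpFst bV (fpFst y f)) :=
    locQ_equiv_comp P hP hfib4 hfib3 hG.isStack.1 (fpPasteFst bV y f) (fpPasteFst_isEquivOver bV y f) _ h3
  -- (iii) precompose with the base change of the smooth map `c'`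
  let c' : FibCat.overCat U ⥤ᵇ fp y f :=
    BasedFunctor.comp (FibCat.fpLift x (AlgSt.overMap k) α) (fpSwap f y)
  have hc' : AlgSt.RepByAlgSpWith (AlgSp.LocP @Smooth) c' :=
    Groth.Agent.Lib.Helper66.AlgStEquiv.repByAlgSpWith_comp_equiv _ _ _ (fpSwap_isEquivOver f y) hc
  let m : fp bV (fpFst y f) ⥤ᵇ fp y f := fpSnd bV (fpFst y f)
  have hfib5 : IsFibGrpd (fp m c').p := isFibGrpd_fp _ _ hfib4 hU.isStack.1 hfyf.isStack.1
  have h5 : AlgSt.LocQ P (BasedFunctor.comp (fpFst m c') (fpFst bV (fpFst y f))) :=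
    locQ_precomp_smooth P hP hfib5 hfib4 hG.isStack.1 (fpFst m c') _ (repByAlgSpWith_fpFst _ c' m hc') h4
  -- (iv) reorganise again
  have h6 : AlgSt.LocQ P (fpFst bV (AlgSt.overMap k)) :=
    locQ_of_equiv_comp P (fpPasteSnd bV (fpFst y f) c') (fpPasteSnd_isEquivOver bV (fpFst y f) c') _ h5
  -- (v) the sheaf pullback
  let fst' := pullback.fst b ((AlgSp.yon S).map k)
  let snd' := pullback.snd b ((AlgSp.yon S).map k)
  have sq : IsPullback fst' snd' b ((AlgSp.yon S).map k) := IsPullback.of_hasPullback _ _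
  have hG' : AlgSp.IsAlgSpace (pullback b ((AlgSp.yon S).map k)) :=
    Groth.Agent.H52.isAlgSpace_of_isPullback sq G.property (AlgSp.IsAlgSpace.yon_obj V)
      (AlgSp.IsAlgSpace.yon_obj U)
  let G' : AlgSp.Space S := ⟨pullback b ((AlgSp.yon S).map k), hG'⟩
  have sq' : IsPullback fst'.hom snd'.hom b.hom ((AlgSp.yon S).map k).hom :=
    sq.map (sheafToPresheaf (AlgSp.J S) (Type (u + 1)))
  let Ψ₁ : AlgSt.ofSp G'.obj ⥤ᵇ fp (AlgSt.ofSpMap b) (AlgSt.ofSpMap ((AlgSp.yon S).map k)) := pbLift sq'.w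
  have hΨ₁ : IsEquivOver Ψ₁ := pbLift_isEquivOver sq'
  have e0 : BasedFunctor.comp (AlgSt.ofSpMap ((AlgSp.yon S).map k)) (AlgSt.toOverCat V) =
      BasedFunctor.comp (AlgSt.toOverCat U) (AlgSt.overMap k) := rfl
  let Ψ₂ : fp (AlgSt.ofSpMap b) (AlgSt.ofSpMap ((AlgSp.yon S).map k)) ⥤ᵇ fp bV (AlgSt.overMap k) :=
    fpMap (F := AlgSt.ofSpMap b) (G := AlgSt.ofSpMap ((AlgSp.yon S).map k)) (F' := bV)
      (G' := AlgSt.overMap k) (BasedFunctor.id _) (AlgSt.toOverCat U) (AlgSt.toOverCat V) (Iso.refl _)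
      (eqToIso e0)
  have hΨ₂ : IsEquivOver Ψ₂ :=
    fpMap_isEquivOver _ _ _ _ _ (isEquivOver_id _) (toOverCat_isEquivOver U) (toOverCat_isEquivOver V)
  have hfib6 : IsFibGrpd (fp bV (AlgSt.overMap k)).p :=
    isFibGrpd_fp _ _ hG.isStack.1 hU.isStack.1 hV.isStack.1
  have h7 : AlgSt.LocQ P (BasedFunctor.comp (BasedFunctor.comp Ψ₁ Ψ₂) (fpFst bV (AlgSt.overMap k))) :=
    locQ_equiv_comp P hP (Stk.isFibGrpd_ofPsh _) hfib6 hG.isStack.1 _ (isEquivOver_comp _ _ hΨ₁ hΨ₂) _ h6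
  have e7 : BasedFunctor.comp (BasedFunctor.comp Ψ₁ Ψ₂) (fpFst bV (AlgSt.overMap k)) =
      AlgSt.ofSpMap (ObjectProperty.homMk fst' : G' ⟶ G).hom := rfl
  rw [e7] at h7
  have h8 : P fst' := prop_of_locQ_ofSpMap P hP G' G (ObjectProperty.homMk fst') h7
  -- (vi) descent along the covering `b`
  have hcov : AlgSp.IsFppfCover (fun _ : PUnit.{u + 1} => G.obj) (fun _ => b) :=
    ⟨fun _ => ⟨hb₁, hb₂⟩, fun pt => ⟨PUnit.unit, hb₃ pt⟩⟩
  exact (hPl (fun _ : PUnit.{u + 1} => G.obj) (fun _ => b) (AlgSp.IsAlgSpace.yon_obj V)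
    (fun _ => G.property) hcov ((AlgSp.yon S).map k) (AlgSp.IsAlgSpace.yon_obj U)
    (fun _ => G'.obj) (fun _ => fst') (fun _ => snd') (fun _ => hG') (fun _ => sq.flip)).2 (fun _ => h8)

end Descent

end Groth.Agent.Lib.Helper66.AlgStLocQSq
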