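import Groth.Agent.Lib.Helper66.SmBoot8
import Groth.Agent.H52.Bootstrap2
import Groth.Agent.H52.Bootstrap4
import Groth.Agent.Lib.Helper54.SourceLocal2

/-!
# Helper66, smooth bootstrap 9: the smooth bootstrap theorems for sheaves

* `isAlgSpace_of_smooth_chart`: an fppf sheaf with representable diagonal and a smooth surjective representable chart from
  a scheme is an algebraic space.
* `isAlgSpace_of_repBySpWith_smooth_surjective`: an fppf sheaf receiving a smooth surjective map, representable by
  algebraic spaces, from an algebraic space is an algebraic space.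
-/

set_option autoImplicit false

universe u

open CategoryTheory CategoryTheory.Limits AlgebraicGeometry

namespace Groth.Agent.Lib.Helper66.SmBoot

open AlgSp

variable {S : Scheme.{u}}

/-- **Smooth bootstrap, scheme chart.** -/
theorem isAlgSpace_of_smooth_chart {F : Sp S} {U : Over S} (p : (yon S).obj U ⟶ F)
    (hΔ : Representable (Limits.diag F)) (hsm : RepWith @Smooth p) (hsurj : RepWith @Surjective p) :
    IsAlgSpace F :=
  ⟨hΔ, exists_etale_atlas p hΔ hsm hsurj⟩

/-- Precomposing with a representable étale map keeps `LocP P`. -/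
theorem locP_precomp_repWith_etale {P : MorphismProperty Scheme.{u}} {X' X Y : Sp S} {g : X' ⟶ X}
    (hg : RepWith @Etale g) {f : X ⟶ Y} (hf : LocP P f) : LocP P (g ≫ f) := by
  intro U V a b h ha hb w
  have hE : (RepWith (S := S) @Etale).IsMultiplicative := repWith_isMultiplicative _
  exact hf (a ≫ g) b h ((RepWith (S := S) @Etale).comp_mem _ _ ha hg) hb
    (by rw [Category.assoc, w])

/-- **Smooth bootstrap, sheaf form.** -/
theorem isAlgSpace_of_repBySpWith_smooth_surjective {F X : Sp S} (hX : IsAlgSpace X) (p : X ⟶ F)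
    (hp : RepBySpWith (IsSurjectiveMor ⊓ LocP @Smooth) p.hom) : IsAlgSpace F := by
  rw [repBySpWith_hom_iff] at hp
  have hΔ : Representable (Limits.diag F) := by
    refine Groth.Agent.H52.Bootstrap.representable_diag_of_fppf_cover hX p ?_
    refine (repBySpWith_hom_iff _ p).2 ?_
    intro U ξ F' fst snd sq
    obtain ⟨h1, h2, h3⟩ := hp ξ fst snd sq
    exact ⟨h1, ⟨h2, Groth.Agent.Lib.Helper54.locP_mono
      (fun _ _ f hf => by have : Smooth f := hf; infer_instance) h3⟩,
      Groth.Agent.Lib.Helper54.locP_mono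
      (fun _ _ f hf => by have : Smooth f := hf; infer_instance) h3⟩
  obtain ⟨U, q, hqe, hqs⟩ := hX.atlas
  have hrep : Representable (q ≫ p) := Functor.relativelyRepresentable.of_diag hΔ _
  have key : ∀ ⦃T : Over S⦄ (ξ : (yon S).obj T ⟶ F) ⦃E : Sp S⦄ (fst : E ⟶ (yon S).obj U)
      (snd : E ⟶ (yon S).obj T), IsPullback fst snd (q ≫ p) ξ →
      LocP @Smooth snd ∧ IsSurjectiveMor snd := by
    intro T ξ E fst snd sq
    obtain ⟨l, sql, hl⟩ := Groth.Agent.H52.Bootstrap.exists_factor_of_isPullback_comp q p ξ fst snd sq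
    obtain ⟨hP', hPs, hPsm⟩ := hp ξ (pullback.fst p ξ) (pullback.snd p ξ)
      (IsPullback.of_hasPullback p ξ)
    have hle : RepWith @Etale l := MorphismProperty.of_isPullback sql hqe
    have hls : RepWith @Surjective l := MorphismProperty.of_isPullback sql hqs
    refine ⟨?_, ?_⟩
    · rw [← hl]
      exact locP_precomp_repWith_etale hle hPsm
    · rw [← hl]
      change Function.Surjective (Points.map (l ≫ pullback.snd p ξ))
      intro t
      obtain ⟨y, hy⟩ := hPs t
      obtain ⟨x, hx⟩ := Groth.Agent.H52.surjective_points_of_repWith_surjective l hls y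
      exact ⟨x, by rw [Points.map_comp, hx, hy]⟩
  have hsm : RepWith @Smooth (q ≫ p) := by
    refine ⟨hrep, fun T V ξ fst snd sq => ?_⟩
    obtain ⟨h2, -⟩ := key ξ fst ((yon S).map snd) sq
    exact locP_yon_map h2
  have hs : RepWith @Surjective (q ≫ p) := by
    refine ⟨hrep, fun T V ξ fst snd sq => ?_⟩
    obtain ⟨-, h3⟩ := key ξ fst ((yon S).map snd) sq
    exact ⟨Groth.Agent.H52.surjective_left_of_points snd h3⟩
  exact isAlgSpace_of_smooth_chart (q ≫ p) hΔ hsm hs

end Groth.Agent.Lib.Helper66.SmBoot
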