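import Mathlib
import Groth.Prelude.Def_GrSyz
import Groth.Agent.Lib.Helper66.StdGr

/-!
# Dimension of the pieces of the standard grading of `k[x_0, …, x_r]` (indexed by `ℤ`)
-/

set_option autoImplicit false
universe u v

namespace Groth.Agent.Lib.Helper66.GrHilb

open MvPolynomial

variable (k : Type u) [Field k] (r : ℕ)

theorem weight_one_eq_degree (m : Fin (r + 1) →₀ ℕ) :
    Finsupp.weight (fun _ : Fin (r + 1) => (1 : ℤ)) m = (m.degree : ℤ) := by
  rw [Groth.Agent.Lib.Helper66.weight_one_eq]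
  simp [Finsupp.degree_apply]

theorem weightSet_eq (n : ℤ) (hn : 0 ≤ n) :
    {d : Fin (r + 1) →₀ ℕ | Finsupp.weight (fun _ : Fin (r + 1) => (1 : ℤ)) d = n} =
      ((Finset.univ : Finset (Fin (r + 1))).finsuppAntidiag n.toNat : Set (Fin (r + 1) →₀ ℕ)) := by
  ext d
  simp only [Set.mem_ofPred_eq, Finset.mem_coe, Finset.mem_finsuppAntidiag, weight_one_eq_degree,
    Finsupp.degree_eq_sum]
  simp only [Finset.subset_univ, and_true]
  constructor
  · intro h
    have h2 : ((Finset.univ.sum (⇑d) : ℕ) : ℤ) = ((n.toNat : ℕ) : ℤ) := by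
      rw [Int.toNat_of_nonneg hn]; exact h
    exact_mod_cast h2
  · intro h
    rw [h, Int.toNat_of_nonneg hn]

theorem weightSet_eq_empty (n : ℤ) (hn : n < 0) :
    {d : Fin (r + 1) →₀ ℕ | Finsupp.weight (fun _ : Fin (r + 1) => (1 : ℤ)) d = n} = ∅ := by
  ext d
  simp only [Set.mem_ofPred_eq, Set.mem_empty_iff_false, iff_false]
  rw [weight_one_eq_degree]
  omega

/-- the degree-`n` part of `k[x_0,…,x_r]` (standard `ℤ`-grading) has dimension `C(r + n, r)` for `n ≥ 0` -/
theorem finrank_stdGr_of_nonneg (n : ℤ) (hn : 0 ≤ n) :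
    Module.finrank k (GrSyz.stdGr k (Fin (r + 1)) n) = Nat.choose (r + n.toNat) r := by
  classical
  unfold GrSyz.stdGr
  rw [MvPolynomial.weightedHomogeneousSubmodule_eq_finsupp_supported, weightSet_eq r n hn]
  rw [(AddMonoidAlgebra.supportedEquivFinsupp (R := k) (S := k)
    (((Finset.univ : Finset (Fin (r + 1))).finsuppAntidiag n.toNat : Set (Fin (r + 1) →₀ ℕ)))).finrank_eq]
  rw [Module.finrank_finsupp_self]
  simp only [Finset.coe_sort_coe, Fintype.card_coe]
  rw [Finset.card_finsuppAntidiag_nat_eq_choose, Finset.card_univ, Fintype.card_fin]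
  have : r + 1 + n.toNat - 1 = n.toNat + r := by omega
  rw [this, Nat.choose_symm_add, add_comm]

/-- the pieces of negative degree are zero -/
theorem stdGr_eq_bot_of_neg (n : ℤ) (hn : n < 0) : GrSyz.stdGr k (Fin (r + 1)) n = ⊥ := by
  rw [eq_bot_iff]
  intro p hp
  rw [Submodule.mem_bot]
  by_contra hne
  obtain ⟨m, hm⟩ := MvPolynomial.ne_zero_iff.mp hne
  have hp' : p.IsWeightedHomogeneous (fun _ : Fin (r + 1) => (1 : ℤ)) n := hp
  have hw := hp' hm
  rw [weight_one_eq_degree] at hw
  omega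

theorem finrank_stdGr (n : ℤ) :
    (Module.finrank k (GrSyz.stdGr k (Fin (r + 1)) n) : ℤ) =
      if 0 ≤ n then ((Nat.choose (r + n.toNat) r : ℕ) : ℤ) else 0 := by
  split_ifs with h
  · rw [finrank_stdGr_of_nonneg k r n h]
  · rw [stdGr_eq_bot_of_neg k r n (by omega)]
    simp

instance finite_stdGr (n : ℤ) : Module.Finite k (GrSyz.stdGr k (Fin (r + 1)) n) := by
  classical
  unfold GrSyz.stdGr
  rw [MvPolynomial.weightedHomogeneousSubmodule_eq_finsupp_supported]
  have hfin : Set.Finite {d : Fin (r + 1) →₀ ℕ | Finsupp.weight (fun _ : Fin (r + 1) => (1 : ℤ)) d = n} := by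
    by_cases hn : 0 ≤ n
    · rw [weightSet_eq r n hn]
      exact Finset.finite_toSet _
    · rw [weightSet_eq_empty r n (by omega)]
      exact Set.finite_empty
  have := hfin.to_subtype
  exact Module.Finite.of_basis (MvPolynomial.basisRestrictSupport k _)

end Groth.Agent.Lib.Helper66.GrHilb
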