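import Mathlib
import Groth.Prelude.Def_GrSyz

/-!
# Graded pieces of free modules with homogeneous bases; homogeneous matrices preserve them
-/

set_option autoImplicit false
universe u

namespace Groth.Agent.Lib.Helper66.GrHilb

open DirectSum

variable {k : Type u} [Field k] {R : Type u} [CommRing R] [Algebra k R]
  (𝒜 : ℤ → Submodule k R) [GradedAlgebra 𝒜]

section Piece
variable {n : ℕ} (deg : Fin n → ℤ) (d : ℤ)

/-- the degree-`d` piece of the free module `⊕_b R(-deg b)` -/
def piece : Submodule k (Fin n → R) := Submodule.pi Set.univ (fun b => 𝒜 (d - deg b))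

theorem mem_piece (v : Fin n → R) : v ∈ piece 𝒜 deg d ↔ ∀ b, v b ∈ 𝒜 (d - deg b) := by
  simp [piece]

/-- projection of a vector to its degree-`d` part -/
def projV : (Fin n → R) →ₗ[k] (Fin n → R) :=
  LinearMap.pi (fun b => (GradedAlgebra.proj 𝒜 (d - deg b)).comp (LinearMap.proj b))

@[simp] theorem projV_apply (v : Fin n → R) (b : Fin n) :
    projV 𝒜 deg d v b = (decompose 𝒜 (v b) (d - deg b) : R) := rfl

theorem projV_mem (v : Fin n → R) : projV 𝒜 deg d v ∈ piece 𝒜 deg d := by
  rw [mem_piece]
  intro b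
  rw [projV_apply]
  exact SetLike.coe_mem _

theorem projV_of_mem (v : Fin n → R) (hv : v ∈ piece 𝒜 deg d) : projV 𝒜 deg d v = v := by
  ext b
  rw [projV_apply]
  exact decompose_of_mem_same 𝒜 ((mem_piece 𝒜 deg d v).mp hv b)

end Piece

section Matrix
variable {m n : ℕ} (degm : Fin m → ℤ) (degn : Fin n → ℤ) (D : Matrix (Fin m) (Fin n) R)
  (hD : ∀ a b, D a b ∈ 𝒜 (degn b - degm a)) (d : ℤ)

include hD in
theorem projV_mulVec (v : Fin n → R) :
    projV 𝒜 degm d (D.mulVec v) = D.mulVec (projV 𝒜 degn d v) := by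
  ext a
  rw [projV_apply]
  simp only [Matrix.mulVec, dotProduct]
  rw [decompose_sum]
  rw [DFinsupp.finsetSum_apply, AddSubmonoidClass.coe_finsetSum]
  refine Finset.sum_congr rfl fun b _ => ?_
  have hidx : d - degm a = (degn b - degm a) + (d - degn b) := by ring
  rw [hidx, coe_decompose_mul_add_of_left_mem 𝒜 (hD a b), projV_apply]

include hD in
theorem mulVec_mem_piece (v : Fin n → R) (hv : v ∈ piece 𝒜 degn d) :
    D.mulVec v ∈ piece 𝒜 degm d := by
  rw [← projV_of_mem 𝒜 degn d v hv, ← projV_mulVec 𝒜 degm degn D hD d]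
  exact projV_mem 𝒜 degm d _

end Matrix

section Module
variable {M : Type u} [AddCommGroup M] [Module k M] [Module R M] [IsScalarTower k R M]
  (ℳ : ℤ → Submodule k M) [DirectSum.Decomposition ℳ] [SetLike.GradedSMul 𝒜 ℳ]

/-- the graded-module analogue of `coe_decompose_mul_add_of_right_mem` -/
theorem coe_decompose_smul_add_of_right_mem {i j : ℤ} (a : R) {x : M} (hx : x ∈ ℳ j) :
    (decompose ℳ (a • x) (i + j) : M) = (decompose 𝒜 a i : R) • x := by
  classical
  conv_lhs => rw [← sum_support_decompose 𝒜 a, Finset.sum_smul]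
  rw [decompose_sum, DFinsupp.finsetSum_apply, AddSubmonoidClass.coe_finsetSum]
  have hmem : ∀ i' : ℤ, (decompose 𝒜 a i' : R) • x ∈ ℳ (i' + j) := fun i' => by
    have := SetLike.GradedSMul.smul_mem (A := 𝒜) (B := ℳ) (i := i') (j := j)
      (SetLike.coe_mem (decompose 𝒜 a i')) hx
    rwa [vadd_eq_add] at this
  rw [Finset.sum_eq_single i]
  · exact decompose_of_mem_same ℳ (hmem i)
  · intro i' _ hne
    exact decompose_of_mem_ne ℳ (hmem i') (fun h => hne (add_right_cancel h))
  · intro hi
    have h0 : (decompose 𝒜 a i : R) = 0 := by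
      have := DFinsupp.notMem_support_iff.mp hi
      rw [this]; rfl
    rw [h0, zero_smul]
    have : decompose ℳ (0 : M) = 0 := decompose_zero ℳ
    rw [this]; rfl

variable {n : ℕ} (deg : Fin n → ℤ) (aug : Fin n → M) (haug : ∀ b, aug b ∈ ℳ (deg b)) (d : ℤ)

include haug in
theorem decompose_linearCombination (v : Fin n → R) :
    (decompose ℳ (Fintype.linearCombination R aug v) d : M) =
      Fintype.linearCombination R aug (projV 𝒜 deg d v) := by
  rw [Fintype.linearCombination_apply, Fintype.linearCombination_apply, decompose_sum,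
    DFinsupp.finsetSum_apply, AddSubmonoidClass.coe_finsetSum]
  refine Finset.sum_congr rfl fun b _ => ?_
  have hidx : d = (d - deg b) + deg b := by ring
  conv_lhs => rw [hidx]
  rw [coe_decompose_smul_add_of_right_mem 𝒜 ℳ (v b) (haug b), projV_apply]

include haug in
theorem linearCombination_mem (v : Fin n → R) (hv : v ∈ piece 𝒜 deg d) :
    Fintype.linearCombination R aug v ∈ ℳ d := by
  rw [← projV_of_mem 𝒜 deg d v hv, ← decompose_linearCombination 𝒜 ℳ deg aug haug d]
  exact SetLike.coe_mem _

end Module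

end Groth.Agent.Lib.Helper66.GrHilb
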