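import Mathlib
import Groth.Prelude.Def_GrSyz
import Groth.Agent.Lib.Helper66.StdGr
import Groth.Agent.Lib.Helper66.GrHilbA
import Groth.Agent.Lib.Helper66.GrHilbB

/-!
# Minimal homogeneous generators of graded modules over `k[x_0..x_r]` (helper66)

An abstract interface `GrProj` ("graded module via its degree projections") covering both a graded
module with a `DirectSum.Decomposition` and a free module with homogeneous basis, and the basic
lemma: a finitely generated graded submodule has a homogeneous generating family all of whose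
relations have coefficients in the irrelevant ideal.
-/

set_option autoImplicit false
universe u

namespace Groth.Agent.Lib.Helper66.MinRes

open DirectSum Groth.Agent.Lib.Helper66.GrHilb

variable (k : Type u) [Field k] (r : ℕ)

/-- A module over `S = k[x_0..x_r]` graded via its degree projections. -/
structure GrProj (N : Type u) [AddCommGroup N] [Module (MvPolynomial (Fin (r + 1)) k) N] where
  /-- the degree projections -/
  π : ℤ → N →+ N
  sum_eq : ∀ x : N, ∃ s : Finset ℤ, x = ∑ d ∈ s, π d x
  smul : ∀ (a : MvPolynomial (Fin (r + 1)) k) (x : N) (d d' : ℤ),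
    π d' (a • π d x) = (decompose (GrSyz.stdGr k (Fin (r + 1))) a (d' - d) : MvPolynomial (Fin (r + 1)) k) • π d x

variable {k r}

/-- an element outside the irrelevant ideal has a unit as degree-zero component -/
theorem isUnit_decompose_zero (a : MvPolynomial (Fin (r + 1)) k)
    (ha : a ∉ (GrSyz.irrel (GrSyz.stdGr k (Fin (r + 1)))).toIdeal) :
    IsUnit (decompose (GrSyz.stdGr k (Fin (r + 1))) a 0 : MvPolynomial (Fin (r + 1)) k) := by
  classical
  apply Groth.Agent.Lib.Helper66.isUnit_of_mem_stdGr_of_notMem_irrel k (Fin (r + 1)) 0 _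
    (SetLike.coe_mem _)
  intro h0
  apply ha
  rw [← sum_support_decompose (GrSyz.stdGr k (Fin (r + 1))) a]
  refine sum_mem fun d _ => ?_
  rcases lt_trichotomy d 0 with hd | hd | hd
  · have h2 : ∀ y ∈ GrSyz.stdGr k (Fin (r + 1)) d, y = 0 := by
      rw [stdGr_eq_bot_of_neg k r d hd]
      intro y hy
      exact (Submodule.mem_bot k).mp hy
    rw [h2 _ (SetLike.coe_mem _)]
    exact zero_mem _
  · rw [hd]
    exact h0
  · exact Ideal.subset_span ⟨d, hd, SetLike.coe_mem _⟩

namespace GrProj

variable {N : Type u} [AddCommGroup N] [Module (MvPolynomial (Fin (r + 1)) k) N]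
  (P : GrProj k r N)

theorem π_idem (d : ℤ) (x : N) : P.π d (P.π d x) = P.π d x := by
  have h := P.smul 1 x d d
  rw [one_smul, sub_self, decompose_of_mem_same _ (SetLike.GradedOne.one_mem), one_smul] at h
  exact h

/-- a linear combination of homogeneous elements decomposes coefficientwise -/
theorem π_linearCombination {n : ℕ} (e : Fin n → ℤ) (x : Fin n → N)
    (hx : ∀ j, P.π (e j) (x j) = x j) (d : ℤ) (v : Fin n → MvPolynomial (Fin (r + 1)) k) :
    P.π d (Fintype.linearCombination (MvPolynomial (Fin (r + 1)) k) x v) =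
      Fintype.linearCombination (MvPolynomial (Fin (r + 1)) k) x
        (projV (GrSyz.stdGr k (Fin (r + 1))) e d v) := by
  rw [Fintype.linearCombination_apply, Fintype.linearCombination_apply, map_sum]
  refine Finset.sum_congr rfl fun j _ => ?_
  rw [← hx j, P.smul, hx j, projV_apply]

/-- The family of homogeneous generating families of `K` of a given size. -/
def Good (K : Submodule (MvPolynomial (Fin (r + 1)) k) N) (n : ℕ) : Prop :=
  ∃ (e : Fin n → ℤ) (x : Fin n → N), (∀ j, x j ∈ K) ∧ (∀ j, P.π (e j) (x j) = x j) ∧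
    Submodule.span (MvPolynomial (Fin (r + 1)) k) (Set.range x) = K

theorem exists_good (K : Submodule (MvPolynomial (Fin (r + 1)) k) N) (hFG : K.FG)
    (hK : ∀ d, ∀ x ∈ K, P.π d x ∈ K) : ∃ n, P.Good K n := by
  classical
  obtain ⟨G, hG⟩ := hFG
  choose s hs using P.sum_eq
  let T : Finset (ℤ × N) := G.biUnion (fun y => (s y).image (fun d => (d, P.π d y)))
  have hGK : ∀ y ∈ G, y ∈ K := fun y hy => hG ▸ Submodule.subset_span hy
  have hT : ∀ t ∈ T, t.2 ∈ K ∧ P.π t.1 t.2 = t.2 := by
    intro t ht
    obtain ⟨y, hy, ht⟩ := Finset.mem_biUnion.mp ht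
    obtain ⟨d, -, rfl⟩ := Finset.mem_image.mp ht
    exact ⟨hK d y (hGK y hy), P.π_idem d y⟩
  refine ⟨T.card, fun j => (T.equivFin.symm j).1.1, fun j => (T.equivFin.symm j).1.2,
    fun j => (hT _ (T.equivFin.symm j).2).1, fun j => (hT _ (T.equivFin.symm j).2).2, ?_⟩
  apply le_antisymm
  · rw [Submodule.span_le]
    rintro _ ⟨j, rfl⟩
    exact (hT _ (T.equivFin.symm j).2).1
  · rw [← hG, Submodule.span_le]
    intro y hy
    rw [SetLike.mem_coe, hs y]
    refine sum_mem fun d hd => Submodule.subset_span ?_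
    have hmem : (d, P.π d y) ∈ T :=
      Finset.mem_biUnion.mpr ⟨y, hy, Finset.mem_image.mpr ⟨d, hd, rfl⟩⟩
    refine ⟨T.equivFin ⟨_, hmem⟩, ?_⟩
    simp

/-- **Minimal generators.** -/
theorem exists_minimal_generators (K : Submodule (MvPolynomial (Fin (r + 1)) k) N) (hFG : K.FG)
    (hK : ∀ d, ∀ x ∈ K, P.π d x ∈ K) :
    ∃ (n : ℕ) (e : Fin n → ℤ) (x : Fin n → N), (∀ j, x j ∈ K) ∧ (∀ j, P.π (e j) (x j) = x j) ∧
      Submodule.span (MvPolynomial (Fin (r + 1)) k) (Set.range x) = K ∧
      ∀ v : Fin n → MvPolynomial (Fin (r + 1)) k,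
        Fintype.linearCombination (MvPolynomial (Fin (r + 1)) k) x v = 0 →
          ∀ j, v j ∈ (GrSyz.irrel (GrSyz.stdGr k (Fin (r + 1)))).toIdeal := by
  classical
  have hex := P.exists_good K hFG hK
  obtain ⟨e, x, hxK, hxe, hspan⟩ := Nat.find_spec hex
  refine ⟨Nat.find hex, e, x, hxK, hxe, hspan, ?_⟩
  intro v hv j0
  by_contra hnot
  -- the size is a successor
  obtain ⟨n', hn'⟩ : ∃ n', Nat.find hex = n' + 1 := by
    rcases Nat.exists_eq_succ_of_ne_zero (Fin.pos j0).ne' with ⟨n', h⟩
    exact ⟨n', h⟩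
  apply Nat.find_min hex (m := n') (by omega)
  -- generalize the size
  generalize Nat.find hex = n at e x hxK hxe hspan v hv j0 hnot hn'
  subst hn'
  -- the degree `e j0` component of the relation
  have hrel := P.π_linearCombination e x hxe (e j0) v
  rw [hv, map_zero] at hrel
  set w := projV (GrSyz.stdGr k (Fin (r + 1))) e (e j0) v with hw
  have hunit : IsUnit (w j0) := by
    rw [hw, projV_apply, sub_self]
    exact isUnit_decompose_zero _ hnot
  refine ⟨e ∘ j0.succAbove, x ∘ j0.succAbove, fun j => hxK _, fun j => hxe _, ?_⟩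
  apply le_antisymm
  · rw [Submodule.span_le]
    rintro _ ⟨j, rfl⟩
    exact hxK _
  · rw [← hspan, Submodule.span_le]
    rintro _ ⟨j, rfl⟩
    rw [SetLike.mem_coe]
    by_cases hj : j = j0
    · subst hj
      rw [← Submodule.smul_mem_iff_of_isUnit _ hunit]
      have h1 := hrel.symm
      rw [Fintype.linearCombination_apply, Fin.sum_univ_succAbove _ j] at h1
      have h2 : w j • x j = -∑ i, w (j.succAbove i) • x (j.succAbove i) :=
        eq_neg_of_add_eq_zero_left h1
      rw [h2]
      exact neg_mem (sum_mem fun i _ => Submodule.smul_mem _ _ (Submodule.subset_span ⟨i, rfl⟩))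
    · obtain ⟨i, rfl⟩ := Fin.exists_succAbove_eq hj
      exact Submodule.subset_span ⟨i, rfl⟩

end GrProj

end Groth.Agent.Lib.Helper66.MinRes
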