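import Mathlib
import Groth.Agent.Lib.Helper66.MinResA

/-!
# Existence of minimal graded free resolutions over `k[x_0..x_r]` (helper66)
-/

set_option autoImplicit false
universe u

namespace Groth.Agent.Lib.Helper66.MinRes

open DirectSum Groth.Agent.Lib.Helper66.GrHilb

variable {k : Type u} [Field k] {r : ℕ}

local notation "S" => MvPolynomial (Fin (r + 1)) k
local notation "𝒜" => GrSyz.stdGr k (Fin (r + 1))
local notation "𝔪" => HomogeneousIdeal.toIdeal (GrSyz.irrel (GrSyz.stdGr k (Fin (r + 1))))

namespace GrProj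

/-- the projections of a graded module -/
noncomputable def ofDecomposition {M : Type u} [AddCommGroup M] [Module k M] [Module S M]
    [IsScalarTower k S M] (ℳ : ℤ → Submodule k M) [Decomposition ℳ]
    [SetLike.GradedSMul 𝒜 ℳ] : GrProj k r M where
  π d :=
    { toFun := fun x => (decompose ℳ x d : M)
      map_zero' := by simp
      map_add' := fun x y => by simp }
  sum_eq x := by
    classical
    exact ⟨(decompose ℳ x).support, (sum_support_decompose ℳ x).symm⟩
  smul a x d d' := by
    change (decompose ℳ (a • (decompose ℳ x d : M)) d' : M) = _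
    have hidx : d' = (d' - d) + d := by ring
    conv_lhs => rw [hidx]
    exact coe_decompose_smul_add_of_right_mem 𝒜 ℳ a (SetLike.coe_mem _)

/-- the projections of a free module with homogeneous basis -/
noncomputable def ofFree {n : ℕ} (e : Fin n → ℤ) : GrProj k r (Fin n → S) where
  π d := (projV 𝒜 e d).toAddMonoidHom
  sum_eq v := by
    classical
    let s : Finset ℤ := Finset.univ.biUnion
      (fun b => ((decompose 𝒜 (v b)).support).image (fun i => i + e b))
    refine ⟨s, ?_⟩
    funext b
    rw [Finset.sum_apply]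
    simp only [LinearMap.toAddMonoidHom_coe, projV_apply]
    have hsub : ((decompose 𝒜 (v b)).support).image (fun i => i + e b) ⊆ s :=
      Finset.subset_biUnion_of_mem (fun b => ((decompose 𝒜 (v b)).support).image (fun i => i + e b))
        (Finset.mem_univ b)
    rw [← Finset.sum_subset hsub]
    · rw [Finset.sum_image (fun _ _ _ _ h => add_right_cancel h)]
      have hf : ∀ i j : ℤ, i = j →
          ((decompose 𝒜 (v b) i : 𝒜 i) : S) = ((decompose 𝒜 (v b) j : 𝒜 j) : S) := by
        intro i j h
        subst h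
        rfl
      rw [Finset.sum_congr rfl (fun x _ => hf _ _ (add_sub_cancel_right x (e b)))]
      exact (sum_support_decompose 𝒜 (v b)).symm
    · intro d _ hd
      have hnot : d - e b ∉ (decompose 𝒜 (v b)).support := fun h =>
        hd (Finset.mem_image.mpr ⟨d - e b, h, by ring⟩)
      rw [DFinsupp.notMem_support_iff] at hnot
      rw [hnot]
      rfl
  smul a v d d' := by
    funext b
    change (decompose 𝒜 ((a • projV 𝒜 e d v) b) (d' - e b) : S) =
      ((decompose 𝒜 a (d' - d) : S) • projV 𝒜 e d v) b
    rw [Pi.smul_apply, Pi.smul_apply, smul_eq_mul, smul_eq_mul, projV_apply]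
    have hidx : d' - e b = (d' - d) + (d - e b) := by ring
    rw [hidx, coe_decompose_mul_add_of_right_mem 𝒜 (SetLike.coe_mem _)]

end GrProj

variable (k r) in
/-- A stage of the construction: a free module with homogeneous basis and a submodule. -/
structure State where
  n : ℕ
  e : Fin n → ℤ
  K : Submodule (MvPolynomial (Fin (r + 1)) k) (Fin n → MvPolynomial (Fin (r + 1)) k)

/-- the submodule is graded and contained in `𝔪 F` -/
def State.Inv (s : State k r) : Prop :=
  (∀ d, ∀ v ∈ s.K, projV 𝒜 s.e d v ∈ s.K) ∧ ∀ v ∈ s.K, ∀ a, v a ∈ 𝔪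

/-- `D` is a minimal homogeneous presentation matrix of `s.K` with kernel `t.K` -/
def StepRel (s t : State k r) (D : Matrix (Fin s.n) (Fin t.n) S) : Prop :=
  (∀ a b, D a b ∈ 𝒜 (t.e b - s.e a)) ∧ (∀ a b, D a b ∈ 𝔪) ∧
    LinearMap.range (Matrix.mulVecLin D) = s.K ∧ LinearMap.ker (Matrix.mulVecLin D) = t.K

theorem step_exists (s : State k r) (hs : s.Inv) :
    ∃ (t : State k r) (D : Matrix (Fin s.n) (Fin t.n) S), t.Inv ∧ StepRel s t D := by
  have hFG : s.K.FG := IsNoetherian.noetherian s.K
  obtain ⟨n', e', x, hxK, hxe, hspan, hmin⟩ :=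
    (GrProj.ofFree (k := k) (r := r) s.e).exists_minimal_generators s.K hFG hs.1
  let D : Matrix (Fin s.n) (Fin n') S := fun a b => x b a
  have hD : ∀ v, D.mulVec v = Fintype.linearCombination S x v := by
    intro v
    ext a
    simp [Matrix.mulVec, dotProduct, Fintype.linearCombination_apply, D, mul_comm]
  have hDlin : Matrix.mulVecLin D = Fintype.linearCombination S x :=
    LinearMap.ext fun v => by rw [Matrix.mulVecLin_apply, hD]
  have hDmem : ∀ a b, D a b ∈ 𝒜 (e' b - s.e a) := by
    intro a b
    have h1 := projV_mem 𝒜 s.e (e' b) (x b)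
    have h2 : projV 𝒜 s.e (e' b) (x b) = x b := hxe b
    rw [h2, mem_piece] at h1
    exact h1 a
  refine ⟨⟨n', e', LinearMap.ker (Matrix.mulVecLin D)⟩, D, ⟨?_, ?_⟩, hDmem,
    fun a b => hs.2 _ (hxK b) a, ?_, rfl⟩
  · intro d v hv
    rw [LinearMap.mem_ker, Matrix.mulVecLin_apply] at hv ⊢
    rw [← projV_mulVec 𝒜 s.e e' D hDmem d v, hv, map_zero]
  · intro v hv
    rw [LinearMap.mem_ker, Matrix.mulVecLin_apply, hD] at hv
    exact hmin v hv
  · rw [hDlin, Fintype.range_linearCombination, hspan]

theorem init_exists {M : Type u} [AddCommGroup M] [Module k M] [Module S M]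
    [IsScalarTower k S M] [Module.Finite S M] (ℳ : ℤ → Submodule k M) [Decomposition ℳ]
    [SetLike.GradedSMul 𝒜 ℳ] :
    ∃ (n : ℕ) (e : Fin n → ℤ) (aug : Fin n → M), (∀ b, aug b ∈ ℳ (e b)) ∧
      Function.Surjective (Fintype.linearCombination S aug) ∧
      State.Inv (k := k) (r := r) ⟨n, e, LinearMap.ker (Fintype.linearCombination S aug)⟩ := by
  obtain ⟨n, e, x, -, hxe, hspan, hmin⟩ :=
    (GrProj.ofDecomposition (k := k) (r := r) ℳ).exists_minimal_generators ⊤
      Module.Finite.fg_top (fun _ _ _ => Submodule.mem_top)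
  refine ⟨n, e, x, ?_, ?_, ⟨?_, ?_⟩⟩
  · intro b
    have h := hxe b
    change (decompose ℳ (x b) (e b) : M) = x b at h
    rw [← h]
    exact SetLike.coe_mem _
  · rw [← LinearMap.range_eq_top, Fintype.range_linearCombination, hspan]
  · intro d v hv
    rw [LinearMap.mem_ker] at hv ⊢
    rw [← (GrProj.ofDecomposition (k := k) (r := r) ℳ).π_linearCombination e x hxe d v, hv,
      map_zero]
  · intro v hv
    exact hmin v (LinearMap.mem_ker.mp hv)

/-- the next stage -/
noncomputable def next (s : {s : State k r // s.Inv}) : {s : State k r // s.Inv} :=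
  ⟨Classical.choose (step_exists s.1 s.2),
    (Classical.choose_spec (Classical.choose_spec (step_exists s.1 s.2))).1⟩

/-- the presentation matrix from a stage to the next -/
noncomputable def mat (s : {s : State k r // s.Inv}) :
    Matrix (Fin s.1.n) (Fin (next s).1.n) S :=
  Classical.choose (Classical.choose_spec (step_exists s.1 s.2))

theorem mat_spec (s : {s : State k r // s.Inv}) : StepRel s.1 (next s).1 (mat s) :=
  (Classical.choose_spec (Classical.choose_spec (step_exists s.1 s.2))).2

/-- the sequence of stages -/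
noncomputable def stage (s₀ : {s : State k r // s.Inv}) : ℕ → {s : State k r // s.Inv}
  | 0 => s₀
  | i + 1 => next (stage s₀ i)

theorem exists_freeRes_isMinimal {M : Type u} [AddCommGroup M] [Module k M] [Module S M]
    [IsScalarTower k S M] [Module.Finite S M] (ℳ : ℤ → Submodule k M) [Decomposition ℳ]
    [SetLike.GradedSMul 𝒜 ℳ] :
    ∃ F : GrSyz.FreeRes 𝒜 ℳ, F.IsMinimal 𝔪 := by
  obtain ⟨n, e, aug, haug, hsurj, hinv⟩ := init_exists (k := k) (r := r) ℳ
  let s₀ : {s : State k r // s.Inv} := ⟨⟨n, e, LinearMap.ker (Fintype.linearCombination S aug)⟩, hinv⟩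
  refine ⟨{ rk := fun i => (stage s₀ i).1.n
            deg := fun i => (stage s₀ i).1.e
            d := fun i => mat (stage s₀ i)
            aug := aug
            d_mem := fun i a b => (mat_spec (stage s₀ i)).1 a b
            aug_mem := haug
            aug_surjective := hsurj
            exact_zero := (mat_spec (stage s₀ 0)).2.2.1.symm
            exact_succ := fun i =>
              (mat_spec (stage s₀ i)).2.2.2.trans (mat_spec (stage s₀ (i + 1))).2.2.1.symm }, ?_⟩
  intro i a b
  exact (mat_spec (stage s₀ i)).2.1 a b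

end Groth.Agent.Lib.Helper66.MinRes
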