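import Mathlib
import Groth.Agent.Lib.Helper66.MinResB

/-!
# Uniqueness of minimal graded free covers over `k[x_0..x_r]` (helper66)

* `det_eq_one_of_graded`: a square matrix with homogeneous entries (for one family of basis degrees
  on both sides) which is the identity modulo the irrelevant ideal has determinant one.
* `bijective_of_graded_of_sub_mem`: a graded endomorphism of a graded free module that is the
  identity modulo the irrelevant ideal is bijective.
* `exists_graded_lift`, `exists_graded_equiv`: comparison of two minimal homogeneous generating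
  families of isomorphic graded modules.
* `card_eq_of_graded_equiv`: isomorphic graded free modules have the same number of basis vectors in
  each degree.
-/

set_option autoImplicit false
universe u

namespace Groth.Agent.Lib.Helper66.BettiUniq

open DirectSum MvPolynomial Groth.Agent.Lib.Helper66.GrHilb Groth.Agent.Lib.Helper66.MinRes

variable {k : Type u} [Field k] {r : ℕ}

local notation "S" => MvPolynomial (Fin (r + 1)) k
local notation "𝒜" => GrSyz.stdGr k (Fin (r + 1))
local notation "𝔪" => HomogeneousIdeal.toIdeal (GrSyz.irrel (GrSyz.stdGr k (Fin (r + 1))))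

/-- a homogeneous polynomial of degree zero is constant -/
theorem eq_C_of_mem_stdGr_zero (p : MvPolynomial (Fin (r + 1)) k) (hp : p ∈ 𝒜 0) :
    p = C (constantCoeff p) := by
  classical
  have hp' : p.IsWeightedHomogeneous (fun _ : Fin (r + 1) => (1 : ℤ)) 0 := hp
  ext m
  rw [coeff_C]
  by_cases hm : 0 = m
  · rw [if_pos hm, ← hm, constantCoeff_eq]
  · rw [if_neg hm]
    by_contra hne
    have hw := hp' hne
    exact hm (Groth.Agent.Lib.Helper66.eq_zero_of_weight_one_nonpos (Fin (r + 1)) m
      (hw ▸ le_refl _)).symm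

/-- a homogeneous polynomial of nonzero degree has zero constant coefficient -/
theorem constantCoeff_eq_zero_of_mem_stdGr (d : ℤ) (hd : d ≠ 0)
    (p : MvPolynomial (Fin (r + 1)) k) (hp : p ∈ 𝒜 d) : constantCoeff p = 0 := by
  rcases lt_or_gt_of_ne hd with h | h
  · have h0 : p = 0 := by
      rw [stdGr_eq_bot_of_neg k r d h] at hp
      exact (Submodule.mem_bot k).mp hp
    rw [h0, map_zero]
  · exact Groth.Agent.Lib.Helper66.constantCoeff_eq_zero_of_mem_irrel k (Fin (r + 1)) p
      (Ideal.subset_span ⟨d, h, hp⟩)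

/-- a homogeneous square matrix congruent to the identity modulo `𝔪` has determinant one -/
theorem det_eq_one_of_graded {n : ℕ} (e : Fin n → ℤ)
    (A : Matrix (Fin n) (Fin n) (MvPolynomial (Fin (r + 1)) k))
    (hA : ∀ a b, A a b ∈ 𝒜 (e b - e a))
    (hA1 : ∀ a b, A a b - (1 : Matrix (Fin n) (Fin n) (MvPolynomial (Fin (r + 1)) k)) a b ∈ 𝔪) :
    A.det = 1 := by
  have hdet0 : A.det ∈ 𝒜 0 := by
    rw [Matrix.det_apply]
    refine sum_mem fun σ _ => ?_
    have hprod : ∏ i, A (σ i) i ∈ 𝒜 0 := by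
      have h := SetLike.prod_mem_graded 𝒜 (fun i => e i - e (σ i)) (fun i => A (σ i) i)
        (F := Finset.univ) (fun i _ => hA (σ i) i)
      have hsum : ∑ i, (e i - e (σ i)) = 0 := by
        rw [Finset.sum_sub_distrib, Equiv.sum_comp σ e, sub_self]
      rwa [hsum] at h
    rcases Int.units_eq_one_or (Equiv.Perm.sign σ) with h | h
    · rw [h, one_smul]; exact hprod
    · rw [h, Units.neg_smul, one_smul]; exact neg_mem hprod
  have hcc : constantCoeff A.det = 1 := by
    rw [RingHom.map_det]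
    have hone : (constantCoeff (R := k) (σ := Fin (r + 1))).mapMatrix A = 1 := by
      ext a b
      rw [RingHom.mapMatrix_apply, Matrix.map_apply]
      have h := Groth.Agent.Lib.Helper66.constantCoeff_eq_zero_of_mem_irrel k (Fin (r + 1)) _
        (hA1 a b)
      rw [map_sub, sub_eq_zero] at h
      rw [h]
      by_cases hab : a = b
      · subst hab; simp
      · simp [Matrix.one_apply_ne hab]
    rw [hone, Matrix.det_one]
  rw [eq_C_of_mem_stdGr_zero _ hdet0, hcc, map_one]

theorem single_mem_piece {n : ℕ} (e : Fin n → ℤ) (b : Fin n) :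
    (Pi.single b (1 : MvPolynomial (Fin (r + 1)) k) : Fin n → MvPolynomial (Fin (r + 1)) k) ∈
      piece 𝒜 e (e b) := by
  rw [mem_piece]
  intro b'
  by_cases h : b' = b
  · subst h
    rw [Pi.single_eq_same, sub_self]
    exact SetLike.GradedOne.one_mem
  · rw [Pi.single_eq_of_ne h]
    exact zero_mem _

/-- the matrix of a graded map has homogeneous entries -/
theorem toMatrix'_mem {n n' : ℕ} (e : Fin n → ℤ) (e' : Fin n' → ℤ)
    (θ : (Fin n → MvPolynomial (Fin (r + 1)) k) →ₗ[MvPolynomial (Fin (r + 1)) k]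
      (Fin n' → MvPolynomial (Fin (r + 1)) k))
    (hθ : ∀ d v, θ (projV 𝒜 e d v) = projV 𝒜 e' d (θ v)) (a : Fin n') (b : Fin n) :
    LinearMap.toMatrix' θ a b ∈ 𝒜 (e b - e' a) := by
  classical
  rw [LinearMap.toMatrix'_apply]
  have h2 : θ (Pi.single b 1) ∈ piece 𝒜 e' (e b) := by
    rw [← projV_of_mem 𝒜 e (e b) _ (single_mem_piece e b), hθ]
    exact projV_mem 𝒜 e' (e b) _
  exact (mem_piece 𝒜 e' (e b) _).mp h2 a

/-- a graded endomorphism which is the identity modulo `𝔪` is bijective -/
theorem bijective_of_graded_of_sub_mem {n : ℕ} (e : Fin n → ℤ)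
    (φ : (Fin n → MvPolynomial (Fin (r + 1)) k) →ₗ[MvPolynomial (Fin (r + 1)) k]
      (Fin n → MvPolynomial (Fin (r + 1)) k))
    (hφ : ∀ d v, φ (projV 𝒜 e d v) = projV 𝒜 e d (φ v))
    (h1 : ∀ v j, (φ v - v) j ∈ 𝔪) : Function.Bijective φ := by
  classical
  have hA := toMatrix'_mem e e φ hφ
  have hA1 : ∀ a b, LinearMap.toMatrix' φ a b -
      (1 : Matrix (Fin n) (Fin n) (MvPolynomial (Fin (r + 1)) k)) a b ∈ 𝔪 := by
    intro a b
    rw [LinearMap.toMatrix'_apply, Matrix.one_apply]
    have h := h1 (Pi.single b 1) a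
    rw [Pi.sub_apply, Pi.single_apply] at h
    exact h
  have hdet := det_eq_one_of_graded e _ hA hA1
  have hunit : IsUnit (LinearMap.toMatrix' φ) :=
    (Matrix.isUnit_iff_isUnit_det _).mpr (hdet ▸ isUnit_one)
  have hφA : ∀ v, φ v = (LinearMap.toMatrix' φ).mulVec v := fun v => by
    rw [LinearMap.toMatrix'_mulVec]
  constructor
  · intro v w hvw
    rw [hφA, hφA] at hvw
    exact Matrix.mulVec_injective_of_isUnit hunit hvw
  · intro w
    obtain ⟨v, hv⟩ := Matrix.mulVec_surjective_iff_isUnit.mpr hunit w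
    exact ⟨v, by rw [hφA, hv]⟩

section Lift

variable {N N' : Type u} [AddCommGroup N] [Module (MvPolynomial (Fin (r + 1)) k) N]
  [AddCommGroup N'] [Module (MvPolynomial (Fin (r + 1)) k) N']
  (P : GrProj k r N) (P' : GrProj k r N')
  {n n' : ℕ} (e : Fin n → ℤ) (e' : Fin n' → ℤ) (x : Fin n → N) (x' : Fin n' → N')

/-- lifting a graded map along homogeneous generating families -/
theorem exists_graded_lift (τ : N →ₗ[MvPolynomial (Fin (r + 1)) k] N')
    (hτ : ∀ d y, τ (P.π d y) = P'.π d (τ y))
    (hx : ∀ j, P.π (e j) (x j) = x j) (hx' : ∀ j, P'.π (e' j) (x' j) = x' j)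
    (hle : ∀ j, τ (x j) ∈ Submodule.span (MvPolynomial (Fin (r + 1)) k) (Set.range x')) :
    ∃ θ : (Fin n → MvPolynomial (Fin (r + 1)) k) →ₗ[MvPolynomial (Fin (r + 1)) k]
        (Fin n' → MvPolynomial (Fin (r + 1)) k),
      (∀ d v, θ (projV 𝒜 e d v) = projV 𝒜 e' d (θ v)) ∧
      ∀ v, Fintype.linearCombination S x' (θ v) = τ (Fintype.linearCombination S x v) := by
  have hex : ∀ j, ∃ w : Fin n' → MvPolynomial (Fin (r + 1)) k,
      w ∈ piece 𝒜 e' (e j) ∧ Fintype.linearCombination S x' w = τ (x j) := by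
    intro j
    have h := hle j
    rw [← Fintype.range_linearCombination] at h
    obtain ⟨w, hw⟩ := h
    refine ⟨projV 𝒜 e' (e j) w, projV_mem _ _ _ _, ?_⟩
    rw [← P'.π_linearCombination e' x' hx' (e j) w, hw, ← hτ, hx]
  choose w hwmem hw using hex
  refine ⟨Fintype.linearCombination S w, ?_, ?_⟩
  · intro d v
    have h := (GrProj.ofFree (k := k) (r := r) e').π_linearCombination e w
      (fun j => projV_of_mem 𝒜 e' (e j) _ (hwmem j)) d v
    exact h.symm
  · intro v
    have e1 : Fintype.linearCombination S w v = ∑ j, v j • w j := by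
      rw [Fintype.linearCombination_apply]
    have e2 : Fintype.linearCombination S x v = ∑ j, v j • x j := by
      rw [Fintype.linearCombination_apply]
    rw [e1, e2, map_sum, map_sum]
    refine Finset.sum_congr rfl fun j _ => ?_
    rw [map_smul, map_smul, hw]

/-- **Uniqueness of minimal graded covers.** -/
theorem exists_graded_equiv (τ : N ≃ₗ[MvPolynomial (Fin (r + 1)) k] N')
    (hτ : ∀ d y, τ (P.π d y) = P'.π d (τ y))
    (hx : ∀ j, P.π (e j) (x j) = x j) (hx' : ∀ j, P'.π (e' j) (x' j) = x' j)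
    (hspan : (Submodule.span (MvPolynomial (Fin (r + 1)) k) (Set.range x)).map
      (τ : N →ₗ[MvPolynomial (Fin (r + 1)) k] N') =
        Submodule.span (MvPolynomial (Fin (r + 1)) k) (Set.range x'))
    (hmin : ∀ v, Fintype.linearCombination S x v = 0 → ∀ j, v j ∈ 𝔪)
    (hmin' : ∀ v, Fintype.linearCombination S x' v = 0 → ∀ j, v j ∈ 𝔪) :
    ∃ θ : (Fin n → MvPolynomial (Fin (r + 1)) k) ≃ₗ[MvPolynomial (Fin (r + 1)) k]
        (Fin n' → MvPolynomial (Fin (r + 1)) k),
      (∀ d v, θ (projV 𝒜 e d v) = projV 𝒜 e' d (θ v)) ∧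
      ∀ v, Fintype.linearCombination S x' (θ v) = τ (Fintype.linearCombination S x v) := by
  have hτ' : ∀ d y, τ.symm (P'.π d y) = P.π d (τ.symm y) := by
    intro d y
    apply τ.injective
    rw [hτ, τ.apply_symm_apply, τ.apply_symm_apply]
  obtain ⟨θ, hθgr, hθ⟩ := exists_graded_lift P P' e e' x x' τ.toLinearMap hτ hx hx' (fun j => by
    rw [← hspan]
    exact Submodule.mem_map_of_mem (Submodule.subset_span ⟨j, rfl⟩))
  obtain ⟨ψ, hψgr, hψ⟩ := exists_graded_lift P' P e' e x' x τ.symm.toLinearMap hτ' hx' hx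
    (fun j => by
      have h : x' j ∈ (Submodule.span (MvPolynomial (Fin (r + 1)) k) (Set.range x)).map
          (τ : N →ₗ[MvPolynomial (Fin (r + 1)) k] N') := by
        rw [hspan]
        exact Submodule.subset_span ⟨j, rfl⟩
      obtain ⟨y, hy, hyx⟩ := h
      rw [← hyx]
      simpa using hy)
  have h1 : Function.Bijective (ψ ∘ₗ θ) := by
    apply bijective_of_graded_of_sub_mem e
    · intro d v
      rw [LinearMap.comp_apply, LinearMap.comp_apply, hθgr, hψgr]
    · intro v j
      apply hmin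
      rw [map_sub, LinearMap.comp_apply, hψ, hθ]
      simp
  have h2 : Function.Bijective (θ ∘ₗ ψ) := by
    apply bijective_of_graded_of_sub_mem e'
    · intro d v
      rw [LinearMap.comp_apply, LinearMap.comp_apply, hψgr, hθgr]
    · intro v j
      apply hmin'
      rw [map_sub, LinearMap.comp_apply, hθ, hψ]
      simp
  have hinj : Function.Injective θ := fun a b hab => h1.1 (by
    rw [LinearMap.comp_apply, LinearMap.comp_apply, hab])
  have hsurj : Function.Surjective θ := fun w => by
    obtain ⟨v, hv⟩ := h2.2 w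
    exact ⟨ψ v, hv⟩
  exact ⟨LinearEquiv.ofBijective θ ⟨hinj, hsurj⟩, hθgr, hθ⟩

end Lift

/-- a graded split injection of graded free modules does not decrease the number of basis vectors
in any degree -/
theorem card_le_of_graded_leftInverse {n n' : ℕ} (e : Fin n → ℤ) (e' : Fin n' → ℤ)
    (θ : (Fin n → MvPolynomial (Fin (r + 1)) k) →ₗ[MvPolynomial (Fin (r + 1)) k]
      (Fin n' → MvPolynomial (Fin (r + 1)) k))
    (ψ : (Fin n' → MvPolynomial (Fin (r + 1)) k) →ₗ[MvPolynomial (Fin (r + 1)) k]
      (Fin n → MvPolynomial (Fin (r + 1)) k))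
    (hθ : ∀ d v, θ (projV 𝒜 e d v) = projV 𝒜 e' d (θ v))
    (hψθ : ∀ v, ψ (θ v) = v) (j : ℤ) :
    Fintype.card {b : Fin n // e b = j} ≤ Fintype.card {a : Fin n' // e' a = j} := by
  classical
  set Θ : Matrix (Fin n') (Fin n) k :=
    (LinearMap.toMatrix' θ).map (constantCoeff (R := k) (σ := Fin (r + 1))) with hΘ
  set Ψ : Matrix (Fin n) (Fin n') k :=
    (LinearMap.toMatrix' ψ).map (constantCoeff (R := k) (σ := Fin (r + 1))) with hΨ
  have hΨΘ : Ψ * Θ = 1 := by
    rw [hΨ, hΘ, ← Matrix.map_mul, ← LinearMap.toMatrix'_comp]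
    have hid : ψ ∘ₗ θ = LinearMap.id := LinearMap.ext hψθ
    rw [hid, LinearMap.toMatrix'_id, Matrix.map_one _ (map_zero _) (map_one _)]
  have hΘ0 : ∀ a b, e' a ≠ e b → Θ a b = 0 := by
    intro a b hab
    rw [hΘ, Matrix.map_apply]
    exact constantCoeff_eq_zero_of_mem_stdGr (e b - e' a) (fun h => hab (by omega)) _
      (toMatrix'_mem e e' θ hθ a b)
  let X : Matrix {b : Fin n // e b = j} {a : Fin n' // e' a = j} k :=
    Ψ.submatrix Subtype.val Subtype.val
  let Y : Matrix {a : Fin n' // e' a = j} {b : Fin n // e b = j} k :=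
    Θ.submatrix Subtype.val Subtype.val
  have hXY : X * Y = 1 := by
    ext b1 b2
    rw [Matrix.mul_apply]
    have h := congrFun (congrFun hΨΘ b1.1) b2.1
    rw [Matrix.mul_apply] at h
    have hsum : ∑ a : {a : Fin n' // e' a = j}, Ψ b1.1 a.1 * Θ a.1 b2.1 =
        ∑ a : Fin n', Ψ b1.1 a * Θ a b2.1 := by
      rw [← Finset.sum_subtype (p := fun a : Fin n' => e' a = j)
        (Finset.univ.filter fun a : Fin n' => e' a = j)
        (fun a => by simp) (fun a => Ψ b1.1 a * Θ a b2.1), Finset.sum_filter]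
      refine Finset.sum_congr rfl fun a _ => ?_
      split_ifs with ha
      · rfl
      · rw [hΘ0 a b2.1 (fun h => ha (h.trans b2.2)), mul_zero]
    change ∑ a : {a : Fin n' // e' a = j}, Ψ b1.1 a.1 * Θ a.1 b2.1 = _
    rw [hsum, h, Matrix.one_apply, Matrix.one_apply]
    simp only [Subtype.ext_iff]
  calc Fintype.card {b : Fin n // e b = j}
      = (1 : Matrix {b : Fin n // e b = j} {b : Fin n // e b = j} k).rank := Matrix.rank_one.symm
    _ = (X * Y).rank := by rw [hXY]
    _ ≤ X.rank := Matrix.rank_mul_le_left X Y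
    _ ≤ Fintype.card {a : Fin n' // e' a = j} := Matrix.rank_le_card_width X

/-- isomorphic graded free modules have the same number of basis vectors in each degree -/
theorem card_eq_of_graded_equiv {n n' : ℕ} (e : Fin n → ℤ) (e' : Fin n' → ℤ)
    (θ : (Fin n → MvPolynomial (Fin (r + 1)) k) ≃ₗ[MvPolynomial (Fin (r + 1)) k]
      (Fin n' → MvPolynomial (Fin (r + 1)) k))
    (hθ : ∀ d v, θ (projV 𝒜 e d v) = projV 𝒜 e' d (θ v)) (j : ℤ) :
    Fintype.card {b : Fin n // e b = j} = Fintype.card {a : Fin n' // e' a = j} := by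
  have hθ' : ∀ d w, θ.symm (projV 𝒜 e' d w) = projV 𝒜 e d (θ.symm w) := by
    intro d w
    apply θ.injective
    rw [hθ, θ.apply_symm_apply, θ.apply_symm_apply]
  exact le_antisymm
    (card_le_of_graded_leftInverse e e' θ.toLinearMap θ.symm.toLinearMap hθ
      (fun v => θ.symm_apply_apply v) j)
    (card_le_of_graded_leftInverse e' e θ.symm.toLinearMap θ.toLinearMap hθ'
      (fun v => θ.apply_symm_apply v) j)

end Groth.Agent.Lib.Helper66.BettiUniq
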