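import Mathlib
import Groth.Agent.Lib.Helper66.BettiUniqA

/-!
# Two minimal graded free resolutions over `k[x_0..x_r]` have the same graded Betti numbers (helper66)

`exists_equiv`: termwise graded isomorphisms between two minimal resolutions of the same graded
module, compatible with the syzygy submodules.  `betti_eq`: equality of graded Betti numbers.
`isGenLE_iff`: the generation bound `IsGenLE r` does not depend on the minimal resolution.
-/

set_option autoImplicit false
universe u

namespace Groth.Agent.Lib.Helper66.BettiUniq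

open DirectSum MvPolynomial Groth.Agent.Lib.Helper66.GrHilb Groth.Agent.Lib.Helper66.MinRes

variable {k : Type u} [Field k] {r : ℕ}

local notation "S" => MvPolynomial (Fin (r + 1)) k
local notation "𝒜" => GrSyz.stdGr k (Fin (r + 1))
local notation "𝔪" => HomogeneousIdeal.toIdeal (GrSyz.irrel (GrSyz.stdGr k (Fin (r + 1))))

theorem mulVec_mem_of_entries {m n : ℕ}
    (D : Matrix (Fin m) (Fin n) (MvPolynomial (Fin (r + 1)) k)) (hD : ∀ a b, D a b ∈ 𝔪)
    (w : Fin n → MvPolynomial (Fin (r + 1)) k) (a : Fin m) : D.mulVec w a ∈ 𝔪 := by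
  simp only [Matrix.mulVec, dotProduct]
  exact sum_mem fun b _ => Ideal.mul_mem_right _ _ (hD a b)

theorem linearCombination_col {m n : ℕ}
    (D : Matrix (Fin m) (Fin n) (MvPolynomial (Fin (r + 1)) k)) :
    Fintype.linearCombination S (fun (b : Fin n) (a : Fin m) => D a b) = Matrix.mulVecLin D := by
  apply LinearMap.ext
  intro v
  ext a
  simp [Matrix.mulVec, dotProduct, Fintype.linearCombination_apply, mul_comm]

theorem map_ker_eq {A B A' B' : Type u} [AddCommGroup A] [AddCommGroup B] [AddCommGroup A']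
    [AddCommGroup B'] [Module (MvPolynomial (Fin (r + 1)) k) A]
    [Module (MvPolynomial (Fin (r + 1)) k) B] [Module (MvPolynomial (Fin (r + 1)) k) A']
    [Module (MvPolynomial (Fin (r + 1)) k) B']
    (f : A →ₗ[MvPolynomial (Fin (r + 1)) k] B) (f' : A' →ₗ[MvPolynomial (Fin (r + 1)) k] B')
    (θ : A ≃ₗ[MvPolynomial (Fin (r + 1)) k] A') (τ : B ≃ₗ[MvPolynomial (Fin (r + 1)) k] B')
    (h : ∀ v, f' (θ v) = τ (f v)) :
    (LinearMap.ker f).map (θ : A →ₗ[MvPolynomial (Fin (r + 1)) k] A') = LinearMap.ker f' := by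
  ext w
  constructor
  · rintro ⟨v, hv, rfl⟩
    rw [LinearMap.mem_ker]
    change f' (θ v) = 0
    rw [h, LinearMap.mem_ker.mp hv, map_zero]
  · intro hw
    refine ⟨θ.symm w, ?_, by simp⟩
    rw [SetLike.mem_coe, LinearMap.mem_ker]
    apply τ.injective
    rw [← h, θ.apply_symm_apply, map_zero]
    exact LinearMap.mem_ker.mp hw

variable {M : Type u} [AddCommGroup M] [Module k M] [Module (MvPolynomial (Fin (r + 1)) k) M]
  [IsScalarTower k (MvPolynomial (Fin (r + 1)) k) M]
  (ℳ : ℤ → Submodule k M) [Decomposition ℳ] [SetLike.GradedSMul (GrSyz.stdGr k (Fin (r + 1))) ℳ]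

/-- **Comparison of minimal resolutions**: termwise graded isomorphisms respecting the images of
the differentials. -/
theorem exists_equiv (F F' : GrSyz.FreeRes 𝒜 ℳ) (hF : F.IsMinimal 𝔪) (hF' : F'.IsMinimal 𝔪)
    (i : ℕ) :
    ∃ θ : (Fin (F.rk i) → MvPolynomial (Fin (r + 1)) k) ≃ₗ[MvPolynomial (Fin (r + 1)) k]
        (Fin (F'.rk i) → MvPolynomial (Fin (r + 1)) k),
      (∀ d v, θ (projV 𝒜 (F.deg i) d v) = projV 𝒜 (F'.deg i) d (θ v)) ∧
      (LinearMap.range (F.dLin i)).map
        (θ : (Fin (F.rk i) → MvPolynomial (Fin (r + 1)) k) →ₗ[MvPolynomial (Fin (r + 1)) k]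
          (Fin (F'.rk i) → MvPolynomial (Fin (r + 1)) k)) = LinearMap.range (F'.dLin i) := by
  induction i with
  | zero =>
    have hx : ∀ (G : GrSyz.FreeRes 𝒜 ℳ) (j : Fin (G.rk 0)),
        (GrProj.ofDecomposition (k := k) (r := r) ℳ).π (G.deg 0 j) (G.aug j) = G.aug j := by
      intro G j
      change (decompose ℳ (G.aug j) (G.deg 0 j) : M) = G.aug j
      exact decompose_of_mem_same ℳ (G.aug_mem j)
    have hmin : ∀ (G : GrSyz.FreeRes 𝒜 ℳ), G.IsMinimal 𝔪 →
        ∀ v, Fintype.linearCombination S G.aug v = 0 → ∀ j, v j ∈ 𝔪 := by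
      intro G hG v hv j
      have hmem : v ∈ LinearMap.ker (Fintype.linearCombination S G.aug) := LinearMap.mem_ker.mpr hv
      rw [G.exact_zero] at hmem
      obtain ⟨w, rfl⟩ := hmem
      exact mulVec_mem_of_entries _ (hG 0) w j
    obtain ⟨θ, hθgr, hθ⟩ := exists_graded_equiv (GrProj.ofDecomposition (k := k) (r := r) ℳ)
      (GrProj.ofDecomposition (k := k) (r := r) ℳ) (F.deg 0) (F'.deg 0) F.aug F'.aug
      (LinearEquiv.refl _ M) (fun d y => rfl) (hx F) (hx F')
      (by
        rw [← Fintype.range_linearCombination, ← Fintype.range_linearCombination,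
          LinearMap.range_eq_top.mpr F.aug_surjective, LinearMap.range_eq_top.mpr F'.aug_surjective,
          Submodule.map_top, LinearMap.range_eq_top]
        exact (LinearEquiv.refl _ M).surjective)
      (hmin F hF) (hmin F' hF')
    refine ⟨θ, hθgr, ?_⟩
    change (LinearMap.range (Matrix.mulVecLin (F.d 0))).map _ =
      LinearMap.range (Matrix.mulVecLin (F'.d 0))
    rw [← F.exact_zero, ← F'.exact_zero]
    exact map_ker_eq _ _ θ (LinearEquiv.refl _ M) hθ
  | succ i ih =>
    obtain ⟨τ, hτgr, hτ⟩ := ih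
    have hx : ∀ (G : GrSyz.FreeRes 𝒜 ℳ) (b : Fin (G.rk (i + 1))),
        (GrProj.ofFree (k := k) (r := r) (G.deg i)).π (G.deg (i + 1) b) (fun a => G.d i a b) =
          fun a => G.d i a b := by
      intro G b
      change projV 𝒜 (G.deg i) (G.deg (i + 1) b) (fun a => G.d i a b) = fun a => G.d i a b
      apply projV_of_mem
      rw [mem_piece]
      intro a
      exact G.d_mem i a b
    have hmin : ∀ (G : GrSyz.FreeRes 𝒜 ℳ), G.IsMinimal 𝔪 →
        ∀ v, Fintype.linearCombination S (fun (b : Fin (G.rk (i + 1))) (a : Fin (G.rk i)) =>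
          G.d i a b) v = 0 → ∀ j, v j ∈ 𝔪 := by
      intro G hG v hv j
      rw [linearCombination_col] at hv
      have hmem : v ∈ LinearMap.ker (Matrix.mulVecLin (G.d i)) := LinearMap.mem_ker.mpr hv
      rw [G.exact_succ i] at hmem
      obtain ⟨w, rfl⟩ := hmem
      exact mulVec_mem_of_entries _ (hG (i + 1)) w j
    obtain ⟨θ, hθgr, hθ⟩ := exists_graded_equiv (GrProj.ofFree (k := k) (r := r) (F.deg i))
      (GrProj.ofFree (k := k) (r := r) (F'.deg i)) (F.deg (i + 1)) (F'.deg (i + 1))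
      (fun b a => F.d i a b) (fun b a => F'.d i a b) τ (fun d y => hτgr d y) (hx F) (hx F')
      (by
        rw [← Fintype.range_linearCombination, ← Fintype.range_linearCombination,
          linearCombination_col, linearCombination_col]
        exact hτ)
      (hmin F hF) (hmin F' hF')
    refine ⟨θ, hθgr, ?_⟩
    change (LinearMap.range (Matrix.mulVecLin (F.d (i + 1)))).map _ =
      LinearMap.range (Matrix.mulVecLin (F'.d (i + 1)))
    rw [← F.exact_succ i, ← F'.exact_succ i]
    refine map_ker_eq _ _ θ τ (fun v => ?_)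
    have h := hθ v
    rw [linearCombination_col, linearCombination_col] at h
    exact h

/-- **Uniqueness of graded Betti numbers.** -/
theorem betti_eq (F F' : GrSyz.FreeRes 𝒜 ℳ) (hF : F.IsMinimal 𝔪) (hF' : F'.IsMinimal 𝔪)
    (i : ℕ) (j : ℤ) : F.betti i j = F'.betti i j := by
  obtain ⟨θ, hθ, -⟩ := exists_equiv ℳ F F' hF hF' i
  have h := card_eq_of_graded_equiv (F.deg i) (F'.deg i) θ hθ j
  unfold GrSyz.FreeRes.betti
  rw [← Fintype.card_subtype, ← Fintype.card_subtype]
  exact h

theorem isGenLE_iff_betti (F : GrSyz.FreeRes 𝒜 ℳ) (t : ℤ) :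
    F.IsGenLE t ↔ ∀ (i : ℕ) (j : ℤ), F.betti i j ≠ 0 → j ≤ t + i := by
  constructor
  · intro h i j hj
    unfold GrSyz.FreeRes.betti at hj
    obtain ⟨b, hb⟩ := Finset.card_ne_zero.mp hj
    rw [Finset.mem_filter] at hb
    rw [← hb.2]
    exact h i b
  · intro h i b
    apply h i (F.deg i b)
    unfold GrSyz.FreeRes.betti
    exact Finset.card_ne_zero.mpr ⟨b, Finset.mem_filter.mpr ⟨Finset.mem_univ _, rfl⟩⟩

/-- the generation bound does not depend on the minimal resolution -/
theorem isGenLE_iff (F F' : GrSyz.FreeRes 𝒜 ℳ) (hF : F.IsMinimal 𝔪) (hF' : F'.IsMinimal 𝔪)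
    (t : ℤ) : F.IsGenLE t ↔ F'.IsGenLE t := by
  rw [isGenLE_iff_betti, isGenLE_iff_betti]
  simp only [betti_eq ℳ F F' hF hF']

/-- over a polynomial ring, `IsRegLE` can be tested on any minimal resolution -/
theorem isRegLE_iff (F : GrSyz.FreeRes 𝒜 ℳ) (hF : F.IsMinimal 𝔪) (t : ℤ) :
    GrSyz.IsRegLE 𝒜 ℳ 𝔪 t ↔ F.IsGenLE t := by
  constructor
  · rintro ⟨F', hF', hgen⟩
    exact (isGenLE_iff ℳ F F' hF hF' t).mpr hgen
  · intro h
    exact ⟨F, hF, h⟩

end Groth.Agent.Lib.Helper66.BettiUniq
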