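import Mathlib
import Groth.Agent.Lib.Helper66.BettiUniqB

/-!
# The regularity as the supremum of `maxGenDeg i - i` over a minimal resolution (helper66)
-/

set_option autoImplicit false
universe u

namespace Groth.Agent.Lib.Helper66.BettiUniq

open DirectSum MvPolynomial

/-- an extended integer is the infimum of the integers above it -/
theorem iInf_int_of_le (s : WithBot (WithTop ℤ)) :
    ⨅ (t : ℤ) (_ : s ≤ ((t : WithTop ℤ) : WithBot (WithTop ℤ))),
      ((t : WithTop ℤ) : WithBot (WithTop ℤ)) = s := by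
  apply le_antisymm
  · induction s using WithBot.recBotCoe with
    | bot =>
      rw [le_bot_iff]
      by_contra hne
      obtain ⟨y, hy⟩ := WithBot.ne_bot_iff_exists.mp hne
      have hle : ∀ t : ℤ, (y : WithBot (WithTop ℤ)) ≤ ((t : WithTop ℤ) : WithBot (WithTop ℤ)) :=
        fun t => by
          rw [hy]
          exact iInf_le_of_le t (iInf_le _ bot_le)
      induction y using WithTop.recTopCoe with
      | top =>
        have h := WithBot.coe_le_coe.mp (hle 0)
        exact absurd h (by simp)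
      | coe m =>
        have h := WithTop.coe_le_coe.mp (WithBot.coe_le_coe.mp (hle (m - 1)))
        omega
    | coe y =>
      induction y using WithTop.recTopCoe with
      | top => exact le_top
      | coe m => exact iInf_le_of_le m (iInf_le _ le_rfl)
  · exact le_iInf₂ fun t ht => ht

variable {k : Type u} [Field k] {r : ℕ}

local notation "S" => MvPolynomial (Fin (r + 1)) k
local notation "𝒜" => GrSyz.stdGr k (Fin (r + 1))
local notation "𝔪" => HomogeneousIdeal.toIdeal (GrSyz.irrel (GrSyz.stdGr k (Fin (r + 1))))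

variable {M : Type u} [AddCommGroup M] [Module k M] [Module (MvPolynomial (Fin (r + 1)) k) M]
  [IsScalarTower k (MvPolynomial (Fin (r + 1)) k) M]
  (ℳ : ℤ → Submodule k M) [Decomposition ℳ] [SetLike.GradedSMul (GrSyz.stdGr k (Fin (r + 1))) ℳ]

theorem gen_le_iff (F : GrSyz.FreeRes 𝒜 ℳ) (i : ℕ) (t : ℤ) :
    WithBot.map (fun s : ℤ => ((s - (i : ℤ) : ℤ) : WithTop ℤ)) (F.maxGenDeg i) ≤
        ((t : WithTop ℤ) : WithBot (WithTop ℤ)) ↔ ∀ b, F.deg i b ≤ t + i := by
  have hc : ((t : WithTop ℤ) : WithBot (WithTop ℤ)) =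
      WithBot.map (fun s : ℤ => ((s - (i : ℤ) : ℤ) : WithTop ℤ)) (((t + i : ℤ)) : WithBot ℤ) := by
    rw [WithBot.map_coe]
    congr 2
    ring
  rw [hc, WithBot.map_le_iff _ (fun {a b} => by rw [WithTop.coe_le_coe]; omega)]
  unfold GrSyz.FreeRes.maxGenDeg
  rw [Finset.sup_le_iff]
  simp only [Finset.mem_univ, WithBot.coe_le_coe, true_implies]

/-- **Regularity from a minimal resolution.** -/
theorem reg_eq (F : GrSyz.FreeRes 𝒜 ℳ) (hF : F.IsMinimal 𝔪) :
    GrSyz.reg 𝒜 ℳ 𝔪 =
      ⨆ i : ℕ, WithBot.map (fun t : ℤ => ((t - (i : ℤ) : ℤ) : WithTop ℤ)) (F.maxGenDeg i) := by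
  have key : ∀ t : ℤ, GrSyz.IsRegLE 𝒜 ℳ 𝔪 t ↔
      (⨆ i : ℕ, WithBot.map (fun t : ℤ => ((t - (i : ℤ) : ℤ) : WithTop ℤ)) (F.maxGenDeg i)) ≤
        ((t : WithTop ℤ) : WithBot (WithTop ℤ)) := by
    intro t
    rw [isRegLE_iff ℳ F hF t, iSup_le_iff]
    constructor
    · intro h i
      exact (gen_le_iff ℳ F i t).mpr (h i)
    · intro h i b
      exact (gen_le_iff ℳ F i t).mp (h i) b
  unfold GrSyz.reg
  simp only [key]
  exact iInf_int_of_le _

end Groth.Agent.Lib.Helper66.BettiUniq
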