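import Groth.Prelude.Def_FibCat2
import Groth.Agent.Lib.Helper66.StackBC

/-!
# The diagonal of a base change is a base change of the diagonal
-/

set_option autoImplicit false
set_option backward.isDefEq.respectTransparency false
set_option backward.isDefEq.respectTransparency.types false
universe v₇ u₇ v₆ u₆ v₅ u₅ v₄ u₄ v₃ u₃ v₂ u₂ v u

open CategoryTheory

namespace Groth.Agent.Lib.Helper66.StackDiag

open Groth.Agent.Lib.Helper90.LiftSqComp Groth.Agent.Lib.Helper90.LiftSqFp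
open Groth.Agent.Lib.Helper66.StackBC

variable {C : Type u} [Category.{v} C]
  {𝒳 : BasedCategory.{v₄, u₄} C} {𝒴 : BasedCategory.{v₅, u₅} C} {𝒴' : BasedCategory.{v₆, u₆} C}
  {𝒰 : BasedCategory.{v₇, u₇} C}

section
variable (f : 𝒳 ⥤ᵇ 𝒴) (g : 𝒴' ⥤ᵇ 𝒴)

/-- the 2-isomorphism defining `dQ` -/
def dQIso :
    BasedFunctor.comp (BasedFunctor.comp (FibCat.fpFst (FibCat.fpFst g f) (FibCat.fpFst g f))
        (FibCat.fpSnd g f)) f ≅
      BasedFunctor.comp (BasedFunctor.comp (FibCat.fpSnd (FibCat.fpFst g f) (FibCat.fpFst g f))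
        (FibCat.fpSnd g f)) f :=
  whiskerLeftIso (FibCat.fpFst (FibCat.fpFst g f) (FibCat.fpFst g f)) (FibCat.fpIso g f).symm ≪≫
    whiskerRightIso (FibCat.fpIso (FibCat.fpFst g f) (FibCat.fpFst g f)) g ≪≫
      whiskerLeftIso (FibCat.fpSnd (FibCat.fpFst g f) (FibCat.fpFst g f)) (FibCat.fpIso g f)

/-- `𝒳' ×_{𝒴'} 𝒳' ⟶ 𝒳 ×_𝒴 𝒳` for `𝒳' = 𝒴' ×_𝒴 𝒳` -/
def dQ : FibCat.fp (FibCat.fpFst g f) (FibCat.fpFst g f) ⥤ᵇ FibCat.fp f f :=
  FibCat.fpLift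
    (BasedFunctor.comp (FibCat.fpFst (FibCat.fpFst g f) (FibCat.fpFst g f)) (FibCat.fpSnd g f))
    (BasedFunctor.comp (FibCat.fpSnd (FibCat.fpFst g f) (FibCat.fpFst g f)) (FibCat.fpSnd g f))
    (dQIso f g)

/-- `Δ_p ≫ Q ≅ q ≫ Δ_f` -/
def diagQ : BasedFunctor.comp (FibCat.diag (FibCat.fpFst g f)) (dQ f g) ≅
    BasedFunctor.comp (FibCat.fpSnd g f) (FibCat.diag f) :=
  fpIsoMk (Iso.refl _) (Iso.refl _) (fun w => by
    simp [dQ, dQIso, FibCat.diag])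

end

section
variable {F : 𝒳 ⥤ᵇ 𝒴} {G : 𝒴' ⥤ᵇ 𝒴}

theorem fp_mor_ext {X Y : (FibCat.fp F G).obj} {φ ψ : X ⟶ Y}
    (h1 : (FibCat.fpFst F G).map φ = (FibCat.fpFst F G).map ψ)
    (h2 : (FibCat.fpSnd F G).map φ = (FibCat.fpSnd F G).map ψ) : φ = ψ := by
  apply ObjectProperty.hom_ext
  apply CategoryTheory.Limits.CategoricalPullback.hom_ext
  · exact h1
  · exact h2

@[simp] theorem fpFst_map_fpLift_map (a : 𝒰 ⥤ᵇ 𝒳) (b : 𝒰 ⥤ᵇ 𝒴')
    (e : BasedFunctor.comp a F ≅ BasedFunctor.comp b G) {w w' : 𝒰.obj} (φ : w ⟶ w') :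
    (FibCat.fpFst F G).map ((FibCat.fpLift a b e).map φ) = a.map φ := rfl

@[simp] theorem fpSnd_map_fpLift_map (a : 𝒰 ⥤ᵇ 𝒳) (b : 𝒰 ⥤ᵇ 𝒴')
    (e : BasedFunctor.comp a F ≅ BasedFunctor.comp b G) {w w' : 𝒰.obj} (φ : w ⟶ w') :
    (FibCat.fpSnd F G).map ((FibCat.fpLift a b e).map φ) = b.map φ := rfl

@[simp] theorem comp_map' {𝒜 : BasedCategory.{v₂, u₂} C} {ℬ : BasedCategory.{v₃, u₃} C}
    (P : 𝒜 ⥤ᵇ ℬ) (Q : ℬ ⥤ᵇ 𝒳) {w w' : 𝒜.obj} (φ : w ⟶ w') :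
    (BasedFunctor.comp P Q).map φ = Q.map (P.map φ) := rfl

@[simp] theorem id_map' {𝒜 : BasedCategory.{v₂, u₂} C} {w w' : 𝒜.obj} (φ : w ⟶ w') :
    (BasedFunctor.id 𝒜).map φ = φ := rfl

/-- the commutation condition of a morphism of the fibre product -/
theorem fp_hom_w {X Y : (FibCat.fp F G).obj} (φ : X ⟶ Y) :
    F.map ((FibCat.fpFst F G).map φ) ≫ Y.obj.iso.hom =
      X.obj.iso.hom ≫ G.map ((FibCat.fpSnd F G).map φ) := φ.hom.w

end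

section
variable (f : 𝒳 ⥤ᵇ 𝒴) (g : 𝒴' ⥤ᵇ 𝒴)
  (y : 𝒰 ⥤ᵇ FibCat.fp (FibCat.fpFst g f) (FibCat.fpFst g f))

/-- the 2-isomorphism defining `dXi` -/
def dXiIso :
    BasedFunctor.comp (FibCat.fpFst y (FibCat.diag (FibCat.fpFst g f)))
        (BasedFunctor.comp y (dQ f g)) ≅
      BasedFunctor.comp (BasedFunctor.comp (FibCat.fpSnd y (FibCat.diag (FibCat.fpFst g f)))
        (FibCat.fpSnd g f)) (FibCat.diag f) :=
  whiskerRightIso (FibCat.fpIso y (FibCat.diag (FibCat.fpFst g f))) (dQ f g) ≪≫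
    whiskerLeftIso (FibCat.fpSnd y (FibCat.diag (FibCat.fpFst g f))) (diagQ f g)

/-- `Ξ : 𝒰 ×_{𝒳'×𝒳'} 𝒳' ⟶ 𝒰 ×_{𝒳×𝒳} 𝒳` -/
def dXi : FibCat.fp y (FibCat.diag (FibCat.fpFst g f)) ⥤ᵇ
    FibCat.fp (BasedFunctor.comp y (dQ f g)) (FibCat.diag f) :=
  FibCat.fpLift (FibCat.fpFst y (FibCat.diag (FibCat.fpFst g f)))
    (BasedFunctor.comp (FibCat.fpSnd y (FibCat.diag (FibCat.fpFst g f))) (FibCat.fpSnd g f))
    (dXiIso f g y)

/-- `κ₁ : x₁ ≅ x` as a 2-isomorphism -/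
def kap1 :
    BasedFunctor.comp (BasedFunctor.comp (FibCat.fpFst (BasedFunctor.comp y (dQ f g)) (FibCat.diag f))
        (BasedFunctor.comp y (dQ f g))) (FibCat.fpFst f f) ≅
      FibCat.fpSnd (BasedFunctor.comp y (dQ f g)) (FibCat.diag f) :=
  whiskerRightIso (FibCat.fpIso (BasedFunctor.comp y (dQ f g)) (FibCat.diag f)) (FibCat.fpFst f f)

/-- `κ₂ : x₂ ≅ x` as a 2-isomorphism -/
def kap2 :
    BasedFunctor.comp (BasedFunctor.comp (FibCat.fpFst (BasedFunctor.comp y (dQ f g)) (FibCat.diag f))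
        (BasedFunctor.comp y (dQ f g))) (FibCat.fpSnd f f) ≅
      FibCat.fpSnd (BasedFunctor.comp y (dQ f g)) (FibCat.diag f) :=
  whiskerRightIso (FibCat.fpIso (BasedFunctor.comp y (dQ f g)) (FibCat.diag f)) (FibCat.fpSnd f f)

/-- `(u, x, κ) ↦ y₁` -/
def dA : FibCat.fp (BasedFunctor.comp y (dQ f g)) (FibCat.diag f) ⥤ᵇ 𝒴' :=
  BasedFunctor.comp (FibCat.fpFst (BasedFunctor.comp y (dQ f g)) (FibCat.diag f))
    (BasedFunctor.comp y (BasedFunctor.comp (FibCat.fpFst (FibCat.fpFst g f) (FibCat.fpFst g f))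
      (FibCat.fpFst g f)))

/-- `φ₁ ≫ f κ₁ : g y₁ ≅ f x` -/
def dTh2Iso : BasedFunctor.comp (dA f g y) g ≅
    BasedFunctor.comp (FibCat.fpSnd (BasedFunctor.comp y (dQ f g)) (FibCat.diag f)) f :=
  whiskerLeftIso (BasedFunctor.comp (FibCat.fpFst (BasedFunctor.comp y (dQ f g)) (FibCat.diag f))
      (BasedFunctor.comp y (FibCat.fpFst (FibCat.fpFst g f) (FibCat.fpFst g f)))) (FibCat.fpIso g f) ≪≫
    whiskerRightIso (kap1 f g y) f

/-- `Θ₂ : (u, x, κ) ↦ (y₁, x, φ₁ ≫ f κ₁)` -/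
def dTh2 : FibCat.fp (BasedFunctor.comp y (dQ f g)) (FibCat.diag f) ⥤ᵇ FibCat.fp g f :=
  FibCat.fpLift (dA f g y) (FibCat.fpSnd (BasedFunctor.comp y (dQ f g)) (FibCat.diag f))
    (dTh2Iso f g y)

/-- `ι₁ = (𝟙, κ₁) : x'₁ ≅ x'` -/
def iota1 :
    BasedFunctor.comp (BasedFunctor.comp (FibCat.fpFst (BasedFunctor.comp y (dQ f g)) (FibCat.diag f)) y)
        (FibCat.fpFst (FibCat.fpFst g f) (FibCat.fpFst g f)) ≅ dTh2 f g y :=
  fpIsoMk (Iso.refl _) (kap1 f g y) (fun w => by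
    simp [dTh2, dTh2Iso, dA, kap1])

/-- `ι₂ = (θ⁻¹, κ₂) : x'₂ ≅ x'` -/
def iota2 :
    BasedFunctor.comp (BasedFunctor.comp (FibCat.fpFst (BasedFunctor.comp y (dQ f g)) (FibCat.diag f)) y)
        (FibCat.fpSnd (FibCat.fpFst g f) (FibCat.fpFst g f)) ≅ dTh2 f g y :=
  fpIsoMk
    (whiskerLeftIso (BasedFunctor.comp (FibCat.fpFst (BasedFunctor.comp y (dQ f g)) (FibCat.diag f)) y)
      (FibCat.fpIso (FibCat.fpFst g f) (FibCat.fpFst g f)).symm)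
    (kap2 f g y) (fun w => by
    simp [dTh2, dTh2Iso, dA, kap1, kap2]
    have hw := fp_hom_w w.obj.iso.hom
    simp [dQ, dQIso, FibCat.diag] at hw
    rw [hw]
    simp)

/-- the 2-isomorphism defining `dTh` -/
def dThIso :
    BasedFunctor.comp (FibCat.fpFst (BasedFunctor.comp y (dQ f g)) (FibCat.diag f)) y ≅
      BasedFunctor.comp (dTh2 f g y) (FibCat.diag (FibCat.fpFst g f)) :=
  fpIsoMk (iota1 f g y) (iota2 f g y) (fun w => by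
    simp [iota1, iota2, FibCat.diag])

/-- `Θ : 𝒰 ×_{𝒳×𝒳} 𝒳 ⟶ 𝒰 ×_{𝒳'×𝒳'} 𝒳'` -/
def dTh : FibCat.fp (BasedFunctor.comp y (dQ f g)) (FibCat.diag f) ⥤ᵇ
    FibCat.fp y (FibCat.diag (FibCat.fpFst g f)) :=
  FibCat.fpLift (FibCat.fpFst (BasedFunctor.comp y (dQ f g)) (FibCat.diag f)) (dTh2 f g y)
    (dThIso f g y)

theorem dTh_fst : BasedFunctor.comp (dTh f g y) (FibCat.fpFst y (FibCat.diag (FibCat.fpFst g f))) =
    FibCat.fpFst (BasedFunctor.comp y (dQ f g)) (FibCat.diag f) := rfl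

/-- `Θ ≫ Ξ ≅ 𝟭` -/
def dThXi : BasedFunctor.comp (dTh f g y) (dXi f g y) ≅
    BasedFunctor.id (FibCat.fp (BasedFunctor.comp y (dQ f g)) (FibCat.diag f)) :=
  fpIsoMk (Iso.refl _) (Iso.refl _) (fun w => by
    simp [dTh, dXi, dXiIso, dThIso, diagQ]
    apply fp_mor_ext
    · simp [dQ, iota1, kap1]
    · simp [dQ, iota2, kap2])

/-- `Ξ ≫ Θ₂ ≅ fpSnd` -/
def dXiTh2 : BasedFunctor.comp (dXi f g y) (dTh2 f g y) ≅
    FibCat.fpSnd y (FibCat.diag (FibCat.fpFst g f)) :=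
  fpIsoMk
    (whiskerRightIso (FibCat.fpIso y (FibCat.diag (FibCat.fpFst g f)))
      (BasedFunctor.comp (FibCat.fpFst (FibCat.fpFst g f) (FibCat.fpFst g f)) (FibCat.fpFst g f)))
    (Iso.refl _) (fun w => by
    simp [dXi, dXiIso, dTh2, dTh2Iso, dA, kap1, diagQ, dQ]
    exact fp_hom_w ((FibCat.fpFst (FibCat.fpFst g f) (FibCat.fpFst g f)).map w.obj.iso.hom))

/-- `Ξ ≫ Θ ≅ 𝟭` -/
def dXiTh : BasedFunctor.comp (dXi f g y) (dTh f g y) ≅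
    BasedFunctor.id (FibCat.fp y (FibCat.diag (FibCat.fpFst g f))) :=
  fpIsoMk (Iso.refl _) (dXiTh2 f g y) (fun w => by
    simp only [dTh, dThIso, dXiTh2, id_obj', Iso.refl_hom, app_id, comp_obj', Functor.map_id,
      Category.id_comp, fpLift_obj_iso_hom]
    apply fp_mor_ext
    · apply fp_mor_ext
      · simp [iota1, FibCat.diag]
        exact (Category.id_comp _).symm
      · simp [iota1, FibCat.diag, kap1, dXi, dXiIso, diagQ, dQ]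
        exact (Category.comp_id _).symm
    · apply fp_mor_ext
      · simp [iota2, FibCat.diag]
        have hw := fp_hom_w w.obj.iso.hom
        simp [FibCat.diag] at hw
        rw [hw]
        exact (Iso.inv_hom_id_assoc _ _).symm
      · simp [iota2, FibCat.diag, kap2, dXi, dXiIso, diagQ, dQ]
        exact (Category.comp_id _).symm)

theorem isEquivOver_dTh : FibCat.IsEquivOver (dTh f g y) :=
  ⟨dXi f g y, ⟨dThXi f g y⟩, ⟨dXiTh f g y⟩⟩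

end

end Groth.Agent.Lib.Helper66.StackDiag
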