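import Groth.Prelude.Def_AlgSt3
import Groth.Agent.Lib.Helper66.StackDiag

/-!
# The diagonal of a base change `𝒴' ×_𝒴 𝒳 ⟶ 𝒴'` inherits representability properties of the diagonal of `𝒳 ⟶ 𝒴`
-/

set_option autoImplicit false
set_option backward.isDefEq.respectTransparency false
set_option backward.isDefEq.respectTransparency.types false
universe w'' v'' w' v' w v u

open CategoryTheory AlgebraicGeometry

namespace Groth.Agent.Lib.Helper66.AlgStDiag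

open Groth.Agent.Lib.Helper66.StackBC Groth.Agent.Lib.Helper66.StackDiag

variable {S : Scheme.{u}} {𝒳 : BasedCategory.{v, w} (Over S)} {𝒴 : BasedCategory.{v', w'} (Over S)}
  {𝒴' : BasedCategory.{v'', w''} (Over S)}

/-- The diagonal of the base change of `f` along `g` is representable with property `P` if the diagonal
of `f` is. -/
theorem repByAlgSpWith_diag_fpFst (P : MorphismProperty (AlgSp.Sp S)) (f : 𝒳 ⥤ᵇ 𝒴) (g : 𝒴' ⥤ᵇ 𝒴)
    (h : AlgSt.RepByAlgSpWith P (FibCat.diag f)) :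
    AlgSt.RepByAlgSpWith P (FibCat.diag (FibCat.fpFst g f)) := by
  intro U y
  obtain ⟨F, e, he, hP⟩ := h U (BasedFunctor.comp y (dQ f g))
  exact ⟨F, BasedFunctor.comp e (dTh f g y), isEquivOver_comp he (isEquivOver_dTh f g y), hP⟩

theorem isDMMor_fpFst (f : 𝒳 ⥤ᵇ 𝒴) (g : 𝒴' ⥤ᵇ 𝒴) (h : AlgSt.IsDMMor f) :
    AlgSt.IsDMMor (FibCat.fpFst g f) := repByAlgSpWith_diag_fpFst _ f g h

theorem isQuasiDMMor_fpFst (f : 𝒳 ⥤ᵇ 𝒴) (g : 𝒴' ⥤ᵇ 𝒴) (h : AlgSt.IsQuasiDMMor f) :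
    AlgSt.IsQuasiDMMor (FibCat.fpFst g f) := repByAlgSpWith_diag_fpFst _ f g h

theorem isSeparatedMor_fpFst (f : 𝒳 ⥤ᵇ 𝒴) (g : 𝒴' ⥤ᵇ 𝒴) (h : AlgSt.IsSeparatedMor f) :
    AlgSt.IsSeparatedMor (FibCat.fpFst g f) := repByAlgSpWith_diag_fpFst _ f g h

theorem isQuasiSeparatedMor_fpFst (f : 𝒳 ⥤ᵇ 𝒴) (g : 𝒴' ⥤ᵇ 𝒴) (h : AlgSt.IsQuasiSeparatedMor f) :
    AlgSt.IsQuasiSeparatedMor (FibCat.fpFst g f) := repByAlgSpWith_diag_fpFst _ f g h

end Groth.Agent.Lib.Helper66.AlgStDiag
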