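import Groth.Prelude.Def_FibCat2
import Groth.Agent.Lib.Helper66.StackDiag

/-!
# The comparison `𝒳 ×_𝒵 𝒴 ⟶ 𝒳 ×_𝒯 𝒴` is a base change of the diagonal of `𝒵 ⟶ 𝒯`
-/

set_option autoImplicit false
set_option backward.isDefEq.respectTransparency false
set_option backward.isDefEq.respectTransparency.types false
universe v₈ u₈ v₇ u₇ v₆ u₆ v₅ u₅ v₄ u₄ v₃ u₃ v₂ u₂ v u

open CategoryTheory

namespace Groth.Agent.Lib.Helper66.StackCmp

open Groth.Agent.Lib.Helper90.LiftSqComp Groth.Agent.Lib.Helper90.LiftSqFp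
open Groth.Agent.Lib.Helper66.StackBC Groth.Agent.Lib.Helper66.StackDiag

variable {C : Type u} [Category.{v} C]
  {𝒳 : BasedCategory.{v₄, u₄} C} {𝒴 : BasedCategory.{v₅, u₅} C} {𝒵 : BasedCategory.{v₆, u₆} C}
  {𝒯 : BasedCategory.{v₈, u₈} C} {𝒰 : BasedCategory.{v₇, u₇} C}

section Aux
variable {A : Type*} {B : Type*} {D : Type*} [Category A] [Category B] [Category D]

@[reassoc (attr := simp)]
theorem map_map_hom_inv (F : B ⥤ D) (G : A ⥤ B) {a a' : A} (i : a ≅ a') :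
    F.map (G.map i.hom) ≫ F.map (G.map i.inv) = 𝟙 _ := by
  rw [← F.map_comp, ← G.map_comp, i.hom_inv_id, G.map_id, F.map_id]

@[reassoc (attr := simp)]
theorem map_map_inv_hom (F : B ⥤ D) (G : A ⥤ B) {a a' : A} (i : a ≅ a') :
    F.map (G.map i.inv) ≫ F.map (G.map i.hom) = 𝟙 _ := by
  rw [← F.map_comp, ← G.map_comp, i.inv_hom_id, G.map_id, F.map_id]

end Aux

section
variable (f : 𝒳 ⥤ᵇ 𝒵) (g : 𝒴 ⥤ᵇ 𝒵) (t : 𝒵 ⥤ᵇ 𝒯)

/-- `(x, y, ψ : t f x ≅ t g y) ↦ (f x, g y, ψ)` -/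
def cQ : FibCat.fp (BasedFunctor.comp f t) (BasedFunctor.comp g t) ⥤ᵇ FibCat.fp t t :=
  FibCat.fpLift
    (BasedFunctor.comp (FibCat.fpFst (BasedFunctor.comp f t) (BasedFunctor.comp g t)) f)
    (BasedFunctor.comp (FibCat.fpSnd (BasedFunctor.comp f t) (BasedFunctor.comp g t)) g)
    (FibCat.fpIso (BasedFunctor.comp f t) (BasedFunctor.comp g t))

variable (e : BasedFunctor.comp (FibCat.fpFst f g) (BasedFunctor.comp f t) ≅
      BasedFunctor.comp (FibCat.fpSnd f g) (BasedFunctor.comp g t))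
  (y : 𝒰 ⥤ᵇ FibCat.fp (BasedFunctor.comp f t) (BasedFunctor.comp g t))

/-- the comparison functor `i` -/
abbrev cI : FibCat.fp f g ⥤ᵇ FibCat.fp (BasedFunctor.comp f t) (BasedFunctor.comp g t) :=
  FibCat.fpLift (FibCat.fpFst f g) (FibCat.fpSnd f g) e

/-- `λ₁ : f (y u)₁ ≅ z` -/
def cKap1 :
    BasedFunctor.comp (BasedFunctor.comp (BasedFunctor.comp
        (FibCat.fpFst (BasedFunctor.comp y (cQ f g t)) (FibCat.diag t)) y)
        (FibCat.fpFst (BasedFunctor.comp f t) (BasedFunctor.comp g t))) f ≅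
      FibCat.fpSnd (BasedFunctor.comp y (cQ f g t)) (FibCat.diag t) :=
  whiskerRightIso (FibCat.fpIso (BasedFunctor.comp y (cQ f g t)) (FibCat.diag t)) (FibCat.fpFst t t)

/-- `λ₂ : g (y u)₂ ≅ z` -/
def cKap2 :
    BasedFunctor.comp (BasedFunctor.comp (BasedFunctor.comp
        (FibCat.fpFst (BasedFunctor.comp y (cQ f g t)) (FibCat.diag t)) y)
        (FibCat.fpSnd (BasedFunctor.comp f t) (BasedFunctor.comp g t))) g ≅
      FibCat.fpSnd (BasedFunctor.comp y (cQ f g t)) (FibCat.diag t) :=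
  whiskerRightIso (FibCat.fpIso (BasedFunctor.comp y (cQ f g t)) (FibCat.diag t)) (FibCat.fpSnd t t)

/-- `Θ₂ : (u, z, λ) ↦ ((y u)₁, (y u)₂, λ₁ ≫ λ₂⁻¹)` -/
def cTh2 : FibCat.fp (BasedFunctor.comp y (cQ f g t)) (FibCat.diag t) ⥤ᵇ FibCat.fp f g :=
  FibCat.fpLift
    (BasedFunctor.comp (BasedFunctor.comp
        (FibCat.fpFst (BasedFunctor.comp y (cQ f g t)) (FibCat.diag t)) y)
        (FibCat.fpFst (BasedFunctor.comp f t) (BasedFunctor.comp g t)))
    (BasedFunctor.comp (BasedFunctor.comp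
        (FibCat.fpFst (BasedFunctor.comp y (cQ f g t)) (FibCat.diag t)) y)
        (FibCat.fpSnd (BasedFunctor.comp f t) (BasedFunctor.comp g t)))
    (cKap1 f g t y ≪≫ (cKap2 f g t y).symm)

variable (he : ∀ x, app e.hom x = t.map x.obj.iso.hom)

/-- the 2-isomorphism defining `cTh` -/
def cThIso :
    BasedFunctor.comp (FibCat.fpFst (BasedFunctor.comp y (cQ f g t)) (FibCat.diag t)) y ≅
      BasedFunctor.comp (cTh2 f g t y) (cI f g t e) :=
  fpIsoMk (Iso.refl _) (Iso.refl _) (fun w => by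
    simp [cTh2, cKap1, cKap2, he]
    have hw := fp_hom_w w.obj.iso.hom
    simp [cQ, FibCat.diag] at hw
    rw [hw, Category.assoc, map_map_hom_inv]
    exact Category.comp_id _)

/-- `Θ : (u, z, λ) ↦ (u, ((y u)₁, (y u)₂, λ₁ ≫ λ₂⁻¹), 𝟙)` -/
def cTh : FibCat.fp (BasedFunctor.comp y (cQ f g t)) (FibCat.diag t) ⥤ᵇ FibCat.fp y (cI f g t e) :=
  FibCat.fpLift (FibCat.fpFst (BasedFunctor.comp y (cQ f g t)) (FibCat.diag t)) (cTh2 f g t y)
    (cThIso f g t e y he)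

theorem cTh_fst : BasedFunctor.comp (cTh f g t e y he) (FibCat.fpFst y (cI f g t e)) =
    FibCat.fpFst (BasedFunctor.comp y (cQ f g t)) (FibCat.diag t) := rfl

/-- `f κ₁ ≫ φ : f (y u)₁ ≅ g y'` -/
def cAl :
    BasedFunctor.comp (BasedFunctor.comp (BasedFunctor.comp (FibCat.fpFst y (cI f g t e)) y)
        (FibCat.fpFst (BasedFunctor.comp f t) (BasedFunctor.comp g t))) f ≅
      BasedFunctor.comp (BasedFunctor.comp (FibCat.fpSnd y (cI f g t e)) (FibCat.fpSnd f g)) g :=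
  whiskerRightIso (FibCat.fpIso y (cI f g t e))
      (BasedFunctor.comp (FibCat.fpFst (BasedFunctor.comp f t) (BasedFunctor.comp g t)) f) ≪≫
    whiskerLeftIso (FibCat.fpSnd y (cI f g t e)) (FibCat.fpIso f g)

/-- `g κ₂ : g (y u)₂ ≅ g y'` -/
def cBe :
    BasedFunctor.comp (BasedFunctor.comp (BasedFunctor.comp (FibCat.fpFst y (cI f g t e)) y)
        (FibCat.fpSnd (BasedFunctor.comp f t) (BasedFunctor.comp g t))) g ≅
      BasedFunctor.comp (BasedFunctor.comp (FibCat.fpSnd y (cI f g t e)) (FibCat.fpSnd f g)) g :=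
  whiskerRightIso (FibCat.fpIso y (cI f g t e))
      (BasedFunctor.comp (FibCat.fpSnd (BasedFunctor.comp f t) (BasedFunctor.comp g t)) g)

/-- the 2-isomorphism defining `cXi` -/
def cXiIso :
    BasedFunctor.comp (FibCat.fpFst y (cI f g t e)) (BasedFunctor.comp y (cQ f g t)) ≅
      BasedFunctor.comp (BasedFunctor.comp (BasedFunctor.comp (FibCat.fpSnd y (cI f g t e))
        (FibCat.fpSnd f g)) g) (FibCat.diag t) :=
  fpIsoMk (cAl f g t e y) (cBe f g t e y) (fun w => by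
    simp [cAl, cBe, cQ, FibCat.diag]
    have hw := fp_hom_w w.obj.iso.hom
    simp [he] at hw
    exact hw)

/-- `Ξ : (u, (x, y', φ), κ) ↦ (u, g y', (f κ₁ ≫ φ, g κ₂))` -/
def cXi : FibCat.fp y (cI f g t e) ⥤ᵇ FibCat.fp (BasedFunctor.comp y (cQ f g t)) (FibCat.diag t) :=
  FibCat.fpLift (FibCat.fpFst y (cI f g t e))
    (BasedFunctor.comp (BasedFunctor.comp (FibCat.fpSnd y (cI f g t e)) (FibCat.fpSnd f g)) g)
    (cXiIso f g t e y he)

/-- `Θ ≫ Ξ ≅ 𝟭` -/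
def cThXi : BasedFunctor.comp (cTh f g t e y he) (cXi f g t e y he) ≅
    BasedFunctor.id (FibCat.fp (BasedFunctor.comp y (cQ f g t)) (FibCat.diag t)) :=
  fpIsoMk (Iso.refl _) (cKap2 f g t y) (fun w => by
    simp [cTh, cXi, cXiIso, cThIso, cAl, cBe, cKap2]
    apply fp_mor_ext
    · simp [cQ, FibCat.diag, cTh2, cKap1, cKap2]
    · simp [cQ, FibCat.diag, cTh2, cKap1, cKap2])

/-- `Ξ ≫ Θ₂ ≅ fpSnd` -/
def cXiTh2 : BasedFunctor.comp (cXi f g t e y he) (cTh2 f g t y) ≅ FibCat.fpSnd y (cI f g t e) :=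
  fpIsoMk
    (whiskerRightIso (FibCat.fpIso y (cI f g t e))
      (FibCat.fpFst (BasedFunctor.comp f t) (BasedFunctor.comp g t)))
    (whiskerRightIso (FibCat.fpIso y (cI f g t e))
      (FibCat.fpSnd (BasedFunctor.comp f t) (BasedFunctor.comp g t)))
    (fun w => by
    simp [cXi, cXiIso, cTh2, cAl, cBe, cKap1, cKap2, cQ])

/-- `Ξ ≫ Θ ≅ 𝟭` -/
def cXiTh : BasedFunctor.comp (cXi f g t e y he) (cTh f g t e y he) ≅
    BasedFunctor.id (FibCat.fp y (cI f g t e)) :=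
  fpIsoMk (Iso.refl _) (cXiTh2 f g t e y he) (fun w => by
    simp [cTh, cThIso, cXiTh2]
    apply fp_mor_ext
    · simp
      exact (Category.id_comp _).symm
    · simp
      exact (Category.id_comp _).symm)

theorem isEquivOver_cTh : FibCat.IsEquivOver (cTh f g t e y he) :=
  ⟨cXi f g t e y he, ⟨cThXi f g t e y he⟩, ⟨cXiTh f g t e y he⟩⟩

end

end Groth.Agent.Lib.Helper66.StackCmp
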