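import Groth.Prelude.Def_AlgSt3
import Groth.Agent.Lib.Helper66.StackCmp

/-!
# The comparison `𝒳 ×_𝒵 𝒴 ⟶ 𝒳 ×_𝒯 𝒴` inherits representability properties of the diagonal of `𝒵 ⟶ 𝒯`
-/

set_option autoImplicit false
set_option backward.isDefEq.respectTransparency false
set_option backward.isDefEq.respectTransparency.types false
universe w''' v''' w'' v'' w' v' w v u

open CategoryTheory AlgebraicGeometry

namespace Groth.Agent.Lib.Helper66.AlgStCmp

open Groth.Agent.Lib.Helper66.StackBC Groth.Agent.Lib.Helper66.StackDiag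
open Groth.Agent.Lib.Helper66.StackCmp

variable {S : Scheme.{u}} {𝒳 : BasedCategory.{v, w} (Over S)} {𝒴 : BasedCategory.{v', w'} (Over S)}
  {𝒵 : BasedCategory.{v'', w''} (Over S)} {𝒯 : BasedCategory.{v''', w'''} (Over S)}

/-- The comparison `i : 𝒳 ×_𝒵 𝒴 ⟶ 𝒳 ×_𝒯 𝒴` is representable with property `P` if the diagonal of
`t : 𝒵 ⟶ 𝒯` is. -/
theorem repByAlgSpWith_fpComparison (P : MorphismProperty (AlgSp.Sp S))
    (f : 𝒳 ⥤ᵇ 𝒵) (g : 𝒴 ⥤ᵇ 𝒵) (t : 𝒵 ⥤ᵇ 𝒯)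
    (e : BasedFunctor.comp (FibCat.fpFst f g) (BasedFunctor.comp f t) ≅
      BasedFunctor.comp (FibCat.fpSnd f g) (BasedFunctor.comp g t))
    (he : ∀ x, e.hom.toNatTrans.app x = t.map x.obj.iso.hom)
    (h : AlgSt.RepByAlgSpWith P (FibCat.diag t)) :
    AlgSt.RepByAlgSpWith P (FibCat.fpLift (FibCat.fpFst f g) (FibCat.fpSnd f g) e) := by
  intro U y
  obtain ⟨F, e₁, he₁, hP⟩ := h U (BasedFunctor.comp y (cQ f g t))
  exact ⟨F, BasedFunctor.comp e₁ (cTh f g t e y he),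
    isEquivOver_comp he₁ (isEquivOver_cTh f g t e y he), hP⟩

end Groth.Agent.Lib.Helper66.AlgStCmp
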