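import Groth.Prelude.Def_AlgSt3
import Groth.Agent.Lib.Helper66.AlgStCmp
import Groth.Agent.Lib.Helper65.RepWithP

/-!
# The diagonal of a composite `𝒳 ⟶ 𝒴 ⟶ 𝒵` (helper66)

`Δ_{g ∘ f}` is 2-isomorphic to `𝒳 ⟶ 𝒳 ×_𝒴 𝒳 ⟶ 𝒳 ×_𝒵 𝒳`, the second functor being a base change of
`Δ_g`.  Hence, for `P` stable under base change and composition and fppf local on the base, if
`Δ_f` and `Δ_g` are representable by algebraic spaces with `P`, so is `Δ_{g ∘ f}`.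
-/

set_option autoImplicit false
set_option backward.isDefEq.respectTransparency false
set_option backward.isDefEq.respectTransparency.types false
universe u

open CategoryTheory AlgebraicGeometry

namespace Groth.Agent.Lib.Helper66.AlgStDiagComp

open FibCat Groth.Agent.Lib.Helper31 Groth.Agent.Lib.Helper65

variable {S : Scheme.{u}} {𝒳 𝒴 𝒵 : AlgSt.Cat S}

/-- the 2-isomorphism defining the comparison `𝒳 ×_𝒴 𝒳 ⟶ 𝒳 ×_𝒵 𝒳` -/
def cmpIso (f : 𝒳 ⥤ᵇ 𝒴) (g : 𝒴 ⥤ᵇ 𝒵) :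
    BasedFunctor.comp (fpFst f f) (BasedFunctor.comp f g) ≅
      BasedFunctor.comp (fpSnd f f) (BasedFunctor.comp f g) :=
  bWhiskerRightIso (fpIso f f) g

theorem cmpIso_app (f : 𝒳 ⥤ᵇ 𝒴) (g : 𝒴 ⥤ᵇ 𝒵) (x : (fp f f).obj) :
    (cmpIso f g).hom.toNatTrans.app x = g.map x.obj.iso.hom := rfl

/-- the comparison functor `𝒳 ×_𝒴 𝒳 ⟶ 𝒳 ×_𝒵 𝒳` -/
abbrev cmp (f : 𝒳 ⥤ᵇ 𝒴) (g : 𝒴 ⥤ᵇ 𝒵) :
    fp f f ⥤ᵇ fp (BasedFunctor.comp f g) (BasedFunctor.comp f g) :=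
  fpLift (fpFst f f) (fpSnd f f) (cmpIso f g)

/-- `Δ_{g ∘ f} ≅ cmp ∘ Δ_f` -/
def diagCompIso (f : 𝒳 ⥤ᵇ 𝒴) (g : 𝒴 ⥤ᵇ 𝒵) :
    BasedFunctor.comp (diag (BasedFunctor.comp f g)) (BasedFunctor.id _) ≅
      BasedFunctor.comp (BasedFunctor.id _) (BasedFunctor.comp (diag f) (cmp f g)) :=
  BasedNatIso.mkNatIso
    (NatIso.ofComponents
      (fun x => fpIsoMk (X := (diag (BasedFunctor.comp f g)).obj x)
        (Y := (cmp f g).obj ((diag f).obj x)) (Iso.refl _) (Iso.refl _) (by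
          change (BasedFunctor.comp f g).map (𝟙 x) ≫ g.map (𝟙 (f.obj x)) =
            𝟙 _ ≫ (BasedFunctor.comp f g).map (𝟙 x)
          rw [(BasedFunctor.comp f g).map_id, g.map_id]
          rfl))
      (fun {x y} k => by
        apply fp_hom_ext
        · change k ≫ 𝟙 _ = 𝟙 _ ≫ k
          simp
        · change k ≫ 𝟙 _ = 𝟙 _ ≫ k
          simp))
    (fun x => by
      change (fp (BasedFunctor.comp f g) (BasedFunctor.comp f g)).p.IsHomLift (𝟙 (𝒳.p.obj x))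
        (fpIsoMk _ _ _).hom
      rw [fp_isHomLift_iff]
      change 𝒳.p.IsHomLift (𝟙 (𝒳.p.obj x)) (𝟙 x)
      infer_instance)

/-- **The diagonal of a composite.** -/
theorem repByAlgSpWith_diag_comp (P : MorphismProperty (AlgSp.Sp S)) (hPb : StableBC P)
    (hPc : StableComp P) (hP : AlgSp.IsLocalOnBase AlgSp.IsFppfCover P)
    (h𝒳 : IsFibGrpd 𝒳.p) (h𝒴 : IsFibGrpd 𝒴.p)
    (f : 𝒳 ⥤ᵇ 𝒴) (g : 𝒴 ⥤ᵇ 𝒵) (hf : AlgSt.RepByAlgSpWith P (diag f))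
    (hg : AlgSt.RepByAlgSpWith P (diag g)) :
    AlgSt.RepByAlgSpWith P (diag (BasedFunctor.comp f g)) := by
  have hc : AlgSt.RepByAlgSpWith P (cmp f g) :=
    Groth.Agent.Lib.Helper66.AlgStCmp.repByAlgSpWith_fpComparison P f f g (cmpIso f g)
      (cmpIso_app f g) hg
  have hcomp : AlgSt.RepByAlgSpWith P (BasedFunctor.comp (diag f) (cmp f g)) :=
    repByAlgSpWith_comp P hPb hPc hP h𝒳 (isFibGrpd_fp f f h𝒳 h𝒳 h𝒴) (diag f) (cmp f g) hf hc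
  exact repByAlgSpWith_of_square P _ _ (BasedFunctor.id _) (BasedFunctor.id _)
    (isEquivOver_id _) (isEquivOver_id _) (diagCompIso f g) hcomp

end Groth.Agent.Lib.Helper66.AlgStDiagComp
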