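import Groth.Prelude.Def_FibCat2
import Groth.Agent.Lib.Helper66.StackDiag

/-!
# A section of `f` is a base change of the diagonal of `f`
-/

set_option autoImplicit false
set_option backward.isDefEq.respectTransparency false
set_option backward.isDefEq.respectTransparency.types false
universe v₇ u₇ v₆ u₆ v₅ u₅ v₄ u₄ v₃ u₃ v₂ u₂ v u

open CategoryTheory

namespace Groth.Agent.Lib.Helper66.StackSect

open Groth.Agent.Lib.Helper90.LiftSqComp Groth.Agent.Lib.Helper90.LiftSqFp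
open Groth.Agent.Lib.Helper66.StackBC Groth.Agent.Lib.Helper66.StackDiag

variable {C : Type u} [Category.{v} C]
  {𝒳 : BasedCategory.{v₄, u₄} C} {𝒯 : BasedCategory.{v₅, u₅} C}
  {𝒰 : BasedCategory.{v₇, u₇} C}

section
variable (f : 𝒳 ⥤ᵇ 𝒯) (s : 𝒯 ⥤ᵇ 𝒳) (e : BasedFunctor.comp s f ≅ BasedFunctor.id 𝒯)

/-- `x ↦ (x, s f x, e⁻¹ : f x ≅ f s f x)` -/
def sG : 𝒳 ⥤ᵇ FibCat.fp f f :=
  FibCat.fpLift (BasedFunctor.id 𝒳) (BasedFunctor.comp f s) (whiskerLeftIso f e.symm)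

variable (y : 𝒰 ⥤ᵇ 𝒳)

/-- `κ₁ : y u ≅ x` -/
def sKap1 :
    BasedFunctor.comp (FibCat.fpFst (BasedFunctor.comp y (sG f s e)) (FibCat.diag f)) y ≅
      FibCat.fpSnd (BasedFunctor.comp y (sG f s e)) (FibCat.diag f) :=
  whiskerRightIso (FibCat.fpIso (BasedFunctor.comp y (sG f s e)) (FibCat.diag f)) (FibCat.fpFst f f)

/-- `κ₂ : s f y u ≅ x` -/
def sKap2 :
    BasedFunctor.comp (BasedFunctor.comp (FibCat.fpFst (BasedFunctor.comp y (sG f s e)) (FibCat.diag f))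
        (BasedFunctor.comp y f)) s ≅
      FibCat.fpSnd (BasedFunctor.comp y (sG f s e)) (FibCat.diag f) :=
  whiskerRightIso (FibCat.fpIso (BasedFunctor.comp y (sG f s e)) (FibCat.diag f)) (FibCat.fpSnd f f)

/-- `Θ : (u, x, κ) ↦ (u, f y u, κ₁ ≫ κ₂⁻¹)` -/
def sTh : FibCat.fp (BasedFunctor.comp y (sG f s e)) (FibCat.diag f) ⥤ᵇ FibCat.fp y s :=
  FibCat.fpLift (FibCat.fpFst (BasedFunctor.comp y (sG f s e)) (FibCat.diag f))
    (BasedFunctor.comp (FibCat.fpFst (BasedFunctor.comp y (sG f s e)) (FibCat.diag f))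
      (BasedFunctor.comp y f))
    (sKap1 f s e y ≪≫ (sKap2 f s e y).symm)

theorem sTh_fst : BasedFunctor.comp (sTh f s e y) (FibCat.fpFst y s) =
    FibCat.fpFst (BasedFunctor.comp y (sG f s e)) (FibCat.diag f) := rfl

/-- `m : f y u ≅ t`, `m = f φ ≫ e_t` -/
def sM : BasedFunctor.comp (BasedFunctor.comp (FibCat.fpFst y s) y) f ≅ FibCat.fpSnd y s :=
  whiskerRightIso (FibCat.fpIso y s) f ≪≫ whiskerLeftIso (FibCat.fpSnd y s) e

/-- the 2-isomorphism defining `sXi` -/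
def sXiIso : BasedFunctor.comp (FibCat.fpFst y s) (BasedFunctor.comp y (sG f s e)) ≅
    BasedFunctor.comp (BasedFunctor.comp (FibCat.fpSnd y s) s) (FibCat.diag f) :=
  fpIsoMk (FibCat.fpIso y s) (whiskerRightIso (sM f s e y) s) (fun w => by
    simp [sG, sM, FibCat.diag]
    have := app_naturality e.inv (f.map w.obj.iso.hom ≫ app e.hom w.obj.snd)
    simp at this
    exact this)

/-- `Ξ : (u, t, φ) ↦ (u, s t, (φ, s (f φ ≫ e_t)))` -/
def sXi : FibCat.fp y s ⥤ᵇ FibCat.fp (BasedFunctor.comp y (sG f s e)) (FibCat.diag f) :=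
  FibCat.fpLift (FibCat.fpFst y s) (BasedFunctor.comp (FibCat.fpSnd y s) s) (sXiIso f s e y)

/-- `Θ ≫ Ξ ≅ 𝟭` -/
def sThXi : BasedFunctor.comp (sTh f s e y) (sXi f s e y) ≅
    BasedFunctor.id (FibCat.fp (BasedFunctor.comp y (sG f s e)) (FibCat.diag f)) :=
  fpIsoMk (Iso.refl _) (sKap2 f s e y) (fun w => by
    simp [sTh, sXi, sXiIso, sKap1, sKap2, sM]
    apply fp_mor_ext
    · simp [sG, FibCat.diag]
    · simp [sG, FibCat.diag]
      have hw := fp_hom_w w.obj.iso.hom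
      simp [sG, FibCat.diag] at hw
      rw [hw]
      have h2 : s.map (f.map ((FibCat.fpSnd f f).map w.obj.iso.hom)) ≫
          s.map (f.map ((FibCat.fpSnd f f).map w.obj.iso.inv)) = 𝟙 _ := by
        simp only [← Functor.map_comp, Iso.hom_inv_id, Functor.map_id]
      have h3 : s.map (app e.inv (f.obj (y.obj w.obj.fst))) ≫
          s.map (app e.hom (f.obj (y.obj w.obj.fst))) = 𝟙 _ := by
        simp only [← Functor.map_comp, app_inv_hom, Functor.map_id]
      simp only [Functor.map_comp, Category.assoc]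
      rw [reassoc_of% h2, reassoc_of% h3])

/-- `Ξ ≫ Θ ≅ 𝟭` -/
def sXiTh : BasedFunctor.comp (sXi f s e y) (sTh f s e y) ≅ BasedFunctor.id (FibCat.fp y s) :=
  fpIsoMk (Iso.refl _) (sM f s e y) (fun w => by
    simp [sTh, sXi, sXiIso, sKap1, sKap2, sM]
    have h2 : s.map (f.map w.obj.iso.inv) ≫ s.map (f.map w.obj.iso.hom) = 𝟙 _ := by
      simp only [← Functor.map_comp, Iso.inv_hom_id, Functor.map_id]
    have h3 : s.map (app e.inv w.obj.snd) ≫ s.map (app e.hom w.obj.snd) = 𝟙 _ := by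
      simp only [← Functor.map_comp, app_inv_hom, Functor.map_id]
    rw [reassoc_of% h2, h3]
    exact (Category.comp_id _).symm)

theorem isEquivOver_sTh : FibCat.IsEquivOver (sTh f s e y) :=
  ⟨sXi f s e y, ⟨sThXi f s e y⟩, ⟨sXiTh f s e y⟩⟩

end

end Groth.Agent.Lib.Helper66.StackSect
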