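import Groth.Prelude.Def_AlgSt3
import Groth.Agent.Lib.Helper66.StackSect
import Groth.Agent.Lib.Helper66.AlgStDiag

/-!
# Sections and graphs are base changes of diagonals: representability properties
-/

set_option autoImplicit false
set_option backward.isDefEq.respectTransparency false
set_option backward.isDefEq.respectTransparency.types false
universe w'' v'' w' v' w v u

open CategoryTheory AlgebraicGeometry

namespace Groth.Agent.Lib.Helper66.AlgStSect

open Groth.Agent.Lib.Helper66.StackBC Groth.Agent.Lib.Helper66.StackDiag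
open Groth.Agent.Lib.Helper66.StackSect

variable {S : Scheme.{u}} {𝒳 : BasedCategory.{v, w} (Over S)} {𝒯 : BasedCategory.{v', w'} (Over S)}
  {𝒴 : BasedCategory.{v'', w''} (Over S)}

/-- A section `s` of `f` is representable with property `P` if the diagonal of `f` is. -/
theorem repByAlgSpWith_section (P : MorphismProperty (AlgSp.Sp S)) (f : 𝒳 ⥤ᵇ 𝒯) (s : 𝒯 ⥤ᵇ 𝒳)
    (e : BasedFunctor.comp s f ≅ BasedFunctor.id 𝒯)
    (h : AlgSt.RepByAlgSpWith P (FibCat.diag f)) : AlgSt.RepByAlgSpWith P s := by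
  intro U y
  obtain ⟨F, e₁, he, hP⟩ := h U (BasedFunctor.comp y (sG f s e))
  exact ⟨F, BasedFunctor.comp e₁ (sTh f s e y), isEquivOver_comp he (isEquivOver_sTh f s e y), hP⟩

/-- The graph `x ↦ (x, g x)` of `g : 𝒳 ⟶ 𝒴` over `𝒯` is representable with property `P` if the
diagonal of `q : 𝒴 ⟶ 𝒯` is. -/
theorem repByAlgSpWith_graph (P : MorphismProperty (AlgSp.Sp S)) (p : 𝒳 ⥤ᵇ 𝒯) (q : 𝒴 ⥤ᵇ 𝒯)
    (g : 𝒳 ⥤ᵇ 𝒴) (e : BasedFunctor.comp (BasedFunctor.id 𝒳) p ≅ BasedFunctor.comp g q)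
    (h : AlgSt.RepByAlgSpWith P (FibCat.diag q)) :
    AlgSt.RepByAlgSpWith P (FibCat.fpLift (BasedFunctor.id 𝒳) g e) :=
  repByAlgSpWith_section P (FibCat.fpFst p q) (FibCat.fpLift (BasedFunctor.id 𝒳) g e) (Iso.refl _)
    (AlgStDiag.repByAlgSpWith_diag_fpFst P q p h)

end Groth.Agent.Lib.Helper66.AlgStSect
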