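import Groth.Prelude.Def_AlgSt3
import Groth.Agent.Lib.Helper66.AlgStBC
import Groth.Agent.Lib.Helper66.AlgStSect
import Groth.Agent.Lib.Helper65.RepWithP

/-!
# Cancellation for morphisms representable by algebraic spaces with a property (helper66)

If `g ∘ f` and the diagonal of `g` are representable by algebraic spaces with `P` (stable under base
change and composition, fppf local on the base), so is `f`: `f` is the graph `𝒳 ⟶ 𝒳 ×_𝒵 𝒴` (a base
change of the diagonal of `g`) followed by the projection to `𝒴` (a base change of `g ∘ f`).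
-/

set_option autoImplicit false
set_option backward.isDefEq.respectTransparency false
set_option backward.isDefEq.respectTransparency.types false
universe u

open CategoryTheory AlgebraicGeometry

namespace Groth.Agent.Lib.Helper66.AlgStCancel

open FibCat Groth.Agent.Lib.Helper31 Groth.Agent.Lib.Helper65

variable {S : Scheme.{u}} {𝒳 𝒴 𝒵 : AlgSt.Cat S}

theorem repByAlgSpWith_of_comp_of_diag (P : MorphismProperty (AlgSp.Sp S)) (hPb : StableBC P)
    (hPc : StableComp P) (hP : AlgSp.IsLocalOnBase AlgSp.IsFppfCover P)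
    (h𝒳 : IsFibGrpd 𝒳.p) (h𝒴 : IsFibGrpd 𝒴.p) (h𝒵 : IsFibGrpd 𝒵.p)
    (f : 𝒳 ⥤ᵇ 𝒴) (g : 𝒴 ⥤ᵇ 𝒵) (hgf : AlgSt.RepByAlgSpWith P (BasedFunctor.comp f g))
    (hΔ : AlgSt.RepByAlgSpWith P (diag g)) : AlgSt.RepByAlgSpWith P f := by
  have hΓ : AlgSt.RepByAlgSpWith P
      (fpLift (F := BasedFunctor.comp f g) (G := g) (BasedFunctor.id 𝒳) f (Iso.refl _)) :=
    Groth.Agent.Lib.Helper66.AlgStSect.repByAlgSpWith_graph P (BasedFunctor.comp f g) g f
      (Iso.refl _) hΔ
  have h2 : AlgSt.RepByAlgSpWith P (fpSnd (BasedFunctor.comp f g) g) :=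
    Groth.Agent.Lib.Helper66.AlgStBC.repByAlgSpWith_fpSnd P g (BasedFunctor.comp f g) hgf
  exact repByAlgSpWith_comp P hPb hPc hP h𝒳
    (isFibGrpd_fp (BasedFunctor.comp f g) g h𝒳 h𝒴 h𝒵) _ _ hΓ h2

theorem stableBC_top : StableBC (⊤ : MorphismProperty (AlgSp.Sp S)) :=
  fun _ _ _ _ _ _ _ _ _ _ _ _ _ _ => trivial

theorem stableComp_top : StableComp (⊤ : MorphismProperty (AlgSp.Sp S)) :=
  fun _ _ _ _ _ _ _ _ _ _ => trivial

theorem isLocalOnBase_top (τ : AlgSp.CovNotion S) :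
    AlgSp.IsLocalOnBase τ (⊤ : MorphismProperty (AlgSp.Sp S)) :=
  fun _ _ _ _ _ _ _ _ _ _ _ _ _ _ _ => ⟨fun _ _ => trivial, fun _ => trivial⟩

end Groth.Agent.Lib.Helper66.AlgStCancel
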