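import Groth.Agent.Lib.Helper66.AlgStBridge
import Groth.Agent.Lib.Helper66.AlgStDiagComp
import Groth.Agent.Lib.Helper66.AlgStCancel

/-!
# The diagonal of any morphism of algebraic stacks is representable by algebraic spaces
-/

set_option autoImplicit false
set_option backward.isDefEq.respectTransparency false
set_option backward.isDefEq.respectTransparency.types false
universe u

open CategoryTheory CategoryTheory.Limits AlgebraicGeometry Opposite

namespace Groth.Agent.Lib.Helper66.AlgStDiagRep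

open FibCat Groth.Agent.Lib.Helper31 Groth.Agent.Lib.Helper65 Groth.Agent.Lib.Helper66.AlgStCancel
open Groth.Agent.Lib.Helper66.AlgStBridge Groth.Agent.Lib.Helper66.AlgStDiagComp

variable {S : Scheme.{u}} {𝒳 𝒴 : AlgSt.Cat S}

/-- the diagonal of a morphism representable by algebraic spaces is representable by algebraic spaces -/
theorem repByAlgSpWith_top_diag_of_rep (f : 𝒳 ⥤ᵇ 𝒴) (hf : AlgSt.RepByAlgSpWith ⊤ f) :
    AlgSt.RepByAlgSpWith ⊤ (FibCat.diag f) :=
  repByAlgSpWith_diag_of_rep ⊤ ⊤ stableBC_top f hf (fun _ _ _ _ => trivial)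

/-- For categories fibred in groupoids whose (absolute) diagonals are representable by algebraic spaces, the
diagonal of every functor between them is representable by algebraic spaces. -/
theorem repByAlgSp1_diag (h𝒳 : IsFibGrpd 𝒳.p) (h𝒴 : IsFibGrpd 𝒴.p)
    (hΔ𝒳 : AlgSt.RepByAlgSp1 (FibCat.diag (FibCat.toSelf 𝒳)))
    (hΔ𝒴 : AlgSt.RepByAlgSp1 (FibCat.diag (FibCat.toSelf 𝒴))) (f : 𝒳 ⥤ᵇ 𝒴) :
    AlgSt.RepByAlgSp1 (FibCat.diag f) := by
  rw [repByAlgSp1_iff_top] at hΔ𝒳 hΔ𝒴 ⊢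
  let g : 𝒴 ⥤ᵇ selfOver (Over S) := FibCat.toSelf 𝒴
  have h1 : AlgSt.RepByAlgSpWith ⊤ (FibCat.diag (BasedFunctor.comp f g)) :=
    (repByAlgSpWith_diag_of_equiv ⊤ (F := FibCat.toSelf 𝒳) (F' := BasedFunctor.comp f g)
      (BasedFunctor.id _) (BasedFunctor.id _) (isEquivOver_id _) (isEquivOver_id _) (toSelfIso f)).2 hΔ𝒳
  have h2 : AlgSt.RepByAlgSpWith ⊤ (cmp f g) :=
    Groth.Agent.Lib.Helper66.AlgStCmp.repByAlgSpWith_fpComparison ⊤ f f g (cmpIso f g)
      (cmpIso_app f g) hΔ𝒴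
  have h3 : AlgSt.RepByAlgSpWith ⊤ (FibCat.diag (cmp f g)) := repByAlgSpWith_top_diag_of_rep _ h2
  have h4 : AlgSt.RepByAlgSpWith ⊤ (BasedFunctor.comp (FibCat.diag f) (cmp f g)) :=
    repByAlgSpWith_of_square' ⊤ _ _ (BasedFunctor.id _) (BasedFunctor.id _)
      (isEquivOver_id _) (isEquivOver_id _) (diagCompIso f g) h1
  have hS : IsFibGrpd (selfOver (Over S)).p := isFibGrpd_selfOver
  exact repByAlgSpWith_of_comp_of_diag ⊤ stableBC_top stableComp_top (isLocalOnBase_top _)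
    h𝒳 (isFibGrpd_fp f f h𝒳 h𝒳 h𝒴)
    (isFibGrpd_fp (BasedFunctor.comp f g) (BasedFunctor.comp f g) h𝒳 h𝒳 hS) (FibCat.diag f) (cmp f g) h4 h3

end Groth.Agent.Lib.Helper66.AlgStDiagRep
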