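import Groth.Prelude.Def_AlgSt4
import Groth.Agent.Lib.Helper65.FpPaste
import Groth.Agent.Lib.Helper66.StackBC

/-!
# Post-composition with an equivalence over the base: `RepByAlgSpWith`, quasi-compactness
-/

set_option autoImplicit false
set_option backward.isDefEq.respectTransparency false
set_option backward.isDefEq.respectTransparency.types false
universe w''' v''' w'' v'' w' v' w v u

open CategoryTheory AlgebraicGeometry

namespace Groth.Agent.Lib.Helper66.AlgStEquiv

open Groth.Agent.Lib.Helper65 Groth.Agent.Lib.Helper90.LiftSqComp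

variable {S : Scheme.{u}} {𝒰 : BasedCategory.{v, w} (Over S)} {𝒜 : BasedCategory.{v', w'} (Over S)}
  {ℬ : BasedCategory.{v'', w''} (Over S)}

/-- `RepByAlgSpWith P` is stable under post-composition with an equivalence over the base. -/
theorem repByAlgSpWith_comp_equiv (P : MorphismProperty (AlgSp.Sp S)) (x : 𝒰 ⥤ᵇ 𝒜) (E : 𝒜 ⥤ᵇ ℬ)
    (hE : FibCat.IsEquivOver E) (hx : AlgSt.RepByAlgSpWith P x) :
    AlgSt.RepByAlgSpWith P (BasedFunctor.comp x E) := by
  obtain ⟨Φ, -, -, ⟨e₂⟩⟩ := exists_inverse_equivOver E hE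
  intro V y
  obtain ⟨F, e, he, hP⟩ := hx V (BasedFunctor.comp y Φ)
  let α : BasedFunctor.comp (BasedFunctor.comp y Φ) E ≅ BasedFunctor.comp (BasedFunctor.id _) y :=
    whiskerLeftIso y e₂
  let Ψ : FibCat.fp (BasedFunctor.comp y Φ) x ⥤ᵇ FibCat.fp y (BasedFunctor.comp x E) :=
    fpMap (F := BasedFunctor.comp y Φ) (G := x) (F' := y) (G' := BasedFunctor.comp x E)
      (BasedFunctor.id _) (BasedFunctor.id _) E α (Iso.refl _)
  have hΨ : FibCat.IsEquivOver Ψ :=
    fpMap_isEquivOver _ _ _ _ _ (isEquivOver_id _) (isEquivOver_id _) hE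
  exact ⟨F, BasedFunctor.comp e Ψ, StackBC.isEquivOver_comp he hΨ, hP⟩

/-- Quasi-compactness is invariant under equivalences over the base. -/
theorem isQuasiCompact_of_equivOver (E : 𝒜 ⥤ᵇ ℬ) (hE : FibCat.IsEquivOver E)
    (h : AlgSt.IsQuasiCompact 𝒜) : AlgSt.IsQuasiCompact ℬ := by
  obtain ⟨U, x, hU, h1, h2⟩ := h
  exact ⟨U, BasedFunctor.comp x E, hU, repByAlgSpWith_comp_equiv _ x E hE h1,
    repByAlgSpWith_comp_equiv _ x E hE h2⟩

end Groth.Agent.Lib.Helper66.AlgStEquiv
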