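import Groth.Agent.Lib.Helper66.AlgStLocQSq

/-!
# Chart squares with algebraic spaces versus chart squares with schemes
-/

set_option autoImplicit false
set_option backward.isDefEq.respectTransparency false
set_option backward.isDefEq.respectTransparency.types false
universe u

open CategoryTheory CategoryTheory.Limits AlgebraicGeometry Opposite

namespace Groth.Agent.Lib.Helper66.AlgStLocQSq

open FibCat Groth.Agent.Lib.Helper31 Groth.Agent.Lib.Helper65 Groth.Agent.Lib.Helper66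

variable {S : Scheme.{u}} {𝒳 𝒴 : AlgSt.Cat S}

/-- The functor of a morphism of algebraic spaces with `Q` is representable with `Q`. -/
theorem repByAlgSpWith_ofSpMap_of_prop (Q : MorphismProperty (AlgSp.Sp S)) (hQb : StableBC Q)
    {V Z : AlgSp.Space S} (p : V.obj ⟶ Z.obj) (hp : Q p) : AlgSt.RepByAlgSpWith Q (AlgSt.ofSpMap p) :=
  repByAlgSpWith_of_repBySpWith p.hom Q (repBySpWith_of_prop Q hQb (V := V) (Z := Z) p hp)

/-- A chart square with algebraic spaces gives a chart square with schemes. -/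
theorem locQ_of_space_square (P : MorphismProperty (AlgSp.Sp S)) (hP : AlgSp.IsSmoothLocalST P)
    (h𝒳 : IsFibGrpd 𝒳.p) (h𝒴 : IsFibGrpd 𝒴.p) (f : 𝒳 ⥤ᵇ 𝒴)
    (U V : AlgSp.Space S) (x : AlgSt.ofSp U.obj ⥤ᵇ 𝒳) (y : AlgSt.ofSp V.obj ⥤ᵇ 𝒴) (h : U ⟶ V)
    (α : BasedFunctor.comp x f ≅ BasedFunctor.comp (AlgSt.ofSpMap h.hom) y)
    (hx : AlgSt.RepByAlgSpWith (AlgSp.LocP @Smooth) x) (hxs : AlgSt.RepByAlgSpWith AlgSp.IsSurjectiveMor x)
    (hy : AlgSt.RepByAlgSpWith (AlgSp.LocP @Smooth) y) (hh : P h.hom) : AlgSt.LocQ P f := by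
  obtain ⟨V', q, hqe, hqs⟩ := V.property.atlas
  let fst := pullback.fst h.hom q
  let snd := pullback.snd h.hom q
  have sq : IsPullback fst snd h.hom q := IsPullback.of_hasPullback _ _
  have hW : AlgSp.IsAlgSpace (pullback h.hom q) :=
    Groth.Agent.H52.isAlgSpace_of_isPullback sq U.property V.property (AlgSp.IsAlgSpace.yon_obj V')
  obtain ⟨U', p, hpe, hps⟩ := hW.atlas
  obtain ⟨k, hk⟩ := (AlgSp.yon S).map_surjective (p ≫ snd)
  have hfe : AlgSp.RepWith @Etale fst := (AlgSp.RepWith @Etale).of_isPullback sq.flip hqe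
  have hfs : AlgSp.RepWith @Surjective fst := (AlgSp.RepWith @Surjective).of_isPullback sq.flip hqs
  have hpfe : AlgSp.RepWith @Etale (p ≫ fst) := (AlgSp.RepWith @Etale).comp_mem _ _ hpe hfe
  have hpfs : AlgSp.RepWith @Surjective (p ≫ fst) := (AlgSp.RepWith @Surjective).comp_mem _ _ hps hfs
  let x₀ : FibCat.overCat U' ⥤ᵇ 𝒳 := BasedFunctor.comp (chartFunctor (p ≫ fst)) x
  let y₀ : FibCat.overCat V' ⥤ᵇ 𝒴 := BasedFunctor.comp (chartFunctor q) y
  have hx₀ : AlgSt.RepByAlgSpWith (AlgSp.LocP @Smooth) x₀ := chart_comp_smooth h𝒳 U _ hpfe x hx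
  have hx₀s : AlgSt.RepByAlgSpWith AlgSp.IsSurjectiveMor x₀ := chart_comp_surjective h𝒳 U _ hpfs x hxs
  have hy₀ : AlgSt.RepByAlgSpWith (AlgSp.LocP @Smooth) y₀ := chart_comp_smooth h𝒴 V _ hqe y hy
  have hsnd : P snd := hP.baseChange U.property V.property hW (AlgSp.IsAlgSpace.yon_obj V') h.hom q snd fst sq
    (locP_smooth_of_repWith_etale q hqe) hh
  have hPk : P ((AlgSp.yon S).map k) := by
    rw [hk]
    exact hP.precomp (AlgSp.IsAlgSpace.yon_obj U') hW (AlgSp.IsAlgSpace.yon_obj V') p snd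
      (locP_smooth_of_repWith_etale p hpe) hsnd
  have e2 : BasedFunctor.comp (chartFunctor (p ≫ fst)) (BasedFunctor.comp (AlgSt.ofSpMap h.hom) y) =
      BasedFunctor.comp (AlgSt.overMap k) y₀ := by
    change BasedFunctor.comp (chartFunctor ((p ≫ fst) ≫ h.hom)) y = _
    have : (p ≫ fst) ≫ h.hom = (AlgSp.yon S).map k ≫ q := by
      rw [Category.assoc, sq.w, ← Category.assoc, hk]
    rw [this]
    rfl
  exact ⟨U', V', x₀, y₀, k, bWhiskerLeftIso (chartFunctor (p ≫ fst)) α ≪≫ eqToIso e2, hx₀, hx₀s, hy₀, hPk⟩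

/-- A chart square with schemes is a chart square with algebraic spaces. -/
theorem exists_space_square_of_locQ (P : MorphismProperty (AlgSp.Sp S)) (f : 𝒳 ⥤ᵇ 𝒴)
    (hf : AlgSt.LocQ P f) :
    ∃ (U V : AlgSp.Space S) (x : AlgSt.ofSp U.obj ⥤ᵇ 𝒳) (y : AlgSt.ofSp V.obj ⥤ᵇ 𝒴) (h : U ⟶ V)
      (_ : BasedFunctor.comp x f ≅ BasedFunctor.comp (AlgSt.ofSpMap h.hom) y),
      AlgSt.RepByAlgSpWith (AlgSp.LocP @Smooth) x ∧ AlgSt.RepByAlgSpWith AlgSp.IsSurjectiveMor x ∧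
      AlgSt.RepByAlgSpWith (AlgSp.LocP @Smooth) y ∧ P h.hom := by
  obtain ⟨U, V, x, y, k, α, hx, hxs, hy, hk⟩ := hf
  let UU : AlgSp.Space S := ⟨(AlgSp.yon S).obj U, AlgSp.IsAlgSpace.yon_obj U⟩
  let VV : AlgSp.Space S := ⟨(AlgSp.yon S).obj V, AlgSp.IsAlgSpace.yon_obj V⟩
  let kk : UU ⟶ VV := ObjectProperty.homMk ((AlgSp.yon S).map k)
  have e : BasedFunctor.comp (AlgSt.toOverCat U) (BasedFunctor.comp (AlgSt.overMap k) y) =
      BasedFunctor.comp (AlgSt.ofSpMap kk.hom) (BasedFunctor.comp (AlgSt.toOverCat V) y) := rfl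
  exact ⟨UU, VV, BasedFunctor.comp (AlgSt.toOverCat U) x, BasedFunctor.comp (AlgSt.toOverCat V) y, kk,
    bWhiskerLeftIso (AlgSt.toOverCat U) α ≪≫ eqToIso e,
    repByAlgSpWith_toOverCat_comp _ x hx, repByAlgSpWith_toOverCat_comp _ x hxs,
    repByAlgSpWith_toOverCat_comp _ y hy, hk⟩

/-- For a representable morphism with `P`, the property can be read on a chart square. -/
theorem locQ_of_repByAlgSpWith (P : MorphismProperty (AlgSp.Sp S)) (hP : AlgSp.IsSmoothLocalST P)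
    (h𝒳 : IsFibGrpd 𝒳.p) (h𝒴 : IsFibGrpd 𝒴.p) (hatlas : AlgSt.HasAtlas (AlgSp.LocP @Smooth) 𝒴)
    (f : 𝒳 ⥤ᵇ 𝒴) (hf : AlgSt.RepByAlgSpWith P f) : AlgSt.LocQ P f := by
  obtain ⟨V, y, hy1, hy2⟩ := hatlas
  obtain ⟨G, e, he, ha⟩ := hf V y
  let VV : AlgSp.Space S := ⟨(AlgSp.yon S).obj V, AlgSp.IsAlgSpace.yon_obj V⟩
  let a : G ⟶ VV := ObjectProperty.homMk (AlgSt.spMapOfOver (BasedFunctor.comp e (fpFst y f)))
  have hx1 : AlgSt.RepByAlgSpWith (AlgSp.LocP @Smooth) (BasedFunctor.comp e (fpSnd y f)) :=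
    repByAlgSpWith_equiv_comp _ e he _ (Groth.Agent.Lib.Helper66.AlgStBC.repByAlgSpWith_fpSnd _ f y hy1)
  have hx2 : AlgSt.RepByAlgSpWith AlgSp.IsSurjectiveMor (BasedFunctor.comp e (fpSnd y f)) :=
    repByAlgSpWith_equiv_comp _ e he _ (Groth.Agent.Lib.Helper66.AlgStBC.repByAlgSpWith_fpSnd _ f y hy2)
  let i1 : BasedFunctor.comp (BasedFunctor.comp e (fpSnd y f)) f ≅
      BasedFunctor.comp (BasedFunctor.comp e (fpFst y f)) y :=
    bWhiskerLeftIso e (fpIso y f).symm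
  let i2 : BasedFunctor.comp (BasedFunctor.comp e (fpFst y f)) y ≅
      BasedFunctor.comp (BasedFunctor.comp (AlgSt.ofSpMap a.hom) (AlgSt.toOverCat V)) y :=
    bWhiskerRightIso (isoSpMapOfOver (BasedFunctor.comp e (fpFst y f))) y
  exact locQ_of_space_square P hP h𝒳 h𝒴 f G VV (BasedFunctor.comp e (fpSnd y f))
    (BasedFunctor.comp (AlgSt.toOverCat V) y) a (i1 ≪≫ i2) hx1 hx2 (repByAlgSpWith_toOverCat_comp _ y hy1) ha

end Groth.Agent.Lib.Helper66.AlgStLocQSq
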