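import Groth.Prelude.Def_AlgSt3
import Groth.Agent.Lib.Helper65.RepWithP
import Groth.Agent.Lib.Helper66.AlgStBC
import Groth.Agent.Lib.Helper66.AlgStSect
import Groth.Agent.Lib.Helper66.AlgStCmp

/-!
# Composition / cancellation for `RepByAlgSpWith P` when `P` is detected on schemes (helper66)

Variant of `Lib/Helper65/RepWithP` in which "fppf local on the base" is replaced by the weaker
`Detected P`: a morphism of algebraic spaces all of whose base changes to schemes have `P` has `P`.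
This holds for fppf-local `P` (`detected_of_isLocalOnBase`) and, without any descent, for properties
defined by testing on (affine) schemes (`IsAffineMor`, `IsIntegralMor`, `IsFiniteMor`, `RepWith Q`).
-/

set_option autoImplicit false
set_option backward.isDefEq.respectTransparency false
set_option backward.isDefEq.respectTransparency.types false
universe u

open CategoryTheory CategoryTheory.Functor CategoryTheory.Limits Opposite AlgebraicGeometry

namespace Groth.Agent.Lib.Helper66.RepWithPDet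

open FibCat Groth.Agent.Lib.Helper31 Groth.Agent.Lib.Helper65

variable {S : Scheme.{u}}

/-- `P` is detected after base change to schemes -/
def Detected (P : MorphismProperty (AlgSp.Sp S)) : Prop :=
  ∀ {V Z : AlgSp.Space S} (a : V.obj ⟶ Z.obj), AlgSp.RepBySpWith (restrictSp P) a.hom → P a

theorem detected_of_isLocalOnBase (P : MorphismProperty (AlgSp.Sp S))
    (hP : AlgSp.IsLocalOnBase AlgSp.IsFppfCover P) : Detected P := fun a h =>
  (prop_of_repBySpWith (restrictSp P) (restrictSp_isLocalOnBase P hP) a h).1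

variable {𝒳 𝒴 𝒵 : AlgSt.Cat S} (P : MorphismProperty (AlgSp.Sp S))

/-- Key lemma (after helper65): a morphism representable by algebraic spaces with `P` (tested on schemes)
has `P` after base change to any algebraic space. -/
theorem exists_rep_ofSp_of_repByAlgSpWith (hPb : StableBC P) (hP : Detected P)
    (h𝒳 : IsFibGrpd 𝒳.p) (h𝒴 : IsFibGrpd 𝒴.p)
    (f : 𝒳 ⥤ᵇ 𝒴) (hf : AlgSt.RepByAlgSpWith P f) (Z : AlgSp.Space S) (z : AlgSt.ofSp Z.obj ⥤ᵇ 𝒴) :
    ∃ (V : AlgSp.Space S) (a : V ⟶ Z) (e : AlgSt.ofSp V.obj ⥤ᵇ fp z f), IsEquivOver e ∧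
      Nonempty (BasedFunctor.comp e (fpFst z f) ≅ AlgSt.ofSpMap a.hom) ∧ P a.hom := by
  have hf' : AlgSt.RepByAlgSpWith (restrictSp P) f := (repByAlgSpWith_restrictSp_iff P f).2 hf
  have hπ' : AlgSt.RepByAlgSpWith (restrictSp P) (fpFst z f) := repByAlgSpWith_fpFst _ f z hf'
  have hπ : AlgSt.RepByAlgSp1 (fpFst z f) := by
    intro U y
    obtain ⟨F, e, he, -⟩ := hπ' U y
    exact ⟨F, e, he⟩
  have hfib : IsFibGrpd (fp z f).p := isFibGrpd_fp z f (Stk.isFibGrpd_ofPsh _) h𝒳 h𝒴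
  obtain ⟨V, a, E, hE, ⟨i⟩⟩ := exists_space_of_repByAlgSp1_ofSp hfib Z (fpFst z f) hπ
  refine ⟨V, a, E, hE, ⟨i⟩, ?_⟩
  have h1 : AlgSt.RepByAlgSpWith (restrictSp P) (Stk.ofPshMap a.hom.hom) :=
    repByAlgSpWith_of_square (restrictSp P) (fpFst z f) (Stk.ofPshMap a.hom.hom) E (BasedFunctor.id _) hE
      (isEquivOver_id _) i.symm hπ'
  have := restrictSp_respectsIso P hPb
  have h2 : AlgSp.RepBySpWith (restrictSp P) a.hom.hom :=
    repBySpWith_of_repByAlgSpWith a.hom.hom (restrictSp P) (repBySp_of_space a.hom) h1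
  exact hP a.hom h2

/-- Composition of morphisms representable by algebraic spaces with property `P`. -/
theorem repByAlgSpWith_comp (hPb : StableBC P) (hPc : StableComp P) (hP : Detected P)
    (h𝒳 : IsFibGrpd 𝒳.p) (h𝒴 : IsFibGrpd 𝒴.p)
    (f : 𝒳 ⥤ᵇ 𝒴) (g : 𝒴 ⥤ᵇ 𝒵) (hf : AlgSt.RepByAlgSpWith P f) (hg : AlgSt.RepByAlgSpWith P g) :
    AlgSt.RepByAlgSpWith P (BasedFunctor.comp f g) := by
  intro U z
  obtain ⟨G, eG, heG, hb⟩ := hg U z
  let yG : AlgSt.ofSp G.obj ⥤ᵇ 𝒴 := BasedFunctor.comp eG (fpSnd z g)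
  obtain ⟨V, a, E, hE, ⟨i⟩, hPa⟩ := exists_rep_ofSp_of_repByAlgSpWith P hPb hP h𝒳 h𝒴 f hf G yG
  let Φ : fp yG f ⥤ᵇ fp (fpSnd z g) f :=
    fpMap (F := yG) (G := f) (F' := fpSnd z g) (G' := f) eG (BasedFunctor.id _) (BasedFunctor.id _)
      (Iso.refl _) (Iso.refl _)
  have hΦ : IsEquivOver Φ := fpMap_isEquivOver _ _ _ _ _ heG (isEquivOver_id _) (isEquivOver_id _)
  let Ψ : AlgSt.ofSp V.obj ⥤ᵇ fp z (BasedFunctor.comp f g) :=
    BasedFunctor.comp (BasedFunctor.comp E Φ) (fpPasteSnd z g f)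
  have hΨ : IsEquivOver Ψ :=
    isEquivOver_comp _ _ (isEquivOver_comp E Φ hE hΦ) (fpPasteSnd_isEquivOver z g f)
  refine ⟨V, Ψ, hΨ, ?_⟩
  have j : BasedFunctor.comp Ψ (fpFst z (BasedFunctor.comp f g)) ≅
      BasedFunctor.comp (AlgSt.ofSpMap a.hom) (BasedFunctor.comp eG (fpFst z g)) :=
    bWhiskerRightIso i (BasedFunctor.comp eG (fpFst z g))
  rw [spMapOfOver_congr j, spMapOfOver_ofSpMap_comp]
  exact hPc V.property G.property (AlgSp.IsAlgSpace.yon_obj U) a.hom _ hPa hb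

/-- Cancellation: if `g ∘ f` and the diagonal of `g` have `P`, so does `f`. -/
theorem repByAlgSpWith_of_comp_of_diag (hPb : StableBC P) (hPc : StableComp P) (hP : Detected P)
    (h𝒳 : IsFibGrpd 𝒳.p) (h𝒴 : IsFibGrpd 𝒴.p) (h𝒵 : IsFibGrpd 𝒵.p)
    (f : 𝒳 ⥤ᵇ 𝒴) (g : 𝒴 ⥤ᵇ 𝒵) (hgf : AlgSt.RepByAlgSpWith P (BasedFunctor.comp f g))
    (hΔ : AlgSt.RepByAlgSpWith P (diag g)) : AlgSt.RepByAlgSpWith P f := by
  have hΓ : AlgSt.RepByAlgSpWith P
      (fpLift (F := BasedFunctor.comp f g) (G := g) (BasedFunctor.id 𝒳) f (Iso.refl _)) :=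
    Groth.Agent.Lib.Helper66.AlgStSect.repByAlgSpWith_graph P (BasedFunctor.comp f g) g f
      (Iso.refl _) hΔ
  have h2 : AlgSt.RepByAlgSpWith P (fpSnd (BasedFunctor.comp f g) g) :=
    Groth.Agent.Lib.Helper66.AlgStBC.repByAlgSpWith_fpSnd P g (BasedFunctor.comp f g) hgf
  exact repByAlgSpWith_comp P hPb hPc hP h𝒳
    (isFibGrpd_fp (BasedFunctor.comp f g) g h𝒳 h𝒴 h𝒵) _ _ hΓ h2

/-- transport of `RepByAlgSpWith` along a 2-isomorphism -/
theorem repByAlgSpWith_of_iso {f f' : 𝒳 ⥤ᵇ 𝒴} (e : f' ≅ f) (hf : AlgSt.RepByAlgSpWith P f) :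
    AlgSt.RepByAlgSpWith P f' := by
  refine repByAlgSpWith_of_square P f f' (BasedFunctor.id _) (BasedFunctor.id _)
    (isEquivOver_id _) (isEquivOver_id _) ?_ hf
  exact e

end Groth.Agent.Lib.Helper66.RepWithPDet
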