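import Groth.Agent.Lib.Helper66.AlgStBridge
import Groth.Agent.Lib.Helper66.AlgStDiag
import Groth.Agent.Lib.Helper66.RepWithPDet

/-!
# Converse of the bridge: properties of the diagonal of `f` pass to the diagonals of its base changes to schemes
-/

set_option autoImplicit false
set_option backward.isDefEq.respectTransparency false
set_option backward.isDefEq.respectTransparency.types false
universe u

open CategoryTheory CategoryTheory.Limits AlgebraicGeometry Opposite

namespace Groth.Agent.Lib.Helper66.AlgStBridgeConv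

open FibCat Groth.Agent.Lib.Helper31 Groth.Agent.Lib.Helper65 Groth.Agent.Lib.Helper66.RepWithPDet
open Groth.Agent.Lib.Helper66.AlgStBridge

variable {S : Scheme.{u}} {𝒳 𝒴 : AlgSt.Cat S}

/-- A morphism of algebraic spaces whose functor is representable with `P` has `P`. -/
theorem prop_of_repByAlgSpWith_ofSpMap (P : MorphismProperty (AlgSp.Sp S)) (hPb : StableBC P)
    (hP : Detected P) {V Z : AlgSp.Space S} (b : V.obj ⟶ Z.obj)
    (h : AlgSt.RepByAlgSpWith P (AlgSt.ofSpMap b)) : P b := by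
  have h' : AlgSt.RepByAlgSpWith (restrictSp P) (Stk.ofPshMap b.hom) :=
    (repByAlgSpWith_restrictSp_iff P _).2 h
  have := restrictSp_respectsIso P hPb
  exact hP b (repBySpWith_of_repByAlgSpWith b.hom (restrictSp P) (repBySp_of_space b) h')

/-- If the diagonal of `f` has `P`, so has the diagonal of every base change of `f` to a scheme. -/
theorem prop_diagonal_of_repByAlgSpWith_diag (P : MorphismProperty (AlgSp.Sp S)) (hPb : StableBC P)
    (hP : Detected P) (f : 𝒳 ⥤ᵇ 𝒴) (hdiag : AlgSt.RepByAlgSpWith P (FibCat.diag f))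
    (U : Over S) (y : FibCat.overCat U ⥤ᵇ 𝒴) (V : AlgSp.Space S)
    (e : AlgSt.ofSp V.obj ⥤ᵇ FibCat.fp y f) (he : IsEquivOver e) :
    P (pullback.diagonal (AlgSt.spMapOfOver (BasedFunctor.comp e (FibCat.fpFst y f)))) := by
  let a : V.obj ⟶ (AlgSp.yon S).obj U := AlgSt.spMapOfOver (BasedFunctor.comp e (FibCat.fpFst y f))
  let Z : AlgSp.Space S := ⟨(AlgSp.yon S).obj U, AlgSp.IsAlgSpace.yon_obj U⟩
  have h1 : AlgSt.RepByAlgSpWith P (FibCat.diag (FibCat.fpFst y f)) :=
    Groth.Agent.Lib.Helper66.AlgStDiag.repByAlgSpWith_diag_fpFst P f y hdiag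
  have h2 : AlgSt.RepByAlgSpWith P (FibCat.diag (AlgSt.ofSpMap a)) :=
    (repByAlgSpWith_diag_of_equiv P (F := AlgSt.ofSpMap a) (F' := FibCat.fpFst y f) e (AlgSt.toOverCat U) he
      (toOverCat_isEquivOver U) (isoSpMapOfOver (BasedFunctor.comp e (FibCat.fpFst y f))).symm).1 h1
  have h3 : AlgSt.RepByAlgSpWith P (AlgSt.ofSpMap (pullback.diagonal a)) :=
    repByAlgSpWith_of_square P (FibCat.diag (AlgSt.ofSpMap a))
      (AlgSt.ofSpMap (pullback.diagonal a)) (BasedFunctor.id _) (pbLift (sq_presheaf a).w)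
      (isEquivOver_id _) (pbLift_isEquivOver (sq_presheaf a)) (diagIso a) h2
  have hD : AlgSp.IsAlgSpace (pullback a a) :=
    Groth.Agent.H52.isAlgSpace_of_isPullback (IsPullback.of_hasPullback a a) V.property Z.property
      V.property
  exact prop_of_repByAlgSpWith_ofSpMap P hPb hP (V := V) (Z := ⟨pullback a a, hD⟩) (pullback.diagonal a) h3

theorem stableBC_univSp (Q : MorphismProperty (AlgSp.Sp S)) : StableBC (AlgSp.UnivSp Q) := by
  intro X₁ Y₁ X₂ Y₂ _ _ _ _ a b a' b' sq ha Z Z' hZ g fst snd sq2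
  exact ha hZ (g ≫ b) (fst ≫ b') snd (sq2.paste_horiz sq)

end Groth.Agent.Lib.Helper66.AlgStBridgeConv
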