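import Groth.Agent.Lib.Helper66.AlgStQC
import Groth.Agent.Lib.Helper66.AlgStBridgeConv
import Groth.Agent.Lib.Helper65.SpaceDM
import Groth.Agent.Lib.Helper65.RepBC
import Groth.Agent.Lib.Helper65.RepDesc3
import Groth.Agent.S9917
import Groth.Agent.S9914

/-!
# Quasi-compact morphisms of algebraic stacks, converse direction
-/

set_option autoImplicit false
set_option backward.isDefEq.respectTransparency false
set_option backward.isDefEq.respectTransparency.types false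
universe u

open CategoryTheory CategoryTheory.Limits AlgebraicGeometry Opposite

namespace Groth.Agent.Lib.Helper66.AlgStQC2

open FibCat Groth.Agent.Lib.Helper31 Groth.Agent.Lib.Helper65
open Groth.Agent.Lib.Helper66.RepWithPDet

variable {S : Scheme.{u}} {𝒳 𝒴 𝒯 : AlgSt.Cat S}

theorem isSurjectiveMor_of_iso {F G : AlgSp.Sp S} (i : F ≅ G) : AlgSp.IsSurjectiveMor i.hom := by
  intro y
  refine ⟨AlgSp.Points.map i.inv y, ?_⟩
  rw [← AlgSp.Points.map_comp, i.inv_hom_id, AlgSp.Points.map_id]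

/-- The category of an algebraic space `F` is quasi-compact only if `F` is. -/
theorem isQuasiCompactSp_of_isQuasiCompact (F : AlgSp.Space S)
    (h : AlgSt.IsQuasiCompact (AlgSt.ofSp F.obj)) : AlgSp.IsQuasiCompactSp F.obj := by
  obtain ⟨U, x, hU, -, hx2⟩ := h
  have : CompactSpace ↥U.left := inferInstance
  let YU : AlgSp.Space S := ⟨(AlgSp.yon S).obj U, AlgSp.IsAlgSpace.yon_obj U⟩
  let x' : AlgSt.ofSp YU.obj ⥤ᵇ AlgSt.ofSp F.obj := BasedFunctor.comp (AlgSt.toOverCat U) x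
  have hx2' : AlgSt.RepByAlgSpWith AlgSp.IsSurjectiveMor x' := repByAlgSpWith_toOverCat_comp _ x hx2
  let b : YU.obj ⟶ F.obj := ObjectProperty.homMk (pshMapOf x')
  have hb : AlgSt.RepByAlgSpWith AlgSp.IsSurjectiveMor (AlgSt.ofSpMap b) :=
    repByAlgSpWith_of_iso _ (isoOfPshMap x').symm hx2'
  have hs : AlgSp.IsSurjectiveMor b :=
    Groth.Agent.Lib.Helper66.AlgStBridgeConv.prop_of_repByAlgSpWith_ofSpMap _ stableBC_isSurjectiveMor
      (detected_of_isLocalOnBase _ isLocalOnBase_fppf_isSurjectiveMor) (V := YU) (Z := F) b hb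
  exact Groth.Agent.S9914.result (X := YU) (Y := F) (ObjectProperty.homMk b) hs
    (Groth.Agent.Lib.Helper66.AlgStQC.isQuasiCompactSp_yon_of_isAffine U)

/-- The category of an affine scheme is a quasi-compact algebraic stack. -/
theorem isQuasiCompact_ofSp_yon (Z : Over S) [IsAffine Z.left] :
    AlgSt.IsQuasiCompact (AlgSt.ofSp ((AlgSp.yon S).obj Z)) := by
  let ZZ : AlgSp.Space S := ⟨(AlgSp.yon S).obj Z, AlgSp.IsAlgSpace.yon_obj Z⟩
  have hsm : AlgSp.LocP @Smooth (𝟙 ZZ.obj) := by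
    have h1 : AlgSp.RepWith @Smooth (𝟙 ZZ.obj) := by
      have := Groth.Agent.Lib.Helper54.isMultiplicative_smooth.{u}
      exact AlgSp.repWith_id (S := S) @Smooth Z
    exact (Groth.Agent.H52.isEtLocal_of_list _ (Or.inr (Or.inr (Or.inr (Or.inl rfl))))).locP_of_repWith' _ h1
  have hsj : AlgSp.IsSurjectiveMor (𝟙 ZZ.obj) := isSurjectiveMor_of_iso (Iso.refl _)
  exact ⟨Z, BasedFunctor.comp (AlgSt.ofOverCat Z) (AlgSt.ofSpMap (𝟙 ZZ.obj)), inferInstance,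
    repByAlgSpWith_of_prop _ stableBC_locP_smooth ZZ Z (𝟙 _) hsm,
    repByAlgSpWith_of_prop _ stableBC_isSurjectiveMor ZZ Z (𝟙 _) hsj⟩

/-- If the base change of `f` to every quasi-compact algebraic stack is quasi-compact, every base change of `f`
to a scheme is a quasi-compact morphism of algebraic spaces. -/
theorem repByAlgSpWith_isQuasiCompactMor (h𝒳 : IsFibGrpd 𝒳.p) (h𝒴 : IsFibGrpd 𝒴.p)
    (f : 𝒳 ⥤ᵇ 𝒴) (hf : AlgSt.RepByAlgSp1 f)
    (hqc : AlgSt.IsQuasiCompactMor Scheme.fppfPrecoverage f) :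
    AlgSt.RepByAlgSpWith AlgSp.IsQuasiCompactMor f := by
  intro U y
  let YU : AlgSp.Space S := ⟨(AlgSp.yon S).obj U, AlgSp.IsAlgSpace.yon_obj U⟩
  let y₁ : AlgSt.ofSp YU.obj ⥤ᵇ 𝒴 := BasedFunctor.comp (AlgSt.toOverCat U) y
  obtain ⟨F, c, E₁, hE₁, ⟨i₁⟩⟩ := exists_space_fp h𝒳 h𝒴 f hf YU y₁
  let Φ : fp y₁ f ⥤ᵇ fp y f :=
    fpMap (F := y₁) (G := f) (F' := y) (G' := f) (AlgSt.toOverCat U)
      (BasedFunctor.id _) (BasedFunctor.id _) (Iso.refl _) (Iso.refl _)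
  have hΦ : IsEquivOver Φ :=
    fpMap_isEquivOver _ _ _ _ _ (toOverCat_isEquivOver U) (isEquivOver_id _) (isEquivOver_id _)
  refine ⟨F, BasedFunctor.comp E₁ Φ, isEquivOver_comp E₁ Φ hE₁ hΦ, ?_⟩
  have j : BasedFunctor.comp (BasedFunctor.comp E₁ Φ) (fpFst y f) ≅
      BasedFunctor.comp (AlgSt.ofSpMap c.hom) (AlgSt.toOverCat U) :=
    bWhiskerRightIso i₁ (AlgSt.toOverCat U)
  rw [spMapOfOver_congr j, spMapOfOver_ofSpMap_toOverCat]
  refine (Groth.Agent.S9917.result (X := F) (Y := YU) c).2 ?_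
  intro Z hZ g P fst snd sq
  let ZZ : AlgSp.Space S := ⟨(AlgSp.yon S).obj Z, AlgSp.IsAlgSpace.yon_obj Z⟩
  have hT : AlgSt.IsAlgStack Scheme.fppfPrecoverage (AlgSt.ofSp ZZ.obj) := (isDM_ofSp ZZ).1
  have hTqc : AlgSt.IsQuasiCompact (AlgSt.ofSp ZZ.obj) := isQuasiCompact_ofSp_yon Z
  let y₂ : AlgSt.ofSp ZZ.obj ⥤ᵇ 𝒴 := BasedFunctor.comp (AlgSt.ofSpMap g) y₁
  obtain ⟨F₂, c₂, E₂, hE₂, ⟨i₂⟩⟩ := exists_space_fp h𝒳 h𝒴 f hf ZZ y₂
  obtain ⟨b', sq'⟩ := exists_isPullback_of_fp f y₁ E₁ hE₁ c.hom i₁ g y₂ (Iso.refl _) E₂ hE₂ c₂.hom i₂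
  have h1 : AlgSt.IsQuasiCompact (fp y₂ f) := hqc _ hT hTqc y₂
  obtain ⟨Einv, hEinv, -, -⟩ := exists_inverse_equivOver E₂ hE₂
  have h2 : AlgSt.IsQuasiCompact (AlgSt.ofSp F₂.obj) :=
    Groth.Agent.Lib.Helper66.AlgStEquiv.isQuasiCompact_of_equivOver Einv hEinv h1
  have h3 : AlgSp.IsQuasiCompactSp F₂.obj := isQuasiCompactSp_of_isQuasiCompact F₂ h2
  -- transport along the isomorphism of pullbacks
  let ι : F₂.obj ≅ P := sq'.isoIsPullback _ _ sq
  have hP : AlgSp.IsAlgSpace P :=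
    Groth.Agent.H52.isAlgSpace_of_isPullback sq F.property YU.property ZZ.property
  exact Groth.Agent.S9914.result (X := F₂) (Y := ⟨P, hP⟩) (ObjectProperty.homMk ι.hom)
    (isSurjectiveMor_of_iso ι) h3

end Groth.Agent.Lib.Helper66.AlgStQC2
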