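import Groth.Agent.Lib.Helper66.AlgStQC
import Groth.Agent.Lib.Helper65.DiagRep
import Groth.Agent.Lib.Helper65.SpaceDM
import Groth.Agent.Lib.Helper65.LocalProps

/-!
# Products of quasi-compact stacks over a quasi-separated base
-/

set_option autoImplicit false
set_option backward.isDefEq.respectTransparency false
set_option backward.isDefEq.respectTransparency.types false
universe u

open CategoryTheory CategoryTheory.Limits AlgebraicGeometry Opposite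

namespace Groth.Agent.Lib.Helper66.AlgStQC3

open FibCat Groth.Agent.Lib.Helper31 Groth.Agent.Lib.Helper65

variable {S : Scheme.{u}} {𝒳 𝒴 𝒯 : AlgSt.Cat S}

theorem compactSpace_prod_left [QuasiSeparatedSpace S] (U V : Over S) [CompactSpace ↥U.left]
    [CompactSpace ↥V.left] : CompactSpace ↥(U ⨯ V).left := by
  have : QuasiCompact U.hom := inferInstance
  have h : CompactSpace ↥(pullback U.hom V.hom) := inferInstance
  exact (Scheme.homeoOfIso (Over.prodLeftIsoPullback U V)).symm.compactSpace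

/-- The map `𝒰 ×_𝒮 𝒱 ⟶ 𝒯 ×_𝒮 𝒳` induced by `x : 𝒰 ⟶ 𝒯` and `v : 𝒱 ⟶ 𝒳` with `P`, as a composite of two
base changes. -/
theorem exists_prodMap {𝒰 𝒱 𝒮 : AlgSt.Cat S} (P : MorphismProperty (AlgSp.Sp S)) (hPb : StableBC P)
    (hPc : StableComp P) (hPl : AlgSp.IsLocalOnBase AlgSp.IsFppfCover P)
    (h𝒰 : IsFibGrpd 𝒰.p) (h𝒱 : IsFibGrpd 𝒱.p) (h𝒯 : IsFibGrpd 𝒯.p) (h𝒳 : IsFibGrpd 𝒳.p)
    (h𝒮 : IsFibGrpd 𝒮.p)
    (a : 𝒯 ⥤ᵇ 𝒮) (b : 𝒳 ⥤ᵇ 𝒮) (x : 𝒰 ⥤ᵇ 𝒯) (v : 𝒱 ⥤ᵇ 𝒳)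
    (hx : AlgSt.RepByAlgSpWith P x) (hv : AlgSt.RepByAlgSpWith P v) :
    ∃ q : fp (BasedFunctor.comp x a) (BasedFunctor.comp v b) ⥤ᵇ fp a b, AlgSt.RepByAlgSpWith P q := by
  obtain ⟨Ψ₁, hΨ₁, -, -⟩ := exists_inverse_equivOver (fpPasteFst x a (BasedFunctor.comp v b))
    (fpPasteFst_isEquivOver x a (BasedFunctor.comp v b))
  obtain ⟨Ψ₂, hΨ₂, -, -⟩ := exists_inverse_equivOver (fpPasteSnd a b v) (fpPasteSnd_isEquivOver a b v)
  let q₁ : fp (BasedFunctor.comp x a) (BasedFunctor.comp v b) ⥤ᵇ fp a (BasedFunctor.comp v b) :=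
    BasedFunctor.comp Ψ₁ (fpSnd x (fpFst a (BasedFunctor.comp v b)))
  let q₂ : fp a (BasedFunctor.comp v b) ⥤ᵇ fp a b :=
    BasedFunctor.comp Ψ₂ (fpFst (fpSnd a b) v)
  have hq₁ : AlgSt.RepByAlgSpWith P q₁ :=
    repByAlgSpWith_equiv_comp _ Ψ₁ hΨ₁ _
      (Groth.Agent.Lib.Helper66.AlgStBC.repByAlgSpWith_fpSnd _ (fpFst a (BasedFunctor.comp v b)) x hx)
  have hq₂ : AlgSt.RepByAlgSpWith P q₂ :=
    repByAlgSpWith_equiv_comp _ Ψ₂ hΨ₂ _ (repByAlgSpWith_fpFst _ v (fpSnd a b) hv)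
  have hV' : IsFibGrpd (fp a (BasedFunctor.comp v b)).p := isFibGrpd_fp _ _ h𝒯 h𝒱 h𝒮
  have hU' : IsFibGrpd (fp (BasedFunctor.comp x a) (BasedFunctor.comp v b)).p :=
    isFibGrpd_fp _ _ h𝒰 h𝒱 h𝒮
  exact ⟨BasedFunctor.comp q₁ q₂, repByAlgSpWith_comp _ hPb hPc hPl hU' hV' q₁ q₂ hq₁ hq₂⟩

/-- Over a quasi-separated base the product of two quasi-compact stacks is quasi-compact. -/
theorem isQuasiCompact_prod [QuasiSeparatedSpace S] (h𝒯 : IsFibGrpd 𝒯.p) (h𝒳 : IsFibGrpd 𝒳.p)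
    (h : 𝒯 ⥤ᵇ 𝒴) (f : 𝒳 ⥤ᵇ 𝒴) (hT : AlgSt.IsQuasiCompact 𝒯) (hX : AlgSt.IsQuasiCompact 𝒳) :
    AlgSt.IsQuasiCompact (fp (BasedFunctor.comp h (toSelf 𝒴)) (BasedFunctor.comp f (toSelf 𝒴))) := by
  obtain ⟨U, x, hU, hx1, hx2⟩ := hT
  obtain ⟨V, v, hV, hv1, hv2⟩ := hX
  have hS : IsFibGrpd (selfOver (Over S)).p := isFibGrpd_selfOver
  have hUf : IsFibGrpd (FibCat.overCat U).p := isFibGrpd_overForget U
  have hVf : IsFibGrpd (FibCat.overCat V).p := isFibGrpd_overForget V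
  let s := toSelf 𝒴
  obtain ⟨y, hy⟩ := exists_prodSlice_equiv (BasedFunctor.comp x h) (BasedFunctor.comp v f)
  have hsm := stableComp_locP (S := S) @Smooth (Or.inr (Or.inr (Or.inr (Or.inl rfl))))
  -- one map with both properties
  obtain ⟨Ψ₁, hΨ₁, -, -⟩ := exists_inverse_equivOver
    (fpPasteFst x (BasedFunctor.comp h s) (BasedFunctor.comp v (BasedFunctor.comp f s)))
    (fpPasteFst_isEquivOver x (BasedFunctor.comp h s) (BasedFunctor.comp v (BasedFunctor.comp f s)))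
  obtain ⟨Ψ₂, hΨ₂, -, -⟩ := exists_inverse_equivOver
    (fpPasteSnd (BasedFunctor.comp h s) (BasedFunctor.comp f s) v)
    (fpPasteSnd_isEquivOver (BasedFunctor.comp h s) (BasedFunctor.comp f s) v)
  let a := BasedFunctor.comp h s
  let b := BasedFunctor.comp f s
  let q₁ : fp (BasedFunctor.comp x a) (BasedFunctor.comp v b) ⥤ᵇ fp a (BasedFunctor.comp v b) :=
    BasedFunctor.comp Ψ₁ (fpSnd x (fpFst a (BasedFunctor.comp v b)))
  let q₂ : fp a (BasedFunctor.comp v b) ⥤ᵇ fp a b :=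
    BasedFunctor.comp Ψ₂ (fpFst (fpSnd a b) v)
  have hV' : IsFibGrpd (fp a (BasedFunctor.comp v b)).p := isFibGrpd_fp _ _ h𝒯 hVf hS
  have hU' : IsFibGrpd (fp (BasedFunctor.comp x a) (BasedFunctor.comp v b)).p :=
    isFibGrpd_fp _ _ hUf hVf hS
  have key : ∀ (P : MorphismProperty (AlgSp.Sp S)), StableBC P → StableComp P →
      AlgSp.IsLocalOnBase AlgSp.IsFppfCover P → AlgSt.RepByAlgSpWith P x → AlgSt.RepByAlgSpWith P v →
      AlgSt.RepByAlgSpWith P (BasedFunctor.comp y (BasedFunctor.comp q₁ q₂)) := by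
    intro P hPb hPc hPl hx hv
    have hq₁ : AlgSt.RepByAlgSpWith P q₁ :=
      repByAlgSpWith_equiv_comp _ Ψ₁ hΨ₁ _
        (Groth.Agent.Lib.Helper66.AlgStBC.repByAlgSpWith_fpSnd _ (fpFst a (BasedFunctor.comp v b)) x hx)
    have hq₂ : AlgSt.RepByAlgSpWith P q₂ :=
      repByAlgSpWith_equiv_comp _ Ψ₂ hΨ₂ _ (repByAlgSpWith_fpFst _ v (fpSnd a b) hv)
    exact repByAlgSpWith_equiv_comp _ y hy _
      (repByAlgSpWith_comp _ hPb hPc hPl hU' hV' q₁ q₂ hq₁ hq₂)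
  have : CompactSpace ↥U.left := inferInstance
  have : CompactSpace ↥V.left := inferInstance
  have := compactSpace_prod_left U V
  exact isQuasiCompact_of_compact_chart (isFibGrpd_fp a b h𝒯 h𝒳 hS) (U ⨯ V) _
    (key _ stableBC_locP_smooth hsm isLocalOnBase_fppf_locP_smooth hx1 hv1)
    (key _ stableBC_isSurjectiveMor stableComp_isSurjectiveMor isLocalOnBase_fppf_isSurjectiveMor hx2 hv2)

end Groth.Agent.Lib.Helper66.AlgStQC3
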