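import Groth.Agent.Lib.Helper65.AlgStRep
import Groth.Agent.Lib.Helper65.FpStack
import Groth.Agent.Lib.Helper66.AlgStDiag
import Groth.Agent.Lib.Helper66.AlgStDiagRep

/-!
# 2-fibre products of algebraic stacks are algebraic stacks
-/

set_option autoImplicit false
set_option backward.isDefEq.respectTransparency false
set_option backward.isDefEq.respectTransparency.types false
universe u

open CategoryTheory CategoryTheory.Limits AlgebraicGeometry Opposite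

namespace Groth.Agent.Lib.Helper66.AlgStFp

open FibCat Groth.Agent.Lib.Helper31 Groth.Agent.Lib.Helper65

variable {S : Scheme.{u}} {𝒳 𝒴 𝒵 : AlgSt.Cat S}

/-- every `(Sch/T) ⟶ 𝒳 ×_𝒵 𝒴` is representable by algebraic spaces -/
theorem repByAlgSp1_diag_fp (h𝒵 : IsFibGrpd 𝒵.p)
    (hΔ : AlgSt.RepByAlgSp1 (FibCat.diag (FibCat.toSelf 𝒵)))
    (h𝒳 : IsFibGrpd 𝒳.p) (hΔ𝒳 : AlgSt.RepByAlgSp1 (FibCat.diag (FibCat.toSelf 𝒳)))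
    (h𝒴 : IsFibGrpd 𝒴.p) (hΔ𝒴 : AlgSt.RepByAlgSp1 (FibCat.diag (FibCat.toSelf 𝒴)))
    (f : 𝒳 ⥤ᵇ 𝒵) (g : 𝒴 ⥤ᵇ 𝒵) :
    AlgSt.RepByAlgSp1 (FibCat.diag (FibCat.toSelf (FibCat.fp f g))) := by
  apply repByAlgSp1_diag_of_all
  intro U x
  rw [repByAlgSp1_iff_top]
  have hΔg : AlgSt.RepByAlgSpWith ⊤ (FibCat.diag g) :=
    (repByAlgSp1_iff_top _).1
      (Groth.Agent.Lib.Helper66.AlgStDiagRep.repByAlgSp1_diag h𝒴 h𝒵 hΔ𝒴 hΔ g)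
  exact Groth.Agent.Lib.Helper66.AlgStCancel.repByAlgSpWith_of_comp_of_diag ⊤
    Groth.Agent.Lib.Helper66.AlgStCancel.stableBC_top
    Groth.Agent.Lib.Helper66.AlgStCancel.stableComp_top
    (Groth.Agent.Lib.Helper66.AlgStCancel.isLocalOnBase_top _)
    (isFibGrpd_overForget U) (isFibGrpd_fp f g h𝒳 h𝒴 h𝒵) h𝒳 x (fpFst f g)
    ((repByAlgSp1_iff_top _).1 (repByAlgSp1_of_diag hΔ𝒳 U (BasedFunctor.comp x (fpFst f g))))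
    (Groth.Agent.Lib.Helper66.AlgStDiag.repByAlgSpWith_diag_fpFst ⊤ g f hΔg)

/-- a smooth atlas of `𝒳 ×_𝒵 𝒴` -/
theorem hasAtlas_fp (h𝒵 : IsFibGrpd 𝒵.p)
    (hΔ : AlgSt.RepByAlgSp1 (FibCat.diag (FibCat.toSelf 𝒵)))
    (h𝒳 : IsFibGrpd 𝒳.p) (ha𝒳 : AlgSt.HasAtlas (AlgSp.LocP @Smooth) 𝒳)
    (h𝒴 : IsFibGrpd 𝒴.p) (ha𝒴 : AlgSt.HasAtlas (AlgSp.LocP @Smooth) 𝒴)
    (f : 𝒳 ⥤ᵇ 𝒵) (g : 𝒴 ⥤ᵇ 𝒵) :
    AlgSt.HasAtlas (AlgSp.LocP @Smooth) (FibCat.fp f g) := by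
  obtain ⟨V, v, hv1, hv2⟩ := ha𝒴
  have hV : IsFibGrpd (FibCat.overCat V).p := isFibGrpd_overForget V
  let b : FibCat.overCat V ⥤ᵇ 𝒵 := BasedFunctor.comp v g
  have hb : AlgSt.RepByAlgSp1 b := repByAlgSp1_of_diag hΔ V b
  -- `𝒬 = 𝒳 ×_𝒵 V` has an atlas
  have hQfib : IsFibGrpd (fp f b).p := isFibGrpd_fp f b h𝒳 hV h𝒵
  have hj : AlgSt.RepByAlgSp1 (fpFst f b) :=
    (repByAlgSp1_iff_top _).2 (repByAlgSpWith_fpFst ⊤ b f ((repByAlgSp1_iff_top _).1 hb))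
  obtain ⟨W, w, hw1, hw2⟩ := exists_chart_of_repByAlgSp1 hQfib (fpFst f b) hj ha𝒳
  -- `𝒬 ≃ 𝒫 ×_𝒴 V`
  have hE := fpPasteSnd_isEquivOver f g v
  obtain ⟨Einv, hEinv, -, -⟩ := exists_inverse_equivOver _ hE
  have hRfib : IsFibGrpd (fp (fpSnd f g) v).p :=
    isFibGrpd_fp (fpSnd f g) v (isFibGrpd_fp f g h𝒳 h𝒴 h𝒵) hV h𝒴
  let c : fp f b ⥤ᵇ fp f g := BasedFunctor.comp Einv (fpFst (fpSnd f g) v)
  have hc1 : AlgSt.RepByAlgSpWith (AlgSp.LocP @Smooth) c :=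
    repByAlgSpWith_equiv_comp _ Einv hEinv _ (repByAlgSpWith_fpFst _ v (fpSnd f g) hv1)
  have hc2 : AlgSt.RepByAlgSpWith AlgSp.IsSurjectiveMor c :=
    repByAlgSpWith_equiv_comp _ Einv hEinv _ (repByAlgSpWith_fpFst _ v (fpSnd f g) hv2)
  refine ⟨W, BasedFunctor.comp w c, ?_, ?_⟩
  · exact repByAlgSpWith_comp _ stableBC_locP_smooth
      (stableComp_locP _ (Or.inr (Or.inr (Or.inr (Or.inl rfl)))))
      isLocalOnBase_fppf_locP_smooth (isFibGrpd_overForget W) hQfib w c hw1 hc1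
  · exact repByAlgSpWith_comp _ stableBC_isSurjectiveMor stableComp_isSurjectiveMor
      isLocalOnBase_fppf_isSurjectiveMor (isFibGrpd_overForget W) hQfib w c hw2 hc2

end Groth.Agent.Lib.Helper66.AlgStFp
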