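import Groth.Agent.Lib.Helper66.AlgStQC2
import Groth.Agent.Lib.Helper65.StUniv
import Groth.Agent.Lib.Helper65.StQC
import Groth.Agent.Lib.Helper65.FpSwap
import Groth.Agent.S12763
import Groth.Agent.S12825

/-!
# Quasi-compactness of a morphism of algebraic stacks descends along fppf covers of the target
-/

set_option autoImplicit false
set_option backward.isDefEq.respectTransparency false
set_option backward.isDefEq.respectTransparency.types false
universe u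

open CategoryTheory CategoryTheory.Limits AlgebraicGeometry Opposite

namespace Groth.Agent.Lib.Helper66.AlgStQC4

open FibCat Groth.Agent.Lib.Helper31 Groth.Agent.Lib.Helper65

variable {S : Scheme.{u}} {𝒳 𝒴 𝒯 : AlgSt.Cat S}

/-- A flat, locally finitely presented chart of a quasi-compact stack which is surjective on points has a
quasi-compact open part which is still surjective on points. -/
theorem exists_compact_open_chart (h𝒯 : IsFibGrpd 𝒯.p)
    (hatlas : AlgSt.HasAtlas (AlgSp.LocP @Smooth) 𝒯) (hqc : AlgSt.IsQuasiCompact 𝒯)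
    (V : Over S) (c : FibCat.overCat V ⥤ᵇ 𝒯)
    (hc₁ : AlgSt.RepByAlgSpWith (AlgSp.LocP @Flat) c)
    (hc₂ : AlgSt.RepByAlgSpWith (AlgSp.LocP @LocallyOfFinitePresentation) c)
    (hsurj : Function.Surjective (AlgSt.Points.ofChart c)) :
    ∃ (V' : Over S) (g : V' ⟶ V), CompactSpace ↥V'.left ∧ IsOpenImmersion g.left ∧
      AlgSt.IsSurjective (BasedFunctor.comp (AlgSt.overMap g) c) := by
  have := compactSpace_points_of_isQuasiCompact h𝒯 hatlas hqc
  have hopen := isOpenMap_ofChart h𝒯 c hc₁ hc₂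
  obtain ⟨t, ht⟩ := isCompact_univ.elim_finite_subcover
    (fun A : V.left.affineOpens => AlgSt.Points.ofChart c '' (A.1 : Set ↥V.left))
    (fun A => hopen _ A.1.2) (by
      intro z _
      obtain ⟨u, rfl⟩ := hsurj z
      obtain ⟨A, hA, huA, -⟩ :=
        TopologicalSpace.Opens.isBasis_iff_nbhd.1 V.left.isBasis_affineOpens (U := ⊤) (x := u) trivial
      exact Set.mem_iUnion.2 ⟨⟨A, hA⟩, u, huA, rfl⟩)
  let O : V.left.Opens := ⨆ A ∈ t, (A : V.left.affineOpens).1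
  have hO : IsCompact (O : Set ↥V.left) := by
    have : (O : Set ↥V.left) = ⋃ A ∈ t, ((A : V.left.affineOpens).1 : Set ↥V.left) := by
      simp [O]
    rw [this]
    exact t.isCompact_biUnion (fun A _ => A.2.isCompact)
  let V' : Over S := Over.mk (O.ι ≫ V.hom)
  let g : V' ⟶ V := Over.homMk O.ι rfl
  have hV' : CompactSpace ↥V'.left := isCompact_iff_compactSpace.1 hO
  refine ⟨V', g, hV', inferInstanceAs (IsOpenImmersion O.ι), ?_⟩
  intro z
  obtain ⟨A, hAt, u, huA, rfl⟩ : ∃ A ∈ t, z ∈ AlgSt.Points.ofChart c '' (A.1 : Set ↥V.left) := by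
    simpa using ht (Set.mem_univ z)
  have huO : u ∈ O := by
    simp only [O, TopologicalSpace.Opens.mem_iSup]
    exact ⟨A, hAt, huA⟩
  refine ⟨chartPt V' ⟨u, huO⟩, ?_⟩
  rw [← ofChart_eq, ofChart_overMap_comp]
  rfl

/-- The category of a quasi-compact scheme is a quasi-compact stack. -/
theorem isQuasiCompact_overCat (Z : Over S) [CompactSpace ↥Z.left] :
    AlgSt.IsQuasiCompact (FibCat.overCat Z) := by
  let ZZ : AlgSp.Space S := ⟨(AlgSp.yon S).obj Z, AlgSp.IsAlgSpace.yon_obj Z⟩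
  have hsm : AlgSp.LocP @Smooth (𝟙 ZZ.obj) := by
    have h1 : AlgSp.RepWith @Smooth (𝟙 ZZ.obj) := by
      have := Groth.Agent.Lib.Helper54.isMultiplicative_smooth.{u}
      exact AlgSp.repWith_id (S := S) @Smooth Z
    exact (Groth.Agent.H52.isEtLocal_of_list _ (Or.inr (Or.inr (Or.inr (Or.inl rfl))))).locP_of_repWith' _ h1
  have hsj : AlgSp.IsSurjectiveMor (𝟙 ZZ.obj) :=
    Groth.Agent.Lib.Helper66.AlgStQC2.isSurjectiveMor_of_iso (Iso.refl _)
  have h1 : AlgSt.IsQuasiCompact (AlgSt.ofSp ZZ.obj) :=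
    isQuasiCompact_of_compact_chart (Stk.isFibGrpd_ofPsh _) Z
      (BasedFunctor.comp (AlgSt.ofOverCat Z) (AlgSt.ofSpMap (𝟙 ZZ.obj)))
      (repByAlgSpWith_of_prop _ stableBC_locP_smooth ZZ Z (𝟙 _) hsm)
      (repByAlgSpWith_of_prop _ stableBC_isSurjectiveMor ZZ Z (𝟙 _) hsj)
  exact Groth.Agent.Lib.Helper66.AlgStEquiv.isQuasiCompact_of_equivOver (AlgSt.toOverCat Z)
    (toOverCat_isEquivOver Z) h1

/-- Descent of quasi-compactness of `f` along a flat, locally finitely presented, surjective representable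
`w : 𝒲 ⟶ 𝒴` from an algebraic stack. -/
theorem isQuasiCompactMor_of_fpFst {𝒲 : AlgSt.Cat S}
    (h𝒳 : AlgSt.IsAlgStack Scheme.fppfPrecoverage 𝒳) (h𝒴 : AlgSt.IsAlgStack Scheme.fppfPrecoverage 𝒴)
    (h𝒲 : AlgSt.IsAlgStack Scheme.fppfPrecoverage 𝒲) (f : 𝒳 ⥤ᵇ 𝒴) (w : 𝒲 ⥤ᵇ 𝒴)
    (hw₁ : AlgSt.RepByAlgSpWith (AlgSp.LocP @Flat) w)
    (hw₂ : AlgSt.RepByAlgSpWith (AlgSp.LocP @LocallyOfFinitePresentation) w)
    (hw₃ : AlgSt.RepByAlgSpWith AlgSp.IsSurjectiveMor w)
    (hq : AlgSt.IsQuasiCompactMor Scheme.fppfPrecoverage (fpFst w f)) :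
    AlgSt.IsQuasiCompactMor Scheme.fppfPrecoverage f := by
  intro 𝒯 h𝒯 hqc h
  have hT' : AlgSt.IsAlgStack Scheme.fppfPrecoverage (fp h w) :=
    Groth.Agent.S12763.result h𝒴.isStack h𝒴.diag h𝒯 h𝒲 h w
  let t : fp h w ⥤ᵇ 𝒯 := fpFst h w
  have ht₁ : AlgSt.RepByAlgSpWith (AlgSp.LocP @Flat) t := repByAlgSpWith_fpFst _ w h hw₁
  have ht₂ : AlgSt.RepByAlgSpWith (AlgSp.LocP @LocallyOfFinitePresentation) t :=
    repByAlgSpWith_fpFst _ w h hw₂
  have ht₃ : AlgSt.RepByAlgSpWith AlgSp.IsSurjectiveMor t := repByAlgSpWith_fpFst _ w h hw₃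
  obtain ⟨V, v, hv1, hv2⟩ := hT'.atlas
  have hVf : IsFibGrpd (FibCat.overCat V).p := isFibGrpd_overForget V
  let c : FibCat.overCat V ⥤ᵇ 𝒯 := BasedFunctor.comp v t
  have hc₁ : AlgSt.RepByAlgSpWith (AlgSp.LocP @Flat) c :=
    repByAlgSpWith_comp _ (stableBC_locP _ (Or.inr (Or.inr (Or.inl rfl))))
      (stableComp_locP _ (Or.inr (Or.inr (Or.inl rfl)))) isLocalOnBase_fppf_locP_flat hVf hT'.isStack.1
      v t (repByAlgSpWith_mono (locP_mono smooth_le_flat) v hv1) ht₁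
  have hc₂ : AlgSt.RepByAlgSpWith (AlgSp.LocP @LocallyOfFinitePresentation) c :=
    repByAlgSpWith_comp _ (stableBC_locP _ (Or.inr (Or.inl rfl)))
      (stableComp_locP _ (Or.inr (Or.inl rfl))) isLocalOnBase_fppf_locP_lfp hVf hT'.isStack.1
      v t (repByAlgSpWith_mono (locP_mono smooth_le_lfp) v hv1) ht₂
  have hc₃ : AlgSt.RepByAlgSpWith AlgSp.IsSurjectiveMor c :=
    repByAlgSpWith_comp _ stableBC_isSurjectiveMor stableComp_isSurjectiveMor
      isLocalOnBase_fppf_isSurjectiveMor hVf hT'.isStack.1 v t hv2 ht₃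
  obtain ⟨V', g, hV', -, hsurj⟩ := exists_compact_open_chart h𝒯.isStack.1 h𝒯.atlas hqc V c hc₁ hc₂
    (ofChart_surjective h𝒯.isStack.1 c hc₃)
  have hA₀ : AlgSt.IsAlgStack Scheme.fppfPrecoverage (FibCat.overCat V') := isAlgStack_overCat V'
  have hA₀qc : AlgSt.IsQuasiCompact (FibCat.overCat V') := isQuasiCompact_overCat V'
  let k : FibCat.overCat V' ⥤ᵇ fp h w := BasedFunctor.comp (AlgSt.overMap g) v
  let kt : FibCat.overCat V' ⥤ᵇ 𝒯 := BasedFunctor.comp k t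
  let y : FibCat.overCat V' ⥤ᵇ 𝒲 := BasedFunctor.comp k (fpSnd h w)
  -- the quasi-compact stack `𝒜`
  have h1 : AlgSt.IsQuasiCompact (fp y (fpFst w f)) := hq _ hA₀ hA₀qc y
  have h2 : AlgSt.IsQuasiCompact (fp (BasedFunctor.comp y w) f) :=
    Groth.Agent.Lib.Helper66.AlgStEquiv.isQuasiCompact_of_equivOver _ (fpPasteFst_isEquivOver y w f) h1
  let α : BasedFunctor.comp (BasedFunctor.comp y w) (BasedFunctor.id _) ≅
      BasedFunctor.comp (BasedFunctor.id _) (BasedFunctor.comp kt h) :=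
    bWhiskerLeftIso k (fpIso h w).symm
  let Φ : fp (BasedFunctor.comp y w) f ⥤ᵇ fp (BasedFunctor.comp kt h) f :=
    fpMap (F := BasedFunctor.comp y w) (G := f) (F' := BasedFunctor.comp kt h) (G' := f)
      (BasedFunctor.id _) (BasedFunctor.id _) (BasedFunctor.id _) α (Iso.refl _)
  have hΦ : IsEquivOver Φ :=
    fpMap_isEquivOver _ _ _ _ _ (isEquivOver_id _) (isEquivOver_id _) (isEquivOver_id _)
  have h3 : AlgSt.IsQuasiCompact (fp (BasedFunctor.comp kt h) f) :=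
    Groth.Agent.Lib.Helper66.AlgStEquiv.isQuasiCompact_of_equivOver Φ hΦ h2
  obtain ⟨Ψ, hΨ, -, -⟩ := exists_inverse_equivOver (fpPasteFst kt h f) (fpPasteFst_isEquivOver kt h f)
  have h4 : AlgSt.IsQuasiCompact (fp kt (fpFst h f)) :=
    Groth.Agent.Lib.Helper66.AlgStEquiv.isQuasiCompact_of_equivOver Ψ hΨ h3
  have h5 : AlgSt.IsQuasiCompact (fp (fpFst h f) kt) :=
    Groth.Agent.Lib.Helper66.AlgStEquiv.isQuasiCompact_of_equivOver _ (fpSwap_isEquivOver kt (fpFst h f)) h4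
  have hB : AlgSt.IsAlgStack Scheme.fppfPrecoverage (fp h f) :=
    Groth.Agent.S12763.result h𝒴.isStack h𝒴.diag h𝒯 h𝒳 h f
  have hC : AlgSt.IsAlgStack Scheme.fppfPrecoverage (fp (fpFst h f) kt) :=
    Groth.Agent.S12763.result h𝒯.isStack h𝒯.diag hB hA₀ (fpFst h f) kt
  exact isQuasiCompact_of_isSurjective hC.isStack.1 hC.atlas hB.isStack.1 hB.atlas
    (fpFst (fpFst h f) kt) (Groth.Agent.S12825.result hA₀ h𝒯 hB kt (fpFst h f) hsurj) h5

end Groth.Agent.Lib.Helper66.AlgStQC4
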