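import Groth.Agent.Lib.Helper66.AlgStBridge
import Groth.Agent.Lib.Helper66.AlgStPFacts
import Groth.Agent.S9900
import Groth.Agent.S9948

/-!
# The diagonal of a morphism representable by algebraic spaces is unramified and locally quasi-finite
-/

set_option autoImplicit false
set_option backward.isDefEq.respectTransparency false
set_option backward.isDefEq.respectTransparency.types false
universe u

open CategoryTheory CategoryTheory.Limits AlgebraicGeometry Opposite

namespace Groth.Agent.Lib.Helper66.AlgStBridgeUnram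

open FibCat Groth.Agent.Lib.Helper31 Groth.Agent.Lib.Helper65 Groth.Agent.Lib.Helper66.AlgStPFacts

variable {S : Scheme.{u}} {𝒳 𝒴 : AlgSt.Cat S}

theorem formallyUnramified_of_mono {A B : Scheme.{u}} (g : A ⟶ B) [Mono g] : FormallyUnramified g := by
  have : IsIso (pullback.diagonal g) := (pullback.isIso_diagonal_iff g).mpr inferInstance
  infer_instance

/-- The diagonal of a morphism of algebraic spaces is unramified. -/
theorem locP_unramified_diagonal {V Y : AlgSp.Space S} (a : V ⟶ Y) :
    AlgSp.LocP (@LocallyOfFiniteType ⊓ @FormallyUnramified) (pullback.diagonal a.hom) := by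
  obtain ⟨hrep, hlft, hmono, -, -⟩ := Groth.Agent.S9900.result a
  have hD : AlgSp.IsAlgSpace (pullback a.hom a.hom) :=
    Groth.Agent.H52.isAlgSpace_of_isPullback (IsPullback.of_hasPullback a.hom a.hom) V.property Y.property
      V.property
  refine (Groth.Agent.S9948.result _ listed_unramified (X := V) (Y := ⟨pullback a.hom a.hom, hD⟩)
    (ObjectProperty.homMk (pullback.diagonal a.hom)) hrep).2 ?_
  refine ⟨hrep, fun U W g fst snd sq => ⟨hlft.2 g fst snd sq, ?_⟩⟩
  have : Mono snd.left := hmono.2 g fst snd sq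
  exact formallyUnramified_of_mono snd.left

/-- The diagonal of a morphism of algebraic spaces is locally quasi-finite. -/
theorem locP_lqf_diagonal {V Y : AlgSp.Space S} (a : V ⟶ Y) :
    AlgSp.LocP (@LocallyQuasiFinite ⊓ @LocallyOfFiniteType) (pullback.diagonal a.hom) := by
  obtain ⟨hrep, -, -, -, hlqf⟩ := Groth.Agent.S9900.result a
  have hD : AlgSp.IsAlgSpace (pullback a.hom a.hom) :=
    Groth.Agent.H52.isAlgSpace_of_isPullback (IsPullback.of_hasPullback a.hom a.hom) V.property Y.property
      V.property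
  exact (Groth.Agent.S9948.result _ listed_lqf (X := V) (Y := ⟨pullback a.hom a.hom, hD⟩)
    (ObjectProperty.homMk (pullback.diagonal a.hom)) hrep).2 hlqf

/-- A morphism representable by algebraic spaces is DM. -/
theorem isDMMor_of_repByAlgSp1 (f : 𝒳 ⥤ᵇ 𝒴) (hf : AlgSt.RepByAlgSp1 f) : AlgSt.IsDMMor f :=
  Groth.Agent.Lib.Helper66.AlgStBridge.repByAlgSpWith_diag_of_rep _ ⊤
    (AlgStPFacts.stableBC_locP _ listed_unramified) f ((repByAlgSp1_iff_top f).1 hf) (fun V T a _ =>
      locP_unramified_diagonal (V := V) (Y := ⟨(AlgSp.yon S).obj T, AlgSp.IsAlgSpace.yon_obj T⟩)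
        (ObjectProperty.homMk a))

/-- A morphism representable by algebraic spaces is quasi-DM. -/
theorem isQuasiDMMor_of_repByAlgSp1 (f : 𝒳 ⥤ᵇ 𝒴) (hf : AlgSt.RepByAlgSp1 f) : AlgSt.IsQuasiDMMor f :=
  Groth.Agent.Lib.Helper66.AlgStBridge.repByAlgSpWith_diag_of_rep _ ⊤
    (AlgStPFacts.stableBC_locP _ listed_lqf) f ((repByAlgSp1_iff_top f).1 hf) (fun V T a _ =>
      locP_lqf_diagonal (V := V) (Y := ⟨(AlgSp.yon S).obj T, AlgSp.IsAlgSpace.yon_obj T⟩)
        (ObjectProperty.homMk a))

end Groth.Agent.Lib.Helper66.AlgStBridgeUnram
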