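import Groth.Agent.Lib.Helper66.AlgStBridgeConv
import Groth.Agent.Lib.Helper66.AlgStBridgeUnram
import Groth.Agent.H52.QC5
import Groth.Agent.S9912
import Groth.Agent.S10519

/-!
# Quasi-separated morphisms representable by algebraic spaces and their diagonals
-/

set_option autoImplicit false
set_option backward.isDefEq.respectTransparency false
set_option backward.isDefEq.respectTransparency.types false
universe u

open CategoryTheory CategoryTheory.Limits AlgebraicGeometry Opposite

namespace Groth.Agent.Lib.Helper66.AlgStBridgeQS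

open FibCat Groth.Agent.Lib.Helper31 Groth.Agent.Lib.Helper65 Groth.Agent.Lib.Helper66.AlgStPFacts
open Groth.Agent.Lib.Helper66.RepWithPDet

variable {S : Scheme.{u}} {𝒳 𝒴 : AlgSt.Cat S}

/-- The diagonal of a morphism of algebraic spaces is locally of finite type. -/
theorem locP_lft_diagonal {V Y : AlgSp.Space S} (a : V ⟶ Y) :
    AlgSp.LocP @LocallyOfFiniteType (pullback.diagonal a.hom) := by
  obtain ⟨hrep, hlft, -, -, -⟩ := Groth.Agent.S9900.result a
  have hD : AlgSp.IsAlgSpace (pullback a.hom a.hom) :=
    Groth.Agent.H52.isAlgSpace_of_isPullback (IsPullback.of_hasPullback a.hom a.hom) V.property Y.property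
      V.property
  exact (Groth.Agent.S9948.result _ (Or.inl rfl) (X := V) (Y := ⟨pullback a.hom a.hom, hD⟩)
    (ObjectProperty.homMk (pullback.diagonal a.hom)) hrep).2 hlft

theorem stableBC_isQuasiCompactMor : StableBC (AlgSp.IsQuasiCompactMor (S := S)) :=
  fun _ _ _ _ _ _ _ _ _ _ _ _ sq ha => Groth.Agent.H52.isQuasiCompactMor_of_isPullback sq ha

theorem stableBC_isFiniteTypeMor : StableBC (AlgSp.IsFiniteTypeMor (S := S)) :=
  fun _ _ _ _ h1 h2 h3 h4 _ _ _ _ sq ha =>
    ⟨AlgStPFacts.stableBC_locP _ (Or.inl rfl) h1 h2 h3 h4 _ _ _ _ sq ha.1,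
      Groth.Agent.H52.isQuasiCompactMor_of_isPullback sq ha.2⟩

theorem detected_isQuasiCompactMor : Detected (AlgSp.IsQuasiCompactMor (S := S)) :=
  detected_of_isLocalOnBase _ (isLocalOnBase_fppf_of_fpqc _ (Groth.Agent.S10519.result S))

/-- for the diagonal of a morphism of algebraic spaces, the two notions of quasi-compact agree -/
theorem repWith_quasiCompact_diagonal_iff {V Y : AlgSp.Space S} (a : V ⟶ Y) :
    AlgSp.RepWith @QuasiCompact (pullback.diagonal a.hom) ↔
      AlgSp.IsQuasiCompactMor (pullback.diagonal a.hom) := by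
  have hD : AlgSp.IsAlgSpace (pullback a.hom a.hom) :=
    Groth.Agent.H52.isAlgSpace_of_isPullback (IsPullback.of_hasPullback a.hom a.hom) V.property Y.property
      V.property
  exact Groth.Agent.S9912.result (X := V) (Y := ⟨pullback a.hom a.hom, hD⟩)
    (ObjectProperty.homMk (pullback.diagonal a.hom)) (Groth.Agent.S9900.result a).1

end Groth.Agent.Lib.Helper66.AlgStBridgeQS
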