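import Groth.Agent.Lib.Helper66.AlgStDiagRep
import Groth.Agent.Lib.Helper66.AlgStBridgeQS
import Groth.Agent.S10280

/-!
# Cancellation for properties of the diagonal: `g ∘ f` DM / quasi-DM / separated / quasi-separated ⇒ `f` is
-/

set_option autoImplicit false
set_option backward.isDefEq.respectTransparency false
set_option backward.isDefEq.respectTransparency.types false
universe u

open CategoryTheory CategoryTheory.Limits AlgebraicGeometry Opposite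

namespace Groth.Agent.Lib.Helper66.AlgStDiagCancel

open FibCat Groth.Agent.Lib.Helper31 Groth.Agent.Lib.Helper65 Groth.Agent.Lib.Helper66.AlgStCancel
open Groth.Agent.Lib.Helper66.AlgStBridge Groth.Agent.Lib.Helper66.AlgStDiagComp
open Groth.Agent.Lib.Helper66.AlgStPFacts

variable {S : Scheme.{u}} {𝒳 𝒴 𝒵 : AlgSt.Cat S}

/-- If the diagonal of `g ∘ f` and the diagonal of the comparison `𝒳 ×_𝒴 𝒳 ⟶ 𝒳 ×_𝒵 𝒳` have `P`, so has the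
diagonal of `f`. -/
theorem repByAlgSpWith_diag_of_comp (P : MorphismProperty (AlgSp.Sp S)) (hPb : StableBC P)
    (hPc : StableComp P) (hP : AlgSp.IsLocalOnBase AlgSp.IsFppfCover P)
    (h𝒳 : IsFibGrpd 𝒳.p) (h𝒴 : IsFibGrpd 𝒴.p) (h𝒵 : IsFibGrpd 𝒵.p)
    (f : 𝒳 ⥤ᵇ 𝒴) (g : 𝒴 ⥤ᵇ 𝒵)
    (hgf : AlgSt.RepByAlgSpWith P (FibCat.diag (BasedFunctor.comp f g)))
    (hc : AlgSt.RepByAlgSpWith P (FibCat.diag (cmp f g))) :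
    AlgSt.RepByAlgSpWith P (FibCat.diag f) := by
  have h4 : AlgSt.RepByAlgSpWith P (BasedFunctor.comp (FibCat.diag f) (cmp f g)) :=
    repByAlgSpWith_of_square' P _ _ (BasedFunctor.id _) (BasedFunctor.id _)
      (isEquivOver_id _) (isEquivOver_id _) (diagCompIso f g) hgf
  exact repByAlgSpWith_of_comp_of_diag P hPb hPc hP
    h𝒳 (isFibGrpd_fp f f h𝒳 h𝒳 h𝒴)
    (isFibGrpd_fp (BasedFunctor.comp f g) (BasedFunctor.comp f g) h𝒳 h𝒳 h𝒵) (FibCat.diag f) (cmp f g) h4 hc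

/-- the comparison `𝒳 ×_𝒴 𝒳 ⟶ 𝒳 ×_𝒵 𝒳` is representable by algebraic spaces when `𝒴`, `𝒵` have
representable diagonals -/
theorem repByAlgSp1_cmp (h𝒴 : IsFibGrpd 𝒴.p) (h𝒵 : IsFibGrpd 𝒵.p)
    (hΔ𝒴 : AlgSt.RepByAlgSp1 (FibCat.diag (FibCat.toSelf 𝒴)))
    (hΔ𝒵 : AlgSt.RepByAlgSp1 (FibCat.diag (FibCat.toSelf 𝒵))) (f : 𝒳 ⥤ᵇ 𝒴) (g : 𝒴 ⥤ᵇ 𝒵) :
    AlgSt.RepByAlgSp1 (cmp f g) := by
  have hg : AlgSt.RepByAlgSp1 (FibCat.diag g) :=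
    Groth.Agent.Lib.Helper66.AlgStDiagRep.repByAlgSp1_diag h𝒴 h𝒵 hΔ𝒴 hΔ𝒵 g
  rw [repByAlgSp1_iff_top] at hg ⊢
  exact Groth.Agent.Lib.Helper66.AlgStCmp.repByAlgSpWith_fpComparison ⊤ f f g (cmpIso f g)
    (cmpIso_app f g) hg

theorem isDMMor_of_comp (h𝒳 : IsFibGrpd 𝒳.p) (h𝒴 : IsFibGrpd 𝒴.p) (h𝒵 : IsFibGrpd 𝒵.p)
    (hΔ𝒴 : AlgSt.RepByAlgSp1 (FibCat.diag (FibCat.toSelf 𝒴)))
    (hΔ𝒵 : AlgSt.RepByAlgSp1 (FibCat.diag (FibCat.toSelf 𝒵))) (f : 𝒳 ⥤ᵇ 𝒴) (g : 𝒴 ⥤ᵇ 𝒵)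
    (h : AlgSt.IsDMMor (BasedFunctor.comp f g)) : AlgSt.IsDMMor f :=
  repByAlgSpWith_diag_of_comp _ (AlgStPFacts.stableBC_locP _ listed_unramified)
    (AlgStPFacts.stableComp_locP _ listed_unramified) isLocalOnBase_fppf_unramified h𝒳 h𝒴 h𝒵 f g h
    (Groth.Agent.Lib.Helper66.AlgStBridgeUnram.isDMMor_of_repByAlgSp1 _
      (repByAlgSp1_cmp h𝒴 h𝒵 hΔ𝒴 hΔ𝒵 f g))

theorem isQuasiDMMor_of_comp (h𝒳 : IsFibGrpd 𝒳.p) (h𝒴 : IsFibGrpd 𝒴.p) (h𝒵 : IsFibGrpd 𝒵.p)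
    (hΔ𝒴 : AlgSt.RepByAlgSp1 (FibCat.diag (FibCat.toSelf 𝒴)))
    (hΔ𝒵 : AlgSt.RepByAlgSp1 (FibCat.diag (FibCat.toSelf 𝒵))) (f : 𝒳 ⥤ᵇ 𝒴) (g : 𝒴 ⥤ᵇ 𝒵)
    (h : AlgSt.IsQuasiDMMor (BasedFunctor.comp f g)) : AlgSt.IsQuasiDMMor f :=
  repByAlgSpWith_diag_of_comp _ (AlgStPFacts.stableBC_locP _ listed_lqf)
    (AlgStPFacts.stableComp_locP _ listed_lqf) isLocalOnBase_fppf_lqf h𝒳 h𝒴 h𝒵 f g h
    (Groth.Agent.Lib.Helper66.AlgStBridgeUnram.isQuasiDMMor_of_repByAlgSp1 _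
      (repByAlgSp1_cmp h𝒴 h𝒵 hΔ𝒴 hΔ𝒵 f g))

theorem isSeparatedMor_of_comp (h𝒳 : IsFibGrpd 𝒳.p) (h𝒴 : IsFibGrpd 𝒴.p) (h𝒵 : IsFibGrpd 𝒵.p)
    (f : 𝒳 ⥤ᵇ 𝒴) (g : 𝒴 ⥤ᵇ 𝒵)
    (h : AlgSt.IsSeparatedMor (BasedFunctor.comp f g))
    (hg : AlgSt.RepByAlgSpWith AlgSp.IsSeparatedMor (FibCat.diag g)) : AlgSt.IsSeparatedMor f := by
  have hc : AlgSt.RepByAlgSpWith AlgSp.IsSeparatedMor (cmp f g) :=
    Groth.Agent.Lib.Helper66.AlgStCmp.repByAlgSpWith_fpComparison _ f f g (cmpIso f g)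
      (cmpIso_app f g) hg
  refine repByAlgSpWith_diag_of_comp _ stableBC_isProperMor stableComp_isProperMor
    isLocalOnBase_fppf_isProperMor h𝒳 h𝒴 h𝒵 f g h ?_
  exact repByAlgSpWith_diag_of_rep AlgSp.IsProperMor AlgSp.IsSeparatedMor stableBC_isProperMor _ hc
    (fun V T a ha => ((Groth.Agent.S10280.result (X := V)
      (Y := ⟨(AlgSp.yon S).obj T, AlgSp.IsAlgSpace.yon_obj T⟩) (ObjectProperty.homMk a)).2).1 ha)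

theorem isQuasiSeparatedMor_of_comp (h𝒳 : IsFibGrpd 𝒳.p) (h𝒴 : IsFibGrpd 𝒴.p) (h𝒵 : IsFibGrpd 𝒵.p)
    (f : 𝒳 ⥤ᵇ 𝒴) (g : 𝒴 ⥤ᵇ 𝒵)
    (h : AlgSt.IsQuasiSeparatedMor (BasedFunctor.comp f g))
    (hg : AlgSt.RepByAlgSpWith AlgSp.IsQuasiSeparatedMor (FibCat.diag g)) :
    AlgSt.IsQuasiSeparatedMor f := by
  have hc : AlgSt.RepByAlgSpWith AlgSp.IsQuasiSeparatedMor (cmp f g) :=
    Groth.Agent.Lib.Helper66.AlgStCmp.repByAlgSpWith_fpComparison _ f f g (cmpIso f g)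
      (cmpIso_app f g) hg
  refine repByAlgSpWith_diag_of_comp _ stableBC_qcqs stableComp_qcqs
    isLocalOnBase_fppf_qcqs h𝒳 h𝒴 h𝒵 f g h ?_
  exact repByAlgSpWith_diag_of_rep (AlgSp.IsQuasiCompactMor ⊓ AlgSp.IsQuasiSeparatedMor)
    AlgSp.IsQuasiSeparatedMor stableBC_qcqs _ hc
    (fun V T a ha => by
      refine ⟨Groth.Agent.H52.isQuasiCompactMor_of_repWith_quasiCompact _ ha, ?_⟩
      have : IsIso (pullback.diagonal (pullback.diagonal a)) :=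
        (pullback.isIso_diagonal_iff _).mpr inferInstance
      exact Groth.Agent.H52.repWith_of_isIso _ _)

end Groth.Agent.Lib.Helper66.AlgStDiagCancel
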