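import Groth.Agent.Lib.Helper66.AlgStQC3
import Groth.Agent.Lib.Helper66.AlgStCmp
import Groth.Agent.Lib.Helper66.AlgStDiagCancel
import Groth.Agent.Lib.Helper66.AlgStDiag
import Groth.Agent.Lib.Helper65.LocalEss

/-!
# Fibre products of quasi-compact, quasi-separated algebraic stacks
-/

set_option autoImplicit false
set_option backward.isDefEq.respectTransparency false
set_option backward.isDefEq.respectTransparency.types false
universe u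

open CategoryTheory CategoryTheory.Limits AlgebraicGeometry Opposite

namespace Groth.Agent.Lib.Helper66.AlgStQC6

open FibCat Groth.Agent.Lib.Helper31 Groth.Agent.Lib.Helper65 Groth.Agent.Lib.Helper66
open Groth.Agent.Lib.Helper66.AlgStDiagComp Groth.Agent.Lib.Helper66.AlgStPFacts
open Groth.Agent.Lib.Helper66.AlgStBridge

variable {S : Scheme.{u}} {𝒳 𝒴 𝒵 : AlgSt.Cat S}

/-- a morphism to a stack quasi-separated over `S` from a stack quasi-separated over `S` is quasi-separated -/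
theorem isQuasiSeparatedMor_of_over (h𝒵 : IsFibGrpd 𝒵.p) (h𝒴 : IsFibGrpd 𝒴.p) (b : 𝒵 ⥤ᵇ 𝒴)
    (hZ : AlgSt.IsQuasiSeparatedOver 𝒵) (hY : AlgSt.IsQuasiSeparatedOver 𝒴) :
    AlgSt.IsQuasiSeparatedMor b := by
  have hS : IsFibGrpd (selfOver (Over S)).p := isFibGrpd_selfOver
  have h1 : AlgSt.IsQuasiSeparatedMor (BasedFunctor.comp b (toSelf 𝒴)) :=
    (repByAlgSpWith_diag_of_equiv _ (F := FibCat.toSelf 𝒵) (F' := BasedFunctor.comp b (toSelf 𝒴))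
      (BasedFunctor.id _) (BasedFunctor.id _) (isEquivOver_id _) (isEquivOver_id _) (toSelfIso b)).2 hZ
  exact Groth.Agent.Lib.Helper66.AlgStDiagCancel.isQuasiSeparatedMor_of_comp h𝒵 h𝒴 hS b (toSelf 𝒴) h1
    (repByAlgSpWith_mono (fun _ _ _ hh => hh.2) _ hY)

/-- quasi-separatedness over `S` of a 2-fibre product -/
theorem isQuasiSeparatedOver_fp (h𝒳 : IsFibGrpd 𝒳.p) (h𝒴 : IsFibGrpd 𝒴.p) (h𝒵 : IsFibGrpd 𝒵.p)
    (a : 𝒳 ⥤ᵇ 𝒴) (b : 𝒵 ⥤ᵇ 𝒴) (hX : AlgSt.IsQuasiSeparatedOver 𝒳)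
    (hY : AlgSt.IsQuasiSeparatedOver 𝒴) (hZ : AlgSt.IsQuasiSeparatedOver 𝒵) :
    AlgSt.IsQuasiSeparatedOver (fp a b) := by
  have hb := isQuasiSeparatedMor_of_over h𝒵 h𝒴 b hZ hY
  have hπ : AlgSt.RepByAlgSpWith (AlgSp.IsQuasiCompactMor ⊓ AlgSp.IsQuasiSeparatedMor)
      (FibCat.diag (fpFst a b)) :=
    Groth.Agent.Lib.Helper66.AlgStDiag.repByAlgSpWith_diag_fpFst _ b a hb
  have hP : IsFibGrpd (fp a b).p := isFibGrpd_fp a b h𝒳 h𝒵 h𝒴
  have h1 : AlgSt.RepByAlgSpWith (AlgSp.IsQuasiCompactMor ⊓ AlgSp.IsQuasiSeparatedMor)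
      (FibCat.diag (BasedFunctor.comp (fpFst a b) (toSelf 𝒳))) :=
    repByAlgSpWith_diag_comp _ stableBC_qcqs stableComp_qcqs isLocalOnBase_fppf_qcqs hP h𝒳
      (fpFst a b) (toSelf 𝒳) hπ hX
  exact (repByAlgSpWith_diag_of_equiv _ (F := FibCat.toSelf (fp a b))
    (F' := BasedFunctor.comp (fpFst a b) (toSelf 𝒳))
    (BasedFunctor.id _) (BasedFunctor.id _) (isEquivOver_id _) (isEquivOver_id _)
    (toSelfIso (fpFst a b))).1 h1

/-- quasi-compactness of a 2-fibre product over a quasi-separated base -/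
theorem isQuasiCompact_fp [QuasiSeparatedSpace S] (h𝒳 : IsFibGrpd 𝒳.p) (h𝒴 : IsFibGrpd 𝒴.p)
    (h𝒵 : IsFibGrpd 𝒵.p) (a : 𝒳 ⥤ᵇ 𝒴) (b : 𝒵 ⥤ᵇ 𝒴) (hX : AlgSt.IsQuasiCompact 𝒳)
    (hY : AlgSt.IsQuasiSeparatedOver 𝒴) (hZ : AlgSt.IsQuasiCompact 𝒵) :
    AlgSt.IsQuasiCompact (fp a b) := by
  let e : BasedFunctor.comp (fpFst a b) (BasedFunctor.comp a (toSelf 𝒴)) ≅
      BasedFunctor.comp (fpSnd a b) (BasedFunctor.comp b (toSelf 𝒴)) :=
    bWhiskerRightIso (fpIso a b) (toSelf 𝒴)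
  have hc : AlgSt.RepByAlgSpWith (AlgSp.IsQuasiCompactMor ⊓ AlgSp.IsQuasiSeparatedMor)
      (FibCat.fpLift (FibCat.fpFst a b) (FibCat.fpSnd a b) e) :=
    Groth.Agent.Lib.Helper66.AlgStCmp.repByAlgSpWith_fpComparison _ a b (FibCat.toSelf 𝒴) e
      (fun _ => rfl) hY
  have hc' : AlgSt.RepByAlgSpWith AlgSp.IsQuasiCompactMor
      (FibCat.fpLift (FibCat.fpFst a b) (FibCat.fpSnd a b) e) :=
    repByAlgSpWith_mono (fun _ _ _ hh => hh.1) _ hc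
  have h1 : AlgSt.IsQuasiCompact (FibCat.fp (BasedFunctor.comp a (FibCat.toSelf 𝒴))
      (BasedFunctor.comp b (FibCat.toSelf 𝒴))) :=
    Groth.Agent.Lib.Helper66.AlgStQC3.isQuasiCompact_prod h𝒳 h𝒵 a b hX hZ
  have hS : FibCat.IsFibGrpd (FibCat.selfOver (Over S)).p := isFibGrpd_selfOver
  have hA : FibCat.IsFibGrpd (FibCat.fp (BasedFunctor.comp a (FibCat.toSelf 𝒴))
      (BasedFunctor.comp b (FibCat.toSelf 𝒴))).p := isFibGrpd_fp _ _ h𝒳 h𝒵 hS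
  have hB : FibCat.IsFibGrpd (FibCat.fp a b).p := isFibGrpd_fp _ _ h𝒳 h𝒵 h𝒴
  have h2 := Groth.Agent.Lib.Helper66.AlgStQC.isQuasiCompact_fp_of_repByAlgSpWith hB hA hA _ hc' h1
    (BasedFunctor.id _)
  exact Groth.Agent.Lib.Helper66.AlgStEquiv.isQuasiCompact_of_equivOver _
    (fpSnd_isEquivOver _ _ (isEquivOver_id _)) h2

end Groth.Agent.Lib.Helper66.AlgStQC6
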