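import Groth.Agent.Lib.Helper66.AlgStQC4
import Groth.Agent.S12982
import Groth.Agent.Lib.Helper66.AlgStPFacts

/-!
# Descent of quasi-compactness along a flat, lfp, surjective morphism of algebraic stacks (LocQ form)
-/

set_option autoImplicit false
set_option backward.isDefEq.respectTransparency false
set_option backward.isDefEq.respectTransparency.types false
universe u

open CategoryTheory CategoryTheory.Limits AlgebraicGeometry Opposite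

namespace Groth.Agent.Lib.Helper66.AlgStQC5

open FibCat Groth.Agent.Lib.Helper31 Groth.Agent.Lib.Helper65 Groth.Agent.Lib.Helper66

variable {S : Scheme.{u}} {𝒳 𝒴 𝒵 : AlgSt.Cat S}

/-- Quasi-compactness of a morphism is invariant under equivalences of the source and 2-isomorphisms. -/
theorem isQuasiCompactMor_of_equiv_comp {𝒜 ℬ 𝒞 : AlgSt.Cat S} (E : 𝒜 ⥤ᵇ ℬ) (hE : IsEquivOver E)
    (q : ℬ ⥤ᵇ 𝒞) (q' : 𝒜 ⥤ᵇ 𝒞) (e : q' ≅ BasedFunctor.comp E q)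
    (h : AlgSt.IsQuasiCompactMor Scheme.fppfPrecoverage q') :
    AlgSt.IsQuasiCompactMor Scheme.fppfPrecoverage q := by
  intro 𝒯 h𝒯 hqc g
  have h1 := h 𝒯 h𝒯 hqc g
  let β : BasedFunctor.comp q' (BasedFunctor.id _) ≅ BasedFunctor.comp E q := e
  let Φ : fp g q' ⥤ᵇ fp g q :=
    fpMap (F := g) (G := q') (F' := g) (G' := q) (BasedFunctor.id _) E (BasedFunctor.id _)
      (Iso.refl _) β
  have hΦ : IsEquivOver Φ :=
    fpMap_isEquivOver _ _ _ _ _ (isEquivOver_id _) hE (isEquivOver_id _)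
  exact Groth.Agent.Lib.Helper66.AlgStEquiv.isQuasiCompact_of_equivOver Φ hΦ h1

/-- A morphism of schemes with `R` followed by a chart with `LocP R`. -/
theorem repByAlgSpWith_overMap_comp (R : MorphismProperty Scheme.{u}) (hR : AlgStPFacts.Listed R)
    (hRl : AlgSp.IsLocalOnBase AlgSp.IsFppfCover (AlgSp.LocP (S := S) R))
    {U V : Over S} (h : U ⟶ V) (hh : AlgSp.LocP R ((AlgSp.yon S).map h))
    (y : FibCat.overCat V ⥤ᵇ 𝒴) (hy : AlgSt.RepByAlgSpWith (AlgSp.LocP R) y) :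
    AlgSt.RepByAlgSpWith (AlgSp.LocP R) (BasedFunctor.comp (AlgSt.overMap h) y) := by
  let VV : AlgSp.Space S := ⟨(AlgSp.yon S).obj V, AlgSp.IsAlgSpace.yon_obj V⟩
  have h1 : AlgSt.RepByAlgSpWith (AlgSp.LocP R) (chartFunctor ((AlgSp.yon S).map h)) :=
    repByAlgSpWith_of_prop _ (AlgStPFacts.stableBC_locP _ hR) VV U _ hh
  have h2 := repByAlgSpWith_comp _ (AlgStPFacts.stableBC_locP _ hR) (AlgStPFacts.stableComp_locP _ hR) hRl
    (isFibGrpd_overForget U) (Stk.isFibGrpd_ofPsh _) (chartFunctor ((AlgSp.yon S).map h))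
    (BasedFunctor.comp (AlgSt.toOverCat V) y) h1 (repByAlgSpWith_toOverCat_comp _ y hy)
  exact h2

theorem isQuasiCompactMor_of_fpFst_locQ
    (h𝒳 : AlgSt.IsAlgStack Scheme.fppfPrecoverage 𝒳) (h𝒴 : AlgSt.IsAlgStack Scheme.fppfPrecoverage 𝒴)
    (h𝒵 : AlgSt.IsAlgStack Scheme.fppfPrecoverage 𝒵) (f : 𝒳 ⥤ᵇ 𝒴) (z : 𝒵 ⥤ᵇ 𝒴)
    (hz₁ : AlgSt.LocQ (AlgSp.LocP @Flat) z)
    (hz₂ : AlgSt.LocQ (AlgSp.LocP @LocallyOfFinitePresentation) z)
    (hz₃ : AlgSt.IsSurjective z)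
    (hq : AlgSt.IsQuasiCompactMor Scheme.fppfPrecoverage (fpFst z f)) :
    AlgSt.IsQuasiCompactMor Scheme.fppfPrecoverage f := by
  obtain ⟨U₁, V₁, x₁, y₁, k₁, α₁, hx₁, hx₁s, hy₁, hk₁⟩ := hz₁
  obtain ⟨U₂, V₂, x₂, y₂, k₂, α₂, hx₂, hx₂s, hy₂, hk₂⟩ := hz₂
  have hU₁ : AlgSt.IsAlgStack Scheme.fppfPrecoverage (FibCat.overCat U₁) := isAlgStack_overCat U₁
  have hU₂ : AlgSt.IsAlgStack Scheme.fppfPrecoverage (FibCat.overCat U₂) := isAlgStack_overCat U₂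
  have hW : AlgSt.IsAlgStack Scheme.fppfPrecoverage (fp x₁ x₂) :=
    Groth.Agent.S12763.result h𝒵.isStack h𝒵.diag hU₁ hU₂ x₁ x₂
  have hWf := hW.isStack.1
  let p₁ : fp x₁ x₂ ⥤ᵇ FibCat.overCat U₁ := fpFst x₁ x₂
  let p₂ : fp x₁ x₂ ⥤ᵇ FibCat.overCat U₂ := fpSnd x₁ x₂
  let p : fp x₁ x₂ ⥤ᵇ 𝒵 := BasedFunctor.comp p₁ x₁
  let w : fp x₁ x₂ ⥤ᵇ 𝒴 := BasedFunctor.comp p z
  have hp₁ : AlgSt.RepByAlgSpWith (AlgSp.LocP @Smooth) p₁ := repByAlgSpWith_fpFst _ x₂ x₁ hx₂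
  have hp₁s : AlgSt.RepByAlgSpWith AlgSp.IsSurjectiveMor p₁ := repByAlgSpWith_fpFst _ x₂ x₁ hx₂s
  have hp₂ : AlgSt.RepByAlgSpWith (AlgSp.LocP @Smooth) p₂ :=
    Groth.Agent.Lib.Helper66.AlgStBC.repByAlgSpWith_fpSnd _ x₂ x₁ hx₁
  have hfl := AlgStPFacts.stableBC_locP (S := S) @Flat (Or.inr (Or.inr (Or.inl rfl)))
  -- flat
  have hw₁ : AlgSt.RepByAlgSpWith (AlgSp.LocP @Flat) w := by
    have h1 : AlgSt.RepByAlgSpWith (AlgSp.LocP @Flat) (BasedFunctor.comp (AlgSt.overMap k₁) y₁) :=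
      repByAlgSpWith_overMap_comp _ (Or.inr (Or.inr (Or.inl rfl))) isLocalOnBase_fppf_locP_flat k₁ hk₁ y₁
        (repByAlgSpWith_mono (locP_mono smooth_le_flat) y₁ hy₁)
    have h2 : AlgSt.RepByAlgSpWith (AlgSp.LocP @Flat)
        (BasedFunctor.comp p₁ (BasedFunctor.comp (AlgSt.overMap k₁) y₁)) :=
      repByAlgSpWith_comp _ hfl (AlgStPFacts.stableComp_locP _ (Or.inr (Or.inr (Or.inl rfl))))
        isLocalOnBase_fppf_locP_flat hWf (isFibGrpd_overForget U₁) p₁ _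
        (repByAlgSpWith_mono (locP_mono smooth_le_flat) p₁ hp₁) h1
    exact Groth.Agent.Lib.Helper66.RepWithPDet.repByAlgSpWith_of_iso _ (bWhiskerLeftIso p₁ α₁) h2
  -- lfp
  have hw₂ : AlgSt.RepByAlgSpWith (AlgSp.LocP @LocallyOfFinitePresentation) w := by
    have h1 : AlgSt.RepByAlgSpWith (AlgSp.LocP @LocallyOfFinitePresentation)
        (BasedFunctor.comp (AlgSt.overMap k₂) y₂) :=
      repByAlgSpWith_overMap_comp _ (Or.inr (Or.inl rfl)) isLocalOnBase_fppf_locP_lfp k₂ hk₂ y₂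
        (repByAlgSpWith_mono (locP_mono smooth_le_lfp) y₂ hy₂)
    have h2 : AlgSt.RepByAlgSpWith (AlgSp.LocP @LocallyOfFinitePresentation)
        (BasedFunctor.comp p₂ (BasedFunctor.comp (AlgSt.overMap k₂) y₂)) :=
      repByAlgSpWith_comp _ (AlgStPFacts.stableBC_locP _ (Or.inr (Or.inl rfl)))
        (AlgStPFacts.stableComp_locP _ (Or.inr (Or.inl rfl)))
        isLocalOnBase_fppf_locP_lfp hWf (isFibGrpd_overForget U₂) p₂ _
        (repByAlgSpWith_mono (locP_mono smooth_le_lfp) p₂ hp₂) h1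
    have i : w ≅ BasedFunctor.comp p₂ (BasedFunctor.comp (AlgSt.overMap k₂) y₂) :=
      bWhiskerRightIso (fpIso x₁ x₂) z ≪≫ bWhiskerLeftIso p₂ α₂
    exact Groth.Agent.Lib.Helper66.RepWithPDet.repByAlgSpWith_of_iso _ i h2
  -- surjective
  have hw₃ : AlgSt.RepByAlgSpWith AlgSp.IsSurjectiveMor w := by
    have hrep : AlgSt.RepByAlgSp1 w := repByAlgSp1_of_repByAlgSpWith hw₁
    refine repByAlgSpWith_isSurjectiveMor_of_isSurjective hWf h𝒴.isStack.1 w hrep ?_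
    intro t
    obtain ⟨t₁, rfl⟩ := hz₃ t
    obtain ⟨t₂, rfl⟩ := isSurjective_of_repByAlgSpWith (isFibGrpd_overForget U₁) h𝒵.isStack.1 x₁ hx₁s t₁
    obtain ⟨t₃, rfl⟩ := isSurjective_of_repByAlgSpWith hWf (isFibGrpd_overForget U₁) p₁ hp₁s t₂
    exact ⟨t₃, by rw [points_map_comp, points_map_comp]⟩
  -- the base change of `f` to the cover is quasi-compact
  have hF : AlgSt.IsAlgStack Scheme.fppfPrecoverage (fp z f) :=
    Groth.Agent.S12763.result h𝒴.isStack h𝒴.diag h𝒵 h𝒳 z f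
  have h3 : AlgSt.IsQuasiCompactMor Scheme.fppfPrecoverage (fpFst p (fpFst z f)) :=
    Groth.Agent.S12982.result S _ _ _ hF h𝒵 hW (fpFst z f) p hq
  have h4 : AlgSt.IsQuasiCompactMor Scheme.fppfPrecoverage (fpFst w f) :=
    isQuasiCompactMor_of_equiv_comp (fpPasteFst p z f) (fpPasteFst_isEquivOver p z f) (fpFst w f)
      (fpFst p (fpFst z f)) (Iso.refl _) h3
  exact Groth.Agent.Lib.Helper66.AlgStQC4.isQuasiCompactMor_of_fpFst h𝒳 h𝒴 hW f w hw₁ hw₂ hw₃ h4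

end Groth.Agent.Lib.Helper66.AlgStQC5
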