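import Groth.Agent.Lib.Helper66.RepWithPDet

/-!
# `AlgSp.RepWith Q`: base change, composition, detection on schemes (helper66)
-/

set_option autoImplicit false
universe u

open CategoryTheory CategoryTheory.Limits AlgebraicGeometry Opposite

namespace Groth.Agent.Lib.Helper66.AlgStImmFacts

open Groth.Agent.Lib.Helper65 Groth.Agent.Lib.Helper66.RepWithPDet AlgSp

variable {S : Scheme.{u}}

theorem stableBC_repWith (Q : MorphismProperty Scheme.{u}) : StableBC (RepWith (S := S) Q) :=
  fun _ _ _ _ _ _ _ _ _ _ _ _ sq ha => MorphismProperty.of_isPullback sq ha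

theorem stableComp_repWith (Q : MorphismProperty Scheme.{u}) [Q.IsStableUnderBaseChange]
    [Q.IsMultiplicative] : StableComp (RepWith (S := S) Q) :=
  fun _ _ _ _ _ _ a b ha hb => (RepWith (S := S) Q).comp_mem a b ha hb

theorem detected_repWith (Q : MorphismProperty Scheme.{u}) : Detected (RepWith (S := S) Q) := by
  intro V Z a h
  have key : ∀ ⦃U : Over S⦄ (g : (yon S).obj U ⟶ Z.obj),
      RepWith Q (pullback.snd a g) := by
    intro U g
    have sq : IsPullback (pullback.fst a g) (pullback.snd a g) a g := IsPullback.of_hasPullback a g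
    have sq' := sq.map (sheafToPresheaf (AlgSp.J S) (Type (u + 1)))
    obtain ⟨hsh, -, hQW⟩ := h g.hom (pullback.fst a g).hom (pullback.snd a g).hom sq'
    exact hQW.1
  refine ⟨?_, ?_⟩
  · intro U g
    have sq : IsPullback (pullback.fst a g) (pullback.snd a g) a g := IsPullback.of_hasPullback a g
    obtain ⟨W, i, fstW, sqW⟩ := (key g).1 (𝟙 _)
    refine ⟨W, i, fstW ≫ pullback.fst a g, ?_⟩
    have := sqW.paste_horiz sq
    rwa [Category.id_comp] at this
  · intro U W g fst snd sqg
    have sq : IsPullback (pullback.fst a g) (pullback.snd a g) a g := IsPullback.of_hasPullback a g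
    let l : (yon S).obj W ⟶ pullback a g := sq.lift fst ((yon S).map snd) sqg.w
    have hl1 : l ≫ pullback.fst a g = fst := sq.lift_fst _ _ _
    have hl2 : l ≫ pullback.snd a g = (yon S).map snd := sq.lift_snd _ _ _
    have big : IsPullback (l ≫ pullback.fst a g) ((yon S).map snd) a (𝟙 _ ≫ g) := by
      rw [hl1, Category.id_comp]
      exact sqg
    have left : IsPullback l ((yon S).map snd) (pullback.snd a g) (𝟙 _) :=
      IsPullback.of_right big (by rw [hl2, Category.comp_id]) sq
    exact (key g).2 (𝟙 _) l snd left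

end Groth.Agent.Lib.Helper66.AlgStImmFacts
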