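import Groth.Agent.Lib.Helper66.AlgStLocQSq5
import Groth.Agent.Lib.Helper65.FpSwap
import Groth.Agent.Lib.Helper65.StPoints2

/-!
# Independence of the chart square
-/

set_option autoImplicit false
set_option backward.isDefEq.respectTransparency false
set_option backward.isDefEq.respectTransparency.types false
universe u

open CategoryTheory CategoryTheory.Limits AlgebraicGeometry Opposite

namespace Groth.Agent.Lib.Helper66.AlgStLocQSq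

open FibCat Groth.Agent.Lib.Helper31 Groth.Agent.Lib.Helper65 Groth.Agent.Lib.Helper66

variable {S : Scheme.{u}}

section Mixed

variable {𝒳 𝒴 𝒵 : AlgSt.Cat S}

/-- Pointwise form of `repByAlgSpWith_comp_mixed`. -/
theorem repAt_comp_mixed (P Q R : MorphismProperty (AlgSp.Sp S)) (hPb : StableBC P)
    (hP : AlgSp.IsLocalOnBase AlgSp.IsFppfCover P)
    (hc : ∀ ⦃X Y Z : AlgSp.Sp S⦄, AlgSp.IsAlgSpace X → AlgSp.IsAlgSpace Y → AlgSp.IsAlgSpace Z →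
      ∀ (a : X ⟶ Y) (b : Y ⟶ Z), P a → Q b → R (a ≫ b))
    (h𝒳 : IsFibGrpd 𝒳.p) (h𝒴 : IsFibGrpd 𝒴.p)
    (f : 𝒳 ⥤ᵇ 𝒴) (g : 𝒴 ⥤ᵇ 𝒵) (hf : AlgSt.RepByAlgSpWith P f) {U : Over S}
    (z : FibCat.overCat U ⥤ᵇ 𝒵) (hg : RepAt Q g U z) : RepAt R (BasedFunctor.comp f g) U z := by
  obtain ⟨G, eG, heG, hb⟩ := hg
  let yG : AlgSt.ofSp G.obj ⥤ᵇ 𝒴 := BasedFunctor.comp eG (fpSnd z g)
  obtain ⟨V, a, E, hE, ⟨i⟩, hPa⟩ := exists_rep_ofSp_of_repByAlgSpWith P hPb hP h𝒳 h𝒴 f hf G yG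
  let Φ : fp yG f ⥤ᵇ fp (fpSnd z g) f :=
    fpMap (F := yG) (G := f) (F' := fpSnd z g) (G' := f) eG (BasedFunctor.id _) (BasedFunctor.id _)
      (Iso.refl _) (Iso.refl _)
  have hΦ : IsEquivOver Φ := fpMap_isEquivOver _ _ _ _ _ heG (isEquivOver_id _) (isEquivOver_id _)
  let Ψ : AlgSt.ofSp V.obj ⥤ᵇ fp z (BasedFunctor.comp f g) :=
    BasedFunctor.comp (BasedFunctor.comp E Φ) (fpPasteSnd z g f)
  have hΨ : IsEquivOver Ψ :=
    isEquivOver_comp _ _ (isEquivOver_comp E Φ hE hΦ) (fpPasteSnd_isEquivOver z g f)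
  refine ⟨V, Ψ, hΨ, ?_⟩
  have j : BasedFunctor.comp Ψ (fpFst z (BasedFunctor.comp f g)) ≅
      BasedFunctor.comp (AlgSt.ofSpMap a.hom) (BasedFunctor.comp eG (fpFst z g)) :=
    bWhiskerRightIso i (BasedFunctor.comp eG (fpFst z g))
  rw [spMapOfOver_congr j, spMapOfOver_ofSpMap_comp]
  exact hc V.property G.property (AlgSp.IsAlgSpace.yon_obj U) a.hom _ hPa hb

end Mixed

section Pre

variable {𝒲 𝒳 𝒴 : AlgSt.Cat S}

/-- Precomposition with a smooth morphism. -/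
theorem locQ_precomp_smooth (P : MorphismProperty (AlgSp.Sp S)) (hP : AlgSp.IsSmoothLocalST P)
    (h𝒲 : IsFibGrpd 𝒲.p) (h𝒳 : IsFibGrpd 𝒳.p) (h𝒴 : IsFibGrpd 𝒴.p)
    (c : 𝒲 ⥤ᵇ 𝒳) (g : 𝒳 ⥤ᵇ 𝒴) (hc : AlgSt.RepByAlgSpWith (AlgSp.LocP @Smooth) c)
    (hg : AlgSt.LocQ P g) : AlgSt.LocQ P (BasedFunctor.comp c g) := by
  obtain ⟨U₁, V₁, x₁, y₁, k₁, α₁, hx₁, hx₁s, hy₁, hk₁⟩ := exists_space_square_of_locQ P g hg
  have h𝒲' : IsFibGrpd (fp c x₁).p := isFibGrpd_fp c x₁ h𝒲 (Stk.isFibGrpd_ofPsh _) h𝒳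
  let p : fp c x₁ ⥤ᵇ 𝒲 := fpFst c x₁
  let h : fp c x₁ ⥤ᵇ AlgSt.ofSp V₁.obj := BasedFunctor.comp (fpSnd c x₁) (AlgSt.ofSpMap k₁.hom)
  have hp : AlgSt.RepByAlgSpWith (AlgSp.LocP @Smooth) p := repByAlgSpWith_fpFst _ x₁ c hx₁
  have hps : AlgSt.RepByAlgSpWith AlgSp.IsSurjectiveMor p := repByAlgSpWith_fpFst _ x₁ c hx₁s
  have hh : SmRep P h := fun T t ht =>
    repAt_comp_mixed (AlgSp.LocP @Smooth) P P stableBC_locP_smooth isLocalOnBase_fppf_locP_smooth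
      (fun X Y Z hX hY hZ a b ha hb => hP.precomp hX hY hZ a b ha hb)
      h𝒲' (Stk.isFibGrpd_ofPsh _) (fpSnd c x₁) (AlgSt.ofSpMap k₁.hom)
      (Groth.Agent.Lib.Helper66.AlgStBC.repByAlgSpWith_fpSnd _ x₁ c hc) t
      (smRep_ofSpMap P hP k₁.hom hk₁ T t ht)
  let β : BasedFunctor.comp p (BasedFunctor.comp c g) ≅ BasedFunctor.comp h y₁ :=
    bWhiskerRightIso (fpIso c x₁) g ≪≫ bWhiskerLeftIso (fpSnd c x₁) α₁
  exact locQ_of_stack_square P hP h𝒲 h𝒴 h𝒲' (Stk.isFibGrpd_ofPsh _) (isAlgStack_ofSp V₁).atlas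
    (BasedFunctor.comp c g) p y₁ h β hp hps hy₁ hh

end Pre

section Indep

variable {𝒳 𝒴 : AlgSt.Cat S}

/-- The property read on a chart square, for the functor of a morphism of schemes. -/
theorem prop_of_locQ_overMap (P : MorphismProperty (AlgSp.Sp S)) (hP : AlgSp.IsSmoothLocalST P)
    {U V : Over S} (k : U ⟶ V) (h : AlgSt.LocQ P (AlgSt.overMap k)) : P ((AlgSp.yon S).map k) := by
  obtain ⟨U', V', x', y', k', α', hx', hx's, hy', hk'⟩ := h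
  let UU : AlgSp.Space S := ⟨(AlgSp.yon S).obj U, AlgSp.IsAlgSpace.yon_obj U⟩
  let VV : AlgSp.Space S := ⟨(AlgSp.yon S).obj V, AlgSp.IsAlgSpace.yon_obj V⟩
  let kk : UU ⟶ VV := ObjectProperty.homMk ((AlgSp.yon S).map k)
  have e1 : BasedFunctor.comp (BasedFunctor.comp x' (AlgSt.ofOverCat U)) (AlgSt.ofSpMap kk.hom) =
      BasedFunctor.comp (BasedFunctor.comp x' (AlgSt.overMap k)) (AlgSt.ofOverCat V) := rfl
  have e2 : BasedFunctor.comp (BasedFunctor.comp (AlgSt.overMap k') y') (AlgSt.ofOverCat V) =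
      BasedFunctor.comp (AlgSt.overMap k') (BasedFunctor.comp y' (AlgSt.ofOverCat V)) := rfl
  exact prop_of_locQ_ofSpMap P hP UU VV kk
    ⟨U', V', BasedFunctor.comp x' (AlgSt.ofOverCat U), BasedFunctor.comp y' (AlgSt.ofOverCat V), k',
      eqToIso e1 ≪≫ bWhiskerRightIso α' (AlgSt.ofOverCat V) ≪≫ eqToIso e2,
      Groth.Agent.Lib.Helper66.AlgStEquiv.repByAlgSpWith_comp_equiv _ x' _ (ofOverCat_isEquivOver U) hx',
      Groth.Agent.Lib.Helper66.AlgStEquiv.repByAlgSpWith_comp_equiv _ x' _ (ofOverCat_isEquivOver U) hx's,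
      Groth.Agent.Lib.Helper66.AlgStEquiv.repByAlgSpWith_comp_equiv _ y' _ (ofOverCat_isEquivOver V) hy',
      hk'⟩

/-- Chart independence: if `f` has `P` read on one chart square then `P` holds on every chart square whose
induced map to the fibre product is smooth. -/
theorem prop_of_locQ_of_smooth_square (P : MorphismProperty (AlgSp.Sp S)) (hP : AlgSp.IsSmoothLocalST P)
    (h𝒳 : AlgSt.IsAlgStack Scheme.fppfPrecoverage 𝒳) (h𝒴 : AlgSt.IsAlgStack Scheme.fppfPrecoverage 𝒴)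
    (f : 𝒳 ⥤ᵇ 𝒴) (hf : AlgSt.LocQ P f) (U V : Over S) (x : FibCat.overCat U ⥤ᵇ 𝒳)
    (y : FibCat.overCat V ⥤ᵇ 𝒴) (k : U ⟶ V)
    (α : BasedFunctor.comp x f ≅ BasedFunctor.comp (AlgSt.overMap k) y)
    (hy : AlgSt.RepByAlgSpWith (AlgSp.LocP @Smooth) y)
    (hc : AlgSt.RepByAlgSpWith (AlgSp.LocP @Smooth) (FibCat.fpLift x (AlgSt.overMap k) α)) :
    P ((AlgSp.yon S).map k) := by
  have hU := isAlgStack_overCat U
  have hV := isAlgStack_overCat V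
  have h1 : AlgSt.LocQ P (fpFst y f) := locQ_fpFst_of_smooth P hP h𝒳 h𝒴 hV f y hy hf
  have hfp : AlgSt.IsAlgStack Scheme.fppfPrecoverage (fp y f) :=
    Groth.Agent.S12763.result h𝒴.isStack h𝒴.diag hV h𝒳 y f
  let c' : FibCat.overCat U ⥤ᵇ fp y f :=
    BasedFunctor.comp (FibCat.fpLift x (AlgSt.overMap k) α) (fpSwap f y)
  have hc' : AlgSt.RepByAlgSpWith (AlgSp.LocP @Smooth) c' :=
    Groth.Agent.Lib.Helper66.AlgStEquiv.repByAlgSpWith_comp_equiv _ _ _ (fpSwap_isEquivOver f y) hc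
  have h2 : AlgSt.LocQ P (BasedFunctor.comp c' (fpFst y f)) :=
    locQ_precomp_smooth P hP hU.isStack.1 hfp.isStack.1 hV.isStack.1 c' (fpFst y f) hc' h1
  have e : BasedFunctor.comp c' (fpFst y f) = AlgSt.overMap k := rfl
  rw [e] at h2
  exact prop_of_locQ_overMap P hP k h2

end Indep

end Groth.Agent.Lib.Helper66.AlgStLocQSq
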