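import Groth.Agent.Lib.Helper66.SmBoot9
import Groth.Agent.Lib.Helper65.SetoidPsh
import Groth.Agent.Lib.Helper65.AlgStInv
import Groth.Agent.Lib.Helper65.OfPshStack
import Groth.Agent.Lib.Helper65.RepPsh

/-!
# Helper66, smooth bootstrap 10: an algebraic stack fibred in setoids is representable by an algebraic space
-/

set_option autoImplicit false

universe u

open CategoryTheory CategoryTheory.Limits AlgebraicGeometry

namespace Groth.Agent.Lib.Helper66.SmBoot

open AlgSp Groth.Agent.Lib.Helper65 FibCat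

variable {S : Scheme.{u}}

instance locP_respectsIso (P : MorphismProperty Scheme.{u}) : (LocP (S := S) P).RespectsIso := by
  have hE : (RepWith (S := S) @Etale).RespectsIso := inferInstance
  apply MorphismProperty.RespectsIso.mk
  · intro X Y Z e f hf U V a b h ha hb w
    exact hf (a ≫ e.hom) b h (MorphismProperty.RespectsIso.postcomp _ e.hom a ha) hb
      (by rw [Category.assoc, w])
  · intro X Y Z e f hf U V a b h ha hb w
    refine hf a (b ≫ e.inv) h ha (MorphismProperty.RespectsIso.postcomp _ e.inv b hb) ?_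
    rw [← Category.assoc, ← w, Category.assoc, Category.assoc, e.hom_inv_id, Category.comp_id]

instance isSurjectiveMor_respectsIso : (IsSurjectiveMor (S := S)).RespectsIso := by
  have hiso : ∀ {X Y : Sp S} (e : X ≅ Y), Function.Surjective (Points.map e.hom) := by
    intro X Y e y
    exact ⟨Points.map e.inv y, by rw [← Points.map_comp, e.inv_hom_id, Points.map_id]⟩
  apply MorphismProperty.RespectsIso.mk
  · intro X Y Z e f hf z
    obtain ⟨y, hy⟩ := hf z
    obtain ⟨x, hx⟩ := hiso e y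
    exact ⟨x, by rw [Points.map_comp, hx, hy]⟩
  · intro X Y Z e f hf z
    obtain ⟨y, hy⟩ := hiso e z
    obtain ⟨x, hx⟩ := hf y
    exact ⟨x, by rw [Points.map_comp, hx, hy]⟩

/-- **An algebraic stack fibred in setoids is representable by an algebraic space.** -/
theorem repByAlgSp_of_isAlgStack_of_isFibSetoid {𝒳 : AlgSt.Cat S}
    (h𝒳 : AlgSt.IsAlgStack Scheme.fppfPrecoverage 𝒳) (hset : FibCat.IsFibSetoid 𝒳.p) :
    AlgSt.RepByAlgSp 𝒳 := by
  obtain ⟨P, E, hE⟩ := exists_psh_of_isFibSetoid hset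
  obtain ⟨E', hE', -, -⟩ := exists_inverse_equivOver E hE
  have h𝒴 : AlgSt.IsAlgStack Scheme.fppfPrecoverage (Stk.ofPsh P) :=
    isAlgStack_of_equivOver _ E' hE' h𝒳
  have hP : Presheaf.IsSheaf (J S) P :=
    (isSheaf_iff_isSheaf_of_type _ _).2 ((isStack_ofPsh_iff _ P).1 h𝒴.isStack)
  let F : Sp S := ⟨P, hP⟩
  obtain ⟨U, x, hx1, hx2⟩ := h𝒴.atlas
  let y : Stk.ofPsh ((pyon S).obj U) ⥤ᵇ Stk.ofPsh P := BasedFunctor.comp (AlgSt.toOverCat U) x
  let p₀ : (pyon S).obj U ⟶ P := pshMapOf y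
  have hsq : ∀ (Q : MorphismProperty (Sp S)), AlgSt.RepByAlgSpWith Q x →
      AlgSt.RepByAlgSpWith Q (Stk.ofPshMap p₀) := by
    intro Q hQ
    refine repByAlgSpWith_of_square Q x (Stk.ofPshMap p₀) (AlgSt.toOverCat U) (BasedFunctor.id _)
      (toOverCat_isEquivOver U) (isEquivOver_id _) ?_ hQ
    exact (isoOfPshMap y).symm
  have h1 := hsq _ hx1
  have h2 := hsq _ hx2
  have hrep : RepBySp p₀ := by
    apply repBySp_of_repByAlgSp1
    intro V z
    obtain ⟨G, e, he, -⟩ := h1 V z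
    exact ⟨G, e, he⟩
  have hp1 : RepBySpWith (LocP @Smooth) p₀ := repBySpWith_of_repByAlgSpWith p₀ _ hrep h1
  have hp2 : RepBySpWith IsSurjectiveMor p₀ := repBySpWith_of_repByAlgSpWith p₀ _ hrep h2
  have hp : RepBySpWith (IsSurjectiveMor ⊓ LocP @Smooth) p₀ := by
    intro V ξ F' fst snd sq
    obtain ⟨hsh, hA, hs⟩ := hp2 ξ fst snd sq
    obtain ⟨_, _, hsm⟩ := hp1 ξ fst snd sq
    exact ⟨hsh, hA, hs, hsm⟩
  have hF : IsAlgSpace F :=
    isAlgSpace_of_repBySpWith_smooth_surjective (IsAlgSpace.yon_obj U)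
      (ObjectProperty.homMk p₀ : (yon S).obj U ⟶ F) hp
  exact ⟨⟨F, hF⟩, E, hE⟩

end Groth.Agent.Lib.Helper66.SmBoot
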