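import Groth.Agent.Lib.Helper65.MonoFull
import Groth.Agent.Lib.Helper65.LocalEss
import Groth.Agent.Lib.Helper65.FpSwap
import Groth.Agent.S12762

/-!
# Helper66: a fully faithful 1-morphism of algebraic stacks is a monomorphism
-/

set_option autoImplicit false

universe u

open CategoryTheory CategoryTheory.Limits AlgebraicGeometry Opposite FibCat Groth.Agent.Lib.Helper65

namespace Groth.Agent.Lib.Helper66.MonoOfFull

variable {S : Scheme.{u}}

/-- A full functor `ofSp F ⟶ (Sch/U)` over the base induces a monomorphism of sheaves. -/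
theorem mono_spMapOfOver_of_full {F : AlgSp.Sp S} {U : Over S} (Φ : AlgSt.ofSp F ⥤ᵇ FibCat.overCat U)
    [Φ.toFunctor.Full] : Mono (AlgSt.spMapOfOver Φ) := by
  apply (Sheaf.Hom.mono_iff_presheaf_mono (AlgSp.J S) (Type (u + 1)) _).2
  apply (NatTrans.mono_iff_mono_app _).2
  intro T
  apply (mono_iff_injective _).2
  intro x x' hxx'
  have h : AlgSt.secHom Φ ⟨T.unop, x⟩ = AlgSt.secHom Φ ⟨T.unop, x'⟩ := congrArg ULift.down hxx'
  let a : (AlgSt.ofSp F).obj := ⟨T.unop, x⟩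
  let b : (AlgSt.ofSp F).obj := ⟨T.unop, x'⟩
  have h' : eqToHom (Φ.w_obj a).symm ≫ (Φ.obj a).hom = eqToHom (Φ.w_obj b).symm ≫ (Φ.obj b).hom := h
  have h6 := congrArg (fun m => eqToHom (Φ.w_obj a) ≫ m) h'
  simp only [eqToHom_trans_assoc, eqToHom_refl, Category.id_comp] at h6
  let k : Φ.obj a ⟶ Φ.obj b := Over.homMk (eqToHom (Φ.w_obj a) ≫ eqToHom (Φ.w_obj b).symm) (by
    rw [Category.assoc]; exact h6.symm)
  obtain ⟨l, hl⟩ := Φ.toFunctor.map_surjective k
  have h2 : (Φ.map l).left = eqToHom (Φ.w_obj a) ≫ l.hom ≫ eqToHom (Φ.w_obj b).symm :=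
    IsHomLift.fac' (FibCat.overCat U).p ((AlgSt.ofSp F).p.map l) (Φ.map l)
  have h3 : (Φ.map l).left = eqToHom (Φ.w_obj a) ≫ eqToHom (Φ.w_obj b).symm := by
    change (Φ.toFunctor.map l).left = _
    rw [hl]
    rfl
  have hlhom : l.hom = 𝟙 _ := by
    have h4 := h2.symm.trans h3
    have h5 := congrArg (fun m => eqToHom (Φ.w_obj a).symm ≫ m ≫ eqToHom (Φ.w_obj b)) h4
    simpa using h5
  have hsec : F.obj.map l.hom.op x' = x := l.map_sec
  rw [hlhom, psh_map_id] at hsec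
  exact hsec.symm

/-- A fully faithful 1-morphism of algebraic stacks is a monomorphism. -/
theorem isMono_of_full_faithful {𝒳 𝒴 : AlgSt.Cat S}
    (h𝒳 : AlgSt.IsAlgStack Scheme.fppfPrecoverage 𝒳) (h𝒴 : AlgSt.IsAlgStack Scheme.fppfPrecoverage 𝒴)
    (f : 𝒳 ⥤ᵇ 𝒴) [f.toFunctor.Full] [f.toFunctor.Faithful] : AlgSt.IsMono f := by
  intro U y
  obtain ⟨F, e, he⟩ := (Groth.Agent.S12762.result h𝒳 h𝒴 f).1 inferInstance U y
  refine ⟨F, e, he, ?_⟩
  have h1 : (fpSnd f y).toFunctor.Full := fpSnd_full f y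
  have h2 : (fpSwap y f).toFunctor.Full :=
    (Groth.Agent.Lib.Helper31.isEquivalence_of_isEquivOver _ (fpSwap_isEquivOver y f)).full
  have h3 : e.toFunctor.Full :=
    (Groth.Agent.Lib.Helper31.isEquivalence_of_isEquivOver _ he).full
  have h4 : (fpFst y f).toFunctor.Full := by
    rw [← fpSwap_comp_fpSnd y f]
    exact Functor.Full.comp (fpSwap y f).toFunctor (fpSnd f y).toFunctor
  have h5 : (BasedFunctor.comp e (fpFst y f)).toFunctor.Full :=
    Functor.Full.comp e.toFunctor (fpFst y f).toFunctor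
  have := mono_spMapOfOver_of_full (BasedFunctor.comp e (fpFst y f))
  exact MorphismProperty.monomorphisms.infer_property _

end Groth.Agent.Lib.Helper66.MonoOfFull
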