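import Groth.Prelude.Def_FibCat2
import Groth.Agent.Lib.Helper66.StackDiag

/-!
# Lifting a functor to `𝒳 ×_𝒴 𝒳` through `𝒳' ×_{𝒴'} 𝒳' ⟶ 𝒳 ×_𝒴 𝒳`

For `f : 𝒳 ⟶ 𝒴`, `g : 𝒴' ⟶ 𝒴`, `𝒳' = 𝒴' ×_𝒴 𝒳`, a functor `t : 𝒰 ⟶ 𝒳 ×_𝒴 𝒳` together with
`A : 𝒰 ⟶ 𝒴'` and `β : A ≫ g ≅ t ≫ pr₁ ≫ f` lifts to `𝒰 ⟶ 𝒳' ×_{𝒴'} 𝒳'` (`dQ` is a base change of `g`).
-/

set_option autoImplicit false
set_option backward.isDefEq.respectTransparency false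
set_option backward.isDefEq.respectTransparency.types false
universe v₇ u₇ v₆ u₆ v₅ u₅ v₄ u₄ v₃ u₃ v₂ u₂ v u

open CategoryTheory

namespace Groth.Agent.Lib.Helper66.StackLift

open Groth.Agent.Lib.Helper90.LiftSqComp Groth.Agent.Lib.Helper90.LiftSqFp
open Groth.Agent.Lib.Helper66.StackBC Groth.Agent.Lib.Helper66.StackDiag

variable {C : Type u} [Category.{v} C]
  {𝒳 : BasedCategory.{v₄, u₄} C} {𝒴 : BasedCategory.{v₅, u₅} C} {𝒴' : BasedCategory.{v₆, u₆} C}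
  {𝒰 : BasedCategory.{v₇, u₇} C}

variable (f : 𝒳 ⥤ᵇ 𝒴) (g : 𝒴' ⥤ᵇ 𝒴) (t : 𝒰 ⥤ᵇ FibCat.fp f f) (A : 𝒰 ⥤ᵇ 𝒴')
  (β : BasedFunctor.comp A g ≅ BasedFunctor.comp (BasedFunctor.comp t (FibCat.fpFst f f)) f)

/-- first component of the lift -/
def lA : 𝒰 ⥤ᵇ FibCat.fp g f :=
  FibCat.fpLift A (BasedFunctor.comp t (FibCat.fpFst f f)) β

/-- the 2-isomorphism of the second component -/
def lBIso : BasedFunctor.comp A g ≅ BasedFunctor.comp (BasedFunctor.comp t (FibCat.fpSnd f f)) f :=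
  β ≪≫ whiskerLeftIso t (FibCat.fpIso f f)

/-- second component of the lift -/
def lB : 𝒰 ⥤ᵇ FibCat.fp g f :=
  FibCat.fpLift A (BasedFunctor.comp t (FibCat.fpSnd f f)) (lBIso f g t A β)

/-- the lift `𝒰 ⟶ 𝒳' ×_{𝒴'} 𝒳'` -/
def lift : 𝒰 ⥤ᵇ FibCat.fp (FibCat.fpFst g f) (FibCat.fpFst g f) :=
  FibCat.fpLift (lA f g t A β) (lB f g t A β) (Iso.refl A)

/-- the lift followed by `dQ` is `t` -/
def liftIso : BasedFunctor.comp (lift f g t A β) (dQ f g) ≅ t :=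
  fpIsoMk (Iso.refl _) (Iso.refl _) (fun w => by
    simp [lift, lA, lB, lBIso, dQ, dQIso]
    have h2 : g.map (app (BasedNatTrans.id A) w) = 𝟙 _ := g.map_id _
    have h3 : app β.inv w ≫ app β.hom w = 𝟙 _ := app_inv_hom β w
    rw [h2, Category.id_comp, ← Category.assoc, h3]
    exact (Category.id_comp _).symm)

theorem lift_comp_fst :
    BasedFunctor.comp (lift f g t A β)
      (BasedFunctor.comp (FibCat.fpFst (FibCat.fpFst g f) (FibCat.fpFst g f)) (FibCat.fpFst g f)) = A := rfl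

end Groth.Agent.Lib.Helper66.StackLift
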