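import Groth.Prelude.Def_AlgSt3
import Groth.Agent.Lib.Helper65.RepDesc
import Groth.Agent.Lib.Helper66.StackLift
import Groth.Agent.H52.FibreProd

/-!
# The diagonal of a morphism representable by algebraic spaces

For `f : 𝒳 ⟶ 𝒴` representable by algebraic spaces, every base change of the diagonal `𝒳 ⟶ 𝒳 ×_𝒴 𝒳` to a scheme
`T` is a base change of the diagonal of the algebraic space `T ×_𝒴 𝒳` over `T`.
-/

set_option autoImplicit false
set_option backward.isDefEq.respectTransparency false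
set_option backward.isDefEq.respectTransparency.types false
universe u

open CategoryTheory CategoryTheory.Limits AlgebraicGeometry Opposite

namespace Groth.Agent.Lib.Helper66.AlgStBridge

open FibCat Groth.Agent.Lib.Helper31 Groth.Agent.Lib.Helper65

variable {S : Scheme.{u}} {𝒳 𝒴 : AlgSt.Cat S}

section OfSpMap

variable {V G : AlgSp.Sp S} (a : V ⟶ G)

theorem sq_presheaf :
    IsPullback (pullback.fst a a).hom (pullback.snd a a).hom a.hom a.hom :=
  (IsPullback.of_hasPullback a a).map (sheafToPresheaf (AlgSp.J S) (Type (u + 1)))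

theorem diagonal_fst_app (T : (Over S)ᵒᵖ) (x : V.obj.obj T) :
    (pullback.fst a a).hom.app T ((pullback.diagonal a).hom.app T x) = x := by
  have h : pullback.diagonal a ≫ pullback.fst a a = 𝟙 V := pullback.diagonal_fst a
  have h' := congrArg (fun φ : V ⟶ V => φ.hom.app T x) h
  exact h'

theorem diagonal_snd_app (T : (Over S)ᵒᵖ) (x : V.obj.obj T) :
    (pullback.snd a a).hom.app T ((pullback.diagonal a).hom.app T x) = x := by
  have h : pullback.diagonal a ≫ pullback.snd a a = 𝟙 V := pullback.diagonal_snd a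
  have h' := congrArg (fun φ : V ⟶ V => φ.hom.app T x) h
  exact h'

/-- `ofSp Δ_a` followed by the identification `ofSp (V ×_G V) ≃ ofSp V ×_{ofSp G} ofSp V` is the diagonal. -/
noncomputable def diagIso :
    BasedFunctor.comp (AlgSt.ofSpMap (pullback.diagonal a)) (pbLift (sq_presheaf a).w) ≅
      BasedFunctor.comp (BasedFunctor.id _) (FibCat.diag (AlgSt.ofSpMap a)) :=
  Groth.Agent.Lib.Helper90.LiftSqFp.fpIsoMk
    (isoOfSecEq (fun x => by
      change secOf (Stk.ofPshMap ((pullback.diagonal a).hom ≫ (pullback.fst a a).hom)) x =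
        secOf (Stk.ofPshMap (𝟙 V.obj)) x
      rw [secOf_ofPshMap, secOf_ofPshMap]
      exact diagonal_fst_app a _ _))
    (isoOfSecEq (fun x => by
      change secOf (Stk.ofPshMap ((pullback.diagonal a).hom ≫ (pullback.snd a a).hom)) x =
        secOf (Stk.ofPshMap (𝟙 V.obj)) x
      rw [secOf_ofPshMap, secOf_ofPshMap]
      exact diagonal_snd_app a _ _))
    (fun w => by
      apply Stk.EltObj.hom_ext
      rw [Stk.EltObj.comp_hom, Stk.EltObj.comp_hom]
      change (𝟙 w.base : w.base ⟶ w.base) ≫ 𝟙 w.base = 𝟙 w.base ≫ 𝟙 w.base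
      rfl)

end OfSpMap

section Step2

/-- The diagonal of `ofSp V ⟶ ofSp G` has `P` when the diagonal `V ⟶ V ×_G V` has `P`. -/
theorem repByAlgSpWith_diag_ofSpMap (P : MorphismProperty (AlgSp.Sp S)) (hPb : StableBC P)
    {V G : AlgSp.Space S} (a : V.obj ⟶ G.obj) (hP : P (pullback.diagonal a)) :
    AlgSt.RepByAlgSpWith P (FibCat.diag (AlgSt.ofSpMap a)) := by
  have hD : AlgSp.IsAlgSpace (pullback a a) :=
    Groth.Agent.H52.isAlgSpace_of_isPullback (IsPullback.of_hasPullback a a) V.property G.property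
      V.property
  have h1 : AlgSp.RepBySpWith P (pullback.diagonal a).hom :=
    repBySpWith_of_prop P hPb (V := V) (Z := ⟨pullback a a, hD⟩) (pullback.diagonal a) hP
  have h2 : AlgSt.RepByAlgSpWith P (Stk.ofPshMap (pullback.diagonal a).hom) :=
    repByAlgSpWith_of_repBySpWith (pullback.diagonal a).hom P h1
  exact repByAlgSpWith_of_square' P (FibCat.diag (AlgSt.ofSpMap a))
    (AlgSt.ofSpMap (pullback.diagonal a)) (BasedFunctor.id _) (pbLift (sq_presheaf a).w)
    (isEquivOver_id _) (pbLift_isEquivOver (sq_presheaf a)) (diagIso a) h2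

end Step2

section Bridge

open Groth.Agent.Lib.Helper66.StackDiag Groth.Agent.Lib.Helper66.StackLift

/-- invariance of the diagonal under an equivalence of the source and of the target -/
theorem repByAlgSpWith_diag_of_equiv {𝒳' 𝒴' : AlgSt.Cat S} (P : MorphismProperty (AlgSp.Sp S))
    {F : 𝒳 ⥤ᵇ 𝒴} {F' : 𝒳' ⥤ᵇ 𝒴'} (a : 𝒳 ⥤ᵇ 𝒳') (c : 𝒴 ⥤ᵇ 𝒴') (ha : IsEquivOver a) (hc : IsEquivOver c)
    (α : BasedFunctor.comp F c ≅ BasedFunctor.comp a F') :
    AlgSt.RepByAlgSpWith P (FibCat.diag F') ↔ AlgSt.RepByAlgSpWith P (FibCat.diag F) :=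
  repByAlgSpWith_iff_of_square P (FibCat.diag F') (FibCat.diag F) a (fpMap a a c α α) ha
    (fpMap_isEquivOver _ _ _ _ _ ha ha hc) (diagSquare a c α)

/-- **The diagonal of a morphism representable by algebraic spaces**: if every base change of `f` to a scheme
has `Q`, and the diagonal of every morphism of algebraic spaces with `Q` to a scheme has `P`, then the diagonal of
`f` has `P`. -/
theorem repByAlgSpWith_diag_of_rep (P Q : MorphismProperty (AlgSp.Sp S)) (hPb : StableBC P)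
    (f : 𝒳 ⥤ᵇ 𝒴) (hf : AlgSt.RepByAlgSpWith Q f)
    (hQP : ∀ (V : AlgSp.Space S) (T : Over S) (a : V.obj ⟶ (AlgSp.yon S).obj T), Q a →
      P (pullback.diagonal a)) :
    AlgSt.RepByAlgSpWith P (FibCat.diag f) := by
  intro T t
  let y : FibCat.overCat T ⥤ᵇ 𝒴 := BasedFunctor.comp (BasedFunctor.comp t (FibCat.fpFst f f)) f
  obtain ⟨V, e, he, hQ⟩ := hf T y
  let a : V.obj ⟶ (AlgSp.yon S).obj T := AlgSt.spMapOfOver (BasedFunctor.comp e (FibCat.fpFst y f))
  let Z : AlgSp.Space S := ⟨(AlgSp.yon S).obj T, AlgSp.IsAlgSpace.yon_obj T⟩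
  have hA : AlgSt.RepByAlgSpWith P (FibCat.diag (AlgSt.ofSpMap a)) :=
    repByAlgSpWith_diag_ofSpMap P hPb (V := V) (G := Z) a (hQP V T a hQ)
  -- transfer to `π = fpFst y f`
  have hB : AlgSt.RepByAlgSpWith P (FibCat.diag (FibCat.fpFst y f)) :=
    (repByAlgSpWith_diag_of_equiv P (F := AlgSt.ofSpMap a) (F' := FibCat.fpFst y f) e (AlgSt.toOverCat T) he
      (toOverCat_isEquivOver T) (isoSpMapOfOver (BasedFunctor.comp e (FibCat.fpFst y f))).symm).2 hA
  -- the lift of `t`
  let β : BasedFunctor.comp (BasedFunctor.id (FibCat.overCat T)) y ≅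
      BasedFunctor.comp (BasedFunctor.comp t (FibCat.fpFst f f)) f := Iso.refl _
  let ℓ := lift f y t (BasedFunctor.id _) β
  let Ψ₁ := dXi f y ℓ
  have hΨ₁ : IsEquivOver Ψ₁ := ⟨dTh f y ℓ, ⟨dXiTh f y ℓ⟩, ⟨dThXi f y ℓ⟩⟩
  let Ψ₂ : fp (BasedFunctor.comp ℓ (dQ f y)) (FibCat.diag f) ⥤ᵇ fp t (FibCat.diag f) :=
    fpMap (F := BasedFunctor.comp ℓ (dQ f y)) (G := FibCat.diag f) (F' := t) (G' := FibCat.diag f)
      (BasedFunctor.id _) (BasedFunctor.id _) (BasedFunctor.id _) (liftIso f y t (BasedFunctor.id _) β)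
      (Iso.refl _)
  have hΨ₂ : IsEquivOver Ψ₂ :=
    fpMap_isEquivOver _ _ _ _ _ (isEquivOver_id _) (isEquivOver_id _) (isEquivOver_id _)
  exact exists_rep_of_equiv P (BasedFunctor.comp Ψ₁ Ψ₂) (isEquivOver_comp _ _ hΨ₁ hΨ₂) (Iso.refl _)
    (hB T ℓ)

end Bridge

end Groth.Agent.Lib.Helper66.AlgStBridge
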