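import Groth.Agent.Lib.Helper65.DiagRep
import Groth.Agent.Lib.Helper65.SpaceDM
import Groth.Agent.Lib.Helper65.StQC
import Groth.Agent.Lib.Helper66.AlgStImmFacts
import Groth.Agent.Lib.Helper66.AlgStBridge
import Groth.Agent.H53.ProperSep
import Groth.Agent.H53.Finite
import Groth.Agent.Lib.Helper66.AlgStPFacts

/-!
# Helper66: the projection `T × U ⟶ T` of slices, as a morphism of stacks
-/

set_option autoImplicit false
set_option backward.isDefEq.respectTransparency false
set_option backward.isDefEq.respectTransparency.types false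

universe u

open CategoryTheory CategoryTheory.Functor CategoryTheory.Limits AlgebraicGeometry

namespace Groth.Agent.Lib.Helper66.ProdSliceFst

open FibCat Groth.Agent.Lib.Helper31 Groth.Agent.Lib.Helper65
open Groth.Agent.Lib.Helper90.LiftSqComp Groth.Agent.Lib.Helper66.StackCmp

variable {S : Scheme.{u}} {𝒳 : AlgSt.Cat S}

/-- The product of two slices mapping to `𝒳` is a slice, compatibly with the first projections. -/
theorem exists_prodSlice_equiv_fst {T U : Over S} (x : FibCat.overCat T ⥤ᵇ 𝒳)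
    (u : FibCat.overCat U ⥤ᵇ 𝒳) :
    ∃ y : FibCat.overCat (T ⨯ U) ⥤ᵇ fp (BasedFunctor.comp x (toSelf 𝒳)) (BasedFunctor.comp u (toSelf 𝒳)),
      IsEquivOver y ∧
      BasedFunctor.comp y (fpFst (BasedFunctor.comp x (toSelf 𝒳)) (BasedFunctor.comp u (toSelf 𝒳))) =
        AlgSt.overMap (prod.fst : T ⨯ U ⟶ T) := by
  let t := toSelf 𝒳
  let y₀ : overCat (T ⨯ U) ⥤ᵇ fp (toSelf (overCat T)) (toSelf (overCat U)) :=
    overProdLift (prod.fst : T ⨯ U ⟶ T) (prod.snd : T ⨯ U ⟶ U)
  have hy₀ : IsEquivOver y₀ := overProdLift_isEquivOver _ _ (prodIsProd T U)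
  let m : fp (toSelf (overCat T)) (toSelf (overCat U)) ⥤ᵇ
      fp (BasedFunctor.comp x t) (BasedFunctor.comp u t) :=
    fpMap (F := toSelf (overCat T)) (G := toSelf (overCat U)) (F' := BasedFunctor.comp x t)
      (G' := BasedFunctor.comp u t) (BasedFunctor.id _) (BasedFunctor.id _) (BasedFunctor.id _)
      (toSelfIso x) (toSelfIso u)
  have hm : IsEquivOver m := fpMap_isEquivOver _ _ _ _ _ (isEquivOver_id _) (isEquivOver_id _)
    (isEquivOver_id _)
  exact ⟨BasedFunctor.comp y₀ m, isEquivOver_comp y₀ m hy₀ hm, rfl⟩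

end Groth.Agent.Lib.Helper66.ProdSliceFst

namespace Groth.Agent.Lib.Helper66.ProdSliceFst

open FibCat Groth.Agent.Lib.Helper31 Groth.Agent.Lib.Helper65
open Groth.Agent.Lib.Helper90.LiftSqComp Groth.Agent.Lib.Helper66.StackCmp

variable {S : Scheme.{u}} {𝒳 : AlgSt.Cat S}

/-- `overMap g` for a morphism of schemes `g` with `Q` is representable with `Q`. -/
theorem repByAlgSpWith_overMap_of_prop (Q : MorphismProperty Scheme.{u}) [Q.IsStableUnderBaseChange]
    {W T : Over S} (g : W ⟶ T) (hg : Q g.left) :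
    AlgSt.RepByAlgSpWith (AlgSp.RepWith Q) (AlgSt.overMap g) := by
  let TT : AlgSp.Space S := ⟨(AlgSp.yon S).obj T, AlgSp.IsAlgSpace.yon_obj T⟩
  have h1 : AlgSt.RepByAlgSpWith (AlgSp.RepWith Q)
      (BasedFunctor.comp (AlgSt.ofOverCat W) (AlgSt.ofSpMap ((AlgSp.yon S).map g))) :=
    repByAlgSpWith_of_prop _ (Groth.Agent.Lib.Helper66.AlgStImmFacts.stableBC_repWith Q) TT W _
      ((AlgSp.repWith_yon_map_iff Q g).2 hg)
  exact repByAlgSpWith_of_square (AlgSp.RepWith Q)
    (BasedFunctor.comp (AlgSt.ofOverCat W) (AlgSt.ofSpMap ((AlgSp.yon S).map g))) (AlgSt.overMap g)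
    (BasedFunctor.id _) (AlgSt.ofOverCat T) (isEquivOver_id _) (ofOverCat_isEquivOver T) (Iso.refl _) h1

end Groth.Agent.Lib.Helper66.ProdSliceFst

namespace Groth.Agent.Lib.Helper66.ProdSliceFst

open FibCat Groth.Agent.Lib.Helper31 Groth.Agent.Lib.Helper65
open Groth.Agent.Lib.Helper90.LiftSqComp Groth.Agent.Lib.Helper66.StackCmp

variable {S : Scheme.{u}} {𝒳 : AlgSt.Cat S}

theorem isSeparated_prod_fst (T U : Over S) [IsSeparated U.hom] :
    IsSeparated (prod.fst : T ⨯ U ⟶ T).left := by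
  rw [← Over.prodLeftIsoPullback_hom_fst]
  infer_instance

/-- For `U` separated over `S`, the projection `T ×_S U ⟶ T`, as a morphism of stacks, has proper diagonal. -/
theorem repByAlgSpWith_isProperMor_diag_fpFst {T U : Over S} [IsSeparated U.hom]
    (x : FibCat.overCat T ⥤ᵇ 𝒳) (u : FibCat.overCat U ⥤ᵇ 𝒳) :
    AlgSt.RepByAlgSpWith AlgSp.IsProperMor
      (FibCat.diag (fpFst (BasedFunctor.comp x (toSelf 𝒳)) (BasedFunctor.comp u (toSelf 𝒳)))) := by
  obtain ⟨y, hy, hfst⟩ := exists_prodSlice_equiv_fst x u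
  have h1 : AlgSt.RepByAlgSpWith (AlgSp.RepWith @IsSeparated) (AlgSt.overMap (prod.fst : T ⨯ U ⟶ T)) :=
    repByAlgSpWith_overMap_of_prop @IsSeparated _ (isSeparated_prod_fst T U)
  have h2 : AlgSt.RepByAlgSpWith (AlgSp.RepWith @IsSeparated)
      (fpFst (BasedFunctor.comp x (toSelf 𝒳)) (BasedFunctor.comp u (toSelf 𝒳))) :=
    repByAlgSpWith_of_square' (AlgSp.RepWith @IsSeparated)
      (fpFst (BasedFunctor.comp x (toSelf 𝒳)) (BasedFunctor.comp u (toSelf 𝒳)))
      (AlgSt.overMap (prod.fst : T ⨯ U ⟶ T)) y (BasedFunctor.id _) hy (isEquivOver_id _)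
      (eqToIso hfst.symm) h1
  exact Groth.Agent.Lib.Helper66.AlgStBridge.repByAlgSpWith_diag_of_rep AlgSp.IsProperMor
    (AlgSp.RepWith @IsSeparated) Groth.Agent.Lib.Helper66.AlgStPFacts.stableBC_isProperMor _ h2
    (fun V T' a ha => (Groth.Agent.H53.isSeparatedMor_iff_isProperMor_diagonal V.property a).1
      (Groth.Agent.H53.isSeparatedMor_of_repWith_isSeparated a ha))

end Groth.Agent.Lib.Helper66.ProdSliceFst
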