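import Groth.Agent.Lib.Helper66.ResGerbe1
import Groth.Agent.Lib.Helper66.AlgSpSmLocalSmooth
import Groth.Agent.Lib.Helper65.SmoothLocal2
import Groth.Agent.Lib.Helper65.SourceLocal

/-!
# Helper66: a common chart for a smooth scheme chart and a flat surjective field point
-/

set_option autoImplicit false
set_option backward.isDefEq.respectTransparency false
set_option backward.isDefEq.respectTransparency.types false

universe u

open CategoryTheory CategoryTheory.Functor CategoryTheory.Limits Opposite AlgebraicGeometry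

namespace Groth.Agent.Lib.Helper66.ResGerbe

open FibCat Groth.Agent.Lib.Helper31 Groth.Agent.Lib.Helper65 Groth.Agent.Lib.Helper66
  Groth.Agent.Lib.Helper66.AlgStLocQSq Groth.Agent.Lib.Helper65.LocQFlat

variable {S : Scheme.{u}} {𝒳 𝒴 𝒵 : AlgSt.Cat S}

/-- Given a smooth scheme chart `x : U ⟶ 𝒵` and a morphism `z : W ⟶ 𝒵` from a scheme which is surjective, flat
and has a further listed property `R`, there is a scheme `V` with a flat surjective `g : V ⟶ U` having `R`,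
a smooth `r : V ⟶ W` and a 2-isomorphism `g ≫ x ≅ r ≫ z`. -/
theorem exists_chart_pair (R : MorphismProperty Scheme.{u})
    (hR : Groth.Agent.Lib.Helper66.AlgStPFacts.Listed R)
    (h𝒵 : AlgSt.IsAlgStack Scheme.fppfPrecoverage 𝒵) (W : Over S)
    (z : FibCat.overCat W ⥤ᵇ 𝒵)
    (hzs : AlgSt.RepByAlgSpWith AlgSp.IsSurjectiveMor z) (hzf : AlgSt.RepByAlgSpWith (AlgSp.LocP @Flat) z)
    (hzR : AlgSt.RepByAlgSpWith (AlgSp.LocP R) z)
    (U : Over S) (x : FibCat.overCat U ⥤ᵇ 𝒵) (hx : AlgSt.RepByAlgSpWith (AlgSp.LocP @Smooth) x) :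
    ∃ (V : Over S) (g : V ⟶ U) (r : V ⟶ W), Flat g.left ∧ R g.left ∧ Surjective g.left ∧
      Smooth r.left ∧
      Nonempty (BasedFunctor.comp (AlgSt.overMap g) x ≅ BasedFunctor.comp (AlgSt.overMap r) z) := by
  obtain ⟨G, e, he, ⟨hs, hfl⟩, hRp⟩ :=
    (repByAlgSpWith_and (Groth.Agent.Lib.Helper66.AlgStPFacts.stableBC_locP R hR) z
      (repByAlgSpWith_and (Groth.Agent.Lib.Helper66.AlgStPFacts.stableBC_locP _ listed_flat) z hzs hzf)
      hzR) U x
  obtain ⟨V, p, hpe, hps⟩ := G.property.atlas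
  have hUst := isAlgStack_overCat U
  have hWst := isAlgStack_overCat W
  have h𝒬 : AlgSt.IsAlgStack Scheme.fppfPrecoverage (fp x z) :=
    Groth.Agent.S12763.result h𝒵.isStack h𝒵.diag hUst hWst x z
  obtain ⟨Ψ, hΨ⟩ : ∃ Ψ : AlgSt.ofSp ((AlgSp.yon S).obj V) ⥤ᵇ FibCat.overCat U,
      Ψ = BasedFunctor.comp (AlgSt.ofSpMap p) (BasedFunctor.comp e (fpFst x z)) := ⟨_, rfl⟩
  obtain ⟨g, hg, ⟨ig⟩⟩ :=
    Groth.Agent.Lib.Helper65.exists_iso_overMap (BasedFunctor.comp (AlgSt.ofOverCat V) Ψ)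
  have e1 : BasedFunctor.comp (AlgSt.toOverCat V) (BasedFunctor.comp (AlgSt.ofOverCat V) Ψ) = Ψ := by
    change BasedFunctor.comp (BasedFunctor.comp (AlgSt.toOverCat V) (AlgSt.ofOverCat V)) Ψ = Ψ
    rw [toOverCat_comp_ofOverCat]
    rfl
  have hg' : (AlgSp.yon S).map g = p ≫ AlgSt.spMapOfOver (BasedFunctor.comp e (fpFst x z)) := by
    rw [hg, e1, hΨ]
    exact spMapOfOver_ofSpMap_comp p _
  rw [hΨ] at ig
  let E : FibCat.overCat V ⥤ᵇ fp x z :=
    BasedFunctor.comp (chartFunctor p) e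
  obtain ⟨r, -, ⟨ir⟩⟩ :=
    Groth.Agent.Lib.Helper65.exists_iso_overMap (BasedFunctor.comp E (fpSnd x z))
  refine ⟨V, g, r, ?_, ?_, ?_, ?_, ⟨?_⟩⟩
  · exact hfl p (𝟙 _) g hpe (AlgSp.repWith_id _ U) (by rw [Category.comp_id]; exact hg'.symm)
  · exact hRp p (𝟙 _) g hpe (AlgSp.repWith_id _ U) (by rw [Category.comp_id]; exact hg'.symm)
  · apply Groth.Agent.Lib.Helper66.LocQFppfDesc.surjective_left_of_isSurjectiveMor g
    rw [hg']
    intro y
    obtain ⟨w, hw⟩ := hs y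
    obtain ⟨v, hv⟩ := Groth.Agent.H52.surjective_points_of_repWith_surjective p hps w
    exact ⟨v, by rw [AlgSp.Points.map_comp, hv, hw]⟩
  · have hsnd : AlgSt.RepByAlgSpWith (AlgSp.LocP @Smooth) (fpSnd x z) :=
      Groth.Agent.Lib.Helper66.AlgStBC.repByAlgSpWith_fpSnd _ z x hx
    have hq : AlgSt.LocQ (AlgSp.LocP @Smooth) (fpSnd x z) :=
      locQ_of_repByAlgSpWith' _ stableBC_locP_smooth
        (fun X Y Z a b ha hb => Groth.Agent.Lib.Helper54.locP_precomp_isEtaleMor ha hb)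
        h𝒬.isStack.1 (isFibGrpd_overForget _) hWst.atlas _ hsnd
    have hE : AlgSt.RepByAlgSpWith (AlgSp.LocP @Smooth) E :=
      repByAlgSpWith_comp _ stableBC_locP_smooth
        (stableComp_locP _ (Or.inr (Or.inr (Or.inr (Or.inl rfl))))) isLocalOnBase_fppf_locP_smooth
        (isFibGrpd_overForget V) (Stk.isFibGrpd_ofPsh _) (chartFunctor p) e
        (chartFunctor_smooth G p hpe)
        (repByAlgSpWith_of_isEquivOver _ (fun U => Groth.Agent.Lib.Helper54.locP_smooth_id _) _ he)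
    have h1 : AlgSp.LocP @Smooth ((AlgSp.yon S).map r) :=
      prop_of_locQ_to_overCat _ Groth.Agent.Lib.Helper66.AlgSpSmLocalLft.isSmoothLocalST_locP_smooth h𝒬
        (fpSnd x z) hq V E r ir hE
    exact AlgSp.locP_yon_map h1
  · exact bWhiskerRightIso ig.symm x ≪≫ bWhiskerLeftIso E (fpIso x z) ≪≫ bWhiskerRightIso ir z

end Groth.Agent.Lib.Helper66.ResGerbe
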