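import Groth.Agent.Lib.Helper66.ResGerbe4
import Groth.Agent.Lib.Helper65.AlgStInv

/-!
# Helper66: the essential image of a monomorphism from a one-point stack is the residual gerbe
-/

set_option autoImplicit false
set_option backward.isDefEq.respectTransparency false
set_option backward.isDefEq.respectTransparency.types false

universe u

open CategoryTheory CategoryTheory.Functor CategoryTheory.Limits Opposite AlgebraicGeometry

namespace Groth.Agent.Lib.Helper66.ResGerbe

open FibCat Groth.Agent.Lib.Helper31 Groth.Agent.Lib.Helper65 Groth.Agent.Lib.Helper66.ClosedSubSt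

variable {S : Scheme.{u}} {𝒳 𝒴 : AlgSt.Cat S}

/-- Smooth-local properties transfer along equivalences. -/
theorem smoothLocally_of_equivOver (P : Scheme.{u} → Prop) (e : 𝒴 ⥤ᵇ 𝒳) (he : IsEquivOver e)
    (h : AlgSt.SmoothLocally P 𝒴) : AlgSt.SmoothLocally P 𝒳 := by
  intro U x hx
  obtain ⟨e', he', -, ⟨i₂⟩⟩ := exists_inverse_equivOver e he
  apply h U (BasedFunctor.comp x e')
  exact repByAlgSpWith_of_square (AlgSp.LocP @Smooth) x (BasedFunctor.comp x e') (BasedFunctor.id _) e
    (isEquivOver_id _) he (bWhiskerLeftIso x i₂) hx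

/-- The essential image of a monomorphism from a reduced, locally Noetherian one-point algebraic stack
is the residual gerbe at the image point. -/
theorem isResGerbe_essImage (h𝒳 : AlgSt.IsAlgStack Scheme.fppfPrecoverage 𝒳) (x : AlgSt.Points 𝒳)
    (h𝒴 : AlgSt.IsAlgStack Scheme.fppfPrecoverage 𝒴)
    (hred : AlgSt.SmoothLocally (fun T => IsReduced T) 𝒴)
    (hnoeth : AlgSt.SmoothLocally (fun T => IsLocallyNoetherian T) 𝒴)
    (hne : Nonempty (AlgSt.Points 𝒴)) (hsub : Subsingleton (AlgSt.Points 𝒴))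
    (f : 𝒴 ⥤ᵇ 𝒳) (hf : AlgSt.IsMono f) (hfx : ∀ p : AlgSt.Points 𝒴, AlgSt.Points.map f p = x) :
    Gerb.IsResGerbe Scheme.fppfPrecoverage 𝒳 x (essImage f) ∧ IsEquivOver (toEssImage f) := by
  obtain ⟨hfull, hfaith⟩ := full_faithful_of_isMono h𝒴.isStack.1 h𝒳.isStack.1 f hf
  have hequiv : IsEquivOver (toEssImage f) := toEssImage_isEquivOver h𝒴.isStack.1 h𝒳.isStack.1 f
  have hbij := points_map_bijective_of_isEquivOver (toEssImage f) hequiv
  refine ⟨⟨essImage_isClosedUnderIsomorphisms f, isAlgStack_of_equivOver _ (toEssImage f) hequiv h𝒴,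
    smoothLocally_of_equivOver _ (toEssImage f) hequiv hred,
    smoothLocally_of_equivOver _ (toEssImage f) hequiv hnoeth, ?_, ?_, ?_⟩, hequiv⟩
  · obtain ⟨p⟩ := hne
    exact ⟨AlgSt.Points.map (toEssImage f) p⟩
  · refine ⟨fun a b => ?_⟩
    obtain ⟨a', rfl⟩ := hbij.2 a
    obtain ⟨b', rfl⟩ := hbij.2 b
    rw [Subsingleton.elim a' b']
  · intro z
    obtain ⟨p, rfl⟩ := hbij.2 z
    rw [← points_map_comp, toEssImage_comp_subIncl]
    exact hfx p

end Groth.Agent.Lib.Helper66.ResGerbe
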