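import Groth.Agent.Lib.Helper66.ResGerbe6
import Groth.Agent.Lib.Helper66.ResGerbe5

/-!
# Helper66: functoriality of residual gerbes
-/

set_option autoImplicit false
set_option backward.isDefEq.respectTransparency false
set_option backward.isDefEq.respectTransparency.types false

universe u

open CategoryTheory CategoryTheory.Functor CategoryTheory.Limits Opposite AlgebraicGeometry

namespace Groth.Agent.Lib.Helper66.ResGerbe

open FibCat Groth.Agent.Lib.Helper31 Groth.Agent.Lib.Helper65 Groth.Agent.Lib.Helper66.ClosedSubSt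

variable {S : Scheme.{u}} {𝒳 𝒴 : AlgSt.Cat S}

/-- A morphism of algebraic stacks maps the residual gerbe at `x` into the residual gerbe at the image of `x`. -/
theorem prop_map_of_isResGerbe (h𝒳 : AlgSt.IsAlgStack Scheme.fppfPrecoverage 𝒳)
    (h𝒴 : AlgSt.IsAlgStack Scheme.fppfPrecoverage 𝒴) (f : 𝒳 ⥤ᵇ 𝒴) (x : AlgSt.Points 𝒳)
    (Q : 𝒳.obj → Prop) (hQ : Gerb.IsResGerbe Scheme.fppfPrecoverage 𝒳 x Q)
    (Q' : 𝒴.obj → Prop) (hQ' : Gerb.IsResGerbe Scheme.fppfPrecoverage 𝒴 (AlgSt.Points.map f x) Q')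
    (w : 𝒳.obj) (hw : Q w) : Q' (f.obj w) := by
  obtain ⟨hQi, h𝒵, hred, hnoeth, hne, hsub, hzx⟩ := hQ
  have hQi' : ObjectProperty.IsClosedUnderIsomorphisms Q' := hQ'.1
  have h𝒵' : AlgSt.IsAlgStack Scheme.fppfPrecoverage (AlgSt.fullSub 𝒴 Q') := hQ'.2.1
  have hpull' : ∀ ⦃y' y : 𝒴.obj⦄ (_ : y' ⟶ y), Q' y → Q' y' := fun _ _ φ h =>
    prop_of_hom_of_isFibGrpd_fullSub Q' h𝒴.isStack.1 hQi' h𝒵'.isStack.1 φ h
  obtain ⟨k, _, a, z, hzs, hzf⟩ := exists_flat_fieldPt_of_reduced h𝒵 hred hne hsub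
  obtain ⟨k', _, a', z', hlft, hzs', hzf'⟩ := exists_lft_fieldPt h𝒵 a z hzs hzf
  have hlfp := repByAlgSpWith_lfp_of_lft_of_noeth (isAlgStack_overCat (Over.mk a')) h𝒵 hnoeth z' hlft
  have hus : AlgSt.IsSurjective z' :=
    isSurjective_of_repByAlgSpWith (isFibGrpd_overForget _) h𝒵.isStack.1 z' hzs'
  obtain ⟨p, hpdef⟩ : ∃ p : FibCat.overCat (Over.mk a') ⥤ᵇ 𝒴,
      p = BasedFunctor.comp (BasedFunctor.comp z' (AlgSt.subIncl 𝒳 Q)) f := ⟨_, rfl⟩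
  have hp : ∀ t : ↥(Over.mk a').left, AlgSt.Points.ofChart p t = AlgSt.Points.map f x := by
    intro t
    rw [ofChart_eq, hpdef, points_map_comp, points_map_comp, hzx]
  have hall : ∀ c, Q' (p.obj c) := fun c => prop_of_fieldPt h𝒴 _ Q' hQ' a' p hp c
  -- a general object, fppf locally
  let w₀ : (AlgSt.fullSub 𝒳 Q).obj := ⟨w, hw⟩
  obtain ⟨Y, ⟨ey⟩⟩ := exists_functor_of_obj h𝒵.isStack.1 w₀
  obtain ⟨V, g, x', ⟨i⟩, hfl, hfp, hpts⟩ :=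
    Groth.Agent.Lib.Helper65.FppfLift.exists_chart_lift h𝒵.isStack.1 (isFibGrpd_overForget (Over.mk a'))
      z' hzf' hlfp ((AlgSt.fullSub 𝒳 Q).p.obj w₀) Y
  have hgs : Surjective g.left := by
    refine ⟨fun t => ?_⟩
    obtain ⟨z'', hz''⟩ : ∃ z'' : AlgSt.Points (FibCat.overCat ((AlgSt.fullSub 𝒳 Q).p.obj w₀)),
        (AlgSp.Points.schemeHomeo ((AlgSt.fullSub 𝒳 Q).p.obj w₀)).symm
          (overPts ((AlgSt.fullSub 𝒳 Q).p.obj w₀) z'') = t := by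
      obtain ⟨z'', hz''⟩ := (overPts_bijective ((AlgSt.fullSub 𝒳 Q).p.obj w₀)).2
        (AlgSp.Points.schemeHomeo ((AlgSt.fullSub 𝒳 Q).p.obj w₀) t)
      exact ⟨z'', by rw [hz'']; simp⟩
    obtain ⟨r, hr⟩ := hus (AlgSt.Points.map Y z'')
    obtain ⟨v, hv⟩ := hpts z'' ⟨r, hr.symm⟩
    exact ⟨v, hv.trans hz''⟩
  let R : Sieve ((AlgSt.fullSub 𝒳 Q).p.obj w₀) := Sieve.generate (Presieve.singleton g)
  have hR : R ∈ AlgSp.J S ((AlgSt.fullSub 𝒳 Q).p.obj w₀) :=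
    Groth.Agent.Lib.Helper51.mem_J_of_fppf g R ⟨V, 𝟙 V, g, Presieve.singleton_self g, Category.id_comp g⟩
  obtain ⟨s, hsdef⟩ : ∃ s : FibCat.overCat ((AlgSt.fullSub 𝒳 Q).p.obj w₀) ⥤ᵇ 𝒴,
      s = BasedFunctor.comp (BasedFunctor.comp Y (AlgSt.subIncl 𝒳 Q)) f := ⟨_, rfl⟩
  have hQV : Q' (s.obj ((AlgSt.overMap g).obj (Over.mk (𝟙 V)))) := by
    have e1 : (AlgSt.subIncl 𝒳 Q).obj (z'.obj (x'.obj (Over.mk (𝟙 V)))) ≅
        (AlgSt.subIncl 𝒳 Q).obj (Y.obj ((AlgSt.overMap g).obj (Over.mk (𝟙 V)))) :=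
      (AlgSt.subIncl 𝒳 Q).toFunctor.mapIso ((basedIsoToNatIso i).app (Over.mk (𝟙 V)))
    have e2 : p.obj (x'.obj (Over.mk (𝟙 V))) ≅ s.obj ((AlgSt.overMap g).obj (Over.mk (𝟙 V))) := by
      rw [hpdef, hsdef]
      exact f.toFunctor.mapIso e1
    exact hQi'.of_iso e2 (hall _)
  have hallb : ∀ b : (Stk.sieveCat R).obj, Q' (s.obj b.obj) := by
    intro b
    obtain ⟨W, h, k'', hk, hcomp⟩ := b.property
    cases hk
    let m : b.obj ⟶ (AlgSt.overMap g).obj (Over.mk (𝟙 V)) :=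
      Over.homMk h (by
        change h ≫ (𝟙 V ≫ g) = b.obj.hom
        rw [Category.id_comp]
        exact hcomp)
    exact hpull' (s.map m) hQV
  have hfin : Q' (s.obj (Over.mk (𝟙 ((AlgSt.fullSub 𝒳 Q).p.obj w₀)))) :=
    prop_of_sieve Q' hQi' R (h𝒴.isStack.2 R hR) (h𝒵'.isStack.2 R hR) s hallb _
  have e3 : s.obj (Over.mk (𝟙 ((AlgSt.fullSub 𝒳 Q).p.obj w₀))) ≅ f.obj w := by
    rw [hsdef]
    exact f.toFunctor.mapIso ((AlgSt.subIncl 𝒳 Q).toFunctor.mapIso ey)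
  exact hQi'.of_iso e3 hfin

end Groth.Agent.Lib.Helper66.ResGerbe
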