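import Groth.Agent.Lib.Helper66.SmBoot9
import Groth.Agent.Lib.Helper51.EffEqvRel
import Groth.Agent.H52.Epi

/-!
# Helper66, fppf bootstrap 1: from quotients of schemes by fppf equivalence relations to sheaves with an fppf cover

`H103 S` is the statement of milestone S10103 (the fppf quotient of a scheme by an equivalence relation of schemes with
flat, locally finitely presented projections is an algebraic space).  Assuming it:

* `isAlgSpace_of_repBySpWith_fppf`: an fppf sheaf receiving a surjective flat locally finitely presented map,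
  representable by algebraic spaces, from an algebraic space is an algebraic space (S10104).
-/

set_option autoImplicit false

universe u

open CategoryTheory CategoryTheory.Limits AlgebraicGeometry

namespace Groth.Agent.Lib.Helper66.FppfBoot

open AlgSp

/-- the statement of S10103 over the base `S` -/
def H103 (S : Scheme.{u}) : Prop :=
  ∀ {R U : Over S} (s t : R ⟶ U), AlgSp.IsEqvRel s t → Flat s.left → LocallyOfFinitePresentation s.left →
    Flat t.left → LocallyOfFinitePresentation t.left →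
    AlgSp.IsAlgSpace (QuotSh.quot Scheme.fppfPrecoverage s t)

variable {S : Scheme.{u}}

/-- A sheaf with a representable flat, locally finitely presented, surjective chart from a scheme is (given S10103) an
algebraic space. -/
theorem isAlgSpace_of_fppf_chart (h103 : H103 S) {F : Sp S} {U : Over S} (p₀ : (yon S).obj U ⟶ F)
    (hrep : Representable p₀) (hfl : RepWith @Flat p₀) (hlfp : RepWith @LocallyOfFinitePresentation p₀)
    (hs : RepWith @Surjective p₀) : IsAlgSpace F := by
  -- the kernel pair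
  obtain ⟨t₀, ht₀⟩ := (yon S).map_surjective (hrep.fst p₀)
  obtain ⟨s₀, hs₀⟩ : ∃ s₀ : hrep.pullback p₀ ⟶ U, s₀ = hrep.snd p₀ := ⟨_, rfl⟩
  obtain ⟨R, hR⟩ : ∃ R : Over S, R = hrep.pullback p₀ := ⟨_, rfl⟩
  have sqR : IsPullback ((yon S).map t₀) ((yon S).map s₀) p₀ p₀ := by
    rw [ht₀, hs₀]
    exact hrep.isPullback p₀
  have hrelpts : ∀ {T : Over S} (a b : T ⟶ U),
      (∃ r : T ⟶ hrep.pullback p₀, r ≫ t₀ = a ∧ r ≫ s₀ = b) ↔ (yon S).map a ≫ p₀ = (yon S).map b ≫ p₀ := by
    intro T a b
    constructor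
    · rintro ⟨r, rfl, rfl⟩
      rw [Functor.map_comp, Functor.map_comp, Category.assoc, Category.assoc, sqR.w]
    · intro hab
      refine ⟨(yon S).preimage (sqR.lift _ _ hab), ?_, ?_⟩
      · apply (yon S).map_injective
        rw [Functor.map_comp, Functor.map_preimage, sqR.lift_fst]
      · apply (yon S).map_injective
        rw [Functor.map_comp, Functor.map_preimage, sqR.lift_snd]
  have hEq : IsEqvRel s₀ t₀ := by
    refine ⟨?_, ?_⟩
    · intro T r r' e1 e2
      apply (yon S).map_injective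
      apply sqR.hom_ext
      · rw [← Functor.map_comp, ← Functor.map_comp, e1]
      · rw [← Functor.map_comp, ← Functor.map_comp, e2]
    · intro T
      exact ⟨fun a ↦ (hrelpts a a).2 rfl, fun {a b} hab ↦ (hrelpts b a).2 ((hrelpts a b).1 hab).symm,
        fun {a b c} hab hbc ↦ (hrelpts a c).2 (((hrelpts a b).1 hab).trans ((hrelpts b c).1 hbc))⟩
  have hs₀fl : Flat s₀.left := hfl.2 p₀ _ s₀ sqR
  have hs₀fp : LocallyOfFinitePresentation s₀.left := hlfp.2 p₀ _ s₀ sqR
  have ht₀fl : Flat t₀.left := hfl.2 p₀ _ t₀ sqR.flip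
  have ht₀fp : LocallyOfFinitePresentation t₀.left := hlfp.2 p₀ _ t₀ sqR.flip
  -- the fppf quotient
  have hQ := h103 s₀ t₀ hEq hs₀fl hs₀fp ht₀fl ht₀fp
  have sq2 := Groth.Agent.Lib.Helper51.isPullback_yon_quotπ (K := Scheme.fppfPrecoverage) s₀ t₀
    hEq.injective hEq.equivalence
  obtain ⟨Q, hQdef⟩ : ∃ Q : Sp S, Q = QuotSh.quot Scheme.fppfPrecoverage s₀ t₀ := ⟨_, rfl⟩
  obtain ⟨π, hπdef⟩ : ∃ π : (yon S).obj U ⟶ QuotSh.quot Scheme.fppfPrecoverage s₀ t₀,
      π = (QuotSh.repIsoUliftYoneda Scheme.fppfPrecoverage U).inv ≫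
        QuotSh.quotπ Scheme.fppfPrecoverage s₀ t₀ := ⟨_, rfl⟩
  have hepi2 : Epi π := by
    rw [hπdef]
    haveI : Epi (QuotSh.quotπ Scheme.fppfPrecoverage s₀ t₀) := by
      unfold QuotSh.quotπ
      exact coequalizer.π_epi
    exact epi_comp _ _
  rw [← hπdef] at sq2
  have hepi1 : Epi p₀ := by
    refine Groth.Agent.H52.epi_of_repWith_fppf p₀ hrep (fun V g => ?_)
    exact ⟨hfl.2 g _ _ (hrep.isPullback g), hs.2 g _ _ (hrep.isPullback g),
      hlfp.2 g _ _ (hrep.isPullback g)⟩
  have hreg1 : IsRegularEpi p₀ := IsRegularEpiCategory.regularEpiOfEpi p₀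
  have hreg2 : IsRegularEpi π := IsRegularEpiCategory.regularEpiOfEpi π
  have heff1 : EffectiveEpi p₀ := inferInstance
  have heff2 : EffectiveEpi π := inferInstance
  have c1 := heff1.effectiveEpi.some.isColimitCoforkOfIsPullback sqR
  have c2 := heff2.effectiveEpi.some.isColimitCoforkOfIsPullback sq2
  exact hQ.of_iso (c2.coconePointUniqueUpToIso c1)

/-- **Fppf bootstrap, sheaf form** (given S10103): an fppf sheaf receiving a surjective flat locally finitely presented
map, representable by algebraic spaces, from an algebraic space is an algebraic space. -/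
theorem isAlgSpace_of_repBySpWith_fppf (h103 : H103 S) {F X : Sp S} (hX : IsAlgSpace X) (p : X ⟶ F)
    (hp : RepBySpWith (IsSurjectiveMor ⊓ LocP @Flat ⊓ LocP @LocallyOfFinitePresentation) p.hom) :
    IsAlgSpace F := by
  have hΔ : Representable (Limits.diag F) :=
    Groth.Agent.H52.Bootstrap.representable_diag_of_fppf_cover hX p hp
  rw [repBySpWith_hom_iff] at hp
  obtain ⟨U, q, hqe, hqs⟩ := hX.atlas
  have hrep : Representable (q ≫ p) := Functor.relativelyRepresentable.of_diag hΔ _
  have key : ∀ ⦃T : Over S⦄ (ξ : (yon S).obj T ⟶ F) ⦃E : Sp S⦄ (fst : E ⟶ (yon S).obj U)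
      (snd : E ⟶ (yon S).obj T), IsPullback fst snd (q ≫ p) ξ →
      LocP @Flat snd ∧ LocP @LocallyOfFinitePresentation snd ∧ IsSurjectiveMor snd := by
    intro T ξ E fst snd sq
    obtain ⟨l, sql, hl⟩ := Groth.Agent.H52.Bootstrap.exists_factor_of_isPullback_comp q p ξ fst snd sq
    obtain ⟨hP', ⟨hPs, hPfl⟩, hPfp⟩ := hp ξ (pullback.fst p ξ) (pullback.snd p ξ)
      (IsPullback.of_hasPullback p ξ)
    have hle : RepWith @Etale l := MorphismProperty.of_isPullback sql hqe
    have hls : RepWith @Surjective l := MorphismProperty.of_isPullback sql hqs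
    refine ⟨?_, ?_, ?_⟩
    · rw [← hl]
      exact SmBoot.locP_precomp_repWith_etale hle hPfl
    · rw [← hl]
      exact SmBoot.locP_precomp_repWith_etale hle hPfp
    · rw [← hl]
      change Function.Surjective (Points.map (l ≫ pullback.snd p ξ))
      intro t
      obtain ⟨y, hy⟩ := hPs t
      obtain ⟨x, hx⟩ := Groth.Agent.H52.surjective_points_of_repWith_surjective l hls y
      exact ⟨x, by rw [Points.map_comp, hx, hy]⟩
  have hfl : RepWith @Flat (q ≫ p) := by
    refine ⟨hrep, fun T V ξ fst snd sq => ?_⟩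
    obtain ⟨h2, -, -⟩ := key ξ fst ((yon S).map snd) sq
    exact locP_yon_map h2
  have hlfp : RepWith @LocallyOfFinitePresentation (q ≫ p) := by
    refine ⟨hrep, fun T V ξ fst snd sq => ?_⟩
    obtain ⟨-, h2, -⟩ := key ξ fst ((yon S).map snd) sq
    exact locP_yon_map h2
  have hs : RepWith @Surjective (q ≫ p) := by
    refine ⟨hrep, fun T V ξ fst snd sq => ?_⟩
    obtain ⟨-, -, h3⟩ := key ξ fst ((yon S).map snd) sq
    exact ⟨Groth.Agent.H52.surjective_left_of_points snd h3⟩
  exact isAlgSpace_of_fppf_chart h103 (q ≫ p) hrep hfl hlfp hs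

end Groth.Agent.Lib.Helper66.FppfBoot
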