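import Groth.Agent.H52.Descent
import Groth.Agent.Lib.Helper51.OverCoprod

/-!
# Helper66, smooth bootstrap 7a: descent of `RepWith` along fppf charts; source locality over coproducts
-/

set_option autoImplicit false

universe u

open CategoryTheory CategoryTheory.Limits AlgebraicGeometry

namespace Groth.Agent.Lib.Helper66.SmBoot

open AlgSp

variable {S : Scheme.{u}}

/-- Surjectivity descends along surjective morphisms. -/
theorem descendsAlong_surjective_fppf :
    MorphismProperty.DescendsAlong @Surjective
      (@Surjective ⊓ @Flat ⊓ @LocallyOfFinitePresentation : MorphismProperty Scheme.{u}) where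
  of_isPullback {A X Y Z fst snd f g} h hf hfst := by
    obtain ⟨⟨hf1, -⟩, -⟩ := hf
    constructor
    intro z
    obtain ⟨x, rfl⟩ := hf1.surj z
    obtain ⟨a, rfl⟩ := hfst.surj x
    exact ⟨snd a, by rw [← Scheme.Hom.comp_apply, ← h.w, Scheme.Hom.comp_apply]⟩

/-- Descent of `RepWith Q` along an fppf base change, for a representable morphism. -/
theorem repWith_of_fppf_base_change (Q : MorphismProperty Scheme.{u})
    [Q.IsStableUnderBaseChange]
    [Q.DescendsAlong (@Surjective ⊓ @Flat ⊓ @LocallyOfFinitePresentation)]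
    {F G F' G' : Sp S} {g : F ⟶ G} {c : G' ⟶ G} {p : F' ⟶ F} {g' : F' ⟶ G'}
    (sq : IsPullback p g' g c) (hg : Representable g) (hcf : RepWith @Flat c)
    (hcl : RepWith @LocallyOfFinitePresentation c)
    (hcs : RepWith @Surjective c) (hg' : RepWith Q g') : RepWith Q g := by
  apply MorphismProperty.relative_of_snd hg
  intro T y
  have sqE := hg.isPullback y
  have hcrep := hcf.rep
  have sqT := hcrep.isPullback y
  have h1 : Flat (hcrep.snd y).left := hcf.2 y _ _ sqT
  have h3 : LocallyOfFinitePresentation (hcrep.snd y).left := hcl.2 y _ _ sqT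
  have h2 : Surjective (hcrep.snd y).left := hcs.2 y _ _ sqT
  have hg'rep := hg'.rep
  have sq'' := hg'rep.isPullback (hcrep.fst y)
  have hQ : Q (hg'rep.snd (hcrep.fst y)).left := hg'.property_snd _
  have big := sq''.paste_horiz sq
  rw [sqT.w] at big
  obtain ⟨e, he⟩ := (yon S).map_surjective (sqE.lift (hg'rep.fst (hcrep.fst y) ≫ p)
    ((yon S).map (hg'rep.snd (hcrep.fst y)) ≫ (yon S).map (hcrep.snd y)) (by
      rw [Category.assoc]; exact big.w))
  have he1 : (yon S).map e ≫ hg.fst y = hg'rep.fst (hcrep.fst y) ≫ p := by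
    rw [he, sqE.lift_fst]
  have he2 : (yon S).map e ≫ (yon S).map (hg.snd y) =
      (yon S).map (hg'rep.snd (hcrep.fst y)) ≫ (yon S).map (hcrep.snd y) := by
    rw [he, sqE.lift_snd]
  have left : IsPullback ((yon S).map e) ((yon S).map (hg'rep.snd (hcrep.fst y)))
      ((yon S).map (hg.snd y)) ((yon S).map (hcrep.snd y)) := by
    refine IsPullback.of_right ?_ he2 sqE
    rw [he1]
    exact big
  have sch := Groth.Agent.H52.isPullback_left_of_isPullback_yon left
  exact MorphismProperty.of_isPullback_of_descendsAlong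
    (Q := @Surjective ⊓ @Flat ⊓ @LocallyOfFinitePresentation) sch.flip ⟨⟨h2, h1⟩, h3⟩ hQ

/-- For `P` local at the source, `RepWith P` of a representable map out of `h` of a coproduct can be checked
on the summands. -/
theorem repWith_of_cofan {P : MorphismProperty Scheme.{u}} [IsZariskiLocalAtSource P]
    {I : Type u} {X : I → Over S} (c : Cofan X) (hc : IsColimit c) {F : Sp S}
    (q : (yon S).obj c.pt ⟶ F) (hq : Representable q)
    (h : ∀ i, RepWith P ((yon S).map (c.inj i) ≫ q)) : RepWith P q := by
  refine ⟨hq, fun T V g fst snd sq => ?_⟩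
  obtain ⟨fst', rfl⟩ := (yon S).map_surjective fst
  obtain ⟨hcol⟩ := Groth.Agent.Lib.Helper51.nonempty_isColimit_pullback_cofan c hc fst'
  refine Groth.Agent.Lib.Helper51.left_mem_of_forall_inj (P := P) _ hcol snd (fun i => ?_)
  have sq1 := (IsPullback.of_hasPullback fst' (c.inj i)).map (yon S)
  have big := sq1.flip.paste_vert sq
  rw [← Functor.map_comp] at big
  exact (h i).2 g _ _ big

end Groth.Agent.Lib.Helper66.SmBoot
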