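import Groth.Agent.Lib.Helper66.QuotStHom
import Groth.Agent.Lib.Helper65.BasedEquiv
import Groth.Agent.Lib.Helper65.FpMap
import Groth.Agent.Lib.Helper65.OfPshMap

/-!
# Isomorphisms in `[X/G]` and the 2-cartesian square `G ×_S X ⇉ X ⟶ [X/G]`
-/

set_option autoImplicit false
set_option backward.isDefEq.respectTransparency false
set_option backward.isDefEq.respectTransparency.types false
set_option linter.unusedSimpArgs false
set_option linter.unusedVariables false

universe u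

open CategoryTheory CategoryTheory.Limits MonoidalCategory CartesianMonoidalCategory MonObj GrpObj AlgebraicGeometry

namespace Groth.Agent.Lib.Helper66.QuotStBasic

open AlgSt

variable {S : Scheme.{u}} {K : Precoverage Scheme.{u}} {G : Over S} [GrpObj G] {X : Over S}
  {aX : AlgGrp.Action G X}

/-- The inverse of a morphism of `[X/G]` over an isomorphism of bases. -/
noncomputable def invOfIsIsoBase {A B : QuotObj K G aX} (h : A ⟶ B) [IsIso h.base] : B ⟶ A :=
  have : IsIso h.top := h.cart.isIso_fst_of_isIso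
  { base := inv h.base
    top := inv h.top
    eqv := by
      have h1 : A.act.act ≫ h.top = (G ◁ h.top) ≫ B.act.act := h.eqv
      have h2 : (G ◁ inv h.top) ≫ (G ◁ h.top) = 𝟙 _ := by
        rw [← MonoidalCategory.whiskerLeft_comp, IsIso.inv_hom_id, MonoidalCategory.whiskerLeft_id]
      rw [IsIso.comp_inv_eq, Category.assoc, h1, reassoc_of% h2]
    cart := IsPullback.of_horiz_isIso ⟨by
      rw [IsIso.inv_comp_eq, ← Category.assoc, IsIso.eq_comp_inv]
      exact h.cart.w.symm⟩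
    wφ := by rw [IsIso.inv_comp_eq]; exact h.wφ.symm }

theorem isIso_of_isIso_base {A B : QuotObj K G aX} (h : A ⟶ B) [IsIso h.base] : IsIso h := by
  have : IsIso h.top := h.cart.isIso_fst_of_isIso
  refine ⟨⟨invOfIsIsoBase h, ?_, ?_⟩⟩
  · apply QuotObj.hom_ext
    · change h.base ≫ inv h.base = 𝟙 _
      simp
    · change h.top ≫ inv h.top = 𝟙 _
      simp
  · apply QuotObj.hom_ext
    · change inv h.base ≫ h.base = 𝟙 _
      simp
    · change inv h.top ≫ h.top = 𝟙 _
      simp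

section TwoCart

variable (G aX)

/-- `(g, x) ↦ [g · x]`. -/
noncomputable abbrev actF : ofSch (G ⊗ X) ⥤ᵇ QuotSt Scheme.fppfPrecoverage G aX :=
  BasedFunctor.comp (ofSpMap ((AlgSp.yon S).map aX.act)) (quotMap Scheme.fppfPrecoverage G aX)

/-- `(g, x) ↦ [x]`. -/
noncomputable abbrev sndF : ofSch (G ⊗ X) ⥤ᵇ QuotSt Scheme.fppfPrecoverage G aX :=
  BasedFunctor.comp (ofSpMap ((AlgSp.yon S).map (snd G X))) (quotMap Scheme.fppfPrecoverage G aX)

variable {G aX}

theorem lift_fst_snd_act {T : Over S} (z : T ⟶ G ⊗ X) :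
    lift (z ≫ fst G X) (𝟙 T ≫ z ≫ snd G X) ≫ aX.act = z ≫ aX.act := by
  rw [Category.id_comp, ← comp_lift, lift_fst_snd, Category.comp_id]

/-- The component of the 2-isomorphism: right multiplication by the group element. -/
noncomputable def cartComp (w : (ofSch (G ⊗ X)).obj) : (actF G aX).obj w ⟶ (sndF G aX).obj w :=
  trivMor (K := Scheme.fppfPrecoverage) (𝟙 w.base) (w.sec.down ≫ fst G X) (w.sec.down ≫ aX.act)
    (w.sec.down ≫ snd G X) (lift_fst_snd_act w.sec.down)

instance (w : (ofSch (G ⊗ X)).obj) : IsIso (cartComp (aX := aX) w) :=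
  have : IsIso (cartComp (aX := aX) w).base := inferInstanceAs (IsIso (𝟙 w.base))
  isIso_of_isIso_base _

theorem cartComp_naturality {w' w : (ofSch (G ⊗ X)).obj} (τ : w' ⟶ w) :
    (actF G aX).map τ ≫ cartComp w = cartComp w' ≫ (sndF G aX).map τ := by
  have hτ : τ.hom ≫ w.sec.down = w'.sec.down := congrArg ULift.down τ.map_sec
  apply QuotObj.hom_ext
  · change τ.hom ≫ 𝟙 w.base = 𝟙 w'.base ≫ τ.hom
    simp
  · change (G ◁ τ.hom) ≫ rightMulMap (𝟙 w.base) (w.sec.down ≫ fst G X) =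
      rightMulMap (𝟙 w'.base) (w'.sec.down ≫ fst G X) ≫ (G ◁ τ.hom)
    rw [← rightMulMap_one, rightMulMap_comp, rightMulMap_comp, Category.comp_id, Category.id_comp,
      Category.id_comp, _root_.one_mul, _root_.mul_one, ← hτ, Category.assoc]

variable (G aX) in
/-- The 2-isomorphism `π ∘ a ≅ π ∘ pr₂`. -/
noncomputable def cartIso : actF G aX ≅ sndF G aX :=
  BasedNatIso.mkNatIso
    (NatIso.ofComponents (fun w => asIso (cartComp (aX := aX) w)) (fun τ => cartComp_naturality τ))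
    (fun w => by
      change (QuotObj.forget Scheme.fppfPrecoverage G aX).IsHomLift (𝟙 w.base) (cartComp (aX := aX) w)
      have : (QuotObj.forget Scheme.fppfPrecoverage G aX).IsHomLift
          ((QuotObj.forget Scheme.fppfPrecoverage G aX).map (cartComp (aX := aX) w)) (cartComp (aX := aX) w) :=
        inferInstance
      exact this)

theorem rightMulMap_injective {T T' : Over S} (f : T ⟶ T') {g g' : T ⟶ G}
    (h : rightMulMap f g = rightMulMap f g') : g = g' := by
  have key : ∀ g : T ⟶ G, lift (1 : T ⟶ G) (𝟙 T) ≫ rightMulMap f g ≫ fst G T' = g := by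
    intro g
    simp only [rightMulMap, lift_fst, comp_mul, lift_fst, lift_snd_assoc, Category.id_comp, _root_.one_mul]
  rw [← key g, ← key g', h]

variable (G aX) in
/-- The comparison functor `G ×_S X ⟶ X ×_{[X/G]} X`. -/
noncomputable abbrev cartLift :
    ofSch (G ⊗ X) ⥤ᵇ FibCat.fp (quotMap Scheme.fppfPrecoverage G aX) (quotMap Scheme.fppfPrecoverage G aX) :=
  FibCat.fpLift (ofSpMap ((AlgSp.yon S).map aX.act)) (ofSpMap ((AlgSp.yon S).map (snd G X))) (cartIso G aX)

theorem cartLift_obj_iso_hom (w : (ofSch (G ⊗ X)).obj) :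
    ((cartLift G aX).obj w).obj.iso.hom = cartComp (aX := aX) w := rfl

instance cartLift_faithful : (cartLift G aX).toFunctor.Faithful where
  map_injective := by
    intro w' w τ τ' h
    apply Stk.EltObj.hom_ext
    have h1 := congrArg (fun m => m.hom.fst.hom) h
    exact h1

open Groth.Agent.Lib.Helper65 in
instance cartLift_full : (cartLift G aX).toFunctor.Full where
  map_surjective := by
    intro w' w m
    have hw := fp_hom_w m
    rw [cartLift_obj_iso_hom, cartLift_obj_iso_hom] at hw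
    have hb := congrArg (fun k => k.base) hw
    have ht := congrArg (fun k => k.top) hw
    obtain ⟨t₁, ht₁⟩ : ∃ t : w'.base ⟶ w.base, t = m.hom.fst.hom := ⟨_, rfl⟩
    obtain ⟨t₂, ht₂⟩ : ∃ t : w'.base ⟶ w.base, t = m.hom.snd.hom := ⟨_, rfl⟩
    have hb' : t₁ ≫ 𝟙 w.base = 𝟙 w'.base ≫ t₂ := by rw [ht₁, ht₂]; exact hb
    rw [Category.comp_id, Category.id_comp] at hb'
    have ht' : (G ◁ t₁) ≫ rightMulMap (𝟙 w.base) (w.sec.down ≫ fst G X) =
        rightMulMap (𝟙 w'.base) (w'.sec.down ≫ fst G X) ≫ (G ◁ t₂) := by rw [ht₁, ht₂]; exact ht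
    rw [← hb', ← rightMulMap_one, rightMulMap_comp, rightMulMap_comp, Category.comp_id, Category.id_comp,
      Category.id_comp, _root_.one_mul, _root_.mul_one] at ht'
    have h1 : t₁ ≫ w.sec.down ≫ fst G X = w'.sec.down ≫ fst G X := rightMulMap_injective _ ht'
    have h2 : t₂ ≫ w.sec.down ≫ snd G X = w'.sec.down ≫ snd G X := by
      rw [ht₂]; exact congrArg ULift.down m.hom.snd.map_sec
    rw [← hb'] at h2
    have h3 : t₁ ≫ w.sec.down = w'.sec.down := by
      apply CartesianMonoidalCategory.hom_ext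
      · rw [Category.assoc, h1]
      · rw [Category.assoc, h2]
    refine ⟨⟨t₁, congrArg ULift.up h3⟩, ?_⟩
    apply fp_hom_ext
    · apply Stk.EltObj.hom_ext
      exact ht₁
    · apply Stk.EltObj.hom_ext
      exact hb'.trans ht₂

open Groth.Agent.Lib.Helper65 in
theorem cartLift_essSurjOver : EssSurjOver (cartLift G aX) := by
  apply essSurjOver_fp_of
  intro Y
  obtain ⟨T₁, x₁, hw₁⟩ : ∃ (T₁ : Over S) (x₁ : T₁ ⟶ X), Y.obj.fst = ⟨T₁, ⟨x₁⟩⟩ := ⟨_, _, rfl⟩
  obtain ⟨T₂, x₂, hw₂⟩ : ∃ (T₂ : Over S) (x₂ : T₂ ⟶ X), Y.obj.snd = ⟨T₂, ⟨x₂⟩⟩ := ⟨_, _, rfl⟩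
  obtain ⟨mm, hm⟩ : ∃ mm : trivObj (K := Scheme.fppfPrecoverage) (aX := aX) Y.obj.fst.base Y.obj.fst.sec.down ⟶
      trivObj (K := Scheme.fppfPrecoverage) (aX := aX) Y.obj.snd.base Y.obj.snd.sec.down,
      mm = Y.obj.iso.hom := ⟨_, rfl⟩
  have hmiso : IsIso mm.base := by
    rw [hm]
    exact (inferInstance : IsIso ((QuotObj.forget Scheme.fppfPrecoverage G aX).map Y.obj.iso.hom))
  obtain ⟨g, hg1, hg2⟩ := exists_eq_rightMulMap (K := Scheme.fppfPrecoverage) (aX := aX) _ _ mm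
  let z : Y.obj.fst.base ⟶ G ⊗ X := lift g (mm.base ≫ Y.obj.snd.sec.down)
  let W : (ofSch (G ⊗ X)).obj := ⟨Y.obj.fst.base, ⟨z⟩⟩
  have ha : ((AlgSp.yon S).obj X).obj.map (Iso.refl Y.obj.fst.base).hom.op Y.obj.fst.sec =
      (⟨z ≫ aX.act⟩ : ULift.{u + 1} (Y.obj.fst.base ⟶ X)) := by
    apply ULift.ext
    change 𝟙 _ ≫ Y.obj.fst.sec.down = z ≫ aX.act
    rw [Category.id_comp]
    exact hg1.symm
  have hb : ((AlgSp.yon S).obj X).obj.map (asIso mm.base).hom.op Y.obj.snd.sec =
      (⟨z ≫ snd G X⟩ : ULift.{u + 1} (Y.obj.fst.base ⟶ X)) := by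
    apply ULift.ext
    change mm.base ≫ Y.obj.snd.sec.down = z ≫ snd G X
    simp only [z, lift_snd]
  let a : ((cartLift G aX).obj W).obj.fst ≅ Y.obj.fst :=
    eltIsoMk (x := ((cartLift G aX).obj W).obj.fst) (y := Y.obj.fst) (Iso.refl _) ha
  let b : ((cartLift G aX).obj W).obj.snd ≅ Y.obj.snd :=
    eltIsoMk (x := ((cartLift G aX).obj W).obj.snd) (y := Y.obj.snd) (asIso mm.base) hb
  refine ⟨W, a, b, ?_, ?_⟩
  · have : (ofSch X).p.IsHomLift ((ofSch X).p.map a.hom) a.hom := inferInstance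
    exact this
  · rw [cartLift_obj_iso_hom, ← hm]
    apply QuotObj.hom_ext
    · change 𝟙 _ ≫ mm.base = 𝟙 _ ≫ mm.base
      rfl
    · change (G ◁ 𝟙 _) ≫ mm.top = rightMulMap (𝟙 _) (z ≫ fst G X) ≫ (G ◁ mm.base)
      rw [hg2, ← rightMulMap_one, ← rightMulMap_one, rightMulMap_comp, rightMulMap_comp]
      simp only [z, lift_fst, Category.id_comp, comp_one, _root_.mul_one, _root_.one_mul]

variable (G aX) in
theorem isTwoCartOver_cartIso :
    FibCat.IsTwoCartOver (ofSpMap ((AlgSp.yon S).map aX.act)) (ofSpMap ((AlgSp.yon S).map (snd G X)))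
      (cartIso G aX) :=
  Groth.Agent.Lib.Helper65.isEquivOver_of_ff_ess (cartLift G aX) cartLift_essSurjOver

end TwoCart

end Groth.Agent.Lib.Helper66.QuotStBasic
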