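import Groth.Prelude.Def_AlgSt5

/-!
# Basic torsor computations in the quotient category `[X/G]` (`AlgSt.QuotSt`)

* `leftMul_act_comp` : orbit maps `(g, t) ↦ g · s(t)` are equivariant for left multiplication.
* `trivHom` : a section `s : T ⟶ P` of the torsor of an object `A` gives a morphism from the trivial object
  `quotMap (s ≫ φ)` to `A` over `s ≫ π`.
-/

set_option autoImplicit false
set_option backward.isDefEq.respectTransparency false
set_option backward.isDefEq.respectTransparency.types false
set_option linter.unusedSimpArgs false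
set_option linter.unusedVariables false

universe u

open CategoryTheory CategoryTheory.Limits MonoidalCategory CartesianMonoidalCategory MonObj GrpObj AlgebraicGeometry

namespace Groth.Agent.Lib.Helper66.QuotStBasic

open AlgSt

variable {S : Scheme.{u}} {K : Precoverage Scheme.{u}} {G : Over S} [GrpObj G] {X : Over S}
  {aX : AlgGrp.Action G X}

/-- `(g, (h, t)) ↦ (g h) · s(t)` equals `(g, (h, t)) ↦ g · (h · s(t))`. -/
theorem leftMul_act_comp {Y T : Over S} (a : AlgGrp.Action G Y) (s : T ⟶ Y) :
    (leftMul G T).act ≫ (G ◁ s) ≫ a.act = (G ◁ ((G ◁ s) ≫ a.act)) ≫ a.act := by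
  have hμ : fst (G ⊗ G) Y ≫ μ[G] = (fst _ _ ≫ fst G G) * (fst _ _ ≫ snd G G) := by
    rw [Hom.mul_def, ← comp_lift, lift_fst_snd, Category.comp_id]
  have h : (leftMul G T).act ≫ (G ◁ s) = (G ◁ (G ◁ s)) ≫ (α_ G G Y).inv ≫ (μ[G] ▷ Y) := by
    apply CartesianMonoidalCategory.hom_ext
    · simp only [leftMul, Category.assoc, lift_fst, lift_snd, lift_fst_assoc, lift_snd_assoc, comp_lift, comp_mul, whiskerLeft_fst, whiskerLeft_snd, whiskerLeft_fst_assoc, whiskerLeft_snd_assoc, whiskerRight_fst, whiskerRight_snd, whiskerRight_fst_assoc, whiskerRight_snd_assoc, associator_hom_fst, associator_hom_snd_fst, associator_hom_snd_snd, associator_hom_snd_fst_assoc, associator_hom_snd_snd_assoc, associator_inv_fst_fst, associator_inv_fst_snd, associator_inv_snd, associator_inv_fst_fst_assoc, associator_inv_fst_snd_assoc, associator_inv_snd_assoc, hμ]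
    · simp only [leftMul, Category.assoc, lift_fst, lift_snd, lift_fst_assoc, lift_snd_assoc, comp_lift, comp_mul, whiskerLeft_fst, whiskerLeft_snd, whiskerLeft_fst_assoc, whiskerLeft_snd_assoc, whiskerRight_fst, whiskerRight_snd, whiskerRight_fst_assoc, whiskerRight_snd_assoc, associator_hom_fst, associator_hom_snd_fst, associator_hom_snd_snd, associator_hom_snd_fst_assoc, associator_hom_snd_snd_assoc, associator_inv_fst_fst, associator_inv_fst_snd, associator_inv_snd, associator_inv_fst_fst_assoc, associator_inv_fst_snd_assoc, associator_inv_snd_assoc]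
  have hm : (G ◁ a.act) ≫ a.act = (α_ G G Y).inv ≫ (μ[G] ▷ Y) ≫ a.act := by
    rw [a.mul_act, Iso.inv_hom_id_assoc]
  rw [MonoidalCategory.whiskerLeft_comp, Category.assoc, hm, reassoc_of% h]

variable [K.HasIsos]

/-- The object `quotMap (T, x)`. -/
noncomputable abbrev trivObj (T : Over S) (x : T ⟶ X) : QuotObj K G aX :=
  (quotMap K G aX).obj ((ofOverCat X).obj (Over.mk x))

/-- A section `s : T ⟶ P` of the torsor of `A` trivialises the pullback of `A` to `T`. -/
noncomputable def trivHom (A : QuotObj K G aX) {T : Over S} (s : T ⟶ A.P) :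
    trivObj (K := K) (aX := aX) T (s ≫ A.φ) ⟶ A where
  base := s ≫ A.π
  top := (G ◁ s) ≫ A.act.act
  eqv := leftMul_act_comp A.act s
  cart := (isPullback_whiskerLeft s).paste_horiz A.cart
  wφ := by
    change ((G ◁ s) ≫ A.act.act) ≫ A.φ = (G ◁ (s ≫ A.φ)) ≫ aX.act
    rw [Category.assoc, A.eqv, MonoidalCategory.whiskerLeft_comp, Category.assoc]

@[simp] theorem trivHom_base (A : QuotObj K G aX) {T : Over S} (s : T ⟶ A.P) :
    (trivHom A s).base = s ≫ A.π := rfl

@[simp] theorem trivHom_top (A : QuotObj K G aX) {T : Over S} (s : T ⟶ A.P) :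
    (trivHom A s).top = (G ◁ s) ≫ A.act.act := rfl

end Groth.Agent.Lib.Helper66.QuotStBasic
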