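import Groth.Agent.Lib.Helper66.AlgStLocQSq7
import Groth.Agent.Lib.Helper65.OverRep

/-!
# Composition of properties read on a chart square
-/

set_option autoImplicit false
set_option backward.isDefEq.respectTransparency false
set_option backward.isDefEq.respectTransparency.types false
universe u

open CategoryTheory CategoryTheory.Limits AlgebraicGeometry Opposite

namespace Groth.Agent.Lib.Helper66.AlgStLocQSq

open FibCat Groth.Agent.Lib.Helper31 Groth.Agent.Lib.Helper65 Groth.Agent.Lib.Helper66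

variable {S : Scheme.{u}} {𝒳 𝒴 𝒵 : AlgSt.Cat S}

/-- Over a given smooth (surjective) chart `y` of the target there is a chart square whose induced map to the
fibre product is smooth (and surjective). -/
theorem exists_good_square
    (h𝒳 : AlgSt.IsAlgStack Scheme.fppfPrecoverage 𝒳) (h𝒴 : AlgSt.IsAlgStack Scheme.fppfPrecoverage 𝒴)
    (f : 𝒳 ⥤ᵇ 𝒴) (V : Over S) (y : FibCat.overCat V ⥤ᵇ 𝒴)
    (hy1 : AlgSt.RepByAlgSpWith (AlgSp.LocP @Smooth) y) (hy2 : AlgSt.RepByAlgSpWith AlgSp.IsSurjectiveMor y) :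
    ∃ (U : Over S) (x : FibCat.overCat U ⥤ᵇ 𝒳) (k : U ⟶ V)
      (α : BasedFunctor.comp x f ≅ BasedFunctor.comp (AlgSt.overMap k) y),
      AlgSt.RepByAlgSpWith (AlgSp.LocP @Smooth) x ∧ AlgSt.RepByAlgSpWith AlgSp.IsSurjectiveMor x ∧
      AlgSt.RepByAlgSpWith (AlgSp.LocP @Smooth) (FibCat.fpLift x (AlgSt.overMap k) α) := by
  have hV := isAlgStack_overCat V
  have hfp : AlgSt.IsAlgStack Scheme.fppfPrecoverage (fp f y) :=
    Groth.Agent.S12763.result h𝒴.isStack h𝒴.diag h𝒳 hV f y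
  obtain ⟨U, c₀, hc1, hc2⟩ := hfp.atlas
  let x : FibCat.overCat U ⥤ᵇ 𝒳 := BasedFunctor.comp c₀ (fpFst f y)
  have hπ1 : AlgSt.RepByAlgSpWith (AlgSp.LocP @Smooth) (fpFst f y) := repByAlgSpWith_fpFst _ y f hy1
  have hπ2 : AlgSt.RepByAlgSpWith AlgSp.IsSurjectiveMor (fpFst f y) := repByAlgSpWith_fpFst _ y f hy2
  have hx1 : AlgSt.RepByAlgSpWith (AlgSp.LocP @Smooth) x :=
    repByAlgSpWith_comp _ stableBC_locP_smooth
      (stableComp_locP _ (Or.inr (Or.inr (Or.inr (Or.inl rfl))))) isLocalOnBase_fppf_locP_smooth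
      (isFibGrpd_overForget U) hfp.isStack.1 c₀ (fpFst f y) hc1 hπ1
  have hx2 : AlgSt.RepByAlgSpWith AlgSp.IsSurjectiveMor x :=
    repByAlgSpWith_comp _ stableBC_isSurjectiveMor stableComp_isSurjectiveMor
      isLocalOnBase_fppf_isSurjectiveMor (isFibGrpd_overForget U) hfp.isStack.1 c₀ (fpFst f y) hc2 hπ2
  obtain ⟨k, -, ⟨i⟩⟩ := Groth.Agent.Lib.Helper65.exists_iso_overMap (BasedFunctor.comp c₀ (fpSnd f y))
  let α : BasedFunctor.comp x f ≅ BasedFunctor.comp (AlgSt.overMap k) y :=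
    bWhiskerLeftIso c₀ (fpIso f y) ≪≫ bWhiskerRightIso i y
  let c : FibCat.overCat U ⥤ᵇ fp f y := FibCat.fpLift x (AlgSt.overMap k) α
  have j : c₀ ≅ c := Groth.Agent.Lib.Helper90.LiftSqFp.fpIsoMk (P := c₀) (Q := c) (Iso.refl _) i (fun w => by
    change f.map (𝟙 _) ≫ ((c₀.obj w).obj.iso.hom ≫ y.map (i.hom.toNatTrans.app w)) = _
    rw [f.map_id, Category.id_comp]
    rfl)
  have hc : AlgSt.RepByAlgSpWith (AlgSp.LocP @Smooth) c :=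
    Groth.Agent.Lib.Helper66.RepWithPDet.repByAlgSpWith_of_iso _ j.symm hc1
  exact ⟨U, x, k, α, hx1, hx2, hc⟩

/-- The 2-isomorphism `overMap k₁ ≫ overMap k₂ ≅ overMap (k₁ ≫ k₂)`. -/
noncomputable def overMapComp {U V W : Over S} (k₁ : U ⟶ V) (k₂ : V ⟶ W) :
    BasedFunctor.comp (AlgSt.overMap k₁) (AlgSt.overMap k₂) ≅ AlgSt.overMap (k₁ ≫ k₂) :=
  overMapCompIso k₁ k₂

/-- Composition. -/
theorem locQ_comp (P : MorphismProperty (AlgSp.Sp S)) (hP : AlgSp.IsSmoothLocalST P)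
    (hPc : ∀ ⦃X₁ Y₁ Z₁ : AlgSp.Sp S⦄, AlgSp.IsAlgSpace X₁ → AlgSp.IsAlgSpace Y₁ → AlgSp.IsAlgSpace Z₁ →
      ∀ (a : X₁ ⟶ Y₁) (b : Y₁ ⟶ Z₁), P a → P b → P (a ≫ b))
    (h𝒳 : AlgSt.IsAlgStack Scheme.fppfPrecoverage 𝒳) (h𝒴 : AlgSt.IsAlgStack Scheme.fppfPrecoverage 𝒴)
    (h𝒵 : AlgSt.IsAlgStack Scheme.fppfPrecoverage 𝒵) (f : 𝒳 ⥤ᵇ 𝒴) (g : 𝒴 ⥤ᵇ 𝒵)
    (hf : AlgSt.LocQ P f) (hg : AlgSt.LocQ P g) : AlgSt.LocQ P (BasedFunctor.comp f g) := by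
  obtain ⟨W, w, hw1, hw2⟩ := h𝒵.atlas
  obtain ⟨V, y, k₂, α₂, hy1, hy2, hc₂⟩ := exists_good_square h𝒴 h𝒵 g W w hw1 hw2
  obtain ⟨U, x, k₁, α₁, hx1, hx2, hc₁⟩ := exists_good_square h𝒳 h𝒴 f V y hy1 hy2
  have hP₁ : P ((AlgSp.yon S).map k₁) :=
    prop_of_locQ_of_smooth_square P hP h𝒳 h𝒴 f hf U V x y k₁ α₁ hy1 hc₁
  have hP₂ : P ((AlgSp.yon S).map k₂) :=
    prop_of_locQ_of_smooth_square P hP h𝒴 h𝒵 g hg V W y w k₂ α₂ hw1 hc₂
  let β : BasedFunctor.comp x (BasedFunctor.comp f g) ≅ BasedFunctor.comp (AlgSt.overMap (k₁ ≫ k₂)) w :=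
    bWhiskerRightIso α₁ g ≪≫ bWhiskerLeftIso (AlgSt.overMap k₁) α₂ ≪≫ bWhiskerRightIso (overMapComp k₁ k₂) w
  refine ⟨U, W, x, w, k₁ ≫ k₂, β, hx1, hx2, hw1, ?_⟩
  rw [Functor.map_comp]
  exact hPc (AlgSp.IsAlgSpace.yon_obj U) (AlgSp.IsAlgSpace.yon_obj V) (AlgSp.IsAlgSpace.yon_obj W) _ _ hP₁ hP₂

end Groth.Agent.Lib.Helper66.AlgStLocQSq
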