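import Groth.Agent.Lib.Helper65.LocQFlat
import Groth.Agent.Lib.Helper66.AlgSpSmLocalLft
import Groth.Agent.Lib.Helper66.LfpNoeth
import Groth.Agent.Lib.Helper71.FppfChart

/-!
# Helper66: fppf descent on the source for properties of morphisms of algebraic stacks read on chart squares
-/

set_option autoImplicit false
set_option backward.isDefEq.respectTransparency false
set_option backward.isDefEq.respectTransparency.types false

universe u

open CategoryTheory CategoryTheory.Functor CategoryTheory.Limits Opposite AlgebraicGeometry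

namespace Groth.Agent.Lib.Helper66.LocQFppfDesc

open FibCat Groth.Agent.Lib.Helper31 Groth.Agent.Lib.Helper65 Groth.Agent.Lib.Helper66
  Groth.Agent.Lib.Helper66.AlgStLocQSq Groth.Agent.Lib.Helper65.LocQFlat

variable {S : Scheme.{u}} {𝒳 𝒴 𝒵 𝒲 : AlgSt.Cat S}

/-- A morphism of schemes over `S` which is surjective as a map of sheaves is surjective. -/
theorem surjective_left_of_isSurjectiveMor {U V : Over S} (h : U ⟶ V)
    (hs : AlgSp.IsSurjectiveMor ((AlgSp.yon S).map h)) : Surjective h.left := by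
  refine ⟨fun v => ?_⟩
  obtain ⟨x, hx⟩ := hs (AlgSp.Points.ofScheme V v)
  refine ⟨AlgSp.Points.toScheme U x, ?_⟩
  have h1 : AlgSp.Points.map ((AlgSp.yon S).map h) (AlgSp.Points.ofScheme U (AlgSp.Points.toScheme U x)) =
      AlgSp.Points.ofScheme V v := by
    rw [AlgSp.Points.ofScheme_toScheme]; exact hx
  rw [AlgSp.Points.map_ofPt, Category.id_comp] at h1
  have h2 := congrArg (AlgSp.Points.toScheme V) h1
  rw [AlgSp.Points.toScheme_ofPt, AlgSp.Points.toScheme_ofScheme] at h2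
  exact h2

theorem locP_lft_yon_map {U V : Over S} (k : U ⟶ V) (hk : LocallyOfFiniteType k.left) :
    AlgSp.LocP @LocallyOfFiniteType ((AlgSp.yon S).map k) := by
  have hR : Groth.Agent.Lib.Helper66.AlgStPFacts.Listed
      (@LocallyOfFiniteType : MorphismProperty Scheme.{u}) := Or.inl rfl
  exact (Groth.Agent.H52.isEtLocal_of_list _ hR).locP_of_repWith' _
    ((AlgSp.repWith_yon_map_iff @LocallyOfFiniteType k).2 hk)

/-- fppf descent on the source for locally of finite presentation, for morphisms of schemes seen as maps of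
sheaves. -/
theorem locP_lfp_yon_of_comp {U V W : Over S} (h : U ⟶ V) (k : V ⟶ W)
    (hh₁ : AlgSp.LocP @Flat ((AlgSp.yon S).map h))
    (hh₂ : AlgSp.LocP @LocallyOfFinitePresentation ((AlgSp.yon S).map h))
    (hs : AlgSp.IsSurjectiveMor ((AlgSp.yon S).map h))
    (hhk : AlgSp.LocP @LocallyOfFinitePresentation ((AlgSp.yon S).map (h ≫ k))) :
    AlgSp.LocP @LocallyOfFinitePresentation ((AlgSp.yon S).map k) := by
  have i1 : Flat h.left := AlgSp.locP_yon_map hh₁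
  have i2 : LocallyOfFinitePresentation h.left := AlgSp.locP_yon_map hh₂
  have i3 : Surjective h.left := surjective_left_of_isSurjectiveMor h hs
  have i4 : LocallyOfFinitePresentation (h.left ≫ k.left) := by
    have := AlgSp.locP_yon_map hhk
    rwa [Over.comp_left] at this
  exact Groth.Agent.Lib.Helper66.LfpNoeth.locP_lfp_yon_map k
    (Groth.Agent.Lib.Helper71.FppfChart.locallyOfFinitePresentation_of_fppf_comp h.left k.left)

/-- fppf descent on the source for locally of finite type, for morphisms of schemes seen as maps of sheaves. -/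
theorem locP_lft_yon_of_comp {U V W : Over S} (h : U ⟶ V) (k : V ⟶ W)
    (hh₁ : AlgSp.LocP @Flat ((AlgSp.yon S).map h))
    (hh₂ : AlgSp.LocP @LocallyOfFinitePresentation ((AlgSp.yon S).map h))
    (hs : AlgSp.IsSurjectiveMor ((AlgSp.yon S).map h))
    (hhk : AlgSp.LocP @LocallyOfFiniteType ((AlgSp.yon S).map (h ≫ k))) :
    AlgSp.LocP @LocallyOfFiniteType ((AlgSp.yon S).map k) := by
  have i1 : Flat h.left := AlgSp.locP_yon_map hh₁
  have i2 : LocallyOfFinitePresentation h.left := AlgSp.locP_yon_map hh₂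
  have i3 : Surjective h.left := surjective_left_of_isSurjectiveMor h hs
  have i4 : LocallyOfFiniteType (h.left ≫ k.left) := by
    have := AlgSp.locP_yon_map hhk
    rwa [Over.comp_left] at this
  exact locP_lft_yon_map k
    (Groth.Agent.Lib.Helper71.FppfChart.locallyOfFiniteType_of_fppf_comp h.left k.left)

/-- Generic fppf descent on the source: if `P` is smooth local on source and target and descends along fppf
covers of schemes on the source, then `f` flat, locally of finite presentation, surjective and `f ≫ g` has `P`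
imply `g` has `P`. -/
theorem locQ_of_comp_fppf (P : MorphismProperty (AlgSp.Sp S)) (hP : AlgSp.IsSmoothLocalST P)
    (hdesc : ∀ {U V W : Over S} (h : U ⟶ V) (k : V ⟶ W),
      AlgSp.LocP @Flat ((AlgSp.yon S).map h) →
      AlgSp.LocP @LocallyOfFinitePresentation ((AlgSp.yon S).map h) →
      AlgSp.IsSurjectiveMor ((AlgSp.yon S).map h) →
      P ((AlgSp.yon S).map (h ≫ k)) → P ((AlgSp.yon S).map k))
    (h𝒳 : AlgSt.IsAlgStack Scheme.fppfPrecoverage 𝒳) (h𝒴 : AlgSt.IsAlgStack Scheme.fppfPrecoverage 𝒴)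
    (h𝒵 : AlgSt.IsAlgStack Scheme.fppfPrecoverage 𝒵) (f : 𝒳 ⥤ᵇ 𝒴) (g : 𝒴 ⥤ᵇ 𝒵)
    (hf₁ : AlgSt.LocQ (AlgSp.LocP @Flat) f)
    (hf₁' : AlgSt.LocQ (AlgSp.LocP @LocallyOfFinitePresentation) f)
    (hf₂ : AlgSt.IsSurjective f)
    (hfg : AlgSt.LocQ P (BasedFunctor.comp f g)) : AlgSt.LocQ P g := by
  have hPF : AlgSp.IsSmoothLocalST (AlgSp.LocP (S := S) @Flat) := isSmoothLocalST_locP_flat
  have hPL : AlgSp.IsSmoothLocalST (AlgSp.LocP (S := S) @LocallyOfFinitePresentation) :=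
    Groth.Agent.Lib.Helper66.AlgSpSmLocalLft.isSmoothLocalST_locP_lfp
  obtain ⟨W, w, hw1, hw2⟩ := h𝒵.atlas
  have hW := isAlgStack_overCat W
  have h𝒴W : AlgSt.IsAlgStack Scheme.fppfPrecoverage (fp w g) :=
    Groth.Agent.S12763.result h𝒵.isStack h𝒵.diag hW h𝒴 w g
  refine locQ_of_locQ_fpFst _ h𝒴.isStack.1 h𝒵.isStack.1 hW.isStack.1 g w hw1 hw2 ?_
  have hs1 : AlgSt.RepByAlgSpWith (AlgSp.LocP @Smooth) (fpSnd w g) :=
    Groth.Agent.Lib.Helper66.AlgStBC.repByAlgSpWith_fpSnd _ g w hw1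
  have h𝒳' : AlgSt.IsAlgStack Scheme.fppfPrecoverage (fp (fpSnd w g) f) :=
    Groth.Agent.S12763.result h𝒴.isStack h𝒴.diag h𝒴W h𝒳 (fpSnd w g) f
  -- the base change `f'` of `f`
  have hf' : AlgSt.LocQ (AlgSp.LocP @Flat) (fpFst (fpSnd w g) f) :=
    locQ_fpFst_of_smooth _ hPF h𝒳 h𝒴 h𝒴W f (fpSnd w g) hs1 hf₁
  have hf'L : AlgSt.LocQ (AlgSp.LocP @LocallyOfFinitePresentation) (fpFst (fpSnd w g) f) :=
    locQ_fpFst_of_smooth _ hPL h𝒳 h𝒴 h𝒴W f (fpSnd w g) hs1 hf₁'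
  have hf's : AlgSt.IsSurjective (fpFst (fpSnd w g) f) :=
    Groth.Agent.S12825.result h𝒳 h𝒴 h𝒴W f (fpSnd w g) hf₂
  -- the composite `f' ≫ g_W`
  have hfgW : AlgSt.LocQ P (fpFst w (BasedFunctor.comp f g)) :=
    locQ_fpFst_of_smooth _ hP h𝒳 h𝒵 hW (BasedFunctor.comp f g) w hw1 hfg
  have hE : AlgSt.RepByAlgSpWith (AlgSp.LocP @Smooth) (fpPasteSnd w g f) :=
    repByAlgSpWith_of_isEquivOver _ (fun U => Groth.Agent.Lib.Helper54.locP_smooth_id _) _
      (fpPasteSnd_isEquivOver w g f)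
  have hcomp : AlgSt.LocQ P
      (BasedFunctor.comp (fpFst (fpSnd w g) f) (fpFst w g)) :=
    locQ_precomp_smooth _ hP h𝒳'.isStack.1
      (isFibGrpd_fp w (BasedFunctor.comp f g) hW.isStack.1 h𝒳.isStack.1 h𝒵.isStack.1) hW.isStack.1
      (fpPasteSnd w g f) (fpFst w (BasedFunctor.comp f g)) hE hfgW
  -- charts
  obtain ⟨V, v, hv1, hv2⟩ := h𝒴W.atlas
  have hV := isAlgStack_overCat V
  have h𝒬 : AlgSt.IsAlgStack Scheme.fppfPrecoverage (fp v (fpFst (fpSnd w g) f)) :=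
    Groth.Agent.S12763.result h𝒴W.isStack h𝒴W.diag hV h𝒳' v (fpFst (fpSnd w g) f)
  obtain ⟨U, c, hc1, hc2⟩ := h𝒬.atlas
  obtain ⟨h₁, hh₁, ⟨i₁⟩⟩ := Groth.Agent.Lib.Helper65.exists_iso_overMap (BasedFunctor.comp c (fpFst v (fpFst (fpSnd w g) f)))
  obtain ⟨k₂, -, ⟨i₂⟩⟩ := Groth.Agent.Lib.Helper65.exists_iso_overMap (BasedFunctor.comp v (fpFst w g))
  -- `h₁` is flat and locally of finite presentation
  have hq : AlgSt.LocQ (AlgSp.LocP @Flat) (fpFst v (fpFst (fpSnd w g) f)) :=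
    locQ_fpFst_of_smooth _ hPF h𝒳' h𝒴W hV (fpFst (fpSnd w g) f) v hv1 hf'
  have hqL : AlgSt.LocQ (AlgSp.LocP @LocallyOfFinitePresentation) (fpFst v (fpFst (fpSnd w g) f)) :=
    locQ_fpFst_of_smooth _ hPL h𝒳' h𝒴W hV (fpFst (fpSnd w g) f) v hv1 hf'L
  have hP₁ : AlgSp.LocP @Flat ((AlgSp.yon S).map h₁) :=
    prop_of_locQ_to_overCat _ hPF h𝒬 _ hq U c h₁ i₁ hc1
  have hP₁L : AlgSp.LocP @LocallyOfFinitePresentation ((AlgSp.yon S).map h₁) :=
    prop_of_locQ_to_overCat _ hPL h𝒬 _ hqL U c h₁ i₁ hc1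
  -- `h₁` is surjective
  have hqs : AlgSt.IsSurjective (fpFst v (fpFst (fpSnd w g) f)) :=
    Groth.Agent.S12825.result h𝒳' h𝒴W hV (fpFst (fpSnd w g) f) v hf's
  have hcs : AlgSt.IsSurjective c :=
    isSurjective_of_repByAlgSpWith (isFibGrpd_overForget U) h𝒬.isStack.1 c hc2
  have hS₁ : AlgSp.IsSurjectiveMor ((AlgSp.yon S).map h₁) := by
    rw [hh₁]
    exact isSurjectiveMor_of_isSurjective _ (isSurjective_comp _ _ hcs hqs)
  -- the composite `h₁ ≫ k₂` has `P`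
  have hsnd : AlgSt.RepByAlgSpWith (AlgSp.LocP @Smooth) (fpSnd v (fpFst (fpSnd w g) f)) :=
    Groth.Agent.Lib.Helper66.AlgStBC.repByAlgSpWith_fpSnd _ (fpFst (fpSnd w g) f) v hv1
  have hx1 : AlgSt.RepByAlgSpWith (AlgSp.LocP @Smooth)
      (BasedFunctor.comp c (fpSnd v (fpFst (fpSnd w g) f))) :=
    repByAlgSpWith_comp _ stableBC_locP_smooth
      (stableComp_locP _ (Or.inr (Or.inr (Or.inr (Or.inl rfl))))) isLocalOnBase_fppf_locP_smooth
      (isFibGrpd_overForget U) h𝒬.isStack.1 c _ hc1 hsnd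
  let β : BasedFunctor.comp (BasedFunctor.comp c (fpSnd v (fpFst (fpSnd w g) f)))
      (BasedFunctor.comp (fpFst (fpSnd w g) f) (fpFst w g)) ≅ AlgSt.overMap (h₁ ≫ k₂) :=
    bWhiskerRightIso (bWhiskerLeftIso c (fpIso v (fpFst (fpSnd w g) f)).symm) (fpFst w g) ≪≫
      bWhiskerRightIso i₁ (BasedFunctor.comp v (fpFst w g)) ≪≫
      bWhiskerLeftIso (AlgSt.overMap h₁) i₂ ≪≫ overMapComp h₁ k₂
  have hP₂ : P ((AlgSp.yon S).map (h₁ ≫ k₂)) :=
    prop_of_locQ_to_overCat _ hP h𝒳' _ hcomp U _ (h₁ ≫ k₂) β hx1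
  have hP₃ : P ((AlgSp.yon S).map k₂) := hdesc h₁ k₂ hP₁ hP₁L hS₁ hP₂
  exact ⟨V, W, v, BasedFunctor.id _, k₂, i₂, hv1, hv2, repByAlgSpWith_smooth_id _, hP₃⟩

end Groth.Agent.Lib.Helper66.LocQFppfDesc
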