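import Groth.Agent.Lib.Helper66.AlgStLocQSq4
import Groth.Agent.S12763

/-!
# Base change of a property read on a chart square
-/

set_option autoImplicit false
set_option backward.isDefEq.respectTransparency false
set_option backward.isDefEq.respectTransparency.types false
universe u

open CategoryTheory CategoryTheory.Limits AlgebraicGeometry Opposite

namespace Groth.Agent.Lib.Helper66.AlgStLocQSq

open FibCat Groth.Agent.Lib.Helper31 Groth.Agent.Lib.Helper65 Groth.Agent.Lib.Helper66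

variable {S : Scheme.{u}} {𝒳 𝒴 𝒴' : AlgSt.Cat S}

/-- Base change of a chart square with algebraic spaces along `g : 𝒴' ⟶ 𝒴`, provided the base change of
the middle map of the square is representable with `P` after smooth base change. -/
theorem locQ_fpFst_of_square (P : MorphismProperty (AlgSp.Sp S)) (hP : AlgSp.IsSmoothLocalST P)
    (h𝒳 : AlgSt.IsAlgStack Scheme.fppfPrecoverage 𝒳) (h𝒴 : AlgSt.IsAlgStack Scheme.fppfPrecoverage 𝒴)
    (h𝒴' : AlgSt.IsAlgStack Scheme.fppfPrecoverage 𝒴') (f : 𝒳 ⥤ᵇ 𝒴) (g : 𝒴' ⥤ᵇ 𝒴)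
    (U V : AlgSp.Space S) (x : AlgSt.ofSp U.obj ⥤ᵇ 𝒳) (y : AlgSt.ofSp V.obj ⥤ᵇ 𝒴) (k : U ⟶ V)
    (α : BasedFunctor.comp x f ≅ BasedFunctor.comp (AlgSt.ofSpMap k.hom) y)
    (hx : AlgSt.RepByAlgSpWith (AlgSp.LocP @Smooth) x) (hxs : AlgSt.RepByAlgSpWith AlgSp.IsSurjectiveMor x)
    (hy : AlgSt.RepByAlgSpWith (AlgSp.LocP @Smooth) y)
    (hk : SmRep P (fpFst (fpSnd g y) (AlgSt.ofSpMap k.hom))) : AlgSt.LocQ P (fpFst g f) := by
  have hU := isAlgStack_ofSp U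
  have hV := isAlgStack_ofSp V
  have hfp : AlgSt.IsAlgStack Scheme.fppfPrecoverage (fp g f) :=
    Groth.Agent.S12763.result h𝒴.isStack h𝒴.diag h𝒴' h𝒳 g f
  have h𝒱 : AlgSt.IsAlgStack Scheme.fppfPrecoverage (fp g y) :=
    Groth.Agent.S12763.result h𝒴.isStack h𝒴.diag h𝒴' hV g y
  have h𝒲 : IsFibGrpd (fp (fpSnd g f) x).p :=
    isFibGrpd_fp _ _ hfp.isStack.1 hU.isStack.1 h𝒳.isStack.1
  let p : fp (fpSnd g f) x ⥤ᵇ fp g f := fpFst (fpSnd g f) x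
  let q : fp g y ⥤ᵇ 𝒴' := fpFst g y
  let E₁ : fp (fpSnd g f) x ⥤ᵇ fp g (BasedFunctor.comp x f) := fpPasteSnd g f x
  have hE₁ : IsEquivOver E₁ := fpPasteSnd_isEquivOver g f x
  let M : fp g (BasedFunctor.comp x f) ⥤ᵇ fp g (BasedFunctor.comp (AlgSt.ofSpMap k.hom) y) :=
    fpMap (F := g) (G := BasedFunctor.comp x f) (F' := g) (G' := BasedFunctor.comp (AlgSt.ofSpMap k.hom) y)
      (BasedFunctor.id _) (BasedFunctor.id _) (BasedFunctor.id _) (Iso.refl _) α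
  have hM : IsEquivOver M :=
    fpMap_isEquivOver _ _ _ _ _ (isEquivOver_id _) (isEquivOver_id _) (isEquivOver_id _)
  let E₂ : fp (fpSnd g y) (AlgSt.ofSpMap k.hom) ⥤ᵇ fp g (BasedFunctor.comp (AlgSt.ofSpMap k.hom) y) :=
    fpPasteSnd g y (AlgSt.ofSpMap k.hom)
  have hE₂ : IsEquivOver E₂ := fpPasteSnd_isEquivOver g y (AlgSt.ofSpMap k.hom)
  obtain ⟨E₂', hE₂', ⟨c₁⟩, ⟨c₂⟩⟩ := exists_inverse_equivOver E₂ hE₂
  let E : fp (fpSnd g f) x ⥤ᵇ fp (fpSnd g y) (AlgSt.ofSpMap k.hom) :=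
    BasedFunctor.comp (BasedFunctor.comp E₁ M) E₂'
  have hE : IsEquivOver E := isEquivOver_comp _ _ (isEquivOver_comp _ _ hE₁ hM) hE₂'
  let h : fp (fpSnd g f) x ⥤ᵇ fp g y := BasedFunctor.comp E (fpFst (fpSnd g y) (AlgSt.ofSpMap k.hom))
  have hh : SmRep P h := smRep_equiv_comp P E hE _ hk
  have hp : AlgSt.RepByAlgSpWith (AlgSp.LocP @Smooth) p := repByAlgSpWith_fpFst _ x (fpSnd g f) hx
  have hps : AlgSt.RepByAlgSpWith AlgSp.IsSurjectiveMor p := repByAlgSpWith_fpFst _ x (fpSnd g f) hxs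
  have hq : AlgSt.RepByAlgSpWith (AlgSp.LocP @Smooth) q := repByAlgSpWith_fpFst _ y g hy
  have e1 : BasedFunctor.comp h q = BasedFunctor.comp (BasedFunctor.comp E₁ M)
      (BasedFunctor.comp (BasedFunctor.comp E₂' E₂) (fpFst g (BasedFunctor.comp (AlgSt.ofSpMap k.hom) y))) := rfl
  have e2 : BasedFunctor.comp (BasedFunctor.comp E₁ M)
      (BasedFunctor.comp (BasedFunctor.id _) (fpFst g (BasedFunctor.comp (AlgSt.ofSpMap k.hom) y))) =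
      BasedFunctor.comp p (fpFst g f) := rfl
  let β : BasedFunctor.comp p (fpFst g f) ≅ BasedFunctor.comp h q :=
    (eqToIso e1 ≪≫ bWhiskerLeftIso (BasedFunctor.comp E₁ M)
      (bWhiskerRightIso c₂ (fpFst g (BasedFunctor.comp (AlgSt.ofSpMap k.hom) y))) ≪≫ eqToIso e2).symm
  exact locQ_of_stack_square P hP hfp.isStack.1 h𝒴'.isStack.1 h𝒲 h𝒱.isStack.1 h𝒱.atlas (fpFst g f) p q h β
    hp hps hq hh

/-- Base change along an arbitrary morphism, for `P` stable under base change. -/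
theorem locQ_fpFst (P : MorphismProperty (AlgSp.Sp S)) (hP : AlgSp.IsSmoothLocalST P) (hPb : StableBC P)
    (h𝒳 : AlgSt.IsAlgStack Scheme.fppfPrecoverage 𝒳) (h𝒴 : AlgSt.IsAlgStack Scheme.fppfPrecoverage 𝒴)
    (h𝒴' : AlgSt.IsAlgStack Scheme.fppfPrecoverage 𝒴') (f : 𝒳 ⥤ᵇ 𝒴) (g : 𝒴' ⥤ᵇ 𝒴)
    (hf : AlgSt.LocQ P f) : AlgSt.LocQ P (fpFst g f) := by
  obtain ⟨U, V, x, y, k, α, hx, hxs, hy, hk⟩ := exists_space_square_of_locQ P f hf
  exact locQ_fpFst_of_square P hP h𝒳 h𝒴 h𝒴' f g U V x y k α hx hxs hy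
    (smRep_of_repByAlgSpWith (repByAlgSpWith_fpFst P _ _
      (repByAlgSpWith_ofSpMap_of_prop P hPb (V := U) (Z := V) k.hom hk)))

/-- Base change along a smooth morphism. -/
theorem locQ_fpFst_of_smooth (P : MorphismProperty (AlgSp.Sp S)) (hP : AlgSp.IsSmoothLocalST P)
    (h𝒳 : AlgSt.IsAlgStack Scheme.fppfPrecoverage 𝒳) (h𝒴 : AlgSt.IsAlgStack Scheme.fppfPrecoverage 𝒴)
    (h𝒴' : AlgSt.IsAlgStack Scheme.fppfPrecoverage 𝒴') (f : 𝒳 ⥤ᵇ 𝒴) (g : 𝒴' ⥤ᵇ 𝒴)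
    (hg : AlgSt.RepByAlgSpWith (AlgSp.LocP @Smooth) g)
    (hf : AlgSt.LocQ P f) : AlgSt.LocQ P (fpFst g f) := by
  obtain ⟨U, V, x, y, k, α, hx, hxs, hy, hk⟩ := exists_space_square_of_locQ P f hf
  have h𝒱 : AlgSt.IsAlgStack Scheme.fppfPrecoverage (fp g y) :=
    Groth.Agent.S12763.result h𝒴.isStack h𝒴.diag h𝒴' (isAlgStack_ofSp V) g y
  exact locQ_fpFst_of_square P hP h𝒳 h𝒴 h𝒴' f g U V x y k α hx hxs hy
    (smRep_fpFst P h𝒱.isStack.1 _ _ (Groth.Agent.Lib.Helper66.AlgStBC.repByAlgSpWith_fpSnd _ y g hg)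
      (smRep_ofSpMap P hP k.hom hk))

end Groth.Agent.Lib.Helper66.AlgStLocQSq
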