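import Groth.Agent.Lib.Helper66.AlgStDiagLft
import Groth.Agent.Lib.Helper66.AlgStDiagCancel

/-!
# The diagonal of any morphism of algebraic stacks is locally of finite type
-/

set_option autoImplicit false
set_option backward.isDefEq.respectTransparency false
set_option backward.isDefEq.respectTransparency.types false
universe u

open CategoryTheory CategoryTheory.Limits AlgebraicGeometry Opposite

namespace Groth.Agent.Lib.Helper66.AlgStDiagLft2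

open FibCat Groth.Agent.Lib.Helper31 Groth.Agent.Lib.Helper65
open Groth.Agent.Lib.Helper66.AlgStBridge Groth.Agent.Lib.Helper66.AlgStDiagComp
open Groth.Agent.Lib.Helper66.AlgStDiagLft

variable {S : Scheme.{u}} {𝒳 𝒴 : AlgSt.Cat S}

theorem repByAlgSpWith_lft_diag (h𝒳 : IsFibGrpd 𝒳.p) (h𝒴 : IsFibGrpd 𝒴.p)
    (hΔ𝒳 : AlgSt.RepByAlgSp1 (FibCat.diag (FibCat.toSelf 𝒳)))
    (hΔ𝒴 : AlgSt.RepByAlgSp1 (FibCat.diag (FibCat.toSelf 𝒴)))
    (hatlas : AlgSt.HasAtlas (AlgSp.LocP @Smooth) 𝒳) (f : 𝒳 ⥤ᵇ 𝒴) :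
    AlgSt.RepByAlgSpWith (AlgSp.LocP @LocallyOfFiniteType) (FibCat.diag f) := by
  let g : 𝒴 ⥤ᵇ selfOver (Over S) := FibCat.toSelf 𝒴
  have hS : IsFibGrpd (selfOver (Over S)).p := isFibGrpd_selfOver
  have h0 := repByAlgSpWith_lft_diag_toSelf h𝒳 hΔ𝒳 hatlas
  have h1 : AlgSt.RepByAlgSpWith (AlgSp.LocP @LocallyOfFiniteType)
      (FibCat.diag (BasedFunctor.comp f g)) :=
    (repByAlgSpWith_diag_of_equiv _ (F := FibCat.toSelf 𝒳) (F' := BasedFunctor.comp f g)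
      (BasedFunctor.id _) (BasedFunctor.id _) (isEquivOver_id _) (isEquivOver_id _) (toSelfIso f)).2 h0
  have h2 : AlgSt.RepByAlgSpWith ⊤ (cmp f g) :=
    Groth.Agent.Lib.Helper66.AlgStCmp.repByAlgSpWith_fpComparison ⊤ f f g (cmpIso f g)
      (cmpIso_app f g) ((repByAlgSp1_iff_top _).1 hΔ𝒴)
  have h3 : AlgSt.RepByAlgSpWith (AlgSp.LocP @LocallyOfFiniteType) (FibCat.diag (cmp f g)) :=
    repByAlgSpWith_diag_of_rep _ ⊤ (AlgStPFacts.stableBC_locP _ (Or.inl rfl)) _ h2 (fun V T' a _ =>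
      Groth.Agent.Lib.Helper66.AlgStBridgeQS.locP_lft_diagonal (V := V)
        (Y := ⟨(AlgSp.yon S).obj T', AlgSp.IsAlgSpace.yon_obj T'⟩) (ObjectProperty.homMk a))
  exact Groth.Agent.Lib.Helper66.AlgStDiagCancel.repByAlgSpWith_diag_of_comp _
    (AlgStPFacts.stableBC_locP _ (Or.inl rfl)) (AlgStPFacts.stableComp_locP _ (Or.inl rfl))
    isLocalOnBase_fppf_locP_lft h𝒳 h𝒴 hS f g h1 h3

end Groth.Agent.Lib.Helper66.AlgStDiagLft2
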