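import Groth.Agent.Lib.Helper66.AlgStLocQSq10
import Groth.Agent.Lib.Helper66.AlgStDiagLft2
import Groth.Agent.Lib.Helper66.AlgStCancel

/-!
# Chart squares for properties stable under base change and étale precomposition; cancellation for
locally of finite type
-/

set_option autoImplicit false
set_option backward.isDefEq.respectTransparency false
set_option backward.isDefEq.respectTransparency.types false
universe u

open CategoryTheory CategoryTheory.Limits AlgebraicGeometry Opposite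

namespace Groth.Agent.Lib.Helper66.AlgStLocQSq

open FibCat Groth.Agent.Lib.Helper31 Groth.Agent.Lib.Helper65 Groth.Agent.Lib.Helper66
open Groth.Agent.Lib.Helper66.AlgStQC5

variable {S : Scheme.{u}} {𝒳 𝒴 𝒵 : AlgSt.Cat S}

/-- A chart square with algebraic spaces gives a chart square with schemes, for `P` stable under base
change and under precomposition with étale morphisms. -/
theorem locQ_of_space_square' (P : MorphismProperty (AlgSp.Sp S)) (hPb : StableBC P)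
    (hpre : ∀ ⦃X Y Z : AlgSp.Sp S⦄ (f : X ⟶ Y) (g : Y ⟶ Z), AlgSp.IsEtaleMor f → P g → P (f ≫ g))
    (h𝒳 : IsFibGrpd 𝒳.p) (h𝒴 : IsFibGrpd 𝒴.p) (f : 𝒳 ⥤ᵇ 𝒴)
    (U V : AlgSp.Space S) (x : AlgSt.ofSp U.obj ⥤ᵇ 𝒳) (y : AlgSt.ofSp V.obj ⥤ᵇ 𝒴) (h : U ⟶ V)
    (α : BasedFunctor.comp x f ≅ BasedFunctor.comp (AlgSt.ofSpMap h.hom) y)
    (hx : AlgSt.RepByAlgSpWith (AlgSp.LocP @Smooth) x) (hxs : AlgSt.RepByAlgSpWith AlgSp.IsSurjectiveMor x)
    (hy : AlgSt.RepByAlgSpWith (AlgSp.LocP @Smooth) y) (hh : P h.hom) : AlgSt.LocQ P f := by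
  obtain ⟨V', q, hqe, hqs⟩ := V.property.atlas
  let fst := pullback.fst h.hom q
  let snd := pullback.snd h.hom q
  have sq : IsPullback fst snd h.hom q := IsPullback.of_hasPullback _ _
  have hW : AlgSp.IsAlgSpace (pullback h.hom q) :=
    Groth.Agent.H52.isAlgSpace_of_isPullback sq U.property V.property (AlgSp.IsAlgSpace.yon_obj V')
  obtain ⟨U', p, hpe, hps⟩ := hW.atlas
  obtain ⟨k, hk⟩ := (AlgSp.yon S).map_surjective (p ≫ snd)
  have hfe : AlgSp.RepWith @Etale fst := (AlgSp.RepWith @Etale).of_isPullback sq.flip hqe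
  have hfs : AlgSp.RepWith @Surjective fst := (AlgSp.RepWith @Surjective).of_isPullback sq.flip hqs
  have hpfe : AlgSp.RepWith @Etale (p ≫ fst) := (AlgSp.RepWith @Etale).comp_mem _ _ hpe hfe
  have hpfs : AlgSp.RepWith @Surjective (p ≫ fst) := (AlgSp.RepWith @Surjective).comp_mem _ _ hps hfs
  let x₀ : FibCat.overCat U' ⥤ᵇ 𝒳 := BasedFunctor.comp (chartFunctor (p ≫ fst)) x
  let y₀ : FibCat.overCat V' ⥤ᵇ 𝒴 := BasedFunctor.comp (chartFunctor q) y
  have hx₀ : AlgSt.RepByAlgSpWith (AlgSp.LocP @Smooth) x₀ := chart_comp_smooth h𝒳 U _ hpfe x hx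
  have hx₀s : AlgSt.RepByAlgSpWith AlgSp.IsSurjectiveMor x₀ := chart_comp_surjective h𝒳 U _ hpfs x hxs
  have hy₀ : AlgSt.RepByAlgSpWith (AlgSp.LocP @Smooth) y₀ := chart_comp_smooth h𝒴 V _ hqe y hy
  have hsnd : P snd := hPb U.property V.property hW (AlgSp.IsAlgSpace.yon_obj V') h.hom q snd fst sq hh
  have hPk : P ((AlgSp.yon S).map k) := by
    rw [hk]
    exact hpre p snd (fun _ _ hφ => (AlgSp.repWith_isMultiplicative (S := S) @Etale).comp_mem _ _ hφ hpe) hsnd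
  have e2 : BasedFunctor.comp (chartFunctor (p ≫ fst)) (BasedFunctor.comp (AlgSt.ofSpMap h.hom) y) =
      BasedFunctor.comp (AlgSt.overMap k) y₀ := by
    change BasedFunctor.comp (chartFunctor ((p ≫ fst) ≫ h.hom)) y = _
    have : (p ≫ fst) ≫ h.hom = (AlgSp.yon S).map k ≫ q := by
      rw [Category.assoc, sq.w, ← Category.assoc, hk]
    rw [this]
    rfl
  exact ⟨U', V', x₀, y₀, k, bWhiskerLeftIso (chartFunctor (p ≫ fst)) α ≪≫ eqToIso e2, hx₀, hx₀s, hy₀, hPk⟩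

/-- For a representable morphism with `P`, the property can be read on a chart square. -/
theorem locQ_of_repByAlgSpWith' (P : MorphismProperty (AlgSp.Sp S)) (hPb : StableBC P)
    (hpre : ∀ ⦃X Y Z : AlgSp.Sp S⦄ (f : X ⟶ Y) (g : Y ⟶ Z), AlgSp.IsEtaleMor f → P g → P (f ≫ g))
    (h𝒳 : IsFibGrpd 𝒳.p) (h𝒴 : IsFibGrpd 𝒴.p) (hatlas : AlgSt.HasAtlas (AlgSp.LocP @Smooth) 𝒴)
    (f : 𝒳 ⥤ᵇ 𝒴) (hf : AlgSt.RepByAlgSpWith P f) : AlgSt.LocQ P f := by
  obtain ⟨V, y, hy1, hy2⟩ := hatlas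
  obtain ⟨G, e, he, ha⟩ := hf V y
  let VV : AlgSp.Space S := ⟨(AlgSp.yon S).obj V, AlgSp.IsAlgSpace.yon_obj V⟩
  let a : G ⟶ VV := ObjectProperty.homMk (AlgSt.spMapOfOver (BasedFunctor.comp e (fpFst y f)))
  have hx1 : AlgSt.RepByAlgSpWith (AlgSp.LocP @Smooth) (BasedFunctor.comp e (fpSnd y f)) :=
    repByAlgSpWith_equiv_comp _ e he _ (Groth.Agent.Lib.Helper66.AlgStBC.repByAlgSpWith_fpSnd _ f y hy1)
  have hx2 : AlgSt.RepByAlgSpWith AlgSp.IsSurjectiveMor (BasedFunctor.comp e (fpSnd y f)) :=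
    repByAlgSpWith_equiv_comp _ e he _ (Groth.Agent.Lib.Helper66.AlgStBC.repByAlgSpWith_fpSnd _ f y hy2)
  let i1 : BasedFunctor.comp (BasedFunctor.comp e (fpSnd y f)) f ≅
      BasedFunctor.comp (BasedFunctor.comp e (fpFst y f)) y :=
    bWhiskerLeftIso e (fpIso y f).symm
  let i2 : BasedFunctor.comp (BasedFunctor.comp e (fpFst y f)) y ≅
      BasedFunctor.comp (BasedFunctor.comp (AlgSt.ofSpMap a.hom) (AlgSt.toOverCat V)) y :=
    bWhiskerRightIso (isoSpMapOfOver (BasedFunctor.comp e (fpFst y f))) y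
  exact locQ_of_space_square' P hPb hpre h𝒳 h𝒴 f G VV (BasedFunctor.comp e (fpSnd y f))
    (BasedFunctor.comp (AlgSt.toOverCat V) y) a (i1 ≪≫ i2) hx1 hx2 (repByAlgSpWith_toOverCat_comp _ y hy1) ha

/-- A chart square for `p ≫ f` with `p` smooth surjective gives one for `f`. -/
theorem locQ_of_comp_smooth_surj (P : MorphismProperty (AlgSp.Sp S)) {𝒲 : AlgSt.Cat S}
    (h𝒲 : IsFibGrpd 𝒲.p) (p : 𝒲 ⥤ᵇ 𝒳) (f : 𝒳 ⥤ᵇ 𝒴)
    (hp : AlgSt.RepByAlgSpWith (AlgSp.LocP @Smooth) p) (hps : AlgSt.RepByAlgSpWith AlgSp.IsSurjectiveMor p)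
    (h : AlgSt.LocQ P (BasedFunctor.comp p f)) : AlgSt.LocQ P f := by
  obtain ⟨U, V, x, y, k, α, hx, hxs, hy, hk⟩ := h
  refine ⟨U, V, BasedFunctor.comp x p, y, k, α, ?_, ?_, hy, hk⟩
  · exact repByAlgSpWith_comp _ stableBC_locP_smooth
      (stableComp_locP _ (Or.inr (Or.inr (Or.inr (Or.inl rfl))))) isLocalOnBase_fppf_locP_smooth
      (isFibGrpd_overForget U) h𝒲 x p hx hp
  · exact repByAlgSpWith_comp _ stableBC_isSurjectiveMor stableComp_isSurjectiveMor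
      isLocalOnBase_fppf_isSurjectiveMor (isFibGrpd_overForget U) h𝒲 x p hxs hps

/-- S13002: if `f ≫ g` is locally of finite type then so is `f`. -/
theorem locQ_lft_of_comp
    (h𝒳 : AlgSt.IsAlgStack Scheme.fppfPrecoverage 𝒳) (h𝒴 : AlgSt.IsAlgStack Scheme.fppfPrecoverage 𝒴)
    (h𝒵 : AlgSt.IsAlgStack Scheme.fppfPrecoverage 𝒵) (f : 𝒳 ⥤ᵇ 𝒴) (g : 𝒴 ⥤ᵇ 𝒵)
    (h : AlgSt.LocQ (AlgSp.LocP @LocallyOfFiniteType) (BasedFunctor.comp f g)) :
    AlgSt.LocQ (AlgSp.LocP @LocallyOfFiniteType) f := by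
  have hL : AlgStPFacts.Listed (@LocallyOfFiniteType : MorphismProperty Scheme.{u}) := Or.inl rfl
  obtain ⟨𝒲, hW, p, hp, hps, hw₁, -⟩ :=
    Groth.Agent.Lib.Helper66.AlgStLocQCover2.exists_smooth_cover_of_locQ @LocallyOfFiniteType
      @LocallyOfFiniteType hL hL Groth.Agent.Lib.Helper66.AlgStDiagLft.smooth_le_lft
      Groth.Agent.Lib.Helper66.AlgStDiagLft.smooth_le_lft isLocalOnBase_fppf_locP_lft
      isLocalOnBase_fppf_locP_lft h𝒳 (BasedFunctor.comp f g) h h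
  have hΔ : AlgSt.RepByAlgSpWith (AlgSp.LocP @LocallyOfFiniteType) (FibCat.diag g) :=
    Groth.Agent.Lib.Helper66.AlgStDiagLft2.repByAlgSpWith_lft_diag h𝒴.isStack.1 h𝒵.isStack.1 h𝒴.diag h𝒵.diag
      h𝒴.atlas g
  have h1 : AlgSt.RepByAlgSpWith (AlgSp.LocP @LocallyOfFiniteType) (BasedFunctor.comp p f) :=
    Groth.Agent.Lib.Helper66.AlgStCancel.repByAlgSpWith_of_comp_of_diag _ (AlgStPFacts.stableBC_locP _ hL)
      (AlgStPFacts.stableComp_locP _ hL) isLocalOnBase_fppf_locP_lft hW.isStack.1 h𝒴.isStack.1 h𝒵.isStack.1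
      (BasedFunctor.comp p f) g hw₁ hΔ
  have h2 : AlgSt.LocQ (AlgSp.LocP @LocallyOfFiniteType) (BasedFunctor.comp p f) :=
    locQ_of_repByAlgSpWith' _ (AlgStPFacts.stableBC_locP _ hL)
      (fun X Y Z a b ha hb => Groth.Agent.Lib.Helper54.locP_precomp_isEtaleMor ha hb)
      hW.isStack.1 h𝒴.isStack.1 h𝒴.atlas _ h1
  exact locQ_of_comp_smooth_surj _ hW.isStack.1 p f hp hps h2

end Groth.Agent.Lib.Helper66.AlgStLocQSq
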