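import Groth.Agent.Lib.Helper66.AlgStSmoothLocus
import Groth.Agent.Lib.Helper66.AlgStLocQCover2
import Groth.Agent.Lib.Helper66.AlgStLocQLft

/-!
# Restriction of morphisms of algebraic stacks to open substacks; the smooth locus and smooth
precomposition
-/

set_option autoImplicit false
set_option backward.isDefEq.respectTransparency false
set_option backward.isDefEq.respectTransparency.types false
universe u

open CategoryTheory CategoryTheory.Limits AlgebraicGeometry Opposite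

namespace Groth.Agent.Lib.Helper66.AlgStSmoothLocus

open FibCat Groth.Agent.Lib.Helper31 Groth.Agent.Lib.Helper65 Groth.Agent.Lib.Helper66
  Groth.Agent.Lib.Helper66.AlgStLocQSq Groth.Agent.Lib.Helper65.LocQFlat
  Groth.Agent.Lib.Helper66.AlgSpSmLocalLft Groth.Agent.Lib.Helper66.AlgStRestrChart

variable {S : Scheme.{u}} {𝒳' 𝒳 𝒴 𝒲 : AlgSt.Cat S}

/-- The preimage of the substack of a set of points is the substack of the preimage. -/
theorem ptsProp_comp_obj (h𝒳' : IsFibGrpd 𝒳'.p) (h𝒳 : IsFibGrpd 𝒳.p) (g : 𝒳' ⥤ᵇ 𝒳)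
    (T : Set (AlgSt.Points 𝒳)) (a : 𝒳'.obj) :
    ptsProp T (g.obj a) ↔ ptsProp (AlgSt.Points.map g ⁻¹' T) a := by
  obtain ⟨Y, ⟨e⟩⟩ := exists_functor_of_obj h𝒳' a
  have h1 : ptsProp (AlgSt.Points.map g ⁻¹' T) a ↔
      ptsProp (AlgSt.Points.map g ⁻¹' T) (Y.obj (Over.mk (𝟙 (𝒳'.p.obj a)))) :=
    ⟨ptsProp_of_hom _ e.hom, ptsProp_of_hom _ e.inv⟩
  have h2 : ptsProp T (g.obj a) ↔
      ptsProp T ((BasedFunctor.comp Y g).obj (Over.mk (𝟙 (𝒳'.p.obj a)))) :=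
    ⟨ptsProp_of_hom _ (g.map e.hom), ptsProp_of_hom _ (g.map e.inv)⟩
  rw [h1, h2, ptsProp_obj_iff _ h𝒳', ptsProp_obj_iff _ h𝒳]
  constructor
  · intro h t
    have := h t
    rwa [ofChart_comp] at this
  · intro h t
    rw [ofChart_comp]
    exact h t

/-- An isomorphism of functors into a full subcategory can be checked after the inclusion. -/
noncomputable def isoOfCompSubIncl {Q : 𝒳.obj → Prop} (a b : 𝒲 ⥤ᵇ AlgSt.fullSub 𝒳 Q)
    (e : BasedFunctor.comp a (AlgSt.subIncl 𝒳 Q) ≅ BasedFunctor.comp b (AlgSt.subIncl 𝒳 Q)) : a ≅ b :=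
  BasedNatIso.mkNatIso
    (Functor.fullyFaithfulCancelRight (ObjectProperty.ι Q) (basedIsoToNatIso e))
    (fun w => by
      rw [fullSub_isHomLift_iff]
      have h1 : 𝒳.p.IsHomLift (𝟙 (𝒲.p.obj w)) (e.hom.toNatTrans.app w) := e.hom.isHomLift' w
      have h2 : ((Functor.fullyFaithfulCancelRight (ObjectProperty.ι Q)
          (basedIsoToNatIso e)).hom.app w).hom = e.hom.toNatTrans.app w := by
        rw [Functor.fullyFaithfulCancelRight_hom_app]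
        exact (ObjectProperty.ι Q).map_preimage _
      rw [h2]
      exact h1)

/-- Cancelling the inclusion of an open substack: if `h ≫ ι` is smooth then so is `h`. -/
theorem locQ_smooth_of_comp_subIncl (h𝒳 : AlgSt.IsAlgStack Scheme.fppfPrecoverage 𝒳)
    (T : TopologicalSpace.Opens (AlgSt.Points 𝒳))
    (h : 𝒲 ⥤ᵇ AlgSt.fullSub 𝒳 (ptsProp (T : Set (AlgSt.Points 𝒳))))
    (H : AlgSt.LocQ (AlgSp.LocP @Smooth) (BasedFunctor.comp h (AlgSt.subIncl 𝒳 _))) :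
    AlgSt.LocQ (AlgSp.LocP @Smooth) h := by
  obtain ⟨U, V, x, y, k, α, hx, hxs, hy, hk⟩ := H
  let ι := AlgSt.subIncl 𝒳 (ptsProp (T : Set (AlgSt.Points 𝒳)))
  let O := chartOpen h𝒳 y T
  have hrange : Set.range k.left ⊆ Set.range O.ι := by
    rintro _ ⟨u, rfl⟩
    rw [Scheme.Opens.range_ι]
    change AlgSt.Points.ofChart y (k.left u) ∈ (T : Set (AlgSt.Points 𝒳))
    rw [← ofChart_overMap_comp k y u, ofChart_eq, ← points_map_congr α, points_map_comp,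
      points_map_comp]
    have : AlgSt.Points.map ι (AlgSt.Points.map h (AlgSt.Points.map x (chartPt U u))) ∈
        Set.range (AlgSt.Points.map ι) := ⟨_, rfl⟩
    rwa [range_subIncl_ptsProp] at this
  have hfac : IsOpenImmersion.lift O.ι k.left hrange ≫ O.ι = k.left :=
    IsOpenImmersion.lift_fac _ _ _
  let kT : U ⟶ openOver O := Over.homMk (IsOpenImmersion.lift O.ι k.left hrange) (by
    change IsOpenImmersion.lift O.ι k.left hrange ≫ O.ι ≫ V.hom = U.hom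
    rw [← Category.assoc, hfac]
    exact Over.w k)
  have hkT : kT ≫ openIncl O = k := Over.OverMorphism.ext hfac
  have hsm : Smooth k.left := AlgSp.locP_yon_map hk
  have hsmT : Smooth kT.left := by
    have h1 : Smooth (kT.left ≫ O.ι) := by
      change Smooth (IsOpenImmersion.lift O.ι k.left hrange ≫ O.ι)
      rw [hfac]; exact hsm
    exact MorphismProperty.of_postcomp (W := @Smooth) (W' := @IsOpenImmersion) kT.left O.ι
      inferInstance h1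
  let yT := restrChart h𝒳 y T
  have e1 : BasedFunctor.comp (BasedFunctor.comp (AlgSt.overMap kT) yT) ι ≅
      BasedFunctor.comp (AlgSt.overMap (kT ≫ openIncl O)) y :=
    bWhiskerRightIso (overMapComp kT (openIncl O)) y
  have e2 : BasedFunctor.comp (AlgSt.overMap (kT ≫ openIncl O)) y =
      BasedFunctor.comp (AlgSt.overMap k) y := by rw [hkT]
  let αT : BasedFunctor.comp x h ≅ BasedFunctor.comp (AlgSt.overMap kT) yT :=
    isoOfCompSubIncl _ _ (α ≪≫ eqToIso e2.symm ≪≫ e1.symm)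
  exact ⟨U, openOver O, x, yT, kT, αT, hx, hxs, restrChart_smooth h𝒳 y T hy,
    locP_smooth_yon_map kT hsmT⟩

/-- The inclusion of an open substack is smooth. -/
theorem subIncl_smooth (Q : 𝒳.obj → Prop)
    (hQ : AlgSt.IsOpenSubstack 𝒳 Q Scheme.fppfPrecoverage) :
    AlgSt.RepByAlgSpWith (AlgSp.LocP @Smooth) (AlgSt.subIncl 𝒳 Q) :=
  repByAlgSpWith_mono (fun _ _ _ hj => Groth.Agent.Lib.Helper54.covClass_smooth.of_oi _ hj) _ hQ.2.2

/-- The restriction of a smooth morphism to open substacks is smooth. -/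
theorem locQ_smooth_restr (h𝒳' : AlgSt.IsAlgStack Scheme.fppfPrecoverage 𝒳')
    (h𝒳 : AlgSt.IsAlgStack Scheme.fppfPrecoverage 𝒳) (g : 𝒳' ⥤ᵇ 𝒳)
    (hg : AlgSt.LocQ (AlgSp.LocP @Smooth) g) (Q' : 𝒳'.obj → Prop)
    (hQ' : AlgSt.IsOpenSubstack 𝒳' Q' Scheme.fppfPrecoverage)
    (T : TopologicalSpace.Opens (AlgSt.Points 𝒳))
    (hle : ∀ w : (AlgSt.fullSub 𝒳' Q').obj,
      ptsProp (T : Set (AlgSt.Points 𝒳)) ((BasedFunctor.comp (AlgSt.subIncl 𝒳' Q') g).obj w)) :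
    AlgSt.LocQ (AlgSp.LocP @Smooth)
      (liftFullSub (ptsProp (T : Set (AlgSt.Points 𝒳))) (BasedFunctor.comp (AlgSt.subIncl 𝒳' Q') g) hle) := by
  apply locQ_smooth_of_comp_subIncl h𝒳 T
  exact locQ_precomp_smooth _ isSmoothLocalST_locP_smooth hQ'.2.1.isStack.1 h𝒳'.isStack.1 h𝒳.isStack.1
    (AlgSt.subIncl 𝒳' Q') g (subIncl_smooth Q' hQ') hg

/-- Descent of a property read on a chart square along a smooth surjective morphism on the source. -/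
theorem locQ_of_comp_locQ_smooth_surj (P : MorphismProperty (AlgSp.Sp S))
    (hP : AlgSp.IsSmoothLocalST P)
    (h𝒲 : AlgSt.IsAlgStack Scheme.fppfPrecoverage 𝒲) (h𝒳 : AlgSt.IsAlgStack Scheme.fppfPrecoverage 𝒳)
    (h𝒴 : AlgSt.IsAlgStack Scheme.fppfPrecoverage 𝒴)
    (p : 𝒲 ⥤ᵇ 𝒳) (f : 𝒳 ⥤ᵇ 𝒴) (hp : AlgSt.LocQ (AlgSp.LocP @Smooth) p)
    (hps : AlgSt.IsSurjective p) (H : AlgSt.LocQ P (BasedFunctor.comp p f)) : AlgSt.LocQ P f := by
  have hL : AlgStPFacts.Listed (@Smooth : MorphismProperty Scheme.{u}) :=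
    Or.inr (Or.inr (Or.inr (Or.inl rfl)))
  obtain ⟨𝒲', hW', c, hc, hcs, hw₁, -⟩ :=
    Groth.Agent.Lib.Helper66.AlgStLocQCover2.exists_smooth_cover_of_locQ @Smooth @Smooth hL hL
      le_rfl le_rfl isLocalOnBase_fppf_locP_smooth isLocalOnBase_fppf_locP_smooth h𝒲 p hp hp
  have hsurj : AlgSt.IsSurjective (BasedFunctor.comp c p) :=
    isSurjective_comp _ _ (isSurjective_of_repByAlgSpWith hW'.isStack.1 h𝒲.isStack.1 c hcs) hps
  have hw₂ : AlgSt.RepByAlgSpWith AlgSp.IsSurjectiveMor (BasedFunctor.comp c p) :=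
    repByAlgSpWith_isSurjectiveMor_of_isSurjective hW'.isStack.1 h𝒳.isStack.1 _
      (repByAlgSp1_of_repByAlgSpWith hw₁) hsurj
  have h1 : AlgSt.LocQ P (BasedFunctor.comp c (BasedFunctor.comp p f)) :=
    locQ_precomp_smooth P hP hW'.isStack.1 h𝒲.isStack.1 h𝒴.isStack.1 c _ hc H
  exact locQ_of_comp_smooth_surj P hW'.isStack.1 (BasedFunctor.comp c p) f hw₁ hw₂ h1

theorem locQ_mono {P P' : MorphismProperty (AlgSp.Sp S)} (hPP' : P ≤ P') (f : 𝒳 ⥤ᵇ 𝒴)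
    (h : AlgSt.LocQ P f) : AlgSt.LocQ P' f := by
  obtain ⟨U, V, x, y, k, α, hx, hxs, hy, hk⟩ := h
  exact ⟨U, V, x, y, k, α, hx, hxs, hy, hPP' _ hk⟩

theorem exists_opens_eq_ptsProp (h𝒳 : AlgSt.IsAlgStack Scheme.fppfPrecoverage 𝒳) (Q : 𝒳.obj → Prop)
    (hQ : AlgSt.IsOpenSubstack 𝒳 Q Scheme.fppfPrecoverage) :
    ∃ T : TopologicalSpace.Opens (AlgSt.Points 𝒳), Q = ptsProp (T : Set (AlgSt.Points 𝒳)) :=
  ⟨⟨Set.range (AlgSt.Points.map (AlgSt.subIncl 𝒳 Q)), isOpen_range_subIncl h𝒳 Q hQ⟩,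
    funext fun b => propext (prop_iff_ptsProp_range Q h𝒳 hQ b)⟩

/-- S19902 for substacks given by open sets of points. -/
theorem largest_comp_smooth_aux (h𝒳' : AlgSt.IsAlgStack Scheme.fppfPrecoverage 𝒳')
    (h𝒳 : AlgSt.IsAlgStack Scheme.fppfPrecoverage 𝒳) (h𝒴 : AlgSt.IsAlgStack Scheme.fppfPrecoverage 𝒴)
    (g : 𝒳' ⥤ᵇ 𝒳) (hg : AlgSt.LocQ (AlgSp.LocP @Smooth) g) (f : 𝒳 ⥤ᵇ 𝒴)
    (T : TopologicalSpace.Opens (AlgSt.Points 𝒳))
    (hQ₂ : AlgSt.LocQ (AlgSp.LocP @Smooth)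
      (BasedFunctor.comp (AlgSt.subIncl 𝒳 (ptsProp (T : Set (AlgSt.Points 𝒳)))) f))
    (hQ₃ : ∀ Q' : 𝒳.obj → Prop, AlgSt.IsOpenSubstack 𝒳 Q' Scheme.fppfPrecoverage →
      AlgSt.LocQ (AlgSp.LocP @Smooth) (BasedFunctor.comp (AlgSt.subIncl 𝒳 Q') f) →
        ∀ a, Q' a → ptsProp (T : Set (AlgSt.Points 𝒳)) a)
    (Q₀ : 𝒳'.obj → Prop)
    (hQ₀ : Q₀ = ptsProp (AlgSt.Points.map g ⁻¹' (T : Set (AlgSt.Points 𝒳)))) :
    AlgSt.IsOpenSubstack 𝒳' Q₀ Scheme.fppfPrecoverage ∧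
      AlgSt.LocQ (AlgSp.LocP @Smooth)
        (BasedFunctor.comp (AlgSt.subIncl 𝒳' Q₀) (BasedFunctor.comp g f)) ∧
      ∀ Q'' : 𝒳'.obj → Prop, AlgSt.IsOpenSubstack 𝒳' Q'' Scheme.fppfPrecoverage →
        AlgSt.LocQ (AlgSp.LocP @Smooth)
          (BasedFunctor.comp (AlgSt.subIncl 𝒳' Q'') (BasedFunctor.comp g f)) →
        ∀ a, Q'' a → ptsProp (T : Set (AlgSt.Points 𝒳)) (g.obj a) := by
  have hP : AlgSp.IsSmoothLocalST (AlgSp.LocP (S := S) @Smooth) := isSmoothLocalST_locP_smooth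
  have hcont : Continuous (AlgSt.Points.map g) :=
    continuous_points_map h𝒳.isStack.1 h𝒳.atlas g
  let T' : TopologicalSpace.Opens (AlgSt.Points 𝒳') :=
    ⟨AlgSt.Points.map g ⁻¹' (T : Set (AlgSt.Points 𝒳)), hcont.isOpen_preimage _ T.2⟩
  subst hQ₀
  have h𝒳T := isAlgStack_fullSub_ptsProp h𝒳 T
  refine ⟨isOpenSubstack_ptsProp _ h𝒳' T'.2, ?_, ?_⟩
  · -- smoothness on the preimage
    have h𝒳'T := isAlgStack_fullSub_ptsProp h𝒳' T'
    have hle : ∀ w : (AlgSt.fullSub 𝒳' (ptsProp (T' : Set (AlgSt.Points 𝒳')))).obj,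
        ptsProp (T : Set (AlgSt.Points 𝒳))
          ((BasedFunctor.comp (AlgSt.subIncl 𝒳' (ptsProp (T' : Set (AlgSt.Points 𝒳')))) g).obj w) :=
      fun w => (ptsProp_comp_obj h𝒳'.isStack.1 h𝒳.isStack.1 g _ w.obj).2 w.property
    have hgR := locQ_smooth_restr h𝒳' h𝒳 g hg _ (isOpenSubstack_ptsProp _ h𝒳' T'.2) T hle
    exact locQ_comp _ hP (fun X₁ Y₁ Z₁ hX hY hZ a b ha hb =>
        stableComp_locP_smooth hX hY hZ a b ha hb) h𝒳'T h𝒳T h𝒴 _ _ hgR hQ₂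
  · -- maximality
    intro Q'' hQ'' hF a ha
    obtain ⟨T'', rfl⟩ := exists_opens_eq_ptsProp h𝒳' Q'' hQ''
    have h𝒳'T'' := isAlgStack_fullSub_ptsProp h𝒳' T''
    have hopen : AlgSt.IsOpenMor g :=
      Groth.Agent.Lib.Helper66.AlgStLocQCover2.isOpenMor_of_locQ_flat_lfp h𝒳' h𝒳 g
        (locQ_mono (locP_mono smooth_le_flat) g hg) (locQ_mono (locP_mono smooth_le_lfp) g hg)
    let T₁ : TopologicalSpace.Opens (AlgSt.Points 𝒳) :=
      ⟨AlgSt.Points.map g '' (T'' : Set (AlgSt.Points 𝒳')), hopen _ T''.2⟩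
    have h𝒳T₁ := isAlgStack_fullSub_ptsProp h𝒳 T₁
    have hle₀ : ∀ b : 𝒳'.obj, ptsProp (T'' : Set (AlgSt.Points 𝒳')) b →
        ptsProp (T₁ : Set (AlgSt.Points 𝒳)) (g.obj b) := fun b hb =>
      (ptsProp_comp_obj h𝒳'.isStack.1 h𝒳.isStack.1 g _ b).2
        (ptsProp_mono (Set.subset_preimage_image _ _) hb)
    have hle₁ : ∀ w : (AlgSt.fullSub 𝒳' (ptsProp (T'' : Set (AlgSt.Points 𝒳')))).obj,
        ptsProp (T₁ : Set (AlgSt.Points 𝒳))
          ((BasedFunctor.comp (AlgSt.subIncl 𝒳' (ptsProp (T'' : Set (AlgSt.Points 𝒳')))) g).obj w) :=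
      fun w => hle₀ w.obj w.property
    let g₁ := liftFullSub (ptsProp (T₁ : Set (AlgSt.Points 𝒳)))
      (BasedFunctor.comp (AlgSt.subIncl 𝒳' (ptsProp (T'' : Set (AlgSt.Points 𝒳')))) g) hle₁
    have hg₁ : AlgSt.LocQ (AlgSp.LocP @Smooth) g₁ :=
      locQ_smooth_restr h𝒳' h𝒳 g hg _ hQ'' T₁ hle₁
    have hg₁s : AlgSt.IsSurjective g₁ := by
      intro ξ
      have h1 : AlgSt.Points.map (AlgSt.subIncl 𝒳 (ptsProp (T₁ : Set (AlgSt.Points 𝒳)))) ξ ∈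
          (T₁ : Set (AlgSt.Points 𝒳)) := by
        have : AlgSt.Points.map (AlgSt.subIncl 𝒳 (ptsProp (T₁ : Set (AlgSt.Points 𝒳)))) ξ ∈
            Set.range (AlgSt.Points.map (AlgSt.subIncl 𝒳 (ptsProp (T₁ : Set (AlgSt.Points 𝒳))))) :=
          ⟨ξ, rfl⟩
        rwa [range_subIncl_ptsProp] at this
      obtain ⟨η, hη, hηξ⟩ := h1
      have h2 : η ∈ Set.range
          (AlgSt.Points.map (AlgSt.subIncl 𝒳' (ptsProp (T'' : Set (AlgSt.Points 𝒳'))))) := by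
        rw [range_subIncl_ptsProp]; exact hη
      obtain ⟨ζ, rfl⟩ := h2
      refine ⟨ζ, ?_⟩
      apply points_map_injective_of_full h𝒳T₁.isStack.1 h𝒳.isStack.1
        (AlgSt.subIncl 𝒳 (ptsProp (T₁ : Set (AlgSt.Points 𝒳)))) inferInstance
      rw [← points_map_comp, ← hηξ, ← points_map_comp]
      rfl
    have hf₁ : AlgSt.LocQ (AlgSp.LocP @Smooth)
        (BasedFunctor.comp (AlgSt.subIncl 𝒳 (ptsProp (T₁ : Set (AlgSt.Points 𝒳)))) f) :=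
      locQ_of_comp_locQ_smooth_surj _ hP h𝒳'T'' h𝒳T₁ h𝒴 g₁ _ hg₁ hg₁s hF
    exact hQ₃ _ (isOpenSubstack_ptsProp _ h𝒳 T₁.2) hf₁ _ (hle₀ a ha)

/-- S19902: formation of the largest open substack on which `f` is smooth commutes with smooth
precomposition. -/
theorem largest_comp_smooth (h𝒳' : AlgSt.IsAlgStack Scheme.fppfPrecoverage 𝒳')
    (h𝒳 : AlgSt.IsAlgStack Scheme.fppfPrecoverage 𝒳) (h𝒴 : AlgSt.IsAlgStack Scheme.fppfPrecoverage 𝒴)
    (g : 𝒳' ⥤ᵇ 𝒳) (hg : AlgSt.LocQ (AlgSp.LocP @Smooth) g) (f : 𝒳 ⥤ᵇ 𝒴)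
    (Q : 𝒳.obj → Prop) (hQ₁ : AlgSt.IsOpenSubstack 𝒳 Q Scheme.fppfPrecoverage)
    (hQ₂ : AlgSt.LocQ (AlgSp.LocP @Smooth) (BasedFunctor.comp (AlgSt.subIncl 𝒳 Q) f))
    (hQ₃ : ∀ Q' : 𝒳.obj → Prop, AlgSt.IsOpenSubstack 𝒳 Q' Scheme.fppfPrecoverage →
      AlgSt.LocQ (AlgSp.LocP @Smooth) (BasedFunctor.comp (AlgSt.subIncl 𝒳 Q') f) → ∀ a, Q' a → Q a) :
    AlgSt.IsOpenSubstack 𝒳' (fun a ↦ Q (g.obj a)) Scheme.fppfPrecoverage ∧
      AlgSt.LocQ (AlgSp.LocP @Smooth)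
        (BasedFunctor.comp (AlgSt.subIncl 𝒳' (fun a ↦ Q (g.obj a))) (BasedFunctor.comp g f)) ∧
      ∀ Q' : 𝒳'.obj → Prop, AlgSt.IsOpenSubstack 𝒳' Q' Scheme.fppfPrecoverage →
        AlgSt.LocQ (AlgSp.LocP @Smooth)
          (BasedFunctor.comp (AlgSt.subIncl 𝒳' Q') (BasedFunctor.comp g f)) →
        ∀ a, Q' a → Q (g.obj a) := by
  obtain ⟨T, rfl⟩ := exists_opens_eq_ptsProp h𝒳 Q hQ₁
  exact largest_comp_smooth_aux h𝒳' h𝒳 h𝒴 g hg f T hQ₂ hQ₃ _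
    (funext fun a => propext (ptsProp_comp_obj h𝒳'.isStack.1 h𝒳.isStack.1 g _ a))

end Groth.Agent.Lib.Helper66.AlgStSmoothLocus
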