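import Groth.Agent.Lib.Helper66.FppfBoot2
import Groth.Agent.H52.LocPCalc4
import Groth.Agent.H52.QC5
import Groth.Prelude.Def_AlgSpCov

/-!
# Helper66, fppf bootstrap 3: being an algebraic space is fppf local

Assuming `H103 S` (the statement of S10103):

* `isAlgSpace_of_fppf_cover_pullbacks`: a sheaf over an algebraic space `X` whose base changes to the members of an
  fppf covering of `X` by algebraic spaces are algebraic spaces, is an algebraic space (S10138);
* `isAlgSpace_of_fppf_locally`: a sheaf `F` over `S` such that `h_{S_i} × F` is an algebraic space for an fppf covering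
  `{S_i ⟶ S}`, is an algebraic space (S10105).
-/

set_option autoImplicit false

universe u

open CategoryTheory CategoryTheory.Limits AlgebraicGeometry

namespace Groth.Agent.Lib.Helper66.FppfBoot

open AlgSp Groth.Agent.Lib.Helper51 Groth.Agent.H52

variable {S : Scheme.{u}} {ι : Type u}

/-- **Effectivity of fppf descent for algebraic spaces, in sheaf form** (given S10103): S10138. -/
theorem isAlgSpace_of_fppf_cover_pullbacks (h103 : H103 S) {X : Sp S} (hX : IsAlgSpace X) (Xi : ι → Sp S)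
    (hXi : ∀ i, IsAlgSpace (Xi i)) (g : ∀ i, Xi i ⟶ X) (hcov : IsFppfCover Xi g) (F : Sp S) (p : F ⟶ X)
    (h : ∀ (i : ι) (P : Sp S) (fst : P ⟶ F) (snd : P ⟶ Xi i), IsPullback fst snd p (g i) → IsAlgSpace P) :
    IsAlgSpace F := by
  refine isAlgSpace_of_family_cover (fun i => pullback p (g i)) (fun i => pullback.fst p (g i)) h103
    (fun i => h i _ _ _ (IsPullback.of_hasPullback p (g i))) ?_
  intro T ξ
  have sq : ∀ i, IsPullback (pullback.fst (pullback.fst p (g i)) ξ ≫ pullback.snd p (g i))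
      (pullback.snd (pullback.fst p (g i)) ξ) (g i) (ξ ≫ p) := fun i =>
    (IsPullback.of_hasPullback (pullback.fst p (g i)) ξ).paste_horiz (IsPullback.of_hasPullback p (g i)).flip
  refine ⟨fun i => ⟨isAlgSpace_of_isPullback (sq i) (hXi i) hX (IsAlgSpace.yon_obj T),
    isEtLocal_flat.locP_of_isPullback (hXi i) hX (IsAlgSpace.yon_obj T) (sq i) (hcov.1 i).1,
    isEtLocal_lfp.locP_of_isPullback (hXi i) hX (IsAlgSpace.yon_obj T) (sq i) (hcov.1 i).2⟩, ?_⟩
  intro t
  obtain ⟨i, y, hy⟩ := hcov.2 (Points.map (ξ ≫ p) t)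
  obtain ⟨e, -, he⟩ := exists_point_of_isPullback (sq i) y t hy
  exact ⟨i, e, he⟩

/-- **Being an algebraic space is fppf local on the base** (given S10103): S10105. -/
theorem isAlgSpace_of_fppf_locally (h103 : H103 S) (F : Sp S) (Si : ι → Over S)
    (hfl : ∀ i, Flat (Si i).hom) (hfp : ∀ i, LocallyOfFinitePresentation (Si i).hom)
    (hsurj : ∀ x : ↥S, ∃ (i : ι) (y : ↥(Si i).left), (Si i).hom.base y = x)
    (halg : ∀ i, IsAlgSpace ((yon S).obj (Si i) ⨯ F)) : IsAlgSpace F := by
  have tB := yonBaseIsTerminal S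
  refine isAlgSpace_of_family_cover (fun i => (yon S).obj (Si i) ⨯ F) (fun i => prod.snd) h103 halg ?_
  intro T ξ
  -- the structure maps to the terminal sheaf
  let σ : ∀ i, Si i ⟶ Over.mk (𝟙 S) := fun i => Over.homMk (Si i).hom (by simp)
  have hσ : ∀ i, tB.from ((yon S).obj (Si i)) = (yon S).map (σ i) := fun i => tB.hom_ext _ _
  let τ : T ⟶ Over.mk (𝟙 S) := Over.homMk T.hom (by simp)
  have hτ : ξ ≫ tB.from F = (yon S).map τ := tB.hom_ext _ _
  have sq : ∀ i, IsPullback
      (pullback.fst (prod.snd : (yon S).obj (Si i) ⨯ F ⟶ F) ξ ≫ prod.fst)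
      (pullback.snd (prod.snd : (yon S).obj (Si i) ⨯ F ⟶ F) ξ)
      (tB.from ((yon S).obj (Si i))) (ξ ≫ tB.from F) := fun i =>
    ((IsPullback.of_hasPullback (prod.snd : (yon S).obj (Si i) ⨯ F ⟶ F) ξ).flip.paste_vert
      (IsPullback.of_is_product (limit.isLimit (pair ((yon S).obj (Si i)) F)) tB).flip).flip
  have hflat : ∀ i, LocP @Flat (tB.from ((yon S).obj (Si i))) := fun i => by
    rw [hσ i]
    exact isEtLocal_flat.locP_of_repWith' _ ((repWith_yon_map_iff @Flat (σ i)).2 (hfl i))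
  have hlfp : ∀ i, LocP @LocallyOfFinitePresentation (tB.from ((yon S).obj (Si i))) := fun i => by
    rw [hσ i]
    exact isEtLocal_lfp.locP_of_repWith' _
      ((repWith_yon_map_iff @LocallyOfFinitePresentation (σ i)).2 (hfp i))
  refine ⟨fun i => ⟨isAlgSpace_of_isPullback (sq i) (IsAlgSpace.yon_obj _) (IsAlgSpace.yon_obj _)
      (IsAlgSpace.yon_obj T),
    isEtLocal_flat.locP_of_isPullback (IsAlgSpace.yon_obj _) (IsAlgSpace.yon_obj _) (IsAlgSpace.yon_obj T)
      (sq i) (hflat i),
    isEtLocal_lfp.locP_of_isPullback (IsAlgSpace.yon_obj _) (IsAlgSpace.yon_obj _) (IsAlgSpace.yon_obj T)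
      (sq i) (hlfp i)⟩, ?_⟩
  intro t
  obtain ⟨t₀, rfl⟩ := (Points.schemeEquiv T).surjective t
  obtain ⟨i, y, hy⟩ := hsurj (T.hom.base t₀)
  have hpt : Points.map (tB.from ((yon S).obj (Si i))) (Points.ofScheme (Si i) y) =
      Points.map (ξ ≫ tB.from F) (Points.ofScheme T t₀) := by
    rw [hσ i, hτ, points_map_ofScheme, points_map_ofScheme]
    congr 1
  obtain ⟨e, -, he⟩ := exists_point_of_isPullback (sq i) (Points.ofScheme (Si i) y) (Points.ofScheme T t₀) hpt
  exact ⟨i, e, he⟩

end Groth.Agent.Lib.Helper66.FppfBoot
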