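import Groth.Prelude.Def_AlgSt6
import Groth.Agent.S10138
import Groth.Agent.H52.FibreProd
import Groth.Agent.Lib.Helper65.RepDesc2
import Groth.Agent.Lib.Helper65.BasedEquiv

/-!
# Helper66: fppf sheaf torsors under a group algebraic space over an algebraic space are algebraic spaces
-/

set_option autoImplicit false
set_option backward.isDefEq.respectTransparency false
set_option backward.isDefEq.respectTransparency.types false
set_option linter.unusedSimpArgs false
set_option linter.unusedVariables false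

universe u

open CategoryTheory CategoryTheory.Limits MonoidalCategory CartesianMonoidalCategory MonObj GrpObj AlgebraicGeometry

namespace Groth.Agent.Lib.Helper66.SpTorsor

open AlgSt FibCat Groth.Agent.Lib.Helper31 Groth.Agent.Lib.Helper65

variable {S : Scheme.{u}} {B : AlgSp.Sp S} {G : Over B} [GrpObj G] {X : Over B} {aX : AlgSp.GAction G X}

/-- The sieve of maps to the base of `A` over which its torsor has a section. -/
def liftSieve {K : Precoverage Scheme.{u}} (A : SpQuotObj K G aX) : Sieve A.base where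
  arrows Y k := ∃ s : (AlgSp.yon S).obj Y ⟶ A.P.left, s ≫ A.π.left = (AlgSp.yon S).map k
  downward_closed := by
    rintro Y Z k ⟨s, hs⟩ m
    exact ⟨(AlgSp.yon S).map m ≫ s, by rw [Category.assoc, hs, Functor.map_comp]⟩

theorem liftSieve_mem (A : SpQuotObj Scheme.fppfPrecoverage G aX) : liftSieve A ∈ AlgSp.J S A.base := by
  obtain ⟨R, hR, hsec⟩ := A.loc
  rw [AlgSp.J_eq, GrothendieckTopology.mem_over_iff]
  refine Scheme.fppfTopology.superset_covering ?_ (Precoverage.generate_mem_toGrothendieck hR)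
  rintro W g ⟨Z, k, f, hf, rfl⟩
  rw [Sieve.overEquiv_iff]
  obtain ⟨s, hs⟩ := hsec f hf
  refine ⟨(AlgSp.yon S).map (Over.homMk k : Over.mk ((k ≫ f) ≫ A.base.hom) ⟶ Over.mk (f ≫ A.base.hom)) ≫ s, ?_⟩
  exact (Category.assoc _ _ _).trans ((congrArg (fun z => (AlgSp.yon S).map
    (Over.homMk k : Over.mk ((k ≫ f) ≫ A.base.hom) ⟶ Over.mk (f ≫ A.base.hom)) ≫ z) hs).trans
    ((Functor.map_comp _ _ _).symm.trans (congrArg _ (by ext; rfl))))

/-- An fppf family of local sections of a sheaf torsor. -/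
theorem exists_sections (A : SpQuotObj Scheme.fppfPrecoverage G aX) :
    ∃ (J : Type u) (V : J → Over S) (h : ∀ i, V i ⟶ A.base) (s : ∀ i, (AlgSp.yon S).obj (V i) ⟶ A.P.left),
      (∀ i, s i ≫ A.π.left = (AlgSp.yon S).map (h i)) ∧ (∀ i, Flat (h i).left) ∧
      (∀ i, LocallyOfFinitePresentation (h i).left) ∧
      ∀ x : ↥A.base.left, ∃ i, x ∈ Set.range (h i).left := by
  obtain ⟨J, V, h, h0, h1, h2, h3⟩ := exists_fppf_family_of_mem_J (liftSieve_mem A)
  choose s hs using h0
  exact ⟨J, V, h, s, hs, h1, h2, h3⟩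

/-- The trivialisation of a sheaf torsor over a scheme over which it has a section. -/
theorem isPullback_of_section {K : Precoverage Scheme.{u}} (A : SpQuotObj K G aX) {V : Over S} (h : V ⟶ A.base)
    (s : (AlgSp.yon S).obj V ⟶ A.P.left) (hs : s ≫ A.π.left = (AlgSp.yon S).map h) :
    ∃ (Q : AlgSp.Sp S) (fst : Q ⟶ A.P.left) (snd : Q ⟶ (AlgSp.yon S).obj V) (pG : Q ⟶ G.left),
      IsPullback fst snd A.π.left ((AlgSp.yon S).map h) ∧
      IsPullback pG snd G.hom ((AlgSp.yon S).map h ≫ A.b) := by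
  have hw : s ≫ A.P.hom = (AlgSp.yon S).map h ≫ A.b := by
    have h1 : A.π.left ≫ A.b = A.P.hom := Over.w A.π
    rw [← h1, ← Category.assoc, hs]
  let VB : Over B := Over.mk ((AlgSp.yon S).map h ≫ A.b)
  let sB : VB ⟶ A.P := Over.homMk s hw
  have sq : IsPullback ((G ◁ sB) ≫ A.act.act) (snd G VB) A.π (sB ≫ A.π) :=
    (isPullback_whiskerLeft' sB).paste_horiz A.cart
  have sq' := sq.map (Over.forget B)
  have sq2 := (isPullback_fst_snd' G VB).map (Over.forget B)
  refine ⟨(G ⊗ VB).left, ((G ◁ sB) ≫ A.act.act).left, (snd G VB).left, (fst G VB).left, ?_, ?_⟩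
  · have e : (sB ≫ A.π).left = (AlgSp.yon S).map h := hs
    have sq'' : IsPullback ((G ◁ sB) ≫ A.act.act).left (snd G VB).left A.π.left (sB ≫ A.π).left := sq'
    rwa [e] at sq''
  · have e1 : (toUnit G).left = G.hom := by
      have h1 := Over.w (toUnit G)
      exact (Category.comp_id _).symm.trans h1
    have e2 : (toUnit VB).left = (AlgSp.yon S).map h ≫ A.b := by
      have h1 := Over.w (toUnit VB)
      exact (Category.comp_id _).symm.trans h1
    have sq3 : IsPullback (fst G VB).left (snd G VB).left (toUnit G).left (toUnit VB).left := sq2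
    rwa [e1, e2] at sq3

/-- **Every fppf sheaf torsor under a group algebraic space over an algebraic space is an algebraic space.** -/
theorem isAlgSpace_torsor (hB : AlgSp.IsAlgSpace B) (hG : AlgSp.IsAlgSpace G.left)
    (A : SpQuotObj Scheme.fppfPrecoverage G aX) : AlgSp.IsAlgSpace A.P.left := by
  obtain ⟨J, V, h, s, hs, h1, h2, h3⟩ := exists_sections A
  have hcov := isFppfCover_yon V h h1 h2 h3
  refine Groth.Agent.S10138.result S ⟨(AlgSp.yon S).obj A.base, AlgSp.IsAlgSpace.yon_obj _⟩
    (fun i => ⟨(AlgSp.yon S).obj (V i), AlgSp.IsAlgSpace.yon_obj _⟩)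
    (fun i => (AlgSp.yon S).map (h i)) hcov A.P.left A.π.left ?_
  intro i P' fst' snd' sqP
  obtain ⟨Q, fst, snd, pG, sq1, sq2⟩ := isPullback_of_section A (h i) (s i) (hs i)
  have hQ : AlgSp.IsAlgSpace Q :=
    Groth.Agent.H52.isAlgSpace_of_isPullback sq2 hG hB (AlgSp.IsAlgSpace.yon_obj _)
  exact hQ.of_iso (sq1.isoIsPullback _ _ sqP)

end Groth.Agent.Lib.Helper66.SpTorsor
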