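import Groth.Agent.Lib.Helper66.AlgStDiagCover
import Groth.Agent.Lib.Helper65.SpaceDM
import Groth.Agent.H53.Proper
import Groth.Agent.H53.SourceLocal

/-!
# Properties of the diagonal of an algebraic stack read on an fppf cover by an algebraic space
-/

set_option autoImplicit false
set_option backward.isDefEq.respectTransparency false
set_option backward.isDefEq.respectTransparency.types false
universe u

open CategoryTheory CategoryTheory.Limits AlgebraicGeometry Opposite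

namespace Groth.Agent.Lib.Helper66.AlgStDiagCover2

open FibCat Groth.Agent.Lib.Helper31 Groth.Agent.Lib.Helper65
open Groth.Agent.Lib.Helper66.AlgStDiagCover

variable {S : Scheme.{u}} {𝒳 : AlgSt.Cat S}

/-- Composing `w : W ⟶ 𝒳` with an etale chart `p : h_U ⟶ W` of the algebraic space `W` keeps a listed property. -/
theorem repByAlgSpWith_chart_comp (R : MorphismProperty Scheme.{u}) (hR : AlgStPFacts.Listed R)
    (hER : ∀ ⦃A B : Scheme.{u}⦄ (φ : A ⟶ B), Etale φ → R φ)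
    (hRl : AlgSp.IsLocalOnBase AlgSp.IsFppfCover (AlgSp.LocP (S := S) R))
    (h𝒳 : IsFibGrpd 𝒳.p) (W : AlgSp.Space S) (w : AlgSt.ofSp W.obj ⥤ᵇ 𝒳)
    (hw : AlgSt.RepByAlgSpWith (AlgSp.LocP R) w) (U : Over S) (p : (AlgSp.yon S).obj U ⟶ W.obj)
    (hp : AlgSp.RepWith @Etale p) :
    AlgSt.RepByAlgSpWith (AlgSp.LocP R)
      (BasedFunctor.comp (BasedFunctor.comp (AlgSt.ofOverCat U) (AlgSt.ofSpMap p)) w) := by
  have hpR : AlgSp.LocP R p :=
    (Groth.Agent.H52.isEtLocal_of_list R hR).locP_of_repWith' p (Groth.Agent.H53.repWith_of_le hER hp)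
  exact repByAlgSpWith_comp _ (AlgStPFacts.stableBC_locP _ hR) (AlgStPFacts.stableComp_locP _ hR) hRl
    (isFibGrpd_overForget U) (Stk.isFibGrpd_ofPsh _) _ w
    (repByAlgSpWith_of_prop _ (AlgStPFacts.stableBC_locP _ hR) W U p hpR) hw

/-- **A listed property of the diagonal of `𝒳` over `S` read on an fppf cover `w : W ⟶ 𝒳` by an algebraic
space, `w` having the property.** -/
theorem repByAlgSpWith_diag_toSelf_of_space (Q : MorphismProperty Scheme.{u}) (hQ : AlgStPFacts.Listed Q)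
    (hEQ : ∀ ⦃A B : Scheme.{u}⦄ (φ : A ⟶ B), Etale φ → Q φ)
    (hQl : AlgSp.IsLocalOnBase AlgSp.IsFppfCover (AlgSp.LocP (S := S) Q))
    (hQΔ : ∀ (V : AlgSp.Space S) (T : Over S) (a : V.obj ⟶ (AlgSp.yon S).obj T),
      AlgSp.LocP Q (pullback.diagonal a))
    (h𝒳 : IsFibGrpd 𝒳.p)
    (hΔ : AlgSt.RepByAlgSp1 (FibCat.diag (FibCat.toSelf 𝒳)))
    (W : AlgSp.Space S) (w : AlgSt.ofSp W.obj ⥤ᵇ 𝒳)
    (hw₁ : AlgSt.RepByAlgSpWith (AlgSp.LocP @Flat) w)
    (hw₂ : AlgSt.RepByAlgSpWith (AlgSp.LocP @LocallyOfFinitePresentation) w)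
    (hw₃ : AlgSt.RepByAlgSpWith AlgSp.IsSurjectiveMor w)
    (hw₄ : AlgSt.RepByAlgSpWith (AlgSp.LocP Q) w) :
    AlgSt.RepByAlgSpWith (AlgSp.LocP Q) (FibCat.diag (FibCat.toSelf 𝒳)) := by
  obtain ⟨U, p, hpe, hps⟩ := W.property.atlas
  have hsurj : AlgSp.IsSurjectiveMor p := Groth.Agent.H52.surjective_points_of_repWith_surjective p hps
  let u : FibCat.overCat U ⥤ᵇ 𝒳 :=
    BasedFunctor.comp (BasedFunctor.comp (AlgSt.ofOverCat U) (AlgSt.ofSpMap p)) w
  have hu₁ : AlgSt.RepByAlgSpWith (AlgSp.LocP @Flat) u :=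
    repByAlgSpWith_chart_comp _ (Or.inr (Or.inr (Or.inl rfl)))
      (fun A B φ hφ => by have : Etale φ := hφ; exact (inferInstance : Flat φ))
      isLocalOnBase_fppf_locP_flat h𝒳 W w hw₁ U p hpe
  have hu₂ : AlgSt.RepByAlgSpWith (AlgSp.LocP @LocallyOfFinitePresentation) u :=
    repByAlgSpWith_chart_comp _ (Or.inr (Or.inl rfl))
      (fun A B φ hφ => by have : Etale φ := hφ; exact (inferInstance : LocallyOfFinitePresentation φ))
      isLocalOnBase_fppf_locP_lfp h𝒳 W w hw₂ U p hpe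
  have hu₃ : AlgSt.RepByAlgSpWith AlgSp.IsSurjectiveMor u :=
    repByAlgSpWith_comp _ stableBC_isSurjectiveMor stableComp_isSurjectiveMor
      isLocalOnBase_fppf_isSurjectiveMor (isFibGrpd_overForget U) (Stk.isFibGrpd_ofPsh _) _ w
      (repByAlgSpWith_of_prop _ stableBC_isSurjectiveMor W U p hsurj) hw₃
  have hu₄ : AlgSt.RepByAlgSpWith (AlgSp.LocP Q) u :=
    repByAlgSpWith_chart_comp _ hQ hEQ hQl h𝒳 W w hw₄ U p hpe
  exact repByAlgSpWith_diag_toSelf _ (AlgStPFacts.stableBC_locP _ hQ) (AlgStPFacts.stableComp_locP _ hQ)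
    hQl hQΔ h𝒳 hΔ u hu₁ hu₂ hu₃ hu₄

end Groth.Agent.Lib.Helper66.AlgStDiagCover2
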