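import Groth.Agent.Lib.Helper66.AlgStDiagCover3
import Groth.Agent.Lib.Helper65.StSurj

/-!
# Properties of the diagonal of an algebraic stack read on a jointly surjective family of fppf charts
-/

set_option autoImplicit false
set_option backward.isDefEq.respectTransparency false
set_option backward.isDefEq.respectTransparency.types false
universe u

open CategoryTheory CategoryTheory.Limits AlgebraicGeometry Opposite

namespace Groth.Agent.Lib.Helper66.AlgStDiagCoverFam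

open FibCat Groth.Agent.Lib.Helper31 Groth.Agent.Lib.Helper65
open Groth.Agent.Lib.Helper66.StackCmp Groth.Agent.Lib.Helper66.StackLift2
open Groth.Agent.Lib.Helper66.AlgStCancel Groth.Agent.Lib.Helper66.AlgStDiagLft

variable {S : Scheme.{u}} {𝒳 : AlgSt.Cat S}

/-- The base changes of a jointly surjective family of flat, locally finitely presented charts to a scheme `T`
form an fppf covering of `T` by algebraic spaces. -/
theorem exists_cover_fam (h𝒳 : IsFibGrpd 𝒳.p) {I : Type u} (U : I → Over S)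
    (u : ∀ i, FibCat.overCat (U i) ⥤ᵇ 𝒳)
    (hu₁ : ∀ i, AlgSt.RepByAlgSpWith (AlgSp.LocP @Flat) (u i))
    (hu₂ : ∀ i, AlgSt.RepByAlgSpWith (AlgSp.LocP @LocallyOfFinitePresentation) (u i))
    (huj : ∀ (T : Over S) (y : FibCat.overCat T ⥤ᵇ 𝒳) (z : AlgSt.Points (FibCat.overCat T)),
      ∃ (i : I) (p : AlgSt.Points (FibCat.overCat (U i))),
        AlgSt.Points.map y z = AlgSt.Points.map (u i) p)
    (T : Over S) (y : FibCat.overCat T ⥤ᵇ 𝒳) :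
    ∃ (G : I → AlgSp.Space S) (eG : ∀ i, AlgSt.ofSp (G i).obj ⥤ᵇ fp y (u i)),
      (∀ i, IsEquivOver (eG i)) ∧
      AlgSp.IsFppfCover (fun i => (G i).obj)
        (fun i => AlgSt.spMapOfOver (BasedFunctor.comp (eG i) (fpFst y (u i)))) := by
  let Z : AlgSp.Space S := ⟨(AlgSp.yon S).obj T, AlgSp.IsAlgSpace.yon_obj T⟩
  choose G eG heG hd1 using fun i => hu₁ i T y
  refine ⟨G, eG, heG, fun i => ⟨hd1 i, ?_⟩, fun z => ?_⟩
  · obtain ⟨G₂, eG₂, heG₂, hd2⟩ := hu₂ i T y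
    obtain ⟨ι, hι⟩ := exists_iso_spMapOfOver (fpFst y (u i)) (eG i) (heG i) eG₂ heG₂
    change AlgSp.LocP @LocallyOfFinitePresentation
      (AlgSt.spMapOfOver (BasedFunctor.comp (eG i) (fpFst y (u i))))
    rw [hι]
    exact (Helper65.stableBC_locP _ (Or.inr (Or.inl rfl))).precomp_iso G₂.property Z.property ι _ hd2
  · obtain ⟨z', rfl⟩ := (overPts_bijective T).2 z
    obtain ⟨i, p, hp⟩ := huj T y z'
    obtain ⟨w, hw, -⟩ := exists_points_fp (isFibGrpd_overForget (U i)) h𝒳 (isFibGrpd_overForget T)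
      (u i) y z' p hp
    obtain ⟨w', rfl⟩ := (points_map_bijective_of_isEquivOver (eG i) (heG i)).2 w
    refine ⟨i, ptsEquiv (G i).obj w', ?_⟩
    change AlgSp.Points.map (AlgSt.spMapOfOver (BasedFunctor.comp (eG i) (fpFst y (u i))))
      (ptsEquiv (G i).obj w') = _
    rw [← overPts_map, points_map_comp, hw]

/-- Family variant of `repByAlgSpWith_diag_toSelf_of_cI`. -/
theorem repByAlgSpWith_diag_toSelf_of_cI_fam (P : MorphismProperty (AlgSp.Sp S)) (hPb : StableBC P)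
    (hPl : AlgSp.IsLocalOnBase AlgSp.IsFppfCover P)
    (h𝒳 : IsFibGrpd 𝒳.p)
    (hΔ : AlgSt.RepByAlgSp1 (FibCat.diag (FibCat.toSelf 𝒳)))
    {I : Type u} (U : I → Over S) (u : ∀ i, FibCat.overCat (U i) ⥤ᵇ 𝒳)
    (hu₁ : ∀ i, AlgSt.RepByAlgSpWith (AlgSp.LocP @Flat) (u i))
    (hu₂ : ∀ i, AlgSt.RepByAlgSpWith (AlgSp.LocP @LocallyOfFinitePresentation) (u i))
    (huj : ∀ (T : Over S) (y : FibCat.overCat T ⥤ᵇ 𝒳) (z : AlgSt.Points (FibCat.overCat T)),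
      ∃ (i : I) (p : AlgSt.Points (FibCat.overCat (U i))),
        AlgSt.Points.map y z = AlgSt.Points.map (u i) p)
    (hcI : ∀ (i : I) (T : Over S) (x₁ : FibCat.overCat T ⥤ᵇ 𝒳)
      (e : BasedFunctor.comp (fpFst x₁ (u i)) (BasedFunctor.comp x₁ (toSelf 𝒳)) ≅
        BasedFunctor.comp (fpSnd x₁ (u i)) (BasedFunctor.comp (u i) (toSelf 𝒳))),
      AlgSt.RepByAlgSpWith P (cI x₁ (u i) (toSelf 𝒳) e)) :
    AlgSt.RepByAlgSpWith P (FibCat.diag (FibCat.toSelf 𝒳)) := by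
  let s := toSelf 𝒳
  have hS : IsFibGrpd (selfOver (Over S)).p := isFibGrpd_selfOver
  have hss : IsFibGrpd (fp s s).p := isFibGrpd_fp s s h𝒳 h𝒳 hS
  intro T t
  have hT : IsFibGrpd (FibCat.overCat T).p := isFibGrpd_overForget T
  let Z : AlgSp.Space S := ⟨(AlgSp.yon S).obj T, AlgSp.IsAlgSpace.yon_obj T⟩
  let y₁ : AlgSt.ofSp Z.obj ⥤ᵇ fp s s := BasedFunctor.comp (AlgSt.toOverCat T) t
  obtain ⟨F, c, E₁, hE₁, ⟨i₁⟩⟩ := exists_space_fp h𝒳 hss (FibCat.diag s) hΔ Z y₁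
  let Φ : fp y₁ (FibCat.diag s) ⥤ᵇ fp t (FibCat.diag s) :=
    fpMap (F := y₁) (G := FibCat.diag s) (F' := t) (G' := FibCat.diag s) (AlgSt.toOverCat T)
      (BasedFunctor.id _) (BasedFunctor.id _) (Iso.refl _) (Iso.refl _)
  have hΦ : IsEquivOver Φ :=
    fpMap_isEquivOver _ _ _ _ _ (toOverCat_isEquivOver T) (isEquivOver_id _) (isEquivOver_id _)
  refine ⟨F, BasedFunctor.comp E₁ Φ, isEquivOver_comp E₁ Φ hE₁ hΦ, ?_⟩
  have j : BasedFunctor.comp (BasedFunctor.comp E₁ Φ) (fpFst t (FibCat.diag s)) ≅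
      BasedFunctor.comp (AlgSt.ofSpMap c.hom) (AlgSt.toOverCat T) :=
    bWhiskerRightIso i₁ (AlgSt.toOverCat T)
  rw [spMapOfOver_congr j, spMapOfOver_ofSpMap_toOverCat]
  -- the covering
  let x₁ : FibCat.overCat T ⥤ᵇ 𝒳 := BasedFunctor.comp t (fpFst s s)
  let x₂ : FibCat.overCat T ⥤ᵇ 𝒳 := BasedFunctor.comp t (fpSnd s s)
  obtain ⟨G, eG, heG, hcov⟩ := exists_cover_fam h𝒳 U u hu₁ hu₂ huj T x₂
  let d : ∀ i, G i ⟶ Z := fun i =>
    ObjectProperty.homMk (AlgSt.spMapOfOver (BasedFunctor.comp (eG i) (fpFst x₂ (u i))))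
  refine prop_of_cover _ hPl (FibCat.diag s) y₁ E₁ hE₁ c i₁ G d hcov (fun i => ?_)
  have hU : IsFibGrpd (FibCat.overCat (U i)).p := isFibGrpd_overForget (U i)
  -- the lift
  let A₁ : AlgSt.ofSp (G i).obj ⥤ᵇ FibCat.overCat T := BasedFunctor.comp (eG i) (fpFst x₂ (u i))
  let A₂ : AlgSt.ofSp (G i).obj ⥤ᵇ FibCat.overCat (U i) := BasedFunctor.comp (eG i) (fpSnd x₂ (u i))
  let τ : AlgSt.ofSp (G i).obj ⥤ᵇ fp s s := BasedFunctor.comp A₁ t
  let β₁ : BasedFunctor.comp A₁ x₁ ≅ BasedFunctor.comp τ (fpFst s s) := Iso.refl _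
  let β₂ : BasedFunctor.comp A₂ (u i) ≅ BasedFunctor.comp τ (fpSnd s s) :=
    (bWhiskerLeftIso (eG i) (fpIso x₂ (u i))).symm
  let ℓ := lift2 x₁ (u i) s τ A₁ A₂ β₁ β₂
  let y₂ : AlgSt.ofSp (G i).obj ⥤ᵇ fp s s := BasedFunctor.comp ℓ (cQ x₁ (u i) s)
  have iA : y₂ ≅ BasedFunctor.comp (AlgSt.ofSpMap (d i).hom) y₁ :=
    lift2Iso x₁ (u i) s τ A₁ A₂ β₁ β₂ ≪≫ bWhiskerRightIso (isoSpMapOfOver A₁) t
  let e : BasedFunctor.comp (fpFst x₁ (u i)) (BasedFunctor.comp x₁ s) ≅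
      BasedFunctor.comp (fpSnd x₁ (u i)) (BasedFunctor.comp (u i) s) :=
    Groth.Agent.Lib.Helper90.LiftSqComp.whiskerRightIso (fpIso x₁ (u i)) s
  have he : ∀ x, Groth.Agent.Lib.Helper90.LiftSqComp.app e.hom x = s.map x.obj.iso.hom := fun _ => rfl
  have hi := hcI i T x₁ e
  obtain ⟨V, a, e', he', ⟨i'⟩, hPa⟩ :=
    exists_rep_ofSp_of_repByAlgSpWith _ hPb hPl (isFibGrpd_fp x₁ (u i) hT hU h𝒳)
      (isFibGrpd_fp (BasedFunctor.comp x₁ s) (BasedFunctor.comp (u i) s) hT hU hS)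
      (cI x₁ (u i) s e) hi (G i) ℓ
  have hXi : IsEquivOver (cXi x₁ (u i) s e ℓ he) :=
    ⟨cTh x₁ (u i) s e ℓ he, ⟨cXiTh x₁ (u i) s e ℓ he⟩, ⟨cThXi x₁ (u i) s e ℓ he⟩⟩
  exact ⟨y₂, iA, V, a, BasedFunctor.comp e' (cXi x₁ (u i) s e ℓ he), isEquivOver_comp _ _ he' hXi,
    ⟨i'⟩, hPa⟩

end Groth.Agent.Lib.Helper66.AlgStDiagCoverFam
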