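import Groth.Agent.Lib.Helper66.AlgStDiagRep
import Groth.Agent.Lib.Helper66.AlgStPFacts
import Groth.Agent.Lib.Helper65.RepDesc

/-!
# fppf descent for properties of the diagonal along a flat cover of the target by an algebraic space
-/

set_option autoImplicit false
set_option backward.isDefEq.respectTransparency false
set_option backward.isDefEq.respectTransparency.types false
universe u

open CategoryTheory CategoryTheory.Limits AlgebraicGeometry Opposite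

namespace Groth.Agent.Lib.Helper66.AlgStDiagDesc

open FibCat Groth.Agent.Lib.Helper31 Groth.Agent.Lib.Helper65
open Groth.Agent.Lib.Helper66.StackDiag Groth.Agent.Lib.Helper66.StackLift

variable {S : Scheme.{u}} {𝒳 𝒴 : AlgSt.Cat S}

/-- The base change of a flat, locally finitely presented, surjective `w : W ⟶ 𝒴` to a scheme `T` is an fppf
covering of `T` by an algebraic space. -/
theorem exists_cover (W : AlgSp.Space S) (w : AlgSt.ofSp W.obj ⥤ᵇ 𝒴)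
    (hw₁ : AlgSt.RepByAlgSpWith (AlgSp.LocP @Flat) w)
    (hw₂ : AlgSt.RepByAlgSpWith (AlgSp.LocP @LocallyOfFinitePresentation) w)
    (hw₃ : AlgSt.RepByAlgSpWith AlgSp.IsSurjectiveMor w) (T : Over S) (y : FibCat.overCat T ⥤ᵇ 𝒴) :
    ∃ (G : AlgSp.Space S) (eG : AlgSt.ofSp G.obj ⥤ᵇ fp y w), IsEquivOver eG ∧
      AlgSp.IsFppfCover (fun _ : PUnit.{u + 1} => G.obj)
        (fun _ => AlgSt.spMapOfOver (BasedFunctor.comp eG (fpFst y w))) := by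
  let Z : AlgSp.Space S := ⟨(AlgSp.yon S).obj T, AlgSp.IsAlgSpace.yon_obj T⟩
  obtain ⟨G, eG, heG, hd1⟩ := hw₁ T y
  obtain ⟨G₂, eG₂, heG₂, hd2⟩ := hw₂ T y
  obtain ⟨G₃, eG₃, heG₃, hd3⟩ := hw₃ T y
  refine ⟨G, eG, heG, ?_⟩
  have hd2' : AlgSp.LocP @LocallyOfFinitePresentation
      (AlgSt.spMapOfOver (BasedFunctor.comp eG (fpFst y w))) := by
    obtain ⟨ι, hι⟩ := exists_iso_spMapOfOver (fpFst y w) eG heG eG₂ heG₂
    rw [hι]
    exact (Helper65.stableBC_locP _ (Or.inr (Or.inl rfl))).precomp_iso G₂.property Z.property ι _ hd2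
  have hd3' : AlgSp.IsSurjectiveMor (AlgSt.spMapOfOver (BasedFunctor.comp eG (fpFst y w))) := by
    obtain ⟨ι, hι⟩ := exists_iso_spMapOfOver (fpFst y w) eG heG eG₃ heG₃
    rw [hι]
    exact stableBC_isSurjectiveMor.precomp_iso G₃.property Z.property ι _ hd3
  exact ⟨fun _ => ⟨hd1, hd2'⟩, fun x => ⟨PUnit.unit, hd3' x⟩⟩

/-- **Descent for the diagonal**: if `w : W ⟶ 𝒴` is an fppf cover by an algebraic space and the diagonal of
the base change `W ×_𝒴 𝒳 ⟶ W` has `P`, then the diagonal of `f` has `P`. -/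
theorem repByAlgSpWith_diag_of_flat_cover (P : MorphismProperty (AlgSp.Sp S)) (hPb : StableBC P)
    (hP : AlgSp.IsLocalOnBase AlgSp.IsFppfCover P) (h𝒳 : IsFibGrpd 𝒳.p) (h𝒴 : IsFibGrpd 𝒴.p)
    (f : 𝒳 ⥤ᵇ 𝒴) (hdiag : AlgSt.RepByAlgSp1 (FibCat.diag f))
    (W : AlgSp.Space S) (w : AlgSt.ofSp W.obj ⥤ᵇ 𝒴)
    (hw₁ : AlgSt.RepByAlgSpWith (AlgSp.LocP @Flat) w)
    (hw₂ : AlgSt.RepByAlgSpWith (AlgSp.LocP @LocallyOfFinitePresentation) w)
    (hw₃ : AlgSt.RepByAlgSpWith AlgSp.IsSurjectiveMor w)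
    (h : AlgSt.RepByAlgSpWith P (FibCat.diag (FibCat.fpFst w f))) :
    AlgSt.RepByAlgSpWith P (FibCat.diag f) := by
  intro T t
  have hff : IsFibGrpd (fp f f).p := isFibGrpd_fp f f h𝒳 h𝒳 h𝒴
  have hW : IsFibGrpd (AlgSt.ofSp W.obj).p := Stk.isFibGrpd_ofPsh _
  have hwf : IsFibGrpd (fp w f).p := isFibGrpd_fp w f hW h𝒳 h𝒴
  have hππ : IsFibGrpd (fp (fpFst w f) (fpFst w f)).p := isFibGrpd_fp _ _ hwf hwf hW
  let Z : AlgSp.Space S := ⟨(AlgSp.yon S).obj T, AlgSp.IsAlgSpace.yon_obj T⟩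
  let y₁ : AlgSt.ofSp Z.obj ⥤ᵇ fp f f := BasedFunctor.comp (AlgSt.toOverCat T) t
  obtain ⟨F, c, E₁, hE₁, ⟨i₁⟩⟩ := exists_space_fp h𝒳 hff (FibCat.diag f) hdiag Z y₁
  let Φ : fp y₁ (FibCat.diag f) ⥤ᵇ fp t (FibCat.diag f) :=
    fpMap (F := y₁) (G := FibCat.diag f) (F' := t) (G' := FibCat.diag f) (AlgSt.toOverCat T)
      (BasedFunctor.id _) (BasedFunctor.id _) (Iso.refl _) (Iso.refl _)
  have hΦ : IsEquivOver Φ :=
    fpMap_isEquivOver _ _ _ _ _ (toOverCat_isEquivOver T) (isEquivOver_id _) (isEquivOver_id _)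
  refine ⟨F, BasedFunctor.comp E₁ Φ, isEquivOver_comp E₁ Φ hE₁ hΦ, ?_⟩
  have j : BasedFunctor.comp (BasedFunctor.comp E₁ Φ) (fpFst t (FibCat.diag f)) ≅
      BasedFunctor.comp (AlgSt.ofSpMap c.hom) (AlgSt.toOverCat T) :=
    bWhiskerRightIso i₁ (AlgSt.toOverCat T)
  rw [spMapOfOver_congr j, spMapOfOver_ofSpMap_toOverCat]
  -- the covering
  let y : FibCat.overCat T ⥤ᵇ 𝒴 := BasedFunctor.comp (BasedFunctor.comp t (fpFst f f)) f
  obtain ⟨G, eG, heG, hcov⟩ := exists_cover W w hw₁ hw₂ hw₃ T y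
  let d : G ⟶ Z := ObjectProperty.homMk (AlgSt.spMapOfOver (BasedFunctor.comp eG (fpFst y w)))
  -- the lift
  let t' : AlgSt.ofSp G.obj ⥤ᵇ fp f f := BasedFunctor.comp (BasedFunctor.comp eG (fpFst y w)) t
  let A : AlgSt.ofSp G.obj ⥤ᵇ AlgSt.ofSp W.obj := BasedFunctor.comp eG (fpSnd y w)
  let β : BasedFunctor.comp A w ≅ BasedFunctor.comp (BasedFunctor.comp t' (fpFst f f)) f :=
    bWhiskerLeftIso eG (fpIso y w).symm
  let ℓ := lift f w t' A β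
  let y₂ : AlgSt.ofSp G.obj ⥤ᵇ fp f f := BasedFunctor.comp ℓ (dQ f w)
  have iA : y₂ ≅ BasedFunctor.comp (AlgSt.ofSpMap d.hom) y₁ :=
    liftIso f w t' A β ≪≫
      bWhiskerRightIso (isoSpMapOfOver (BasedFunctor.comp eG (fpFst y w))) t
  obtain ⟨V, a, e', he', ⟨i'⟩, hPa⟩ :=
    exists_rep_ofSp_of_repByAlgSpWith P hPb hP hwf hππ (FibCat.diag (fpFst w f)) h G ℓ
  have hXi : IsEquivOver (dXi f w ℓ) := ⟨dTh f w ℓ, ⟨dXiTh f w ℓ⟩, ⟨dThXi f w ℓ⟩⟩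
  exact prop_of_cover P hP (FibCat.diag f) y₁ E₁ hE₁ c i₁ (fun _ : PUnit.{u + 1} => G) (fun _ => d) hcov
    (fun _ => ⟨y₂, iA, V, a, BasedFunctor.comp e' (dXi f w ℓ), isEquivOver_comp _ _ he' hXi, ⟨i'⟩, hPa⟩)

end Groth.Agent.Lib.Helper66.AlgStDiagDesc
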