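import Groth.Prelude.Def_FibCat2
import Groth.Agent.Lib.Helper66.StackCmp

/-!
# Lifting a functor to `𝒵 ×_𝒯 𝒵` through `𝒜 ×_𝒯 ℬ ⟶ 𝒵 ×_𝒯 𝒵`
-/

set_option autoImplicit false
set_option backward.isDefEq.respectTransparency false
set_option backward.isDefEq.respectTransparency.types false
universe v₈ u₈ v₇ u₇ v₆ u₆ v₅ u₅ v₄ u₄ v₃ u₃ v₂ u₂ v u

open CategoryTheory

namespace Groth.Agent.Lib.Helper66.StackLift2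

open Groth.Agent.Lib.Helper90.LiftSqComp Groth.Agent.Lib.Helper90.LiftSqFp
open Groth.Agent.Lib.Helper66.StackBC Groth.Agent.Lib.Helper66.StackDiag Groth.Agent.Lib.Helper66.StackCmp

variable {C : Type u} [Category.{v} C]
  {𝒜 : BasedCategory.{v₄, u₄} C} {ℬ : BasedCategory.{v₅, u₅} C} {𝒵 : BasedCategory.{v₆, u₆} C}
  {𝒯 : BasedCategory.{v₇, u₇} C} {𝒰 : BasedCategory.{v₈, u₈} C}

variable (f : 𝒜 ⥤ᵇ 𝒵) (g : ℬ ⥤ᵇ 𝒵) (t : 𝒵 ⥤ᵇ 𝒯) (τ : 𝒰 ⥤ᵇ FibCat.fp t t)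
  (A₁ : 𝒰 ⥤ᵇ 𝒜) (A₂ : 𝒰 ⥤ᵇ ℬ)
  (β₁ : BasedFunctor.comp A₁ f ≅ BasedFunctor.comp τ (FibCat.fpFst t t))
  (β₂ : BasedFunctor.comp A₂ g ≅ BasedFunctor.comp τ (FibCat.fpSnd t t))

/-- the 2-isomorphism of the lift -/
def lift2Iso₀ : BasedFunctor.comp A₁ (BasedFunctor.comp f t) ≅
    BasedFunctor.comp A₂ (BasedFunctor.comp g t) :=
  whiskerRightIso β₁ t ≪≫ whiskerLeftIso τ (FibCat.fpIso t t) ≪≫ (whiskerRightIso β₂ t).symm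

/-- the lift `𝒰 ⟶ 𝒜 ×_𝒯 ℬ` -/
def lift2 : 𝒰 ⥤ᵇ FibCat.fp (BasedFunctor.comp f t) (BasedFunctor.comp g t) :=
  FibCat.fpLift A₁ A₂ (lift2Iso₀ f g t τ A₁ A₂ β₁ β₂)

/-- the lift followed by `cQ` is `τ` -/
def lift2Iso : BasedFunctor.comp (lift2 f g t τ A₁ A₂ β₁ β₂) (cQ f g t) ≅ τ :=
  fpIsoMk β₁ β₂ (fun w => by
    simp [lift2, lift2Iso₀, cQ]
    have h : t.map (app β₂.inv w) ≫ t.map (app β₂.hom w) = 𝟙 _ := by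
      rw [← t.map_comp, app_inv_hom, t.map_id]
    rw [h]
    exact congrArg (fun z => t.map (app β₁.hom w) ≫ z)
      (Category.comp_id ((τ.obj w).obj.iso.hom)).symm)

end Groth.Agent.Lib.Helper66.StackLift2
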