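import Groth.Agent.Lib.Helper66.AlgStDiagDesc
import Groth.Agent.Lib.Helper66.AlgStBridgeQS
import Groth.Agent.Lib.Helper66.StackLift2
import Groth.Agent.Lib.Helper65.RepDesc3
import Groth.Agent.Lib.Helper65.DiagRep

/-!
# The diagonal of an algebraic stack is locally of finite type
-/

set_option autoImplicit false
set_option backward.isDefEq.respectTransparency false
set_option backward.isDefEq.respectTransparency.types false
universe u

open CategoryTheory CategoryTheory.Limits AlgebraicGeometry Opposite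

namespace Groth.Agent.Lib.Helper66.AlgStDiagLft

open FibCat Groth.Agent.Lib.Helper31 Groth.Agent.Lib.Helper65
open Groth.Agent.Lib.Helper66.StackCmp Groth.Agent.Lib.Helper66.StackLift2
open Groth.Agent.Lib.Helper66.AlgStCancel

variable {S : Scheme.{u}} {𝒳 𝒴 𝒲 : AlgSt.Cat S}

theorem smooth_le_lft : (@Smooth : MorphismProperty Scheme.{u}) ≤ @LocallyOfFiniteType := by
  intro A B g hg
  have : Smooth g := hg
  exact (inferInstance : LocallyOfFiniteType g)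

/-- The base change of a flat, locally finitely presented, surjective representable `w : 𝒲 ⟶ 𝒴` to a scheme `T`
is an fppf covering of `T` by an algebraic space. -/
theorem exists_cover' (w : 𝒲 ⥤ᵇ 𝒴)
    (hw₁ : AlgSt.RepByAlgSpWith (AlgSp.LocP @Flat) w)
    (hw₂ : AlgSt.RepByAlgSpWith (AlgSp.LocP @LocallyOfFinitePresentation) w)
    (hw₃ : AlgSt.RepByAlgSpWith AlgSp.IsSurjectiveMor w) (T : Over S) (y : FibCat.overCat T ⥤ᵇ 𝒴) :
    ∃ (G : AlgSp.Space S) (eG : AlgSt.ofSp G.obj ⥤ᵇ fp y w), IsEquivOver eG ∧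
      AlgSp.IsFppfCover (fun _ : PUnit.{u + 1} => G.obj)
        (fun _ => AlgSt.spMapOfOver (BasedFunctor.comp eG (fpFst y w))) := by
  let Z : AlgSp.Space S := ⟨(AlgSp.yon S).obj T, AlgSp.IsAlgSpace.yon_obj T⟩
  obtain ⟨G, eG, heG, hd1⟩ := hw₁ T y
  obtain ⟨G₂, eG₂, heG₂, hd2⟩ := hw₂ T y
  obtain ⟨G₃, eG₃, heG₃, hd3⟩ := hw₃ T y
  refine ⟨G, eG, heG, ?_⟩
  have hd2' : AlgSp.LocP @LocallyOfFinitePresentation
      (AlgSt.spMapOfOver (BasedFunctor.comp eG (fpFst y w))) := by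
    obtain ⟨ι, hι⟩ := exists_iso_spMapOfOver (fpFst y w) eG heG eG₂ heG₂
    rw [hι]
    exact (Helper65.stableBC_locP _ (Or.inr (Or.inl rfl))).precomp_iso G₂.property Z.property ι _ hd2
  have hd3' : AlgSp.IsSurjectiveMor (AlgSt.spMapOfOver (BasedFunctor.comp eG (fpFst y w))) := by
    obtain ⟨ι, hι⟩ := exists_iso_spMapOfOver (fpFst y w) eG heG eG₃ heG₃
    rw [hι]
    exact stableBC_isSurjectiveMor.precomp_iso G₃.property Z.property ι _ hd3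
  exact ⟨fun _ => ⟨hd1, hd2'⟩, fun x => ⟨PUnit.unit, hd3' x⟩⟩

/-- For `x : (Sch/T) ⟶ 𝒳` and a smooth `u : (Sch/U) ⟶ 𝒳`, the comparison `T ×_𝒳 U ⟶ T × U` is locally of
finite type. -/
theorem repByAlgSpWith_lft_cI (h𝒳 : IsFibGrpd 𝒳.p) {T U : Over S} (x : FibCat.overCat T ⥤ᵇ 𝒳)
    (u : FibCat.overCat U ⥤ᵇ 𝒳) (hu : AlgSt.RepByAlgSpWith (AlgSp.LocP @Smooth) u)
    (e : BasedFunctor.comp (fpFst x u) (BasedFunctor.comp x (toSelf 𝒳)) ≅
      BasedFunctor.comp (fpSnd x u) (BasedFunctor.comp u (toSelf 𝒳))) :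
    AlgSt.RepByAlgSpWith (AlgSp.LocP @LocallyOfFiniteType) (cI x u (toSelf 𝒳) e) := by
  let s := toSelf 𝒳
  have hS : IsFibGrpd (selfOver (Over S)).p := isFibGrpd_selfOver
  have hT : IsFibGrpd (FibCat.overCat T).p := isFibGrpd_overForget T
  have hU : IsFibGrpd (FibCat.overCat U).p := isFibGrpd_overForget U
  have hu_lft : AlgSt.RepByAlgSpWith (AlgSp.LocP @LocallyOfFiniteType) u :=
    repByAlgSpWith_mono (locP_mono smooth_le_lft) u hu
  have hgf : AlgSt.RepByAlgSpWith (AlgSp.LocP @LocallyOfFiniteType)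
      (BasedFunctor.comp (cI x u s e) (fpFst (BasedFunctor.comp x s) (BasedFunctor.comp u s))) :=
    repByAlgSpWith_fpFst _ u x hu_lft
  -- `T × U` is representable
  obtain ⟨y, hy⟩ := exists_prodSlice_equiv x u
  have hX : AlgSt.RepByAlgSp (fp (BasedFunctor.comp x s) (BasedFunctor.comp u s)) :=
    repByAlgSp_of_equivOver y hy (repByAlgSp_overCat (T ⨯ U))
  have hpr : AlgSt.RepByAlgSpWith ⊤ (fpFst (BasedFunctor.comp x s) (BasedFunctor.comp u s)) :=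
    (repByAlgSp1_iff_top _).1 (repByAlgSp1_of_repByAlgSp _ hX (repByAlgSp_overCat T))
  have hΔ : AlgSt.RepByAlgSpWith (AlgSp.LocP @LocallyOfFiniteType)
      (FibCat.diag (fpFst (BasedFunctor.comp x s) (BasedFunctor.comp u s))) :=
    Groth.Agent.Lib.Helper66.AlgStBridge.repByAlgSpWith_diag_of_rep _ ⊤
      (AlgStPFacts.stableBC_locP _ (Or.inl rfl)) _ hpr (fun V T' a _ =>
        Groth.Agent.Lib.Helper66.AlgStBridgeQS.locP_lft_diagonal (V := V)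
          (Y := ⟨(AlgSp.yon S).obj T', AlgSp.IsAlgSpace.yon_obj T'⟩) (ObjectProperty.homMk a))
  exact repByAlgSpWith_of_comp_of_diag _ (AlgStPFacts.stableBC_locP _ (Or.inl rfl))
    (AlgStPFacts.stableComp_locP _ (Or.inl rfl)) isLocalOnBase_fppf_locP_lft
    (isFibGrpd_fp x u hT hU h𝒳)
    (isFibGrpd_fp (BasedFunctor.comp x s) (BasedFunctor.comp u s) hT hU hS) hT
    (cI x u s e) (fpFst (BasedFunctor.comp x s) (BasedFunctor.comp u s)) hgf hΔ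

/-- **The diagonal of an algebraic stack is locally of finite type.** -/
theorem repByAlgSpWith_lft_diag_toSelf (h𝒳 : IsFibGrpd 𝒳.p)
    (hΔ : AlgSt.RepByAlgSp1 (FibCat.diag (FibCat.toSelf 𝒳)))
    (hatlas : AlgSt.HasAtlas (AlgSp.LocP @Smooth) 𝒳) :
    AlgSt.RepByAlgSpWith (AlgSp.LocP @LocallyOfFiniteType) (FibCat.diag (FibCat.toSelf 𝒳)) := by
  obtain ⟨U, u, hus, huj⟩ := hatlas
  let s := toSelf 𝒳
  have hS : IsFibGrpd (selfOver (Over S)).p := isFibGrpd_selfOver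
  have hss : IsFibGrpd (fp s s).p := isFibGrpd_fp s s h𝒳 h𝒳 hS
  have hU : IsFibGrpd (FibCat.overCat U).p := isFibGrpd_overForget U
  have hu₁ : AlgSt.RepByAlgSpWith (AlgSp.LocP @Flat) u :=
    repByAlgSpWith_mono (locP_mono smooth_le_flat) u hus
  have hu₂ : AlgSt.RepByAlgSpWith (AlgSp.LocP @LocallyOfFinitePresentation) u :=
    repByAlgSpWith_mono (locP_mono smooth_le_lfp) u hus
  intro T t
  have hT : IsFibGrpd (FibCat.overCat T).p := isFibGrpd_overForget T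
  let Z : AlgSp.Space S := ⟨(AlgSp.yon S).obj T, AlgSp.IsAlgSpace.yon_obj T⟩
  let y₁ : AlgSt.ofSp Z.obj ⥤ᵇ fp s s := BasedFunctor.comp (AlgSt.toOverCat T) t
  obtain ⟨F, c, E₁, hE₁, ⟨i₁⟩⟩ := exists_space_fp h𝒳 hss (FibCat.diag s) hΔ Z y₁
  let Φ : fp y₁ (FibCat.diag s) ⥤ᵇ fp t (FibCat.diag s) :=
    fpMap (F := y₁) (G := FibCat.diag s) (F' := t) (G' := FibCat.diag s) (AlgSt.toOverCat T)
      (BasedFunctor.id _) (BasedFunctor.id _) (Iso.refl _) (Iso.refl _)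
  have hΦ : IsEquivOver Φ :=
    fpMap_isEquivOver _ _ _ _ _ (toOverCat_isEquivOver T) (isEquivOver_id _) (isEquivOver_id _)
  refine ⟨F, BasedFunctor.comp E₁ Φ, isEquivOver_comp E₁ Φ hE₁ hΦ, ?_⟩
  have j : BasedFunctor.comp (BasedFunctor.comp E₁ Φ) (fpFst t (FibCat.diag s)) ≅
      BasedFunctor.comp (AlgSt.ofSpMap c.hom) (AlgSt.toOverCat T) :=
    bWhiskerRightIso i₁ (AlgSt.toOverCat T)
  rw [spMapOfOver_congr j, spMapOfOver_ofSpMap_toOverCat]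
  -- the covering
  let x₁ : FibCat.overCat T ⥤ᵇ 𝒳 := BasedFunctor.comp t (fpFst s s)
  let x₂ : FibCat.overCat T ⥤ᵇ 𝒳 := BasedFunctor.comp t (fpSnd s s)
  obtain ⟨G, eG, heG, hcov⟩ := exists_cover' u hu₁ hu₂ huj T x₂
  let d : G ⟶ Z := ObjectProperty.homMk (AlgSt.spMapOfOver (BasedFunctor.comp eG (fpFst x₂ u)))
  -- the lift
  let A₁ : AlgSt.ofSp G.obj ⥤ᵇ FibCat.overCat T := BasedFunctor.comp eG (fpFst x₂ u)
  let A₂ : AlgSt.ofSp G.obj ⥤ᵇ FibCat.overCat U := BasedFunctor.comp eG (fpSnd x₂ u)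
  let τ : AlgSt.ofSp G.obj ⥤ᵇ fp s s := BasedFunctor.comp A₁ t
  let β₁ : BasedFunctor.comp A₁ x₁ ≅ BasedFunctor.comp τ (fpFst s s) := Iso.refl _
  let β₂ : BasedFunctor.comp A₂ u ≅ BasedFunctor.comp τ (fpSnd s s) :=
    (bWhiskerLeftIso eG (fpIso x₂ u)).symm
  let ℓ := lift2 x₁ u s τ A₁ A₂ β₁ β₂
  let y₂ : AlgSt.ofSp G.obj ⥤ᵇ fp s s := BasedFunctor.comp ℓ (cQ x₁ u s)
  have iA : y₂ ≅ BasedFunctor.comp (AlgSt.ofSpMap d.hom) y₁ :=
    lift2Iso x₁ u s τ A₁ A₂ β₁ β₂ ≪≫ bWhiskerRightIso (isoSpMapOfOver A₁) t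
  let e : BasedFunctor.comp (fpFst x₁ u) (BasedFunctor.comp x₁ s) ≅
      BasedFunctor.comp (fpSnd x₁ u) (BasedFunctor.comp u s) :=
    Groth.Agent.Lib.Helper90.LiftSqComp.whiskerRightIso (fpIso x₁ u) s
  have he : ∀ x, Groth.Agent.Lib.Helper90.LiftSqComp.app e.hom x = s.map x.obj.iso.hom := fun _ => rfl
  have hi := repByAlgSpWith_lft_cI h𝒳 x₁ u hus e
  obtain ⟨V, a, e', he', ⟨i'⟩, hPa⟩ :=
    exists_rep_ofSp_of_repByAlgSpWith _ (AlgStPFacts.stableBC_locP _ (Or.inl rfl))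
      isLocalOnBase_fppf_locP_lft (isFibGrpd_fp x₁ u hT hU h𝒳)
      (isFibGrpd_fp (BasedFunctor.comp x₁ s) (BasedFunctor.comp u s) hT hU hS) (cI x₁ u s e) hi G ℓ
  have hXi : IsEquivOver (cXi x₁ u s e ℓ he) :=
    ⟨cTh x₁ u s e ℓ he, ⟨cXiTh x₁ u s e ℓ he⟩, ⟨cThXi x₁ u s e ℓ he⟩⟩
  exact prop_of_cover _ isLocalOnBase_fppf_locP_lft (FibCat.diag s) y₁ E₁ hE₁ c i₁
    (fun _ : PUnit.{u + 1} => G) (fun _ => d) hcov
    (fun _ => ⟨y₂, iA, V, a, BasedFunctor.comp e' (cXi x₁ u s e ℓ he), isEquivOver_comp _ _ he' hXi,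
      ⟨i'⟩, hPa⟩)

end Groth.Agent.Lib.Helper66.AlgStDiagLft
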