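import Groth.Agent.Lib.Helper66.RepWithPDet
import Groth.Agent.Lib.Helper66.AlgStDiagComp

/-!
# Properties local on the base for étale coverings are detected on schemes
-/

set_option autoImplicit false
set_option backward.isDefEq.respectTransparency false
set_option backward.isDefEq.respectTransparency.types false
universe u

open CategoryTheory CategoryTheory.Limits AlgebraicGeometry Opposite

namespace Groth.Agent.Lib.Helper66.AlgStEtale

open FibCat Groth.Agent.Lib.Helper31 Groth.Agent.Lib.Helper65 Groth.Agent.Lib.Helper66.RepWithPDet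
open Groth.Agent.Lib.Helper66.AlgStDiagComp

variable {S : Scheme.{u}}

/-- An étale surjective atlas is an étale covering. -/
theorem isEtCover_atlas {Z : AlgSp.Sp S} {T : Over S} (p : (AlgSp.yon S).obj T ⟶ Z)
    (hpe : AlgSp.RepWith @Etale p) (hps : AlgSp.RepWith @Surjective p) :
    AlgSp.IsEtCover (fun _ : PUnit.{u + 1} => (AlgSp.yon S).obj T) (fun _ => p) :=
  ⟨fun _ => fun _ φ hφ => (AlgSp.repWith_isMultiplicative (S := S) @Etale).comp_mem _ _ hφ hpe,
    fun x => ⟨PUnit.unit, Groth.Agent.H52.surjective_points_of_repWith_surjective p hps x⟩⟩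

theorem detected_of_isLocalOnBase_et (P : MorphismProperty (AlgSp.Sp S))
    (hP : AlgSp.IsLocalOnBase AlgSp.IsEtCover P) : Detected P := by
  intro V Z a h
  obtain ⟨T, p, hpe, hps⟩ := Z.property.atlas
  have sq : IsPullback (pullback.fst a p) (pullback.snd a p) a p := IsPullback.of_hasPullback a p
  have sq' := sq.map (sheafToPresheaf (AlgSp.J S) (Type (u + 1)))
  obtain ⟨hsh, hW, hQW⟩ := h p.hom (pullback.fst a p).hom (pullback.snd a p).hom sq'
  exact (hP (fun _ : PUnit.{u + 1} => (AlgSp.yon S).obj T) (fun _ => p) Z.property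
    (fun _ => AlgSp.IsAlgSpace.yon_obj T) (isEtCover_atlas p hpe hps) a V.property
    (fun _ => pullback a p) (fun _ => pullback.snd a p) (fun _ => pullback.fst a p)
    (fun _ => hW) (fun _ => sq)).2 (fun _ => hQW.1)

variable {𝒳 𝒴 𝒵 : AlgSt.Cat S}

/-- The diagonal of a composite, for `P` detected on schemes. -/
theorem repByAlgSpWith_diag_comp_det (P : MorphismProperty (AlgSp.Sp S)) (hPb : StableBC P)
    (hPc : StableComp P) (hP : Detected P)
    (h𝒳 : IsFibGrpd 𝒳.p) (h𝒴 : IsFibGrpd 𝒴.p)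
    (f : 𝒳 ⥤ᵇ 𝒴) (g : 𝒴 ⥤ᵇ 𝒵) (hf : AlgSt.RepByAlgSpWith P (FibCat.diag f))
    (hg : AlgSt.RepByAlgSpWith P (FibCat.diag g)) :
    AlgSt.RepByAlgSpWith P (FibCat.diag (BasedFunctor.comp f g)) := by
  have hc : AlgSt.RepByAlgSpWith P (cmp f g) :=
    Groth.Agent.Lib.Helper66.AlgStCmp.repByAlgSpWith_fpComparison P f f g (cmpIso f g)
      (cmpIso_app f g) hg
  have hcomp : AlgSt.RepByAlgSpWith P (BasedFunctor.comp (FibCat.diag f) (cmp f g)) :=
    RepWithPDet.repByAlgSpWith_comp P hPb hPc hP h𝒳 (isFibGrpd_fp f f h𝒳 h𝒳 h𝒴) (FibCat.diag f) (cmp f g)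
      hf hc
  exact repByAlgSpWith_of_square P _ _ (BasedFunctor.id _) (BasedFunctor.id _)
    (isEquivOver_id _) (isEquivOver_id _) (diagCompIso f g) hcomp

end Groth.Agent.Lib.Helper66.AlgStEtale
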