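import Groth.Agent.Lib.Helper66.AlgStFp
import Groth.Agent.Lib.Helper65.SourceLocal
import Groth.Agent.Lib.Helper54.LocalST

/-!
# Étale atlases of 2-fibre products
-/

set_option autoImplicit false
set_option backward.isDefEq.respectTransparency false
set_option backward.isDefEq.respectTransparency.types false
universe u

open CategoryTheory CategoryTheory.Limits AlgebraicGeometry Opposite

namespace Groth.Agent.Lib.Helper66.AlgStFpEtale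

open FibCat Groth.Agent.Lib.Helper31 Groth.Agent.Lib.Helper65

variable {S : Scheme.{u}} {𝒳 𝒴 𝒵 : AlgSt.Cat S}

theorem stableComp_isEtaleMor : StableComp (AlgSp.IsEtaleMor (S := S)) :=
  fun _ _ _ _ _ _ _ _ ha hb => Groth.Agent.Lib.Helper54.isEtaleMor_comp ha hb

/-- An étale chart of the source of a morphism representable by algebraic spaces, from an étale chart of the
target. -/
theorem exists_etale_chart_of_repByAlgSp1 (h𝒳 : IsFibGrpd 𝒳.p) (j : 𝒳 ⥤ᵇ 𝒴) (hj : AlgSt.RepByAlgSp1 j)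
    (hatlas : AlgSt.HasAtlas AlgSp.IsEtaleMor 𝒴) : AlgSt.HasAtlas AlgSp.IsEtaleMor 𝒳 := by
  obtain ⟨V, y₀, h1, h2⟩ := hatlas
  obtain ⟨G, e, he⟩ := hj V y₀
  obtain ⟨T, p, hpe, hps⟩ := G.property.atlas
  have hs1 : AlgSt.RepByAlgSpWith AlgSp.IsEtaleMor (BasedFunctor.comp e (fpSnd y₀ j)) :=
    repByAlgSpWith_equiv_comp _ e he _
      (Groth.Agent.Lib.Helper66.AlgStBC.repByAlgSpWith_fpSnd _ j y₀ h1)
  have hs2 : AlgSt.RepByAlgSpWith AlgSp.IsSurjectiveMor (BasedFunctor.comp e (fpSnd y₀ j)) :=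
    repByAlgSpWith_equiv_comp _ e he _
      (Groth.Agent.Lib.Helper66.AlgStBC.repByAlgSpWith_fpSnd _ j y₀ h2)
  have hp : AlgSp.IsEtaleMor p :=
    fun _ _ hφ => (AlgSp.repWith_isMultiplicative (S := S) @Etale).comp_mem _ _ hφ hpe
  refine ⟨T, BasedFunctor.comp (chartFunctor p) (BasedFunctor.comp e (fpSnd y₀ j)), ?_,
    chart_comp_surjective h𝒳 G p hps _ hs2⟩
  exact repByAlgSpWith_comp _ stableBC_isEtaleMor stableComp_isEtaleMor isLocalOnBase_fppf_isEtaleMor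
    (isFibGrpd_overForget T) (Stk.isFibGrpd_ofPsh _) (chartFunctor p) _
    (repByAlgSpWith_of_prop _ stableBC_isEtaleMor G T p hp) hs1

/-- an étale atlas of `𝒳 ×_𝒵 𝒴` -/
theorem hasAtlas_fp_etale (h𝒵 : IsFibGrpd 𝒵.p)
    (hΔ : AlgSt.RepByAlgSp1 (FibCat.diag (FibCat.toSelf 𝒵)))
    (h𝒳 : IsFibGrpd 𝒳.p) (ha𝒳 : AlgSt.HasAtlas AlgSp.IsEtaleMor 𝒳)
    (h𝒴 : IsFibGrpd 𝒴.p) (ha𝒴 : AlgSt.HasAtlas AlgSp.IsEtaleMor 𝒴)
    (f : 𝒳 ⥤ᵇ 𝒵) (g : 𝒴 ⥤ᵇ 𝒵) :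
    AlgSt.HasAtlas AlgSp.IsEtaleMor (FibCat.fp f g) := by
  obtain ⟨V, v, hv1, hv2⟩ := ha𝒴
  have hV : IsFibGrpd (FibCat.overCat V).p := isFibGrpd_overForget V
  let b : FibCat.overCat V ⥤ᵇ 𝒵 := BasedFunctor.comp v g
  have hb : AlgSt.RepByAlgSp1 b := repByAlgSp1_of_diag hΔ V b
  have hQfib : IsFibGrpd (fp f b).p := isFibGrpd_fp f b h𝒳 hV h𝒵
  have hj : AlgSt.RepByAlgSp1 (fpFst f b) :=
    (repByAlgSp1_iff_top _).2 (repByAlgSpWith_fpFst ⊤ b f ((repByAlgSp1_iff_top _).1 hb))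
  obtain ⟨W, w, hw1, hw2⟩ := exists_etale_chart_of_repByAlgSp1 hQfib (fpFst f b) hj ha𝒳
  have hE := fpPasteSnd_isEquivOver f g v
  obtain ⟨Einv, hEinv, -, -⟩ := exists_inverse_equivOver _ hE
  let c : fp f b ⥤ᵇ fp f g := BasedFunctor.comp Einv (fpFst (fpSnd f g) v)
  have hc1 : AlgSt.RepByAlgSpWith AlgSp.IsEtaleMor c :=
    repByAlgSpWith_equiv_comp _ Einv hEinv _ (repByAlgSpWith_fpFst _ v (fpSnd f g) hv1)
  have hc2 : AlgSt.RepByAlgSpWith AlgSp.IsSurjectiveMor c :=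
    repByAlgSpWith_equiv_comp _ Einv hEinv _ (repByAlgSpWith_fpFst _ v (fpSnd f g) hv2)
  refine ⟨W, BasedFunctor.comp w c, ?_, ?_⟩
  · exact repByAlgSpWith_comp _ stableBC_isEtaleMor stableComp_isEtaleMor
      isLocalOnBase_fppf_isEtaleMor (isFibGrpd_overForget W) hQfib w c hw1 hc1
  · exact repByAlgSpWith_comp _ stableBC_isSurjectiveMor stableComp_isSurjectiveMor
      isLocalOnBase_fppf_isSurjectiveMor (isFibGrpd_overForget W) hQfib w c hw2 hc2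

end Groth.Agent.Lib.Helper66.AlgStFpEtale
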