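import Groth.Agent.Lib.Helper54.Noetherian
import Groth.Agent.Lib.Helper65.SmoothLocal

/-!
# Being locally Noetherian is local in the smooth topology
-/

set_option autoImplicit false
universe u

open CategoryTheory CategoryTheory.Limits AlgebraicGeometry Opposite

namespace Groth.Agent.Lib.Helper66.SmoothLocalNoeth

open Groth.Agent.Lib.Helper65

theorem isLocallyNoetherian_of_smooth_cover {U : Scheme.{u}} (R : Presieve U)
    (hR : R ∈ Scheme.precoverage @Smooth U)
    (h : ∀ ⦃V : Scheme.{u}⦄ (g : V ⟶ U), R g → IsLocallyNoetherian V) : IsLocallyNoetherian U := by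
  have hsurj : ∀ x : U, ∃ (V : Scheme.{u}) (g : V ⟶ U), R g ∧ x ∈ Set.range g := by
    have h1 := hR.1
    rw [Scheme.jointlySurjectivePrecoverage, Presieve.mem_comap_jointlySurjectivePrecoverage_iff] at h1
    exact h1
  choose V g hRg hx using hsurj
  have hsm : ∀ x, Smooth (g x) := fun x => hR.2 (hRg x)
  let W : U → U.Opens := fun x => ⟨Set.range (g x), (g x).isOpenMap.isOpen_range⟩
  have hW : TopologicalSpace.IsOpenCover W := by
    rw [TopologicalSpace.IsOpenCover, eq_top_iff]
    intro x _
    exact TopologicalSpace.Opens.mem_iSup.2 ⟨x, hx x⟩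
  rw [isLocallyNoetherian_iff_openCover (U.openCoverOfIsOpenCover W hW)]
  intro x
  change IsLocallyNoetherian ((W x : U.Opens) : Scheme.{u})
  have : IsLocallyNoetherian (V x) := h (g x) (hRg x)
  have : IsLocallyNoetherian (pullback (g x) (W x).ι) :=
    isLocallyNoetherian_of_isOpenImmersion (pullback.fst (g x) (W x).ι)
  have hs : Surjective (pullback.snd (g x) (W x).ι) := by
    refine ⟨fun w => ?_⟩
    obtain ⟨v, hv⟩ : ((W x).ι w) ∈ Set.range (g x) := w.2
    obtain ⟨z, -, hz⟩ := Scheme.Pullback.exists_preimage_pullback v w hv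
    exact ⟨z, hz⟩
  exact Groth.Agent.Lib.Helper54.isLocallyNoetherian_of_fppf (pullback.snd (g x) (W x).ι)

theorem smoothLocalProp_isLocallyNoetherian :
    SmoothLocalProp (fun T : Scheme.{u} => IsLocallyNoetherian T) := by
  intro U R hR
  constructor
  · intro hU V g hg
    have : Smooth g := hR.2 hg
    exact LocallyOfFiniteType.isLocallyNoetherian g
  · intro h
    exact isLocallyNoetherian_of_smooth_cover R hR h

end Groth.Agent.Lib.Helper66.SmoothLocalNoeth
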