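import Groth.Agent.Lib.Helper66.AlgStQC4
import Groth.Agent.Lib.Helper66.AlgStLocQSq2
import Groth.Agent.Lib.Helper66.SmoothLocalNoeth

/-!
# Immersions into locally Noetherian algebraic stacks are quasi-compact
-/

set_option autoImplicit false
set_option backward.isDefEq.respectTransparency false
set_option backward.isDefEq.respectTransparency.types false
universe u

open CategoryTheory CategoryTheory.Limits AlgebraicGeometry Opposite

namespace Groth.Agent.Lib.Helper66.AlgStImmNoeth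

open FibCat Groth.Agent.Lib.Helper31 Groth.Agent.Lib.Helper65 Groth.Agent.Lib.Helper66

theorem quasiCompact_of_isImmersion_of_isLocallyNoetherian {X Y : Scheme.{u}} (f : X ⟶ Y) [IsImmersion f]
    [IsLocallyNoetherian Y] : QuasiCompact f := by
  rw [← f.liftCoborder_ι]
  infer_instance

variable {S : Scheme.{u}} {𝒳 𝒴 : AlgSt.Cat S}

theorem stableBC_isQuasiCompactMor : StableBC (AlgSp.IsQuasiCompactMor (S := S)) := by
  intro X₁ Y₁ X₂ Y₂ h1 h2 h3 h4 a b a' b' sq ha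
  exact Groth.Agent.H52.isQuasiCompactMor_of_isPullback sq ha

/-- An immersion into the sheaf of a locally Noetherian scheme is quasi-compact. -/
theorem isQuasiCompactMor_of_repWith_isImmersion {V : Over S} [IsLocallyNoetherian V.left] {G : AlgSp.Sp S}
    (a : G ⟶ (AlgSp.yon S).obj V) (ha : AlgSp.RepWith @IsImmersion a) : AlgSp.IsQuasiCompactMor a := by
  have hrep : AlgSp.Representable a := ha.rep
  let V' : Over S := hrep.pullback (𝟙 ((AlgSp.yon S).obj V))
  let k : V' ⟶ V := hrep.snd (𝟙 _)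
  let φ : (AlgSp.yon S).obj V' ⟶ G := hrep.fst (𝟙 _)
  have sq : IsPullback φ ((AlgSp.yon S).map k) a (𝟙 _) := hrep.isPullback (𝟙 _)
  have hφ : IsIso φ := sq.isIso_fst_of_isIso
  have hk : IsImmersion k.left := ha.property_snd (𝟙 _)
  have hkq : QuasiCompact k.left := quasiCompact_of_isImmersion_of_isLocallyNoetherian k.left
  have h1 : AlgSp.RepWith @QuasiCompact ((AlgSp.yon S).map k) :=
    (AlgSp.repWith_yon_map_iff @QuasiCompact k).2 hkq
  have sq2 : IsPullback (inv φ) a ((AlgSp.yon S).map k) (𝟙 _) := by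
    refine IsPullback.of_horiz_isIso ⟨?_⟩
    rw [IsIso.inv_comp_eq, ← Category.assoc, sq.w, Category.comp_id, Category.comp_id]
  exact Groth.Agent.H52.isQuasiCompactMor_of_repWith_quasiCompact a
    ((AlgSp.RepWith @QuasiCompact).of_isPullback sq2 h1)

/-- An immersion into a locally Noetherian algebraic stack is quasi-compact. -/
theorem isQuasiCompactMor_of_isImm
    (h𝒳 : AlgSt.IsAlgStack Scheme.fppfPrecoverage 𝒳) (h𝒴 : AlgSt.IsAlgStack Scheme.fppfPrecoverage 𝒴)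
    (j : 𝒳 ⥤ᵇ 𝒴) (hj : AlgSt.IsImm j)
    (hN : AlgSt.SmoothLocally (fun T ↦ IsLocallyNoetherian T) 𝒴) :
    AlgSt.IsQuasiCompactMor Scheme.fppfPrecoverage j := by
  obtain ⟨V, y, hy1, hy2⟩ := h𝒴.atlas
  have hV : IsLocallyNoetherian V.left := hN V y hy1
  obtain ⟨G₀, e₀, he₀, ha₀⟩ := hj V y
  let VV : AlgSp.Space S := ⟨(AlgSp.yon S).obj V, AlgSp.IsAlgSpace.yon_obj V⟩
  let a₀ : G₀.obj ⟶ VV.obj := AlgSt.spMapOfOver (BasedFunctor.comp e₀ (fpFst y j))
  have hq : AlgSp.IsQuasiCompactMor a₀ := isQuasiCompactMor_of_repWith_isImmersion a₀ ha₀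
  have h1 : AlgSt.RepByAlgSpWith AlgSp.IsQuasiCompactMor (AlgSt.ofSpMap a₀) :=
    Groth.Agent.Lib.Helper66.AlgStLocQSq.repByAlgSpWith_ofSpMap_of_prop _ stableBC_isQuasiCompactMor
      (V := G₀) (Z := VV) a₀ hq
  have h2 : AlgSt.RepByAlgSpWith AlgSp.IsQuasiCompactMor (fpFst y j) :=
    repByAlgSpWith_of_square' _ (fpFst y j) (AlgSt.ofSpMap a₀) e₀ (AlgSt.toOverCat V) he₀
      (toOverCat_isEquivOver V) (isoSpMapOfOver (BasedFunctor.comp e₀ (fpFst y j))).symm h1
  have hfib : IsFibGrpd (fp y j).p :=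
    isFibGrpd_fp y j (isFibGrpd_overForget V) h𝒳.isStack.1 h𝒴.isStack.1
  have h3 : AlgSt.IsQuasiCompactMor Scheme.fppfPrecoverage (fpFst y j) := fun 𝒯 h𝒯 hqc h =>
    Groth.Agent.Lib.Helper66.AlgStQC.isQuasiCompact_fp_of_repByAlgSpWith hfib (isFibGrpd_overForget V)
      h𝒯.isStack.1 (fpFst y j) h2 hqc h
  exact Groth.Agent.Lib.Helper66.AlgStQC4.isQuasiCompactMor_of_fpFst h𝒳 h𝒴 (isAlgStack_overCat V) j y
    (repByAlgSpWith_mono (locP_mono smooth_le_flat) y hy1)
    (repByAlgSpWith_mono (locP_mono smooth_le_lfp) y hy1) hy2 h3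

end Groth.Agent.Lib.Helper66.AlgStImmNoeth
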