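import Groth.Agent.Lib.Helper66.AlgStImmNoeth
import Groth.Agent.Lib.Helper66.AlgStQC6
import Groth.Agent.H52.Basic

/-!
# Immersions of algebraic stacks are quasi-separated; substacks of Noetherian stacks
-/

set_option autoImplicit false
set_option backward.isDefEq.respectTransparency false
set_option backward.isDefEq.respectTransparency.types false
universe u

open CategoryTheory CategoryTheory.Limits AlgebraicGeometry Opposite

namespace Groth.Agent.Lib.Helper66.AlgStImmQS

open FibCat Groth.Agent.Lib.Helper31 Groth.Agent.Lib.Helper65 Groth.Agent.Lib.Helper66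
open Groth.Agent.Lib.Helper66.AlgStDiagComp Groth.Agent.Lib.Helper66.AlgStPFacts
open Groth.Agent.Lib.Helper66.AlgStBridge

variable {S : Scheme.{u}}

/-- the diagonal of a monomorphism of sheaves is quasi-compact and quasi-separated -/
theorem qcqs_diagonal_of_mono {F G : AlgSp.Sp S} (a : F ⟶ G) [Mono a] :
    (AlgSp.IsQuasiCompactMor ⊓ AlgSp.IsQuasiSeparatedMor) (pullback.diagonal a) := by
  have h1 : IsIso (pullback.diagonal a) := (pullback.isIso_diagonal_iff a).mpr inferInstance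
  refine ⟨Groth.Agent.H52.isQuasiCompactMor_of_repWith_quasiCompact _
    (Groth.Agent.H52.repWith_of_isIso _ _), ?_⟩
  have h2 : IsIso (pullback.diagonal (pullback.diagonal a)) :=
    (pullback.isIso_diagonal_iff _).mpr inferInstance
  exact Groth.Agent.H52.repWith_of_isIso _ _

variable {𝒳 𝒴 : AlgSt.Cat S}

/-- an immersion of stacks is quasi-separated -/
theorem isQuasiSeparatedMor_of_isImm (j : 𝒳 ⥤ᵇ 𝒴) (hj : AlgSt.IsImm j) :
    AlgSt.IsQuasiSeparatedMor j :=
  repByAlgSpWith_diag_of_rep _ (AlgSp.RepWith @IsImmersion) stableBC_qcqs j hj (fun V T a ha => by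
    have : Mono a := Groth.Agent.H52.mono_of_repWith a @IsImmersion
      (fun _ _ g hg => by
        have : IsImmersion g := hg
        infer_instance) ha
    exact qcqs_diagonal_of_mono a)

/-- the source of an immersion into a stack quasi-separated over `S` is quasi-separated over `S` -/
theorem isQuasiSeparatedOver_of_isImm (h𝒳 : IsFibGrpd 𝒳.p) (h𝒴 : IsFibGrpd 𝒴.p)
    (j : 𝒳 ⥤ᵇ 𝒴) (hj : AlgSt.IsImm j) (hY : AlgSt.IsQuasiSeparatedOver 𝒴) :
    AlgSt.IsQuasiSeparatedOver 𝒳 := by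
  have hπ := isQuasiSeparatedMor_of_isImm j hj
  have h1 : AlgSt.RepByAlgSpWith (AlgSp.IsQuasiCompactMor ⊓ AlgSp.IsQuasiSeparatedMor)
      (FibCat.diag (BasedFunctor.comp j (toSelf 𝒴))) :=
    repByAlgSpWith_diag_comp _ stableBC_qcqs stableComp_qcqs isLocalOnBase_fppf_qcqs h𝒳 h𝒴
      j (toSelf 𝒴) hπ hY
  exact (repByAlgSpWith_diag_of_equiv _ (F := FibCat.toSelf 𝒳)
    (F' := BasedFunctor.comp j (toSelf 𝒴))
    (BasedFunctor.id _) (BasedFunctor.id _) (isEquivOver_id _) (isEquivOver_id _)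
    (toSelfIso j)).1 h1

/-- the source of a quasi-compact morphism to a quasi-compact stack is quasi-compact -/
theorem isQuasiCompact_of_isQuasiCompactMor (h𝒴 : AlgSt.IsAlgStack Scheme.fppfPrecoverage 𝒴)
    (j : 𝒳 ⥤ᵇ 𝒴) (hj : AlgSt.IsQuasiCompactMor Scheme.fppfPrecoverage j)
    (hY : AlgSt.IsQuasiCompact 𝒴) : AlgSt.IsQuasiCompact 𝒳 := by
  have h1 := hj 𝒴 h𝒴 hY (BasedFunctor.id 𝒴)
  exact Groth.Agent.Lib.Helper66.AlgStEquiv.isQuasiCompact_of_equivOver
    (fpSnd (BasedFunctor.id 𝒴) j) (fpSnd_isEquivOver _ _ (isEquivOver_id _)) h1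

end Groth.Agent.Lib.Helper66.AlgStImmQS
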