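import Groth.Agent.Lib.Helper66.AlgStBridgeQS
import Groth.Agent.Lib.Helper66.AlgStDiagRep
import Groth.Agent.Lib.Helper66.AlgStSect
import Groth.Agent.Lib.Helper31.InertiaFP

/-!
# The relative inertia, its neutral section, and the first and second diagonals
-/

set_option autoImplicit false
set_option backward.isDefEq.respectTransparency false
set_option backward.isDefEq.respectTransparency.types false
universe u

open CategoryTheory CategoryTheory.Limits AlgebraicGeometry Opposite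

namespace Groth.Agent.Lib.Helper66.AlgStInertia

open FibCat Groth.Agent.Lib.Helper31 Groth.Agent.Lib.Helper65
open Groth.Agent.Lib.Helper66.AlgStBridge

variable {S : Scheme.{u}} {𝒳 𝒴 : AlgSt.Cat S}

/-- the neutral section corresponds to the second diagonal -/
def neutralIso (f : 𝒳 ⥤ᵇ 𝒴) :
    BasedFunctor.comp (FibCat.inertiaNeutral f) (InertiaFP.toFP f) ≅
      BasedFunctor.comp (BasedFunctor.id _) (FibCat.diag (FibCat.diag f)) :=
  Groth.Agent.Lib.Helper90.LiftSqFp.fpIsoMk (Iso.refl _) (Iso.refl _) (fun w => by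
    apply ObjectProperty.hom_ext
    apply CategoricalPullback.hom_ext
    · change 𝟙 w ≫ 𝟙 w = 𝟙 w ≫ 𝟙 w
      rfl
    · change 𝟙 w ≫ 𝟙 w = 𝟙 w ≫ 𝟙 w
      rfl)

/-- `I_{𝒳/𝒴} ⟶ 𝒳` is a base change of the diagonal. -/
theorem repByAlgSpWith_inertiaToBase (P : MorphismProperty (AlgSp.Sp S)) (f : 𝒳 ⥤ᵇ 𝒴)
    (h : AlgSt.RepByAlgSpWith P (FibCat.diag f)) : AlgSt.RepByAlgSpWith P (FibCat.inertiaToBase f) :=
  repByAlgSpWith_of_square P (fpFst (FibCat.diag f) (FibCat.diag f)) (FibCat.inertiaToBase f)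
    (InertiaFP.toFP f) (BasedFunctor.id _) (InertiaFP.toFP_isEquivOver f) (isEquivOver_id _) (Iso.refl _)
    (repByAlgSpWith_fpFst P (FibCat.diag f) (FibCat.diag f) h)

/-- the neutral section has `P` iff the second diagonal has `P` -/
theorem repByAlgSpWith_inertiaNeutral_iff (P : MorphismProperty (AlgSp.Sp S)) (f : 𝒳 ⥤ᵇ 𝒴) :
    AlgSt.RepByAlgSpWith P (FibCat.diag (FibCat.diag f)) ↔
      AlgSt.RepByAlgSpWith P (FibCat.inertiaNeutral f) :=
  repByAlgSpWith_iff_of_square P (FibCat.diag (FibCat.diag f)) (FibCat.inertiaNeutral f)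
    (BasedFunctor.id _) (InertiaFP.toFP f) (isEquivOver_id _) (InertiaFP.toFP_isEquivOver f) (neutralIso f)

/-- the neutral section is a section of `I_{𝒳/𝒴} ⟶ 𝒳`, hence inherits properties of its diagonal -/
theorem repByAlgSpWith_inertiaNeutral_of_diag (P : MorphismProperty (AlgSp.Sp S)) (f : 𝒳 ⥤ᵇ 𝒴)
    (h : AlgSt.RepByAlgSpWith P (FibCat.diag (FibCat.inertiaToBase f))) :
    AlgSt.RepByAlgSpWith P (FibCat.inertiaNeutral f) :=
  Groth.Agent.Lib.Helper66.AlgStSect.repByAlgSpWith_section P (FibCat.inertiaToBase f)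
    (FibCat.inertiaNeutral f) (Iso.refl _) h

end Groth.Agent.Lib.Helper66.AlgStInertia
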