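import Groth.Agent.Lib.Helper66.AlgStQC5
import Groth.Agent.Lib.Helper65.RepDesc3

/-!
# A representable fppf cover from a flat, lfp, surjective morphism of algebraic stacks (LocQ form)
-/

set_option autoImplicit false
set_option backward.isDefEq.respectTransparency false
set_option backward.isDefEq.respectTransparency.types false
universe u

open CategoryTheory CategoryTheory.Limits AlgebraicGeometry Opposite

namespace Groth.Agent.Lib.Helper66.AlgStLocQCover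

open FibCat Groth.Agent.Lib.Helper31 Groth.Agent.Lib.Helper65 Groth.Agent.Lib.Helper66
open Groth.Agent.Lib.Helper66.AlgStQC5

variable {S : Scheme.{u}} {𝒳 𝒴 𝒵 : AlgSt.Cat S}

/-- From `z : 𝒵 ⟶ 𝒴` flat and locally finitely presented (each read on one chart square) and surjective, an
algebraic stack `𝒲` with `p : 𝒲 ⟶ 𝒵` such that `p ≫ z` is representable by algebraic spaces, flat, locally
finitely presented and surjective. -/
theorem exists_rep_cover_of_locQ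
    (h𝒴 : AlgSt.IsAlgStack Scheme.fppfPrecoverage 𝒴)
    (h𝒵 : AlgSt.IsAlgStack Scheme.fppfPrecoverage 𝒵) (z : 𝒵 ⥤ᵇ 𝒴)
    (hz₁ : AlgSt.LocQ (AlgSp.LocP @Flat) z)
    (hz₂ : AlgSt.LocQ (AlgSp.LocP @LocallyOfFinitePresentation) z)
    (hz₃ : AlgSt.IsSurjective z) :
    ∃ (𝒲 : AlgSt.Cat S) (_ : AlgSt.IsAlgStack Scheme.fppfPrecoverage 𝒲) (p : 𝒲 ⥤ᵇ 𝒵),
      AlgSt.RepByAlgSpWith (AlgSp.LocP @Flat) (BasedFunctor.comp p z) ∧
      AlgSt.RepByAlgSpWith (AlgSp.LocP @LocallyOfFinitePresentation) (BasedFunctor.comp p z) ∧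
      AlgSt.RepByAlgSpWith AlgSp.IsSurjectiveMor (BasedFunctor.comp p z) := by
  obtain ⟨U₁, V₁, x₁, y₁, k₁, α₁, hx₁, hx₁s, hy₁, hk₁⟩ := hz₁
  obtain ⟨U₂, V₂, x₂, y₂, k₂, α₂, hx₂, hx₂s, hy₂, hk₂⟩ := hz₂
  have hU₁ : AlgSt.IsAlgStack Scheme.fppfPrecoverage (FibCat.overCat U₁) := isAlgStack_overCat U₁
  have hU₂ : AlgSt.IsAlgStack Scheme.fppfPrecoverage (FibCat.overCat U₂) := isAlgStack_overCat U₂
  have hW : AlgSt.IsAlgStack Scheme.fppfPrecoverage (fp x₁ x₂) :=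
    Groth.Agent.S12763.result h𝒵.isStack h𝒵.diag hU₁ hU₂ x₁ x₂
  have hWf := hW.isStack.1
  let p₁ : fp x₁ x₂ ⥤ᵇ FibCat.overCat U₁ := fpFst x₁ x₂
  let p₂ : fp x₁ x₂ ⥤ᵇ FibCat.overCat U₂ := fpSnd x₁ x₂
  let p : fp x₁ x₂ ⥤ᵇ 𝒵 := BasedFunctor.comp p₁ x₁
  let w : fp x₁ x₂ ⥤ᵇ 𝒴 := BasedFunctor.comp p z
  have hp₁ : AlgSt.RepByAlgSpWith (AlgSp.LocP @Smooth) p₁ := repByAlgSpWith_fpFst _ x₂ x₁ hx₂
  have hp₁s : AlgSt.RepByAlgSpWith AlgSp.IsSurjectiveMor p₁ := repByAlgSpWith_fpFst _ x₂ x₁ hx₂s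
  have hp₂ : AlgSt.RepByAlgSpWith (AlgSp.LocP @Smooth) p₂ :=
    Groth.Agent.Lib.Helper66.AlgStBC.repByAlgSpWith_fpSnd _ x₂ x₁ hx₁
  have hfl := AlgStPFacts.stableBC_locP (S := S) @Flat (Or.inr (Or.inr (Or.inl rfl)))
  -- flat
  have hw₁ : AlgSt.RepByAlgSpWith (AlgSp.LocP @Flat) w := by
    have h1 : AlgSt.RepByAlgSpWith (AlgSp.LocP @Flat) (BasedFunctor.comp (AlgSt.overMap k₁) y₁) :=
      repByAlgSpWith_overMap_comp _ (Or.inr (Or.inr (Or.inl rfl))) isLocalOnBase_fppf_locP_flat k₁ hk₁ y₁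
        (repByAlgSpWith_mono (locP_mono smooth_le_flat) y₁ hy₁)
    have h2 : AlgSt.RepByAlgSpWith (AlgSp.LocP @Flat)
        (BasedFunctor.comp p₁ (BasedFunctor.comp (AlgSt.overMap k₁) y₁)) :=
      repByAlgSpWith_comp _ hfl (AlgStPFacts.stableComp_locP _ (Or.inr (Or.inr (Or.inl rfl))))
        isLocalOnBase_fppf_locP_flat hWf (isFibGrpd_overForget U₁) p₁ _
        (repByAlgSpWith_mono (locP_mono smooth_le_flat) p₁ hp₁) h1
    exact Groth.Agent.Lib.Helper66.RepWithPDet.repByAlgSpWith_of_iso _ (bWhiskerLeftIso p₁ α₁) h2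
  -- lfp
  have hw₂ : AlgSt.RepByAlgSpWith (AlgSp.LocP @LocallyOfFinitePresentation) w := by
    have h1 : AlgSt.RepByAlgSpWith (AlgSp.LocP @LocallyOfFinitePresentation)
        (BasedFunctor.comp (AlgSt.overMap k₂) y₂) :=
      repByAlgSpWith_overMap_comp _ (Or.inr (Or.inl rfl)) isLocalOnBase_fppf_locP_lfp k₂ hk₂ y₂
        (repByAlgSpWith_mono (locP_mono smooth_le_lfp) y₂ hy₂)
    have h2 : AlgSt.RepByAlgSpWith (AlgSp.LocP @LocallyOfFinitePresentation)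
        (BasedFunctor.comp p₂ (BasedFunctor.comp (AlgSt.overMap k₂) y₂)) :=
      repByAlgSpWith_comp _ (AlgStPFacts.stableBC_locP _ (Or.inr (Or.inl rfl)))
        (AlgStPFacts.stableComp_locP _ (Or.inr (Or.inl rfl)))
        isLocalOnBase_fppf_locP_lfp hWf (isFibGrpd_overForget U₂) p₂ _
        (repByAlgSpWith_mono (locP_mono smooth_le_lfp) p₂ hp₂) h1
    have i : w ≅ BasedFunctor.comp p₂ (BasedFunctor.comp (AlgSt.overMap k₂) y₂) :=
      bWhiskerRightIso (fpIso x₁ x₂) z ≪≫ bWhiskerLeftIso p₂ α₂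
    exact Groth.Agent.Lib.Helper66.RepWithPDet.repByAlgSpWith_of_iso _ i h2
  -- surjective
  have hw₃ : AlgSt.RepByAlgSpWith AlgSp.IsSurjectiveMor w := by
    have hrep : AlgSt.RepByAlgSp1 w := repByAlgSp1_of_repByAlgSpWith hw₁
    refine repByAlgSpWith_isSurjectiveMor_of_isSurjective hWf h𝒴.isStack.1 w hrep ?_
    intro t
    obtain ⟨t₁, rfl⟩ := hz₃ t
    obtain ⟨t₂, rfl⟩ := isSurjective_of_repByAlgSpWith (isFibGrpd_overForget U₁) h𝒵.isStack.1 x₁ hx₁s t₁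
    obtain ⟨t₃, rfl⟩ := isSurjective_of_repByAlgSpWith hWf (isFibGrpd_overForget U₁) p₁ hp₁s t₂
    exact ⟨t₃, by rw [points_map_comp, points_map_comp]⟩
  exact ⟨fp x₁ x₂, hW, p, hw₁, hw₂, hw₃⟩

/-- S12995: a property fppf local on the base and stable under base change can be checked after base change along a
flat, lfp, surjective morphism of algebraic stacks. -/
theorem repByAlgSpWith_iff_fpFst_of_locQ (P : MorphismProperty (AlgSp.Sp S)) (hPb : StableBC P)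
    (hP : AlgSp.IsLocalOnBase AlgSp.IsFppfCover P)
    (h𝒳 : AlgSt.IsAlgStack Scheme.fppfPrecoverage 𝒳)
    (h𝒴 : AlgSt.IsAlgStack Scheme.fppfPrecoverage 𝒴)
    (h𝒵 : AlgSt.IsAlgStack Scheme.fppfPrecoverage 𝒵) (f : 𝒳 ⥤ᵇ 𝒴) (hf : AlgSt.RepByAlgSp1 f) (z : 𝒵 ⥤ᵇ 𝒴)
    (hz₁ : AlgSt.LocQ (AlgSp.LocP @Flat) z)
    (hz₂ : AlgSt.LocQ (AlgSp.LocP @LocallyOfFinitePresentation) z)
    (hz₃ : AlgSt.IsSurjective z) :
    AlgSt.RepByAlgSpWith P f ↔ AlgSt.RepByAlgSpWith P (fpFst z f) := by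
  constructor
  · intro h
    exact repByAlgSpWith_fpFst P f z h
  · intro h
    obtain ⟨𝒲, hW, p, hw₁, hw₂, hw₃⟩ := exists_rep_cover_of_locQ h𝒴 h𝒵 z hz₁ hz₂ hz₃
    have h1 : AlgSt.RepByAlgSpWith P (fpFst p (fpFst z f)) := repByAlgSpWith_fpFst P (fpFst z f) p h
    have h2 : AlgSt.RepByAlgSpWith P (fpFst (BasedFunctor.comp p z) f) := by
      obtain ⟨Ψ, hΨ, -, ⟨i₂⟩⟩ := exists_inverse_equivOver (fpPasteFst p z f) (fpPasteFst_isEquivOver p z f)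
      have j : BasedFunctor.comp Ψ (fpFst p (fpFst z f)) ≅ fpFst (BasedFunctor.comp p z) f :=
        bWhiskerRightIso i₂ (fpFst (BasedFunctor.comp p z) f)
      exact repByAlgSpWith_of_square P (fpFst p (fpFst z f)) (fpFst (BasedFunctor.comp p z) f) Ψ
        (BasedFunctor.id _) hΨ (isEquivOver_id _) j.symm h1
    exact (repByAlgSpWith_iff_fpFst_of_fppf h𝒳.isStack.1 h𝒴.isStack.1 hW.isStack.1 hW.atlas P hPb hP f hf
      (BasedFunctor.comp p z) hw₁ hw₂ hw₃).2 h2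

end Groth.Agent.Lib.Helper66.AlgStLocQCover
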