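import Groth.Agent.Lib.Helper66.AlgStLocQLfp

/-!
# The diagonal of a locally finite type morphism of algebraic stacks is locally of finite presentation
-/

set_option autoImplicit false
set_option backward.isDefEq.respectTransparency false
set_option backward.isDefEq.respectTransparency.types false
universe u

open CategoryTheory CategoryTheory.Limits AlgebraicGeometry Opposite

namespace Groth.Agent.Lib.Helper66.AlgStLocQLfp

open FibCat Groth.Agent.Lib.Helper31 Groth.Agent.Lib.Helper65 Groth.Agent.Lib.Helper66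
  Groth.Agent.Lib.Helper66.AlgStLocQSq Groth.Agent.Lib.Helper65.LocQFlat
  Groth.Agent.Lib.Helper66.AlgSpSmLocalLft

variable {S : Scheme.{u}} {𝒳 𝒴 𝒵 : AlgSt.Cat S}

/-- The identity is locally of finite presentation. -/
theorem locQ_lfp_id (h𝒳 : AlgSt.IsAlgStack Scheme.fppfPrecoverage 𝒳) :
    AlgSt.LocQ (AlgSp.LocP @LocallyOfFinitePresentation) (BasedFunctor.id 𝒳) :=
  locQ_of_repByAlgSpWith _ isSmoothLocalST_locP_lfp h𝒳.isStack.1 h𝒳.isStack.1 h𝒳.atlas _
    (repByAlgSpWith_mono (locP_mono smooth_le_lfp) _ (repByAlgSpWith_smooth_id 𝒳))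

/-- S13006: the diagonal of a locally finite type morphism is locally of finite presentation. -/
theorem locQ_lfp_diag
    (h𝒳 : AlgSt.IsAlgStack Scheme.fppfPrecoverage 𝒳) (h𝒴 : AlgSt.IsAlgStack Scheme.fppfPrecoverage 𝒴)
    (f : 𝒳 ⥤ᵇ 𝒴) (hf : AlgSt.LocQ (AlgSp.LocP @LocallyOfFiniteType) f) :
    AlgSt.LocQ (AlgSp.LocP @LocallyOfFinitePresentation) (FibCat.diag f) := by
  have hfp : AlgSt.IsAlgStack Scheme.fppfPrecoverage (fp f f) :=
    Groth.Agent.S12763.result h𝒴.isStack h𝒴.diag h𝒳 h𝒳 f f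
  have h1 : AlgSt.LocQ (AlgSp.LocP @LocallyOfFiniteType) (fpFst f f) :=
    locQ_fpFst _ isSmoothLocalST_locP_lft (Groth.Agent.Lib.Helper65.stableBC_locP _ (Or.inl rfl))
      h𝒳 h𝒴 h𝒳 f f hf
  have h2 : AlgSt.LocQ (AlgSp.LocP @LocallyOfFinitePresentation)
      (BasedFunctor.comp (FibCat.diag f) (fpFst f f)) := locQ_lfp_id h𝒳
  exact locQ_lfp_of_comp h𝒳 hfp h𝒳 (FibCat.diag f) (fpFst f f) h2 h1

end Groth.Agent.Lib.Helper66.AlgStLocQLfp
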