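import Groth.Agent.Lib.Helper65.SourceLocal
import Groth.Agent.Lib.Helper65.SmoothLocal2
import Groth.Agent.Lib.Helper65.RepDesc3
import Groth.Agent.Lib.Helper66.AlgStQC5
import Groth.Agent.Lib.Helper66.AlgStBridgeConv
import Groth.Agent.Lib.Helper54.LocalST

/-!
# Properties read on one chart square versus representable morphisms with the property
-/

set_option autoImplicit false
set_option backward.isDefEq.respectTransparency false
set_option backward.isDefEq.respectTransparency.types false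
universe u

open CategoryTheory CategoryTheory.Limits AlgebraicGeometry Opposite

namespace Groth.Agent.Lib.Helper66.AlgStLocQSq

open FibCat Groth.Agent.Lib.Helper31 Groth.Agent.Lib.Helper65 Groth.Agent.Lib.Helper66

variable {S : Scheme.{u}}

section SpLevel

variable {P : MorphismProperty (AlgSp.Sp S)}

/-- A property smooth local on source-and-target is stable under postcomposition with smooth morphisms. -/
theorem postcomp_smooth (hP : AlgSp.IsSmoothLocalST P) {X Y Z : AlgSp.Sp S} (hX : AlgSp.IsAlgSpace X)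
    (hY : AlgSp.IsAlgSpace Y) (hZ : AlgSp.IsAlgSpace Z) (f : X ⟶ Y) (g : Y ⟶ Z) (hf : P f)
    (hg : AlgSp.LocP @Smooth g) : P (f ≫ g) := by
  rw [hP.locality hX hZ]
  intro x
  exact ⟨X, Y, 𝟙 X, g, f, x, hX, hY, Groth.Agent.Lib.Helper54.locP_smooth_id X, hg, Category.id_comp _,
    AlgSp.Points.map_id x, hf⟩

/-- A property smooth local on source-and-target is local on the source for smooth coverings. -/
theorem isLocalOnSource_sm (hP : AlgSp.IsSmoothLocalST P) : AlgSp.IsLocalOnSource AlgSp.IsSmCover P := by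
  intro ι X Xi g hX hXi hcov Y f hY
  constructor
  · intro hf i
    exact hP.precomp (hXi i) hX hY (g i) f (hcov.1 i) hf
  · intro h
    rw [hP.locality hX hY]
    intro x
    obtain ⟨i, v, hv⟩ := hcov.2 x
    exact ⟨Xi i, Y, g i, 𝟙 Y, g i ≫ f, v, hXi i, hY, hcov.1 i, Groth.Agent.Lib.Helper54.locP_smooth_id Y,
      (Category.comp_id _).symm, hv, h i⟩

end SpLevel

section Mixed

variable {𝒳 𝒴 𝒵 : AlgSt.Cat S}

/-- Composition of a morphism with `P` and a morphism with `Q`, when such composites have `R`. -/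
theorem repByAlgSpWith_comp_mixed (P Q R : MorphismProperty (AlgSp.Sp S)) (hPb : StableBC P)
    (hP : AlgSp.IsLocalOnBase AlgSp.IsFppfCover P)
    (hc : ∀ ⦃X Y Z : AlgSp.Sp S⦄, AlgSp.IsAlgSpace X → AlgSp.IsAlgSpace Y → AlgSp.IsAlgSpace Z →
      ∀ (a : X ⟶ Y) (b : Y ⟶ Z), P a → Q b → R (a ≫ b))
    (h𝒳 : IsFibGrpd 𝒳.p) (h𝒴 : IsFibGrpd 𝒴.p)
    (f : 𝒳 ⥤ᵇ 𝒴) (g : 𝒴 ⥤ᵇ 𝒵) (hf : AlgSt.RepByAlgSpWith P f) (hg : AlgSt.RepByAlgSpWith Q g) :
    AlgSt.RepByAlgSpWith R (BasedFunctor.comp f g) := by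
  intro U z
  obtain ⟨G, eG, heG, hb⟩ := hg U z
  let yG : AlgSt.ofSp G.obj ⥤ᵇ 𝒴 := BasedFunctor.comp eG (fpSnd z g)
  obtain ⟨V, a, E, hE, ⟨i⟩, hPa⟩ := exists_rep_ofSp_of_repByAlgSpWith P hPb hP h𝒳 h𝒴 f hf G yG
  let Φ : fp yG f ⥤ᵇ fp (fpSnd z g) f :=
    fpMap (F := yG) (G := f) (F' := fpSnd z g) (G' := f) eG (BasedFunctor.id _) (BasedFunctor.id _)
      (Iso.refl _) (Iso.refl _)
  have hΦ : IsEquivOver Φ := fpMap_isEquivOver _ _ _ _ _ heG (isEquivOver_id _) (isEquivOver_id _)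
  let Ψ : AlgSt.ofSp V.obj ⥤ᵇ fp z (BasedFunctor.comp f g) :=
    BasedFunctor.comp (BasedFunctor.comp E Φ) (fpPasteSnd z g f)
  have hΨ : IsEquivOver Ψ :=
    isEquivOver_comp _ _ (isEquivOver_comp E Φ hE hΦ) (fpPasteSnd_isEquivOver z g f)
  refine ⟨V, Ψ, hΨ, ?_⟩
  have j : BasedFunctor.comp Ψ (fpFst z (BasedFunctor.comp f g)) ≅
      BasedFunctor.comp (AlgSt.ofSpMap a.hom) (BasedFunctor.comp eG (fpFst z g)) :=
    bWhiskerRightIso i (BasedFunctor.comp eG (fpFst z g))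
  rw [spMapOfOver_congr j, spMapOfOver_ofSpMap_comp]
  exact hc V.property G.property (AlgSp.IsAlgSpace.yon_obj U) a.hom _ hPa hb

/-- A morphism of schemes with `P` followed by a smooth chart, for `P` smooth local on source-and-target. -/
theorem repByAlgSpWith_overMap_comp_of_smoothLocal (P : MorphismProperty (AlgSp.Sp S))
    (hP : AlgSp.IsSmoothLocalST P) (hPb : StableBC P) (hPl : AlgSp.IsLocalOnBase AlgSp.IsFppfCover P)
    {U V : Over S} (h : U ⟶ V) (hh : P ((AlgSp.yon S).map h))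
    (y : FibCat.overCat V ⥤ᵇ 𝒴) (hy : AlgSt.RepByAlgSpWith (AlgSp.LocP @Smooth) y) :
    AlgSt.RepByAlgSpWith P (BasedFunctor.comp (AlgSt.overMap h) y) := by
  let VV : AlgSp.Space S := ⟨(AlgSp.yon S).obj V, AlgSp.IsAlgSpace.yon_obj V⟩
  have h1 : AlgSt.RepByAlgSpWith P (chartFunctor ((AlgSp.yon S).map h)) :=
    repByAlgSpWith_of_prop _ hPb VV U _ hh
  have h2 := repByAlgSpWith_comp_mixed P (AlgSp.LocP @Smooth) P hPb hPl
    (fun X Y Z hX hY hZ a b ha hb => postcomp_smooth hP hX hY hZ a b ha hb)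
    (isFibGrpd_overForget U) (Stk.isFibGrpd_ofPsh _) (chartFunctor ((AlgSp.yon S).map h))
    (BasedFunctor.comp (AlgSt.toOverCat V) y) h1 (repByAlgSpWith_toOverCat_comp _ y hy)
  exact h2

end Mixed

section Rep

variable {𝒳 𝒴 : AlgSt.Cat S}

/-- For a representable morphism, the property read on one chart square gives the property on all base changes. -/
theorem repByAlgSpWith_of_locQ (P : MorphismProperty (AlgSp.Sp S)) (hP : AlgSp.IsSmoothLocalST P)
    (hPb : StableBC P) (hPl : AlgSp.IsLocalOnBase AlgSp.IsFppfCover P)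
    (h𝒳 : IsFibGrpd 𝒳.p) (h𝒴 : IsFibGrpd 𝒴.p)
    (f : 𝒳 ⥤ᵇ 𝒴) (hf : AlgSt.RepByAlgSp1 f) (h : AlgSt.LocQ P f) : AlgSt.RepByAlgSpWith P f := by
  obtain ⟨U, V, x, y, k, α, hx, hxs, hy, hk⟩ := h
  have h1 : AlgSt.RepByAlgSpWith P (BasedFunctor.comp (AlgSt.overMap k) y) :=
    repByAlgSpWith_overMap_comp_of_smoothLocal P hP hPb hPl k hk y hy
  have h2 : AlgSt.RepByAlgSpWith P (BasedFunctor.comp x f) :=
    Groth.Agent.Lib.Helper66.RepWithPDet.repByAlgSpWith_of_iso _ α h1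
  exact repByAlgSpWith_of_comp_of_cover AlgSp.IsSmCover P hPb (isLocalOnSource_sm hP) x f hf
    (fun G g => exists_rep_cover (AlgSp.LocP @Smooth) stableBC_locP_smooth isLocalOnBase_fppf_locP_smooth
      (isFibGrpd_overForget U) h𝒳 x hx hxs G g) h2

end Rep

end Groth.Agent.Lib.Helper66.AlgStLocQSq
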