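import Groth.Agent.Lib.Helper66.AlgStLocQSq9

/-!
# Descent of a property read on a chart square along a flat, lfp, surjective morphism of algebraic stacks
-/

set_option autoImplicit false
set_option backward.isDefEq.respectTransparency false
set_option backward.isDefEq.respectTransparency.types false
universe u

open CategoryTheory CategoryTheory.Limits AlgebraicGeometry Opposite

namespace Groth.Agent.Lib.Helper66.AlgStLocQSq

open FibCat Groth.Agent.Lib.Helper31 Groth.Agent.Lib.Helper65 Groth.Agent.Lib.Helper66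
open Groth.Agent.Lib.Helper66.AlgStQC5

variable {S : Scheme.{u}} {𝒳 𝒴 𝒵 : AlgSt.Cat S}

theorem locQ_of_fpFst_fppf (P : MorphismProperty (AlgSp.Sp S)) (hP : AlgSp.IsSmoothLocalST P)
    (hPl : AlgSp.IsLocalOnBase AlgSp.IsFppfCover P)
    (h𝒳 : AlgSt.IsAlgStack Scheme.fppfPrecoverage 𝒳) (h𝒴 : AlgSt.IsAlgStack Scheme.fppfPrecoverage 𝒴)
    (h𝒵 : AlgSt.IsAlgStack Scheme.fppfPrecoverage 𝒵) (f : 𝒳 ⥤ᵇ 𝒴) (z : 𝒵 ⥤ᵇ 𝒴)
    (hz₁ : AlgSt.LocQ (AlgSp.LocP @Flat) z)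
    (hz₂ : AlgSt.LocQ (AlgSp.LocP @LocallyOfFinitePresentation) z)
    (hz₃ : AlgSt.IsSurjective z)
    (hf : AlgSt.LocQ P (fpFst z f)) : AlgSt.LocQ P f := by
  obtain ⟨𝒲, hW, p, hp, hps, hw₁, hw₂⟩ :=
    Groth.Agent.Lib.Helper66.AlgStLocQCover2.exists_smooth_cover_of_locQ @Flat @LocallyOfFinitePresentation
      (Or.inr (Or.inr (Or.inl rfl))) (Or.inr (Or.inl rfl)) smooth_le_flat smooth_le_lfp
      isLocalOnBase_fppf_locP_flat isLocalOnBase_fppf_locP_lfp h𝒵 z hz₁ hz₂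
  have hw₃ : AlgSt.RepByAlgSpWith AlgSp.IsSurjectiveMor (BasedFunctor.comp p z) := by
    have hrep : AlgSt.RepByAlgSp1 (BasedFunctor.comp p z) := repByAlgSp1_of_repByAlgSpWith hw₁
    refine repByAlgSpWith_isSurjectiveMor_of_isSurjective hW.isStack.1 h𝒴.isStack.1 _ hrep ?_
    intro t
    obtain ⟨t₁, rfl⟩ := hz₃ t
    obtain ⟨t₂, rfl⟩ := isSurjective_of_repByAlgSpWith hW.isStack.1 h𝒵.isStack.1 p hps t₁
    exact ⟨t₂, by rw [points_map_comp]⟩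
  have hfzf : AlgSt.IsAlgStack Scheme.fppfPrecoverage (fp z f) :=
    Groth.Agent.S12763.result h𝒴.isStack h𝒴.diag h𝒵 h𝒳 z f
  have h1 : AlgSt.LocQ P (fpFst p (fpFst z f)) :=
    locQ_fpFst_of_smooth P hP hfzf h𝒵 hW (fpFst z f) p hp hf
  have h2 : AlgSt.LocQ P (fpFst (BasedFunctor.comp p z) f) :=
    locQ_of_equiv_comp P (fpPasteFst p z f) (fpPasteFst_isEquivOver p z f) _ h1
  exact locQ_of_fpFst_rep_fppf P hP hPl h𝒳 h𝒴 hW f (BasedFunctor.comp p z) hw₁ hw₂ hw₃ h2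

end Groth.Agent.Lib.Helper66.AlgStLocQSq
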