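import Groth.Agent.Lib.Helper66.AlgStLocQSq2

/-!
# The property read on a chart square, for the functor of a morphism of algebraic spaces
-/

set_option autoImplicit false
set_option backward.isDefEq.respectTransparency false
set_option backward.isDefEq.respectTransparency.types false
universe u

open CategoryTheory CategoryTheory.Limits AlgebraicGeometry Opposite

namespace Groth.Agent.Lib.Helper66.AlgStLocQSq

open FibCat Groth.Agent.Lib.Helper31 Groth.Agent.Lib.Helper65 Groth.Agent.Lib.Helper66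

variable {S : Scheme.{u}}

/-- The sheaf map of a functor from a slice category to the category of a sheaf. -/
noncomputable def chartMap {F : AlgSp.Sp S} {U : Over S} (x : FibCat.overCat U ⥤ᵇ AlgSt.ofSp F) :
    (AlgSp.yon S).obj U ⟶ F :=
  ObjectProperty.homMk (pshMapOf (BasedFunctor.comp (AlgSt.toOverCat U) x))

/-- The functor is recovered from its sheaf map. -/
noncomputable def chartMapIso {F : AlgSp.Sp S} {U : Over S} (x : FibCat.overCat U ⥤ᵇ AlgSt.ofSp F) :
    BasedFunctor.comp (AlgSt.toOverCat U) x ≅ AlgSt.ofSpMap (chartMap x) :=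
  isoOfPshMap (BasedFunctor.comp (AlgSt.toOverCat U) x)

theorem prop_chartMap (Q : MorphismProperty (AlgSp.Sp S)) (hQb : StableBC Q)
    (hQl : AlgSp.IsLocalOnBase AlgSp.IsFppfCover Q) (F : AlgSp.Space S) {U : Over S}
    (x : FibCat.overCat U ⥤ᵇ AlgSt.ofSp F.obj) (hx : AlgSt.RepByAlgSpWith Q x) : Q (chartMap x) := by
  have h1 : AlgSt.RepByAlgSpWith Q (BasedFunctor.comp (AlgSt.toOverCat U) x) :=
    repByAlgSpWith_toOverCat_comp _ x hx
  have h2 : AlgSt.RepByAlgSpWith Q (AlgSt.ofSpMap (chartMap x)) :=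
    Groth.Agent.Lib.Helper66.RepWithPDet.repByAlgSpWith_of_iso _ (chartMapIso x).symm h1
  exact Groth.Agent.Lib.Helper66.AlgStBridgeConv.prop_of_repByAlgSpWith_ofSpMap Q hQb
    (Groth.Agent.Lib.Helper66.RepWithPDet.detected_of_isLocalOnBase Q hQl)
    (V := ⟨(AlgSp.yon S).obj U, AlgSp.IsAlgSpace.yon_obj U⟩) (Z := F) (chartMap x) h2

/-- A 2-commutative chart square over a morphism of sheaves gives a commutative square of sheaves. -/
theorem chartMap_comp_eq {F G : AlgSp.Sp S} (a : F ⟶ G) {U V : Over S}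
    (x : FibCat.overCat U ⥤ᵇ AlgSt.ofSp F) (y : FibCat.overCat V ⥤ᵇ AlgSt.ofSp G) (k : U ⟶ V)
    (α : BasedFunctor.comp x (AlgSt.ofSpMap a) ≅ BasedFunctor.comp (AlgSt.overMap k) y) :
    chartMap x ≫ a = (AlgSp.yon S).map k ≫ chartMap y := by
  have e : BasedFunctor.comp (AlgSt.toOverCat U) (BasedFunctor.comp (AlgSt.overMap k) y) =
      BasedFunctor.comp (AlgSt.ofSpMap ((AlgSp.yon S).map k)) (BasedFunctor.comp (AlgSt.toOverCat V) y) := rfl
  let i : AlgSt.ofSpMap (chartMap x ≫ a) ≅ AlgSt.ofSpMap ((AlgSp.yon S).map k ≫ chartMap y) :=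
    bWhiskerRightIso (chartMapIso x).symm (AlgSt.ofSpMap a) ≪≫
      bWhiskerLeftIso (AlgSt.toOverCat U) α ≪≫ eqToIso e ≪≫
      bWhiskerLeftIso (AlgSt.ofSpMap ((AlgSp.yon S).map k)) (chartMapIso y)
  apply ObjectProperty.hom_ext
  exact ofPshMap_injective i.hom

/-- The direction "chart square ⇒ property" for the functor of a morphism of algebraic spaces. -/
theorem prop_of_locQ_ofSpMap (P : MorphismProperty (AlgSp.Sp S)) (hP : AlgSp.IsSmoothLocalST P)
    (F G : AlgSp.Space S) (a : F ⟶ G) (h : AlgSt.LocQ P (AlgSt.ofSpMap a.hom)) : P a.hom := by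
  obtain ⟨U, V, x, y, k, α, hx, hxs, hy, hk⟩ := h
  have hx' : AlgSp.LocP @Smooth (chartMap x) :=
    prop_chartMap _ stableBC_locP_smooth isLocalOnBase_fppf_locP_smooth F x hx
  have hxs' : AlgSp.IsSurjectiveMor (chartMap x) :=
    prop_chartMap _ stableBC_isSurjectiveMor isLocalOnBase_fppf_isSurjectiveMor F x hxs
  have hy' : AlgSp.LocP @Smooth (chartMap y) :=
    prop_chartMap _ stableBC_locP_smooth isLocalOnBase_fppf_locP_smooth G y hy
  have hw := chartMap_comp_eq a.hom x y k α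
  rw [hP.locality F.property G.property]
  intro pt
  obtain ⟨v, hv⟩ := hxs' pt
  exact ⟨(AlgSp.yon S).obj U, (AlgSp.yon S).obj V, chartMap x, chartMap y, (AlgSp.yon S).map k, v,
    AlgSp.IsAlgSpace.yon_obj U, AlgSp.IsAlgSpace.yon_obj V, hx', hy', hw, hv, hk⟩

/-- The direction "property ⇒ chart square". -/
theorem locQ_ofSpMap_of_prop (P : MorphismProperty (AlgSp.Sp S)) (hP : AlgSp.IsSmoothLocalST P)
    (F G : AlgSp.Space S) (a : F ⟶ G) (h : P a.hom) : AlgSt.LocQ P (AlgSt.ofSpMap a.hom) := by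
  have hidF : AlgSt.RepByAlgSpWith (AlgSp.LocP @Smooth) (BasedFunctor.id (AlgSt.ofSp F.obj)) :=
    repByAlgSpWith_ofSpMap_of_prop _ stableBC_locP_smooth (V := F) (Z := F) (𝟙 F.obj)
      (Groth.Agent.Lib.Helper54.locP_smooth_id F.obj)
  have hidFs : AlgSt.RepByAlgSpWith AlgSp.IsSurjectiveMor (BasedFunctor.id (AlgSt.ofSp F.obj)) :=
    repByAlgSpWith_ofSpMap_of_prop _ stableBC_isSurjectiveMor (V := F) (Z := F) (𝟙 F.obj)
      (fun pt => ⟨pt, AlgSp.Points.map_id pt⟩)
  have hidG : AlgSt.RepByAlgSpWith (AlgSp.LocP @Smooth) (BasedFunctor.id (AlgSt.ofSp G.obj)) :=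
    repByAlgSpWith_ofSpMap_of_prop _ stableBC_locP_smooth (V := G) (Z := G) (𝟙 G.obj)
      (Groth.Agent.Lib.Helper54.locP_smooth_id G.obj)
  have e : BasedFunctor.comp (BasedFunctor.id (AlgSt.ofSp F.obj)) (AlgSt.ofSpMap a.hom) =
      BasedFunctor.comp (AlgSt.ofSpMap a.hom) (BasedFunctor.id (AlgSt.ofSp G.obj)) := rfl
  exact locQ_of_space_square P hP (Stk.isFibGrpd_ofPsh _) (Stk.isFibGrpd_ofPsh _) (AlgSt.ofSpMap a.hom) F G
    (BasedFunctor.id _) (BasedFunctor.id _) a (eqToIso e) hidF hidFs hidG h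

end Groth.Agent.Lib.Helper66.AlgStLocQSq
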