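import Groth.Agent.Lib.Helper66.AlgStLocQSq3
import Groth.Agent.Lib.Helper65.StUniv
import Groth.Agent.Lib.Helper66.AlgStEquiv

/-!
# Representability tested on smooth charts only, and chart squares of stacks
-/

set_option autoImplicit false
set_option backward.isDefEq.respectTransparency false
set_option backward.isDefEq.respectTransparency.types false
universe u

open CategoryTheory CategoryTheory.Limits AlgebraicGeometry Opposite

namespace Groth.Agent.Lib.Helper66.AlgStLocQSq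

open FibCat Groth.Agent.Lib.Helper31 Groth.Agent.Lib.Helper65 Groth.Agent.Lib.Helper66

variable {S : Scheme.{u}}

section RepAt

variable {𝒳 𝒴 𝒵 𝒳' 𝒴' : AlgSt.Cat S}

/-- The base change of `h` along `t` is an algebraic space whose projection has `P`. -/
def RepAt (P : MorphismProperty (AlgSp.Sp S)) (h : 𝒳 ⥤ᵇ 𝒴) (T : Over S) (t : FibCat.overCat T ⥤ᵇ 𝒴) : Prop :=
  ∃ (F : AlgSp.Space S) (e : AlgSt.ofSp F.obj ⥤ᵇ FibCat.fp t h),
    FibCat.IsEquivOver e ∧ P (AlgSt.spMapOfOver (BasedFunctor.comp e (FibCat.fpFst t h)))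

/-- Representable with `P` after every smooth base change to a scheme. -/
def SmRep (P : MorphismProperty (AlgSp.Sp S)) (h : 𝒳 ⥤ᵇ 𝒴) : Prop :=
  ∀ (T : Over S) (t : FibCat.overCat T ⥤ᵇ 𝒴), AlgSt.RepByAlgSpWith (AlgSp.LocP @Smooth) t → RepAt P h T t

theorem smRep_of_repByAlgSpWith {P : MorphismProperty (AlgSp.Sp S)} {h : 𝒳 ⥤ᵇ 𝒴}
    (hh : AlgSt.RepByAlgSpWith P h) : SmRep P h := fun T t _ => hh T t

theorem repAt_of_square (P : MorphismProperty (AlgSp.Sp S)) (f : 𝒳 ⥤ᵇ 𝒴) (f' : 𝒳' ⥤ᵇ 𝒴')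
    (a : 𝒳' ⥤ᵇ 𝒳) (b : 𝒴' ⥤ᵇ 𝒴) (ha : IsEquivOver a) (hb : IsEquivOver b)
    (e : BasedFunctor.comp f' b ≅ BasedFunctor.comp a f) {U : Over S} (y' : FibCat.overCat U ⥤ᵇ 𝒴')
    (hf : RepAt P f U (BasedFunctor.comp y' b)) : RepAt P f' U y' := by
  let Φ : fp y' f' ⥤ᵇ fp (BasedFunctor.comp y' b) f :=
    fpMap (F := y') (G := f') (F' := BasedFunctor.comp y' b) (G' := f)
      (BasedFunctor.id _) a b (Iso.refl _) e
  have hΦ : IsEquivOver Φ := fpMap_isEquivOver _ _ _ _ _ (isEquivOver_id _) ha hb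
  obtain ⟨Ψ, hΨ, ⟨i₁⟩, ⟨i₂⟩⟩ := exists_inverse_equivOver Φ hΦ
  have hfst : BasedFunctor.comp Φ (fpFst (BasedFunctor.comp y' b) f) = fpFst y' f' := rfl
  let j : BasedFunctor.comp Ψ (fpFst y' f') ≅ fpFst (BasedFunctor.comp y' b) f :=
    bWhiskerRightIso i₂ (fpFst (BasedFunctor.comp y' b) f)
  exact exists_rep_of_equiv P Ψ hΨ j hf

theorem smRep_equiv_comp (P : MorphismProperty (AlgSp.Sp S)) (a : 𝒳' ⥤ᵇ 𝒳) (ha : IsEquivOver a)
    (f : 𝒳 ⥤ᵇ 𝒴) (hf : SmRep P f) : SmRep P (BasedFunctor.comp a f) := fun T t ht =>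
  repAt_of_square P f (BasedFunctor.comp a f) a (BasedFunctor.id 𝒴) ha (isEquivOver_id _) (Iso.refl _) t
    (hf T t ht)

theorem smRep_of_iso (P : MorphismProperty (AlgSp.Sp S)) {f f' : 𝒳 ⥤ᵇ 𝒴} (i : f ≅ f') (hf : SmRep P f) :
    SmRep P f' := fun T t ht =>
  repAt_of_square P f f' (BasedFunctor.id 𝒳) (BasedFunctor.id 𝒴) (isEquivOver_id _) (isEquivOver_id _) i.symm t
    (hf T t ht)

theorem repAt_fpFst (P : MorphismProperty (AlgSp.Sp S)) (f : 𝒳 ⥤ᵇ 𝒴) (g : 𝒵 ⥤ᵇ 𝒴) {U : Over S}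
    (y : FibCat.overCat U ⥤ᵇ 𝒵) (hf : RepAt P f U (BasedFunctor.comp y g)) : RepAt P (fpFst g f) U y := by
  have hΦ := fpPasteFst_isEquivOver y g f
  obtain ⟨Ψ, hΨ, ⟨i₁⟩, ⟨i₂⟩⟩ := exists_inverse_equivOver _ hΦ
  let j : BasedFunctor.comp Ψ (fpFst y (fpFst g f)) ≅ fpFst (BasedFunctor.comp y g) f :=
    bWhiskerRightIso i₂ (fpFst (BasedFunctor.comp y g) f)
  exact exists_rep_of_equiv P Ψ hΨ j hf

theorem smRep_fpFst (P : MorphismProperty (AlgSp.Sp S)) (h𝒵 : IsFibGrpd 𝒵.p) (f : 𝒳 ⥤ᵇ 𝒴) (g : 𝒵 ⥤ᵇ 𝒴)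
    (hg : AlgSt.RepByAlgSpWith (AlgSp.LocP @Smooth) g) (hf : SmRep P f) : SmRep P (fpFst g f) :=
  fun T t ht => repAt_fpFst P f g t (hf T _
    (repByAlgSpWith_comp _ stableBC_locP_smooth (stableComp_locP _ (Or.inr (Or.inr (Or.inr (Or.inl rfl)))))
      isLocalOnBase_fppf_locP_smooth (isFibGrpd_overForget T) h𝒵 t g ht hg))

/-- The functor of a morphism of algebraic spaces with `P` is representable with `P` after smooth base
change, for `P` smooth local on source-and-target. -/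
theorem smRep_ofSpMap (P : MorphismProperty (AlgSp.Sp S)) (hP : AlgSp.IsSmoothLocalST P)
    {V Z : AlgSp.Space S} (a : V.obj ⟶ Z.obj) (ha : P a) : SmRep P (AlgSt.ofSpMap a) := by
  intro U y hy
  let y' : Stk.ofPsh ((AlgSp.pyon S).obj U) ⥤ᵇ Stk.ofPsh Z.obj.obj := BasedFunctor.comp (AlgSt.toOverCat U) y
  let ξ : (AlgSp.pyon S).obj U ⟶ Z.obj.obj := pshMapOf y'
  have sq : IsPullback (pullback.fst a.hom ξ) (pullback.snd a.hom ξ) a.hom ξ := IsPullback.of_hasPullback a.hom ξ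
  obtain ⟨hsh, hX⟩ := repBySp_of_space a ξ _ _ sq
  obtain ⟨e, he, hfst⟩ := exists_equiv_of_isPullback a.hom ξ _ _ sq y (isoOfPshMap y').symm
  refine ⟨⟨⟨pullback a.hom ξ, hsh⟩, hX⟩, e, he, ?_⟩
  have key : AlgSt.spMapOfOver (F := ⟨pullback a.hom ξ, hsh⟩)
      (BasedFunctor.comp e (fpFst y (Stk.ofPshMap a.hom))) =
      (ObjectProperty.homMk (pullback.snd a.hom ξ) :
        (⟨pullback a.hom ξ, hsh⟩ : AlgSp.Sp S) ⟶ (AlgSp.yon S).obj U) := by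
    rw [hfst]
    exact spMapOfOver_ofSpMap_toOverCat (X := ⟨pullback a.hom ξ, hsh⟩)
      (ObjectProperty.homMk (pullback.snd a.hom ξ))
  rw [key]
  have hξ : AlgSp.LocP @Smooth (chartMap y) :=
    prop_chartMap _ stableBC_locP_smooth isLocalOnBase_fppf_locP_smooth Z y hy
  exact hP.baseChange V.property Z.property hX (AlgSp.IsAlgSpace.yon_obj U) a (chartMap y)
    (ObjectProperty.homMk (pullback.snd a.hom ξ) : (⟨pullback a.hom ξ, hsh⟩ : AlgSp.Sp S) ⟶ (AlgSp.yon S).obj U)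
    (ObjectProperty.homMk (pullback.fst a.hom ξ) : (⟨pullback a.hom ξ, hsh⟩ : AlgSp.Sp S) ⟶ V.obj)
    (IsPullback.of_map_of_faithful (sheafToPresheaf (AlgSp.J S) (Type (u + 1))) sq) hξ ha

end RepAt

section StackSquare

variable {𝒳 𝒴 𝒲 𝒱 : AlgSt.Cat S}

/-- A chart square with algebraic stacks `𝒲`, `𝒱` gives a chart square with schemes. -/
theorem locQ_of_stack_square (P : MorphismProperty (AlgSp.Sp S)) (hP : AlgSp.IsSmoothLocalST P)
    (h𝒳 : IsFibGrpd 𝒳.p) (h𝒴 : IsFibGrpd 𝒴.p) (h𝒲 : IsFibGrpd 𝒲.p) (h𝒱 : IsFibGrpd 𝒱.p)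
    (hatlas : AlgSt.HasAtlas (AlgSp.LocP @Smooth) 𝒱) (f : 𝒳 ⥤ᵇ 𝒴)
    (p : 𝒲 ⥤ᵇ 𝒳) (q : 𝒱 ⥤ᵇ 𝒴) (h : 𝒲 ⥤ᵇ 𝒱)
    (α : BasedFunctor.comp p f ≅ BasedFunctor.comp h q)
    (hp : AlgSt.RepByAlgSpWith (AlgSp.LocP @Smooth) p) (hps : AlgSt.RepByAlgSpWith AlgSp.IsSurjectiveMor p)
    (hq : AlgSt.RepByAlgSpWith (AlgSp.LocP @Smooth) q) (hh : SmRep P h) : AlgSt.LocQ P f := by
  obtain ⟨V₀, v, hv1, hv2⟩ := hatlas
  obtain ⟨G, e, he, ha⟩ := hh V₀ v hv1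
  let VV : AlgSp.Space S := ⟨(AlgSp.yon S).obj V₀, AlgSp.IsAlgSpace.yon_obj V₀⟩
  let a : G ⟶ VV := ObjectProperty.homMk (AlgSt.spMapOfOver (BasedFunctor.comp e (fpFst v h)))
  have hfib : IsFibGrpd (fp v h).p := isFibGrpd_fp v h (isFibGrpd_overForget V₀) h𝒲 h𝒱
  have hsm := stableComp_locP (S := S) @Smooth (Or.inr (Or.inr (Or.inr (Or.inl rfl))))
  have hs1 : AlgSt.RepByAlgSpWith (AlgSp.LocP @Smooth) (fpSnd v h) :=
    Groth.Agent.Lib.Helper66.AlgStBC.repByAlgSpWith_fpSnd _ h v hv1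
  have hs2 : AlgSt.RepByAlgSpWith AlgSp.IsSurjectiveMor (fpSnd v h) :=
    Groth.Agent.Lib.Helper66.AlgStBC.repByAlgSpWith_fpSnd _ h v hv2
  have hx1 : AlgSt.RepByAlgSpWith (AlgSp.LocP @Smooth)
      (BasedFunctor.comp e (BasedFunctor.comp (fpSnd v h) p)) :=
    repByAlgSpWith_equiv_comp _ e he _ (repByAlgSpWith_comp _ stableBC_locP_smooth hsm
      isLocalOnBase_fppf_locP_smooth hfib h𝒲 (fpSnd v h) p hs1 hp)
  have hx2 : AlgSt.RepByAlgSpWith AlgSp.IsSurjectiveMor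
      (BasedFunctor.comp e (BasedFunctor.comp (fpSnd v h) p)) :=
    repByAlgSpWith_equiv_comp _ e he _ (repByAlgSpWith_comp _ stableBC_isSurjectiveMor
      stableComp_isSurjectiveMor isLocalOnBase_fppf_isSurjectiveMor hfib h𝒲 (fpSnd v h) p hs2 hps)
  have hy : AlgSt.RepByAlgSpWith (AlgSp.LocP @Smooth)
      (BasedFunctor.comp (AlgSt.toOverCat V₀) (BasedFunctor.comp v q)) :=
    repByAlgSpWith_toOverCat_comp _ _ (repByAlgSpWith_comp _ stableBC_locP_smooth hsm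
      isLocalOnBase_fppf_locP_smooth (isFibGrpd_overForget V₀) h𝒱 v q hv1 hq)
  let i0 : BasedFunctor.comp (BasedFunctor.comp e (BasedFunctor.comp (fpSnd v h) p)) f ≅
      BasedFunctor.comp (BasedFunctor.comp e (fpSnd v h)) (BasedFunctor.comp h q) :=
    bWhiskerLeftIso (BasedFunctor.comp e (fpSnd v h)) α
  let i1 : BasedFunctor.comp (BasedFunctor.comp e (fpSnd v h)) (BasedFunctor.comp h q) ≅
      BasedFunctor.comp (BasedFunctor.comp e (fpFst v h)) (BasedFunctor.comp v q) :=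
    bWhiskerLeftIso e (bWhiskerRightIso (fpIso v h).symm q)
  let i2 : BasedFunctor.comp (BasedFunctor.comp e (fpFst v h)) (BasedFunctor.comp v q) ≅
      BasedFunctor.comp (BasedFunctor.comp (AlgSt.ofSpMap a.hom) (AlgSt.toOverCat V₀))
        (BasedFunctor.comp v q) :=
    bWhiskerRightIso (isoSpMapOfOver (BasedFunctor.comp e (fpFst v h))) (BasedFunctor.comp v q)
  exact locQ_of_space_square P hP h𝒳 h𝒴 f G VV (BasedFunctor.comp e (BasedFunctor.comp (fpSnd v h) p))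
    (BasedFunctor.comp (AlgSt.toOverCat V₀) (BasedFunctor.comp v q)) a (i0 ≪≫ i1 ≪≫ i2) hx1 hx2 hy ha

end StackSquare

end Groth.Agent.Lib.Helper66.AlgStLocQSq
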