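import Groth.Agent.Lib.Helper66.AlgStLocQSq6
import Groth.Agent.Lib.Helper90.LiftSqFp

/-!
# Independence of the chart square: existence of a good square
-/

set_option autoImplicit false
set_option backward.isDefEq.respectTransparency false
set_option backward.isDefEq.respectTransparency.types false
universe u

open CategoryTheory CategoryTheory.Limits AlgebraicGeometry Opposite

namespace Groth.Agent.Lib.Helper66.AlgStLocQSq

open FibCat Groth.Agent.Lib.Helper31 Groth.Agent.Lib.Helper65 Groth.Agent.Lib.Helper66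

variable {S : Scheme.{u}} {𝒳 𝒴 : AlgSt.Cat S}

/-- There is a chart square with `x` smooth surjective, `y` smooth and the induced map to the fibre product
smooth; so a property holding on all such squares can be read on one chart square. -/
theorem locQ_of_forall_smooth_square (P : MorphismProperty (AlgSp.Sp S))
    (h𝒳 : AlgSt.IsAlgStack Scheme.fppfPrecoverage 𝒳) (h𝒴 : AlgSt.IsAlgStack Scheme.fppfPrecoverage 𝒴)
    (f : 𝒳 ⥤ᵇ 𝒴)
    (H : ∀ (U V : Over S) (x : FibCat.overCat U ⥤ᵇ 𝒳) (y : FibCat.overCat V ⥤ᵇ 𝒴) (h : U ⟶ V)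
      (α : BasedFunctor.comp x f ≅ BasedFunctor.comp (AlgSt.overMap h) y),
      AlgSt.RepByAlgSpWith (AlgSp.LocP @Smooth) x → AlgSt.RepByAlgSpWith (AlgSp.LocP @Smooth) y →
      AlgSt.RepByAlgSpWith (AlgSp.LocP @Smooth) (FibCat.fpLift x (AlgSt.overMap h) α) →
      P ((AlgSp.yon S).map h)) : AlgSt.LocQ P f := by
  obtain ⟨V, y, hy1, hy2⟩ := h𝒴.atlas
  have hV := isAlgStack_overCat V
  have hfp : AlgSt.IsAlgStack Scheme.fppfPrecoverage (fp f y) :=
    Groth.Agent.S12763.result h𝒴.isStack h𝒴.diag h𝒳 hV f y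
  obtain ⟨U, c₀, hc1, hc2⟩ := hfp.atlas
  let x : FibCat.overCat U ⥤ᵇ 𝒳 := BasedFunctor.comp c₀ (fpFst f y)
  have hπ1 : AlgSt.RepByAlgSpWith (AlgSp.LocP @Smooth) (fpFst f y) := repByAlgSpWith_fpFst _ y f hy1
  have hπ2 : AlgSt.RepByAlgSpWith AlgSp.IsSurjectiveMor (fpFst f y) := repByAlgSpWith_fpFst _ y f hy2
  have hx1 : AlgSt.RepByAlgSpWith (AlgSp.LocP @Smooth) x :=
    repByAlgSpWith_comp _ stableBC_locP_smooth
      (stableComp_locP _ (Or.inr (Or.inr (Or.inr (Or.inl rfl))))) isLocalOnBase_fppf_locP_smooth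
      (isFibGrpd_overForget U) hfp.isStack.1 c₀ (fpFst f y) hc1 hπ1
  have hx2 : AlgSt.RepByAlgSpWith AlgSp.IsSurjectiveMor x :=
    repByAlgSpWith_comp _ stableBC_isSurjectiveMor stableComp_isSurjectiveMor
      isLocalOnBase_fppf_isSurjectiveMor (isFibGrpd_overForget U) hfp.isStack.1 c₀ (fpFst f y) hc2 hπ2
  obtain ⟨k, -, ⟨i⟩⟩ := Groth.Agent.Lib.Helper65.exists_iso_overMap (BasedFunctor.comp c₀ (fpSnd f y))
  let α : BasedFunctor.comp x f ≅ BasedFunctor.comp (AlgSt.overMap k) y :=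
    bWhiskerLeftIso c₀ (fpIso f y) ≪≫ bWhiskerRightIso i y
  let c : FibCat.overCat U ⥤ᵇ fp f y := FibCat.fpLift x (AlgSt.overMap k) α
  have j : c₀ ≅ c := Groth.Agent.Lib.Helper90.LiftSqFp.fpIsoMk (P := c₀) (Q := c) (Iso.refl _) i (fun w => by
    change f.map (𝟙 _) ≫ ((c₀.obj w).obj.iso.hom ≫ y.map (i.hom.toNatTrans.app w)) = _
    rw [f.map_id, Category.id_comp]
    rfl)
  have hc : AlgSt.RepByAlgSpWith (AlgSp.LocP @Smooth) c :=
    Groth.Agent.Lib.Helper66.RepWithPDet.repByAlgSpWith_of_iso _ j.symm hc1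
  exact ⟨U, V, x, y, k, α, hx1, hx2, hy1, H U V x y k α hx1 hy1 hc⟩

end Groth.Agent.Lib.Helper66.AlgStLocQSq
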