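import Groth.Agent.Lib.Helper65.AlgStRep
import Groth.Agent.Lib.Helper65.QCompact
import Groth.Agent.Lib.Helper66.AlgStBC
import Groth.Agent.Lib.Helper66.AlgStEquiv

/-!
# Quasi-compact morphisms of algebraic stacks
-/

set_option autoImplicit false
set_option backward.isDefEq.respectTransparency false
set_option backward.isDefEq.respectTransparency.types false
universe u

open CategoryTheory CategoryTheory.Limits AlgebraicGeometry Opposite

namespace Groth.Agent.Lib.Helper66.AlgStQC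

open FibCat Groth.Agent.Lib.Helper31 Groth.Agent.Lib.Helper65

variable {S : Scheme.{u}} {𝒳 𝒴 𝒯 : AlgSt.Cat S}

theorem isQuasiCompactSp_yon_of_isAffine (U : Over S) [CompactSpace ↥U.left] :
    AlgSp.IsQuasiCompactSp ((AlgSp.yon S).obj U) :=
  ⟨U, 𝟙 _, AlgSp.repWith_id _ U, AlgSp.repWith_id _ U, inferInstance⟩

/-- If every base change of `f` to a scheme is a quasi-compact morphism of algebraic spaces, then the base change
of `f` to a quasi-compact stack is quasi-compact. -/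
theorem isQuasiCompact_fp_of_repByAlgSpWith (h𝒳 : IsFibGrpd 𝒳.p) (h𝒴 : IsFibGrpd 𝒴.p)
    (h𝒯 : IsFibGrpd 𝒯.p) (f : 𝒳 ⥤ᵇ 𝒴)
    (hf : AlgSt.RepByAlgSpWith AlgSp.IsQuasiCompactMor f) (hqc : AlgSt.IsQuasiCompact 𝒯)
    (h : 𝒯 ⥤ᵇ 𝒴) : AlgSt.IsQuasiCompact (fp h f) := by
  obtain ⟨U, x, hU, hx1, hx2⟩ := hqc
  have : CompactSpace ↥U.left := inferInstance
  obtain ⟨G, e, he, ha⟩ := hf U (BasedFunctor.comp x h)
  have hG : AlgSp.IsQuasiCompactSp G.obj :=
    ha (AlgSp.IsAlgSpace.yon_obj U) (isQuasiCompactSp_yon_of_isAffine U) (𝟙 _) (𝟙 _) _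
      (IsPullback.id_horiz _)
  obtain ⟨Ψ, hΨ, -, -⟩ := exists_inverse_equivOver (fpPasteFst x h f) (fpPasteFst_isEquivOver x h f)
  have hfib : IsFibGrpd (fp h f).p := isFibGrpd_fp h f h𝒯 h𝒳 h𝒴
  refine (isQuasiCompact_iff_quasiCompact_space_chart hfib).2
    ⟨G, BasedFunctor.comp e (BasedFunctor.comp Ψ (fpSnd x (fpFst h f))), hG, ?_, ?_⟩
  · exact repByAlgSpWith_equiv_comp _ e he _ (repByAlgSpWith_equiv_comp _ Ψ hΨ _
      (Groth.Agent.Lib.Helper66.AlgStBC.repByAlgSpWith_fpSnd _ (fpFst h f) x hx1))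
  · exact repByAlgSpWith_equiv_comp _ e he _ (repByAlgSpWith_equiv_comp _ Ψ hΨ _
      (Groth.Agent.Lib.Helper66.AlgStBC.repByAlgSpWith_fpSnd _ (fpFst h f) x hx2))

end Groth.Agent.Lib.Helper66.AlgStQC
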