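import Groth.Agent.Lib.Helper66.AlgSpSmLocalSmooth
import Groth.Agent.Lib.Helper65.SubStBij
import Groth.Agent.Lib.Helper65.LocQFlat
import Groth.Agent.Lib.Helper65.StMono

/-!
# Restriction of a smooth chart of an algebraic stack to an open substack
-/

set_option autoImplicit false
set_option backward.isDefEq.respectTransparency false
set_option backward.isDefEq.respectTransparency.types false
universe u

open CategoryTheory CategoryTheory.Limits AlgebraicGeometry Opposite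

namespace Groth.Agent.Lib.Helper66.AlgStRestrChart

open FibCat Groth.Agent.Lib.Helper31 Groth.Agent.Lib.Helper65 Groth.Agent.Lib.Helper66

variable {S : Scheme.{u}}

section FF

variable {𝒳 𝒴 𝒳' 𝒴' : AlgSt.Cat S}

/-- Invariance of `RepByAlgSpWith` for a square whose right vertical map is only fully faithful. -/
theorem repByAlgSpWith_of_square_ff (P : MorphismProperty (AlgSp.Sp S)) (f : 𝒳 ⥤ᵇ 𝒴) (f' : 𝒳' ⥤ᵇ 𝒴')
    (a : 𝒳' ⥤ᵇ 𝒳) (b : 𝒴' ⥤ᵇ 𝒴) (ha : IsEquivOver a) [b.toFunctor.Full] [b.toFunctor.Faithful]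
    (e : BasedFunctor.comp f' b ≅ BasedFunctor.comp a f) (hf : AlgSt.RepByAlgSpWith P f) :
    AlgSt.RepByAlgSpWith P f' := by
  intro U y'
  let Φ : fp y' f' ⥤ᵇ fp (BasedFunctor.comp y' b) f :=
    fpMap (F := y') (G := f') (F' := BasedFunctor.comp y' b) (G' := f)
      (BasedFunctor.id _) a b (Iso.refl _) e
  obtain ⟨ha1, ha2, ha3⟩ := isEquivOver_full_faithful_ess a ha
  obtain ⟨hi1, hi2, hi3⟩ := isEquivOver_full_faithful_ess (BasedFunctor.id (FibCat.overCat U))
    (isEquivOver_id _)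
  haveI := fpMap_full (F := y') (G := f') (F' := BasedFunctor.comp y' b) (G' := f)
      (BasedFunctor.id _) a b (Iso.refl _) e
  have hΦ : IsEquivOver Φ := isEquivOver_of_ff_ess _
    (fpMap_essSurjOver (F := y') (G := f') (F' := BasedFunctor.comp y' b) (G' := f)
      (BasedFunctor.id _) a b (Iso.refl _) e hi3 ha3)
  obtain ⟨Ψ, hΨ, ⟨i₁⟩, ⟨i₂⟩⟩ := exists_inverse_equivOver Φ hΦ
  have hfst : BasedFunctor.comp Φ (fpFst (BasedFunctor.comp y' b) f) = fpFst y' f' := rfl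
  let j : BasedFunctor.comp Ψ (fpFst y' f') ≅ fpFst (BasedFunctor.comp y' b) f :=
    bWhiskerRightIso i₂ (fpFst (BasedFunctor.comp y' b) f)
  exact exists_rep_of_equiv P Ψ hΨ j (hf U (BasedFunctor.comp y' b))

end FF

section Restr

variable {𝒳 : AlgSt.Cat S}

/-- The preimage of an open set of points under a chart. -/
def chartOpen (h𝒳 : AlgSt.IsAlgStack Scheme.fppfPrecoverage 𝒳) {U : Over S}
    (x : FibCat.overCat U ⥤ᵇ 𝒳) (T : TopologicalSpace.Opens (AlgSt.Points 𝒳)) : U.left.Opens :=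
  ⟨AlgSt.Points.ofChart x ⁻¹' (T : Set (AlgSt.Points 𝒳)),
    (continuous_ofChart h𝒳.isStack.1 h𝒳.atlas x).isOpen_preimage _ T.2⟩

/-- An open subscheme as an object over `S`. -/
def openOver {U : Over S} (O : U.left.Opens) : Over S := Over.mk (O.ι ≫ U.hom)

/-- The inclusion of an open subscheme. -/
def openIncl {U : Over S} (O : U.left.Opens) : openOver O ⟶ U := Over.homMk O.ι rfl

instance {U : Over S} (O : U.left.Opens) : IsOpenImmersion (openIncl O).left :=
  inferInstanceAs (IsOpenImmersion O.ι)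

instance {U : Over S} (O : U.left.Opens) : Etale (openIncl O).left :=
  inferInstanceAs (Etale O.ι)

variable (h𝒳 : AlgSt.IsAlgStack Scheme.fppfPrecoverage 𝒳) {U : Over S}
  (x : FibCat.overCat U ⥤ᵇ 𝒳) (T : TopologicalSpace.Opens (AlgSt.Points 𝒳))

theorem ptsProp_restr (w : Over (openOver (chartOpen h𝒳 x T))) :
    ptsProp (T : Set (AlgSt.Points 𝒳))
      ((BasedFunctor.comp (AlgSt.overMap (openIncl (chartOpen h𝒳 x T))) x).obj w) := by
  change ptsProp (T : Set (AlgSt.Points 𝒳))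
    (x.obj ((AlgSt.overMap (openIncl (chartOpen h𝒳 x T))).obj w))
  rw [ptsProp_obj_iff _ h𝒳.isStack.1]
  intro t
  exact (w.hom.left t).2

/-- The restriction of a chart to the preimage of an open set of points, as a chart of the open
substack. -/
def restrChart : FibCat.overCat (openOver (chartOpen h𝒳 x T)) ⥤ᵇ
    AlgSt.fullSub 𝒳 (ptsProp (T : Set (AlgSt.Points 𝒳))) :=
  liftFullSub _ (BasedFunctor.comp (AlgSt.overMap (openIncl (chartOpen h𝒳 x T))) x)
    (ptsProp_restr h𝒳 x T)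

theorem restrChart_comp_subIncl :
    BasedFunctor.comp (restrChart h𝒳 x T) (AlgSt.subIncl 𝒳 (ptsProp (T : Set (AlgSt.Points 𝒳)))) =
      BasedFunctor.comp (AlgSt.overMap (openIncl (chartOpen h𝒳 x T))) x := rfl

instance subIncl_full (Q : 𝒳.obj → Prop) : (AlgSt.subIncl 𝒳 Q).toFunctor.Full :=
  inferInstanceAs (ObjectProperty.ι Q).Full

instance subIncl_faithful (Q : 𝒳.obj → Prop) : (AlgSt.subIncl 𝒳 Q).toFunctor.Faithful :=
  inferInstanceAs (ObjectProperty.ι Q).Faithful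

include h𝒳 in
theorem isAlgStack_fullSub_ptsProp :
    AlgSt.IsAlgStack Scheme.fppfPrecoverage (AlgSt.fullSub 𝒳 (ptsProp (T : Set (AlgSt.Points 𝒳)))) :=
  (isOpenSubstack_ptsProp _ h𝒳 T.2).2.1

theorem restrChart_smooth (hx : AlgSt.RepByAlgSpWith (AlgSp.LocP @Smooth) x) :
    AlgSt.RepByAlgSpWith (AlgSp.LocP @Smooth) (restrChart h𝒳 x T) :=
  repByAlgSpWith_of_square_ff _ (BasedFunctor.comp (AlgSt.overMap (openIncl (chartOpen h𝒳 x T))) x)
    (restrChart h𝒳 x T) (BasedFunctor.id _) (AlgSt.subIncl 𝒳 _) (isEquivOver_id _) (Iso.refl _)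
    (overMap_comp_smooth h𝒳.isStack.1 (openIncl (chartOpen h𝒳 x T)) x hx)

theorem restrChart_isSurjective (hx : AlgSt.RepByAlgSpWith AlgSp.IsSurjectiveMor x) :
    AlgSt.IsSurjective (restrChart h𝒳 x T) := by
  intro ξ
  have h1 : AlgSt.Points.map (AlgSt.subIncl 𝒳 (ptsProp (T : Set (AlgSt.Points 𝒳)))) ξ ∈
      (T : Set (AlgSt.Points 𝒳)) := by
    have : AlgSt.Points.map (AlgSt.subIncl 𝒳 (ptsProp (T : Set (AlgSt.Points 𝒳)))) ξ ∈
        Set.range (AlgSt.Points.map (AlgSt.subIncl 𝒳 (ptsProp (T : Set (AlgSt.Points 𝒳))))) := ⟨ξ, rfl⟩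
    rwa [range_subIncl_ptsProp] at this
  obtain ⟨u, hu⟩ := ofChart_surjective h𝒳.isStack.1 x hx
    (AlgSt.Points.map (AlgSt.subIncl 𝒳 (ptsProp (T : Set (AlgSt.Points 𝒳)))) ξ)
  have huO : u ∈ chartOpen h𝒳 x T := by
    change AlgSt.Points.ofChart x u ∈ (T : Set (AlgSt.Points 𝒳))
    rw [hu]; exact h1
  let t : ↥(openOver (chartOpen h𝒳 x T)).left := ⟨u, huO⟩
  refine ⟨chartPt _ t, ?_⟩
  apply points_map_injective_of_full (isAlgStack_fullSub_ptsProp h𝒳 T).isStack.1 h𝒳.isStack.1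
    (AlgSt.subIncl 𝒳 (ptsProp (T : Set (AlgSt.Points 𝒳)))) inferInstance
  rw [← points_map_comp, restrChart_comp_subIncl, ← ofChart_eq, ofChart_overMap_comp]
  exact hu

theorem restrChart_surjective (hx1 : AlgSt.RepByAlgSpWith (AlgSp.LocP @Smooth) x)
    (hx : AlgSt.RepByAlgSpWith AlgSp.IsSurjectiveMor x) :
    AlgSt.RepByAlgSpWith AlgSp.IsSurjectiveMor (restrChart h𝒳 x T) :=
  repByAlgSpWith_isSurjectiveMor_of_isSurjective (isFibGrpd_overForget _)
    (isAlgStack_fullSub_ptsProp h𝒳 T).isStack.1 _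
    (repByAlgSp1_of_repByAlgSpWith (restrChart_smooth h𝒳 x T hx1))
    (restrChart_isSurjective h𝒳 x T hx)

end Restr

end Groth.Agent.Lib.Helper66.AlgStRestrChart
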