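import Groth.Agent.Lib.Helper66.UnivClosedQC
import Groth.Agent.Lib.Helper66.AlgStBridgeConv
import Groth.Agent.Lib.Helper66.AlgStDiagLft2
import Groth.Agent.Lib.Helper66.AlgStPFacts
import Groth.Agent.Lib.Helper65.SourceLocal
import Groth.Agent.S10280
import Groth.Agent.S10521

/-!
# Separatedness of a morphism of algebraic stacks from universally closed diagonals
-/

set_option autoImplicit false
set_option backward.isDefEq.respectTransparency false
set_option backward.isDefEq.respectTransparency.types false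
universe u

open CategoryTheory CategoryTheory.Limits AlgebraicGeometry Opposite

namespace Groth.Agent.Lib.Helper66.AlgStSepUC

open FibCat Groth.Agent.Lib.Helper31 Groth.Agent.Lib.Helper65 Groth.Agent.Lib.Helper66
open Groth.Agent.Lib.Helper66.AlgStPFacts Groth.Agent.Lib.Helper66.AlgStBridgeConv Groth.Agent.Lib.Helper66.RepWithPDet

variable {S : Scheme.{u}} {𝒳 𝒴 : AlgSt.Cat S}

theorem isSeparatedMor_of_univClosed_diag_diag (h𝒳 : AlgSt.IsAlgStack Scheme.fppfPrecoverage 𝒳)
    (h𝒴 : AlgSt.IsAlgStack Scheme.fppfPrecoverage 𝒴) (f : 𝒳 ⥤ᵇ 𝒴)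
    (h1 : AlgSt.RepByAlgSpWith AlgSp.IsUnivClosedMor (FibCat.diag f))
    (h2 : AlgSt.RepByAlgSpWith AlgSp.IsUnivClosedMor (FibCat.diag (FibCat.diag f))) :
    AlgSt.IsSeparatedMor f := by
  have hlft : AlgSt.RepByAlgSpWith (AlgSp.LocP @LocallyOfFiniteType) (FibCat.diag f) :=
    Groth.Agent.Lib.Helper66.AlgStDiagLft2.repByAlgSpWith_lft_diag h𝒳.isStack.1 h𝒴.isStack.1 h𝒳.diag h𝒴.diag
      h𝒳.atlas f
  have hboth := repByAlgSpWith_and (AlgStPFacts.stableBC_locP _ (Or.inl rfl)) (FibCat.diag f) h1 hlft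
  have hdet : Detected (AlgSp.IsUnivClosedMor (S := S)) :=
    detected_of_isLocalOnBase _ (isLocalOnBase_fppf_of_fpqc _ (Groth.Agent.S10521.result S))
  intro T t
  obtain ⟨G, e, he, huc, hl⟩ := hboth T t
  refine ⟨G, e, he, ?_, ⟨hl, ?_⟩, huc⟩
  · have hd : AlgSp.IsUnivClosedMor
        (pullback.diagonal (AlgSt.spMapOfOver (BasedFunctor.comp e (FibCat.fpFst t (FibCat.diag f))))) :=
      prop_diagonal_of_repByAlgSpWith_diag _ (stableBC_univSp _) hdet (FibCat.diag f) h2 T t G e he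
    let YY : AlgSp.Space S := ⟨(AlgSp.yon S).obj T, AlgSp.IsAlgSpace.yon_obj T⟩
    let gg : G ⟶ YY := ObjectProperty.homMk
      (AlgSt.spMapOfOver (BasedFunctor.comp e (FibCat.fpFst t (FibCat.diag f))))
    exact ((Groth.Agent.S10280.result gg).1).2 hd
  · exact Groth.Agent.Lib.Helper66.UnivClosedQC.isQuasiCompactMor_of_isUnivClosedMor G.property
      (AlgSp.IsAlgSpace.yon_obj T) _ huc

end Groth.Agent.Lib.Helper66.AlgStSepUC
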