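import Groth.Agent.Lib.Helper66.AlgStRestrChart
import Groth.Agent.Lib.Helper66.LfpNoeth

/-!
# The largest open substack on which a morphism of algebraic stacks is smooth
-/

set_option autoImplicit false
set_option backward.isDefEq.respectTransparency false
set_option backward.isDefEq.respectTransparency.types false
universe u

open CategoryTheory CategoryTheory.Limits AlgebraicGeometry Opposite

namespace Groth.Agent.Lib.Helper66.AlgStSmoothLocus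

open FibCat Groth.Agent.Lib.Helper31 Groth.Agent.Lib.Helper65 Groth.Agent.Lib.Helper66
  Groth.Agent.Lib.Helper66.AlgStLocQSq Groth.Agent.Lib.Helper65.LocQFlat
  Groth.Agent.Lib.Helper66.AlgSpSmLocalLft Groth.Agent.Lib.Helper66.AlgStRestrChart

variable {S : Scheme.{u}} {𝒳 𝒴 : AlgSt.Cat S}

theorem locP_smooth_yon_map {U V : Over S} (k : U ⟶ V) (hk : Smooth k.left) :
    AlgSp.LocP @Smooth ((AlgSp.yon S).map k) := by
  have hR : Groth.Agent.Lib.Helper66.AlgStPFacts.Listed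
      (@Smooth : MorphismProperty Scheme.{u}) := Or.inr (Or.inr (Or.inr (Or.inl rfl)))
  exact (Groth.Agent.H52.isEtLocal_of_list _ hR).locP_of_repWith' _
    ((AlgSp.repWith_yon_map_iff @Smooth k).2 hk)

section Claim

variable (h𝒳 : AlgSt.IsAlgStack Scheme.fppfPrecoverage 𝒳)
  (h𝒴 : AlgSt.IsAlgStack Scheme.fppfPrecoverage 𝒴) (f : 𝒳 ⥤ᵇ 𝒴)
  {V : Over S} (y : FibCat.overCat V ⥤ᵇ 𝒴)
  (hy1 : AlgSt.RepByAlgSpWith (AlgSp.LocP @Smooth) y)
  (hy2 : AlgSt.RepByAlgSpWith AlgSp.IsSurjectiveMor y)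
  {U : Over S} (C : FibCat.overCat U ⥤ᵇ fp y f)
  (hC1 : AlgSt.RepByAlgSpWith (AlgSp.LocP @Smooth) C)
  (hC2 : AlgSt.RepByAlgSpWith AlgSp.IsSurjectiveMor C)
  (k : U ⟶ V) (i : BasedFunctor.comp C (fpFst y f) ≅ AlgSt.overMap k)
  (T : TopologicalSpace.Opens (AlgSt.Points 𝒳))

include h𝒳 h𝒴 hy1 hC1 in
theorem chart_smooth :
    AlgSt.RepByAlgSpWith (AlgSp.LocP @Smooth) (BasedFunctor.comp C (fpSnd y f)) := by
  have hV := isAlgStack_overCat V
  have hfp : AlgSt.IsAlgStack Scheme.fppfPrecoverage (fp y f) :=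
    Groth.Agent.S12763.result h𝒴.isStack h𝒴.diag hV h𝒳 y f
  exact repByAlgSpWith_comp _ stableBC_locP_smooth
    (stableComp_locP _ (Or.inr (Or.inr (Or.inr (Or.inl rfl))))) isLocalOnBase_fppf_locP_smooth
    (isFibGrpd_overForget U) hfp.isStack.1 C (fpSnd y f) hC1
    (Groth.Agent.Lib.Helper66.AlgStBC.repByAlgSpWith_fpSnd _ f y hy1)

include h𝒳 h𝒴 hy2 hC2 in
theorem chart_surjective :
    AlgSt.RepByAlgSpWith AlgSp.IsSurjectiveMor (BasedFunctor.comp C (fpSnd y f)) := by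
  have hV := isAlgStack_overCat V
  have hfp : AlgSt.IsAlgStack Scheme.fppfPrecoverage (fp y f) :=
    Groth.Agent.S12763.result h𝒴.isStack h𝒴.diag hV h𝒳 y f
  exact repByAlgSpWith_comp _ stableBC_isSurjectiveMor stableComp_isSurjectiveMor
    isLocalOnBase_fppf_isSurjectiveMor (isFibGrpd_overForget U) hfp.isStack.1 C (fpSnd y f) hC2
    (Groth.Agent.Lib.Helper66.AlgStBC.repByAlgSpWith_fpSnd _ f y hy2)

include h𝒴 hy1 hy2 hC1 hC2 i in
/-- If the chart map is smooth on the preimage of `T` then `f` is smooth on the open substack of `T`. -/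
theorem locQ_of_smooth_restr
    (hsm : Smooth ((chartOpen h𝒳 (BasedFunctor.comp C (fpSnd y f)) T).ι ≫ k.left)) :
    AlgSt.LocQ (AlgSp.LocP @Smooth)
      (BasedFunctor.comp (AlgSt.subIncl 𝒳 (ptsProp (T : Set (AlgSt.Points 𝒳)))) f) := by
  have hx1 := chart_smooth h𝒳 h𝒴 f y hy1 C hC1
  have hx2 := chart_surjective h𝒳 h𝒴 f y hy2 C hC2
  let x := BasedFunctor.comp C (fpSnd y f)
  let O := chartOpen h𝒳 x T
  let j := openIncl O
  let x' := restrChart h𝒳 x T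
  let i1 : BasedFunctor.comp (BasedFunctor.comp (AlgSt.overMap j) C) (BasedFunctor.comp (fpSnd y f) f) ≅
      BasedFunctor.comp (BasedFunctor.comp (AlgSt.overMap j) C) (BasedFunctor.comp (fpFst y f) y) :=
    bWhiskerLeftIso (BasedFunctor.comp (AlgSt.overMap j) C) (fpIso y f).symm
  let i2 : BasedFunctor.comp (BasedFunctor.comp (AlgSt.overMap j) (BasedFunctor.comp C (fpFst y f))) y ≅
      BasedFunctor.comp (BasedFunctor.comp (AlgSt.overMap j) (AlgSt.overMap k)) y :=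
    bWhiskerRightIso (bWhiskerLeftIso (AlgSt.overMap j) i) y
  let i3 : BasedFunctor.comp (BasedFunctor.comp (AlgSt.overMap j) (AlgSt.overMap k)) y ≅
      BasedFunctor.comp (AlgSt.overMap (j ≫ k)) y :=
    bWhiskerRightIso (overMapComp j k) y
  let α' : BasedFunctor.comp x' (BasedFunctor.comp (AlgSt.subIncl 𝒳 _) f) ≅
      BasedFunctor.comp (AlgSt.overMap (j ≫ k)) y := i1 ≪≫ i2 ≪≫ i3
  exact ⟨openOver O, V, x', y, j ≫ k, α', restrChart_smooth h𝒳 x T hx1,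
    restrChart_surjective h𝒳 x T hx1 hx2, hy1, locP_smooth_yon_map (j ≫ k) hsm⟩

include h𝒴 hy1 hC1 i in
/-- If `f` is smooth on the open substack of `T` then the chart map is smooth on the preimage of `T`. -/
theorem smooth_restr_of_locQ
    (hf' : AlgSt.LocQ (AlgSp.LocP @Smooth)
      (BasedFunctor.comp (AlgSt.subIncl 𝒳 (ptsProp (T : Set (AlgSt.Points 𝒳)))) f)) :
    Smooth ((chartOpen h𝒳 (BasedFunctor.comp C (fpSnd y f)) T).ι ≫ k.left) := by
  have hP : AlgSp.IsSmoothLocalST (AlgSp.LocP (S := S) @Smooth) := isSmoothLocalST_locP_smooth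
  have hV := isAlgStack_overCat V
  let x := BasedFunctor.comp C (fpSnd y f)
  let O := chartOpen h𝒳 x T
  let j := openIncl O
  let x' := restrChart h𝒳 x T
  let ι := AlgSt.subIncl 𝒳 (ptsProp (T : Set (AlgSt.Points 𝒳)))
  let f' := BasedFunctor.comp ι f
  have h𝒳' := isAlgStack_fullSub_ptsProp h𝒳 T
  have hfp' : AlgSt.IsAlgStack Scheme.fppfPrecoverage (fp y f') :=
    Groth.Agent.S12763.result h𝒴.isStack h𝒴.diag hV h𝒳' y f'
  have hf'V : AlgSt.LocQ (AlgSp.LocP @Smooth) (fpFst y f') :=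
    locQ_fpFst_of_smooth _ hP h𝒳' h𝒴 hV f' y hy1 hf'
  -- the lifted chart
  let β : BasedFunctor.comp (BasedFunctor.comp (AlgSt.overMap j) (BasedFunctor.comp C (fpFst y f))) y ≅
      BasedFunctor.comp x' f' :=
    bWhiskerLeftIso (BasedFunctor.comp (AlgSt.overMap j) C) (fpIso y f)
  let C' : FibCat.overCat (openOver O) ⥤ᵇ fp y f' :=
    fpLift (BasedFunctor.comp (AlgSt.overMap j) (BasedFunctor.comp C (fpFst y f))) x' β
  let I' : fp y f' ⥤ᵇ fp y f :=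
    fpMap (F := y) (G := f') (F' := y) (G' := f) (BasedFunctor.id _) ι (BasedFunctor.id _)
      (Iso.refl _) (Iso.refl _)
  obtain ⟨hi1, hi2, -⟩ := isEquivOver_full_faithful_ess (BasedFunctor.id (FibCat.overCat V))
    (isEquivOver_id _)
  obtain ⟨hj1, hj2, -⟩ := isEquivOver_full_faithful_ess (BasedFunctor.id 𝒴) (isEquivOver_id _)
  haveI : I'.toFunctor.Full :=
    fpMap_full (F := y) (G := f') (F' := y) (G' := f) (BasedFunctor.id _) ι (BasedFunctor.id _)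
      (Iso.refl _) (Iso.refl _)
  haveI : I'.toFunctor.Faithful :=
    fpMap_faithful (F := y) (G := f') (F' := y) (G' := f) (BasedFunctor.id _) ι (BasedFunctor.id _)
      (Iso.refl _) (Iso.refl _)
  have e0 : BasedFunctor.comp C' I' ≅ BasedFunctor.comp (BasedFunctor.id _)
      (BasedFunctor.comp (AlgSt.overMap j) C) :=
    Groth.Agent.Lib.Helper90.LiftSqFp.fpIsoMk (Iso.refl _) (Iso.refl _) (fun w => by
      change y.map (𝟙 _) ≫ (C.obj ((AlgSt.overMap j).obj w)).obj.iso.hom =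
        (𝟙 _ ≫ (C.obj ((AlgSt.overMap j).obj w)).obj.iso.hom ≫ 𝟙 _) ≫ f.map (𝟙 _)
      rw [y.map_id, f.map_id, Category.id_comp, Category.id_comp, Category.comp_id, Category.comp_id])
  have hC'1 : AlgSt.RepByAlgSpWith (AlgSp.LocP @Smooth) C' :=
    repByAlgSpWith_of_square_ff _ (BasedFunctor.comp (AlgSt.overMap j) C) C' (BasedFunctor.id _) I'
      (isEquivOver_id _) e0 (overMap_comp_smooth
        (Groth.Agent.S12763.result h𝒴.isStack h𝒴.diag hV h𝒳 y f).isStack.1 j C hC1)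
  let α'' : BasedFunctor.comp C' (fpFst y f') ≅ AlgSt.overMap (j ≫ k) :=
    bWhiskerLeftIso (AlgSt.overMap j) i ≪≫ overMapComp j k
  have h := prop_of_locQ_to_overCat _ hP hfp' (fpFst y f') hf'V (openOver O) C' (j ≫ k) α'' hC'1
  exact AlgSp.locP_yon_map h

end Claim

theorem smooth_iSup_ι {X Y : Scheme.{u}} (g : X ⟶ Y) {ι : Type*} (W : ι → X.Opens)
    (h : ∀ i, Smooth ((W i).ι ≫ g)) : Smooth ((⨆ i, W i).ι ≫ g) := by
  apply IsZariskiLocalAtSource.of_openCover (P := @Smooth) (Scheme.Opens.iSupOpenCover W)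
  intro i
  have : (Scheme.Opens.iSupOpenCover W).f i ≫ (⨆ i, W i).ι = (W i).ι :=
    X.homOfLE_ι (le_iSup W i)
  rw [← Category.assoc, this]
  exact h i

theorem smooth_ι_congr {X Y : Scheme.{u}} (g : X ⟶ Y) {O O' : X.Opens} (h : O = O')
    (hs : Smooth (O'.ι ≫ g)) : Smooth (O.ι ≫ g) := by
  subst h; exact hs

theorem locQ_subIncl_congr (f : 𝒳 ⥤ᵇ 𝒴) {Q₁ Q₂ : 𝒳.obj → Prop} (h : Q₁ = Q₂)
    (hf : AlgSt.LocQ (AlgSp.LocP @Smooth) (BasedFunctor.comp (AlgSt.subIncl 𝒳 Q₁) f)) :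
    AlgSt.LocQ (AlgSp.LocP @Smooth) (BasedFunctor.comp (AlgSt.subIncl 𝒳 Q₂) f) := by
  subst h; exact hf

/-- S13037: the largest open substack on which a morphism of algebraic stacks is smooth. -/
theorem exists_largest_locQ_smooth (h𝒳 : AlgSt.IsAlgStack Scheme.fppfPrecoverage 𝒳)
    (h𝒴 : AlgSt.IsAlgStack Scheme.fppfPrecoverage 𝒴) (f : 𝒳 ⥤ᵇ 𝒴) :
    ∃ Q : 𝒳.obj → Prop, AlgSt.IsOpenSubstack 𝒳 Q Scheme.fppfPrecoverage ∧
      AlgSt.LocQ (AlgSp.LocP @Smooth) (BasedFunctor.comp (AlgSt.subIncl 𝒳 Q) f) ∧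
      ∀ Q' : 𝒳.obj → Prop, AlgSt.IsOpenSubstack 𝒳 Q' Scheme.fppfPrecoverage →
        AlgSt.LocQ (AlgSp.LocP @Smooth) (BasedFunctor.comp (AlgSt.subIncl 𝒳 Q') f) →
          ∀ a, Q' a → Q a := by
  obtain ⟨V, y, hy1, hy2⟩ := h𝒴.atlas
  have hV := isAlgStack_overCat V
  have hfp : AlgSt.IsAlgStack Scheme.fppfPrecoverage (fp y f) :=
    Groth.Agent.S12763.result h𝒴.isStack h𝒴.diag hV h𝒳 y f
  obtain ⟨U, C, hC1, hC2⟩ := hfp.atlas
  obtain ⟨k, -, ⟨i⟩⟩ :=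
    Groth.Agent.Lib.Helper65.exists_iso_overMap (BasedFunctor.comp C (fpFst y f))
  let x := BasedFunctor.comp C (fpSnd y f)
  let 𝒮 : Set (TopologicalSpace.Opens (AlgSt.Points 𝒳)) :=
    {T | Smooth ((chartOpen h𝒳 x T).ι ≫ k.left)}
  let T₀ : TopologicalSpace.Opens (AlgSt.Points 𝒳) := sSup 𝒮
  have hO : chartOpen h𝒳 x T₀ = ⨆ T : 𝒮, chartOpen h𝒳 x T.1 := by
    ext u
    change AlgSt.Points.ofChart x u ∈ T₀ ↔ u ∈ (⨆ T : 𝒮, chartOpen h𝒳 x T.1)
    rw [TopologicalSpace.Opens.mem_iSup]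
    constructor
    · intro hu
      obtain ⟨T, hT, huT⟩ := TopologicalSpace.Opens.mem_sSup.1 hu
      exact ⟨⟨T, hT⟩, huT⟩
    · rintro ⟨T, huT⟩
      exact TopologicalSpace.Opens.mem_sSup.2 ⟨T.1, T.2, huT⟩
  have hsm : Smooth ((chartOpen h𝒳 x T₀).ι ≫ k.left) :=
    smooth_ι_congr k.left hO (smooth_iSup_ι k.left _ (fun T => T.2))
  refine ⟨ptsProp (T₀ : Set (AlgSt.Points 𝒳)), isOpenSubstack_ptsProp _ h𝒳 T₀.2,
    locQ_of_smooth_restr h𝒳 h𝒴 f y hy1 hy2 C hC1 hC2 k i T₀ hsm, ?_⟩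
  intro Q' hQ' hf' a ha
  let T' : TopologicalSpace.Opens (AlgSt.Points 𝒳) :=
    ⟨Set.range (AlgSt.Points.map (AlgSt.subIncl 𝒳 Q')), isOpen_range_subIncl h𝒳 Q' hQ'⟩
  have hQ'eq : Q' = ptsProp (T' : Set (AlgSt.Points 𝒳)) :=
    funext fun b => propext (prop_iff_ptsProp_range Q' h𝒳 hQ' b)
  have hT' : T' ∈ 𝒮 :=
    smooth_restr_of_locQ h𝒳 h𝒴 f y hy1 C hC1 k i T' (locQ_subIncl_congr f hQ'eq hf')
  have hle : T' ≤ T₀ := le_sSup hT'
  exact ptsProp_mono hle ((prop_iff_ptsProp_range Q' h𝒳 hQ' a).1 ha)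

end Groth.Agent.Lib.Helper66.AlgStSmoothLocus
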