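import Groth.Agent.Lib.Helper66.ValSpecialize
import Groth.Agent.Lib.Helper66.AlgStQC4
import Groth.Agent.Lib.Helper66.AlgStLocQSq8
import Groth.Agent.Lib.Helper65.StPoints
import Groth.Agent.Lib.Helper65.StPoints2

/-!
# Valuative witnesses for points in the closure of the image of a quasi-compact morphism of stacks
-/

set_option autoImplicit false
set_option backward.isDefEq.respectTransparency false
set_option backward.isDefEq.respectTransparency.types false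
universe u

open CategoryTheory CategoryTheory.Limits AlgebraicGeometry Opposite

namespace Groth.Agent.Lib.Helper66.AlgStValCrit

open FibCat Groth.Agent.Lib.Helper31 Groth.Agent.Lib.Helper65 Groth.Agent.Lib.Helper66
open Groth.Agent.Lib.Helper66.AlgStLocQSq

variable {S : Scheme.{u}} {𝒳 𝒴 : AlgSt.Cat S}

/-- The 2-commutative square of a valuative witness. -/
theorem exists_iso_of_square (f : 𝒳 ⥤ᵇ 𝒴) {V' W T₁ T₂ : Over S} (v' : FibCat.overCat V' ⥤ᵇ 𝒴)
    (w : FibCat.overCat W ⥤ᵇ fp v' f) (k : W ⟶ V')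
    (e : BasedFunctor.comp w (fpFst v' f) ≅ AlgSt.overMap k) (ι₁ : T₁ ⟶ W) (ι₂ : T₂ ⟶ V') (g : T₁ ⟶ T₂)
    (h : ι₁ ≫ k = g ≫ ι₂) :
    Nonempty (BasedFunctor.comp (BasedFunctor.comp (BasedFunctor.comp (AlgSt.overMap ι₁) w) (fpSnd v' f)) f ≅
      BasedFunctor.comp (AlgSt.overMap g) (BasedFunctor.comp (AlgSt.overMap ι₂) v')) := by
  have e1 : BasedFunctor.comp (BasedFunctor.comp (BasedFunctor.comp (AlgSt.overMap ι₁) w) (fpSnd v' f)) f =
      BasedFunctor.comp (BasedFunctor.comp (AlgSt.overMap ι₁) w) (BasedFunctor.comp (fpSnd v' f) f) := rfl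
  have e2 : BasedFunctor.comp (BasedFunctor.comp (AlgSt.overMap ι₁) w) (BasedFunctor.comp (fpFst v' f) v') =
      BasedFunctor.comp (AlgSt.overMap ι₁) (BasedFunctor.comp (BasedFunctor.comp w (fpFst v' f)) v') := rfl
  have e3 : BasedFunctor.comp (AlgSt.overMap ι₁) (BasedFunctor.comp (AlgSt.overMap k) v') =
      BasedFunctor.comp (BasedFunctor.comp (AlgSt.overMap ι₁) (AlgSt.overMap k)) v' := rfl
  have e4 : BasedFunctor.comp (AlgSt.overMap (ι₁ ≫ k)) v' = BasedFunctor.comp (AlgSt.overMap (g ≫ ι₂)) v' := by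
    rw [h]
  have e5 : BasedFunctor.comp (BasedFunctor.comp (AlgSt.overMap g) (AlgSt.overMap ι₂)) v' =
      BasedFunctor.comp (AlgSt.overMap g) (BasedFunctor.comp (AlgSt.overMap ι₂) v') := rfl
  exact ⟨eqToIso e1 ≪≫ bWhiskerLeftIso _ (fpIso v' f).symm ≪≫ eqToIso e2 ≪≫
    bWhiskerLeftIso _ (bWhiskerRightIso e v') ≪≫ eqToIso e3 ≪≫
    bWhiskerRightIso (overMapComp ι₁ k) v' ≪≫ eqToIso e4 ≪≫
    bWhiskerRightIso (overMapComp g ι₂).symm v' ≪≫ eqToIso e5⟩

/-- A point in the closure of the image of a quasi-compact morphism is witnessed by a valuation ring. -/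
theorem exists_valuationRing_witness (h𝒳 : AlgSt.IsAlgStack Scheme.fppfPrecoverage 𝒳)
    (h𝒴 : AlgSt.IsAlgStack Scheme.fppfPrecoverage 𝒴) (f : 𝒳 ⥤ᵇ 𝒴)
    (hf : AlgSt.IsQuasiCompactMor Scheme.fppfPrecoverage f)
    (y : AlgSt.Points 𝒴) (hy : y ∈ closure (Set.range (AlgSt.Points.map f))) :
    ∃ (A : Type u) (_ : CommRing A) (_ : IsDomain A) (_ : ValuationRing A) (sA : Spec (CommRingCat.of A) ⟶ S)
      (a : FibCat.overCat (Over.mk sA) ⥤ᵇ 𝒴)
      (x : FibCat.overCat (Over.mk (Spec.map (CommRingCat.ofHom (algebraMap A (FractionRing A))) ≫ sA)) ⥤ᵇ 𝒳),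
      Nonempty (BasedFunctor.comp x f ≅
        BasedFunctor.comp (AlgSt.overMap (Over.homMk (Spec.map (CommRingCat.ofHom (algebraMap A (FractionRing A)))) rfl :
          Over.mk (Spec.map (CommRingCat.ofHom (algebraMap A (FractionRing A))) ≫ sA) ⟶ Over.mk sA)) a) ∧
      AlgSt.Points.ofChart a (IsLocalRing.closedPoint A) = y := by
  obtain ⟨V, v, hv1, hv2⟩ := h𝒴.atlas
  obtain ⟨v₀', rfl⟩ := ofChart_surjective h𝒴.isStack.1 v hv2 y
  obtain ⟨O, hO, hv₀O⟩ : ∃ O : V.left.Opens, IsAffineOpen O ∧ v₀' ∈ O := by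
    obtain ⟨_, ⟨O, hO, rfl⟩, hxO, -⟩ :=
      V.left.isBasis_affineOpens.exists_subset_of_mem_open (Set.mem_univ v₀') isOpen_univ
    exact ⟨O, hO, hxO⟩
  let V' : Over S := Over.mk (O.ι ≫ V.hom)
  let j : V' ⟶ V := Over.homMk O.ι rfl
  have hV'aff : IsAffine V'.left := hO
  have : Etale j.left := (inferInstance : Etale O.ι)
  let v' : FibCat.overCat V' ⥤ᵇ 𝒴 := BasedFunctor.comp (AlgSt.overMap j) v
  have hv' : AlgSt.RepByAlgSpWith (AlgSp.LocP @Smooth) v' := overMap_comp_smooth h𝒴.isStack.1 j v hv1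
  let v₀ : ↥V'.left := ⟨v₀', hv₀O⟩
  have hv₀ : AlgSt.Points.ofChart v' v₀ = AlgSt.Points.ofChart v v₀' := by
    rw [ofChart_overMap_comp]
    rfl
  have hqcV' : AlgSt.IsQuasiCompact (FibCat.overCat V') := Groth.Agent.Lib.Helper66.AlgStQC4.isQuasiCompact_overCat V'
  obtain ⟨W, w, hWaff, hw1, hw2⟩ := hf (FibCat.overCat V') (isAlgStack_overCat V') hqcV' v'
  obtain ⟨k, -, ⟨e⟩⟩ := Groth.Agent.Lib.Helper65.exists_iso_overMap (BasedFunctor.comp w (fpFst v' f))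
  have hfpfib : IsFibGrpd (fp v' f).p :=
    isFibGrpd_fp v' f (isFibGrpd_overForget V') h𝒳.isStack.1 h𝒴.isStack.1
  have hcl : v₀ ∈ closure (Set.range k.left) := by
    rw [mem_closure_iff]
    intro N hN hv₀N
    have hopen : IsOpen (AlgSt.Points.ofChart v' '' N) :=
      isOpenMap_ofChart_smooth h𝒴.isStack.1 v' hv' N hN
    have hyN : AlgSt.Points.ofChart v' v₀ ∈ AlgSt.Points.ofChart v' '' N := ⟨v₀, hv₀N, rfl⟩
    rw [← hv₀] at hy
    obtain ⟨_, ⟨n, hnN, rfl⟩, ⟨p, hp⟩⟩ := mem_closure_iff.1 hy _ hopen hyN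
    obtain ⟨q, hq1, hq2⟩ := exists_points_fp h𝒳.isStack.1 h𝒴.isStack.1 (isFibGrpd_overForget V') f v'
      (chartPt V' n) p (by rw [← ofChart_eq]; exact hp.symm)
    obtain ⟨w₀, rfl⟩ := ofChart_surjective hfpfib w hw2 q
    refine ⟨n, hnN, w₀, ?_⟩
    apply (chartPt_bijective V').1
    rw [← points_map_overMap_chartPt, ← points_map_congr e, points_map_comp, ← ofChart_eq, hq1]
  obtain ⟨A, iA1, iA2, iA3, i₂, i₁, hsq, hcp⟩ :=
    Groth.Agent.Lib.Helper66.ValSpecialize.exists_valuationRing_of_mem_closure_range k.left v₀ hcl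
  let sA : Spec (CommRingCat.of A) ⟶ S := i₂ ≫ V'.hom
  let ι₂ : Over.mk sA ⟶ V' := Over.homMk i₂ rfl
  have hι₁ : i₁ ≫ W.hom = Spec.map (CommRingCat.ofHom (algebraMap A (FractionRing A))) ≫ sA := by
    rw [← Over.w k, ← Category.assoc, ← hsq, Category.assoc]
  let ι₁ : Over.mk (Spec.map (CommRingCat.ofHom (algebraMap A (FractionRing A))) ≫ sA) ⟶ W :=
    Over.homMk i₁ hι₁
  let g : Over.mk (Spec.map (CommRingCat.ofHom (algebraMap A (FractionRing A))) ≫ sA) ⟶ Over.mk sA :=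
    Over.homMk (Spec.map (CommRingCat.ofHom (algebraMap A (FractionRing A)))) rfl
  have hsq' : ι₁ ≫ k = g ≫ ι₂ := by
    apply Over.OverMorphism.ext
    exact hsq.symm
  refine ⟨A, iA1, iA2, iA3, sA, BasedFunctor.comp (AlgSt.overMap ι₂) v',
    BasedFunctor.comp (BasedFunctor.comp (AlgSt.overMap ι₁) w) (fpSnd v' f),
    exists_iso_of_square f v' w k e ι₁ ι₂ g hsq', ?_⟩
  rw [ofChart_overMap_comp, ← hv₀]
  congr 1

end Groth.Agent.Lib.Helper66.AlgStValCrit
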