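import Groth.Agent.Lib.Helper66.ValFlat
import Groth.Agent.Lib.Helper66.AlgStValCrit
import Groth.Agent.Lib.Helper66.AlgStLocQSq5
import Groth.Agent.Lib.Helper65.LocQFlat

/-!
# Lifting valuation rings along flat morphisms of algebraic stacks
-/

set_option autoImplicit false
set_option backward.isDefEq.respectTransparency false
set_option backward.isDefEq.respectTransparency.types false
universe u

open CategoryTheory CategoryTheory.Limits AlgebraicGeometry Opposite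

namespace Groth.Agent.Lib.Helper66.AlgStValFlat

open FibCat Groth.Agent.Lib.Helper31 Groth.Agent.Lib.Helper65 Groth.Agent.Lib.Helper66
open Groth.Agent.Lib.Helper66.AlgStLocQSq Groth.Agent.Lib.Helper66.AlgStPFacts

variable {S : Scheme.{u}} {𝒳 𝒴 : AlgSt.Cat S}

/-- The 2-commutative square of a lift. -/
theorem exists_iso_of_square' (f : 𝒳 ⥤ᵇ 𝒴) {V' W T₁ : Over S} (v' : FibCat.overCat V' ⥤ᵇ 𝒴)
    (w : FibCat.overCat W ⥤ᵇ fp v' f) (k : W ⟶ V')
    (e : BasedFunctor.comp w (fpFst v' f) ≅ AlgSt.overMap k) (ι₁ : T₁ ⟶ W) (g : T₁ ⟶ V')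
    (h : ι₁ ≫ k = g) :
    Nonempty (BasedFunctor.comp (BasedFunctor.comp (BasedFunctor.comp (AlgSt.overMap ι₁) w) (fpSnd v' f)) f ≅
      BasedFunctor.comp (AlgSt.overMap g) v') := by
  have e1 : BasedFunctor.comp (BasedFunctor.comp (BasedFunctor.comp (AlgSt.overMap ι₁) w) (fpSnd v' f)) f =
      BasedFunctor.comp (BasedFunctor.comp (AlgSt.overMap ι₁) w) (BasedFunctor.comp (fpSnd v' f) f) := rfl
  have e2 : BasedFunctor.comp (BasedFunctor.comp (AlgSt.overMap ι₁) w) (BasedFunctor.comp (fpFst v' f) v') =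
      BasedFunctor.comp (AlgSt.overMap ι₁) (BasedFunctor.comp (BasedFunctor.comp w (fpFst v' f)) v') := rfl
  have e3 : BasedFunctor.comp (AlgSt.overMap ι₁) (BasedFunctor.comp (AlgSt.overMap k) v') =
      BasedFunctor.comp (BasedFunctor.comp (AlgSt.overMap ι₁) (AlgSt.overMap k)) v' := rfl
  have e4 : BasedFunctor.comp (AlgSt.overMap (ι₁ ≫ k)) v' = BasedFunctor.comp (AlgSt.overMap g) v' := by
    rw [h]
  exact ⟨eqToIso e1 ≪≫ bWhiskerLeftIso _ (fpIso v' f).symm ≪≫ eqToIso e2 ≪≫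
    bWhiskerLeftIso _ (bWhiskerRightIso e v') ≪≫ eqToIso e3 ≪≫
    bWhiskerRightIso (overMapComp ι₁ k) v' ≪≫ eqToIso e4⟩

/-- Valuation rings lift along flat morphisms of algebraic stacks, after an extension. -/
theorem exists_valuationRing_lift (h𝒳 : AlgSt.IsAlgStack Scheme.fppfPrecoverage 𝒳)
    (h𝒴 : AlgSt.IsAlgStack Scheme.fppfPrecoverage 𝒴) (f : 𝒳 ⥤ᵇ 𝒴)
    (hf : AlgSt.LocQ (AlgSp.LocP @Flat) f)
    (A : Type u) [CommRing A] [IsDomain A] [ValuationRing A] (sA : Spec (CommRingCat.of A) ⟶ S)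
    (a : FibCat.overCat (Over.mk sA) ⥤ᵇ 𝒴)
    (ha : AlgSt.Points.ofChart a (IsLocalRing.closedPoint A) ∈ Set.range (AlgSt.Points.map f)) :
    ∃ (A' : Type u) (_ : CommRing A') (_ : IsDomain A') (_ : ValuationRing A') (φ : A →+* A'),
      Function.Injective φ ∧ IsLocalHom φ ∧
      ∃ x : FibCat.overCat (Over.mk (Spec.map (CommRingCat.ofHom φ) ≫ sA)) ⥤ᵇ 𝒳,
        Nonempty (BasedFunctor.comp x f ≅
          BasedFunctor.comp (AlgSt.overMap (Over.homMk (Spec.map (CommRingCat.ofHom φ)) rfl :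
            Over.mk (Spec.map (CommRingCat.ofHom φ) ≫ sA) ⟶ Over.mk sA)) a) := by
  let T : Over S := Over.mk sA
  have hT := isAlgStack_overCat T
  have hP : AlgSp.IsSmoothLocalST (AlgSp.LocP (S := S) @Flat) := isSmoothLocalST_locP_flat
  have h𝒵 : AlgSt.IsAlgStack Scheme.fppfPrecoverage (fp a f) :=
    Groth.Agent.S12763.result h𝒴.isStack h𝒴.diag hT h𝒳 a f
  have hπ : AlgSt.LocQ (AlgSp.LocP @Flat) (fpFst a f) :=
    locQ_fpFst _ hP (AlgStPFacts.stableBC_locP _ (Or.inr (Or.inr (Or.inl rfl)))) h𝒳 h𝒴 hT f a hf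
  obtain ⟨W, w, hw1, hw2⟩ := h𝒵.atlas
  obtain ⟨k, -, ⟨e⟩⟩ := Groth.Agent.Lib.Helper65.exists_iso_overMap (BasedFunctor.comp w (fpFst a f))
  have hk : AlgSp.LocP @Flat ((AlgSp.yon S).map k) :=
    Groth.Agent.Lib.Helper65.LocQFlat.prop_of_locQ_to_overCat _ hP h𝒵 (fpFst a f) hπ W w k e hw1
  have hkflat : Flat k.left := AlgSp.locP_yon_map hk
  obtain ⟨p, hp⟩ := ha
  obtain ⟨q, hq1, hq2⟩ := exists_points_fp h𝒳.isStack.1 h𝒴.isStack.1 (isFibGrpd_overForget T) f a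
    (chartPt T (IsLocalRing.closedPoint A)) p (by rw [← ofChart_eq]; exact hp.symm)
  obtain ⟨w₀, rfl⟩ := ofChart_surjective h𝒵.isStack.1 w hw2 q
  have hw₀ : k.left w₀ = IsLocalRing.closedPoint A := by
    apply (chartPt_bijective T).1
    rw [← points_map_overMap_chartPt, ← points_map_congr e, points_map_comp, ← ofChart_eq, hq1]
  obtain ⟨A', iA1, iA2, iA3, φ, hinj, hloc, i, hi⟩ :=
    Groth.Agent.Lib.Helper66.ValFlat.exists_valuationRing_ext_of_flat (A := A) k.left w₀ hw₀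
  have hι₁ : i ≫ W.hom = Spec.map (CommRingCat.ofHom φ) ≫ sA := by
    rw [← Over.w k, ← Category.assoc, hi]
    rfl
  let ι₁ : Over.mk (Spec.map (CommRingCat.ofHom φ) ≫ sA) ⟶ W := Over.homMk i hι₁
  let g : Over.mk (Spec.map (CommRingCat.ofHom φ) ≫ sA) ⟶ Over.mk sA :=
    Over.homMk (Spec.map (CommRingCat.ofHom φ)) rfl
  have hsq' : ι₁ ≫ k = g := by
    apply Over.OverMorphism.ext
    exact hi
  exact ⟨A', iA1, iA2, iA3, φ, hinj, hloc,
    BasedFunctor.comp (BasedFunctor.comp (AlgSt.overMap ι₁) w) (fpSnd a f),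
    exists_iso_of_square' f a w k e ι₁ g hsq'⟩

end Groth.Agent.Lib.Helper66.AlgStValFlat
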