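import Groth.Agent.Lib.Helper66.DiagSurjLift
import Groth.Prelude.Def_StGerb

/-!
# Helper66: automorphisms of objects through functors from `(Sch/V)`
-/

set_option autoImplicit false
set_option backward.isDefEq.respectTransparency false
set_option backward.isDefEq.respectTransparency.types false

universe u

open CategoryTheory CategoryTheory.Functor CategoryTheory.Limits Opposite AlgebraicGeometry

namespace Groth.Agent.Lib.Helper66.AutPts

open FibCat Groth.Agent.Lib.Helper31 Groth.Agent.Lib.Helper65 Groth.Agent.Lib.Helper66.DiagSurjLift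

variable {S : Scheme.{u}} {𝒳 : AlgSt.Cat S}

/-- If the group of automorphisms of `z` over the identity is trivial, every endomorphism of `z` over the identity is
the identity. -/
theorem eq_id_of_subsingleton_autO (hG : IsFibGrpd 𝒳.p) (z : 𝒳.obj) (hz : Subsingleton (Gerb.AutO z))
    (σ : z ⟶ z) (h : 𝒳.p.map σ = 𝟙 (𝒳.p.obj z)) : σ = 𝟙 z := by
  haveI : IsIso (𝒳.p.map σ) := by rw [h]; infer_instance
  haveI : IsIso σ := isIso_of_isFibGrpd 𝒳.p hG σ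
  haveI h1 : 𝒳.p.IsHomLift (𝟙 (𝒳.p.obj z)) σ := by
    have h0 := IsHomLift.map 𝒳.p σ
    rwa [h] at h0
  haveI h2 : 𝒳.p.IsHomLift (𝟙 (𝒳.p.obj z)) (inv σ) := inferInstance
  let a : Gerb.AutO z :=
    { hom := ⟨σ, h1⟩
      inv := ⟨inv σ, h2⟩
      hom_inv_id := Subtype.ext (IsIso.hom_inv_id σ)
      inv_hom_id := Subtype.ext (IsIso.inv_hom_id σ) }
  have h3 := Subsingleton.elim a (Iso.refl _)
  exact congrArg (fun b : Gerb.AutO z => b.hom.1) h3

/-- The converse: trivial endomorphisms over the identity give a trivial automorphism group. -/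
theorem subsingleton_autO_of_eq_id (z : 𝒳.obj)
    (h : ∀ σ : z ⟶ z, 𝒳.p.IsHomLift (𝟙 (𝒳.p.obj z)) σ → σ = 𝟙 z) : Subsingleton (Gerb.AutO z) := by
  refine ⟨fun a b => ?_⟩
  apply Iso.ext
  apply Subtype.ext
  exact (h a.hom.1 a.hom.2).trans (h b.hom.1 b.hom.2).symm

/-- Transfer of the triviality of automorphisms from the values of functors `(Sch/V) ⟶ 𝒳` to all objects mapping to an
object over (a scheme isomorphic to) `V`. -/
theorem aut_trivial_of_functor_pts (hG : IsFibGrpd 𝒳.p) (x : 𝒳.obj) (V : Over S) (i : V ≅ 𝒳.p.obj x)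
    (H : ∀ (X : FibCat.overCat V ⥤ᵇ 𝒳) (T : Over V), Subsingleton (Gerb.AutO (X.obj T)))
    (ξ : 𝒳.obj) (φ : ξ ⟶ x) (σ : ξ ⟶ ξ) (hσ : 𝒳.p.map σ = 𝟙 (𝒳.p.obj ξ)) : σ = 𝟙 ξ := by
  obtain ⟨x₁, ψ, hψ⟩ := hG.exists_lift (x := x) i.hom
  have hx₁ : 𝒳.p.obj x₁ = V := IsHomLift.domain_eq 𝒳.p i.hom ψ
  obtain ⟨X, ⟨ε⟩⟩ := exists_functor_of_obj_eq hG x₁ V hx₁
  have hV' : 𝒳.p.obj (X.obj (Over.mk (𝟙 V))) = V := X.w_obj (Over.mk (𝟙 V))
  have hψp : 𝒳.p.map ψ = eqToHom hx₁ ≫ i.hom ≫ eqToHom (IsHomLift.codomain_eq 𝒳.p i.hom ψ).symm :=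
    IsHomLift.fac' 𝒳.p i.hom ψ
  haveI : IsIso (𝒳.p.map ψ) := by rw [hψp]; infer_instance
  haveI hw : IsIso (𝒳.p.map (ε.hom ≫ ψ)) := by rw [Functor.map_comp]; infer_instance
  let g : 𝒳.p.obj ξ ⟶ V := 𝒳.p.map φ ≫ inv (𝒳.p.map (ε.hom ≫ ψ)) ≫ eqToHom hV'
  let T : Over V := Over.mk g
  let m : T ⟶ Over.mk (𝟙 V) := Over.homMk g
  let ρ : X.obj T ⟶ x := X.map m ≫ ε.hom ≫ ψ
  have hT : 𝒳.p.obj (X.obj T) = 𝒳.p.obj ξ := X.w_obj T
  haveI hcart : 𝒳.p.IsStronglyCartesian (𝒳.p.map ρ) ρ := hG.isStronglyCartesian ρ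
  have hρ : 𝒳.p.map ρ = eqToHom hT ≫ 𝒳.p.map φ := by
    have h1 : 𝒳.p.map (X.map m) = eqToHom hT ≫ g ≫ eqToHom hV'.symm := by
      haveI : 𝒳.p.IsHomLift ((FibCat.overCat V).p.map m) (X.map m) :=
        BasedFunctor.preserves_isHomLift X _ m
      exact IsHomLift.fac' 𝒳.p ((FibCat.overCat V).p.map m) (X.map m)
    change 𝒳.p.map (X.map m ≫ ε.hom ≫ ψ) = _
    rw [Functor.map_comp, h1]
    simp only [g, Category.assoc, eqToHom_trans_assoc, eqToHom_refl, Category.id_comp,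
      IsIso.inv_hom_id, Category.comp_id]
  have hf' : 𝒳.p.map φ = eqToHom hT.symm ≫ 𝒳.p.map ρ := by
    rw [hρ, eqToHom_trans_assoc, eqToHom_refl, Category.id_comp]
  haveI hφl : 𝒳.p.IsHomLift (𝒳.p.map φ) φ := IsHomLift.map 𝒳.p φ
  let χ : ξ ⟶ X.obj T := IsStronglyCartesian.map 𝒳.p (𝒳.p.map ρ) ρ hf' φ
  haveI hχl : 𝒳.p.IsHomLift (eqToHom hT.symm) χ := inferInstance
  have hχp : 𝒳.p.map χ = eqToHom hT.symm := by
    have := IsHomLift.fac' 𝒳.p (eqToHom hT.symm) χ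
    simpa using this
  haveI : IsIso (𝒳.p.map χ) := by rw [hχp]; infer_instance
  haveI : IsIso χ := isIso_of_isFibGrpd 𝒳.p hG χ
  have hσ' : inv χ ≫ σ ≫ χ = 𝟙 (X.obj T) := by
    apply eq_id_of_subsingleton_autO hG _ (H X T)
    rw [Functor.map_comp, Functor.map_comp, hσ, Category.id_comp, Functor.map_inv, IsIso.inv_hom_id]
  have h4 : σ ≫ χ = χ := by
    have := congrArg (fun t => χ ≫ t) hσ'
    simpa using this
  exact (cancel_mono χ).1 (by rw [h4, Category.id_comp])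

end Groth.Agent.Lib.Helper66.AutPts
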