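import Groth.Agent.Lib.Helper66.OpenImmSection
import Groth.Agent.H53.Proper

/-!
# Helper66: the locus of a scheme chart lying in the image of a closed immersion of stacks is closed
-/

set_option autoImplicit false
set_option backward.isDefEq.respectTransparency false
set_option backward.isDefEq.respectTransparency.types false

universe u

open CategoryTheory CategoryTheory.Functor CategoryTheory.Limits Opposite AlgebraicGeometry

namespace Groth.Agent.Lib.Helper66.ClosedImmRange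

open FibCat Groth.Agent.Lib.Helper31 Groth.Agent.Lib.Helper65

variable {S : Scheme.{u}} {𝒳 𝒴 : AlgSt.Cat S}

/-- The points of a chart `T` whose image under `Y : T ⟶ 𝒴` lifts to `𝒳`, in terms of a representing space of
`T ×_𝒴 𝒳`. -/
theorem setOf_mem_range_eq (h𝒳 : IsFibGrpd 𝒳.p) (h𝒴 : IsFibGrpd 𝒴.p) (f : 𝒳 ⥤ᵇ 𝒴) (T : Over S)
    (Y : FibCat.overCat T ⥤ᵇ 𝒴) (G : AlgSp.Space S) (e : AlgSt.ofSp G.obj ⥤ᵇ fp Y f) (he : IsEquivOver e) :
    {t : T.left | AlgSt.Points.map Y (chartPt T t) ∈ Set.range (AlgSt.Points.map f)} =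
      (AlgSp.Points.schemeEquiv T).symm ''
        Set.range (AlgSp.Points.map (AlgSt.spMapOfOver (BasedFunctor.comp e (fpFst Y f)))) := by
  have hT : IsFibGrpd (FibCat.overCat T).p := isFibGrpd_overForget T
  let A : AlgSt.ofSp G.obj ⥤ᵇ FibCat.overCat T := BasedFunctor.comp e (fpFst Y f)
  -- the key formula
  have key : ∀ w₂ : AlgSt.Points (AlgSt.ofSp G.obj),
      chartInv T (AlgSt.Points.map A w₂) =
        (AlgSp.Points.schemeEquiv T).symm (AlgSp.Points.map (AlgSt.spMapOfOver A) (ptsEquiv G.obj w₂)) := by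
    intro w₂
    have e2 : AlgSt.Points.map (BasedFunctor.comp (AlgSt.ofSpMap (AlgSt.spMapOfOver A))
        (AlgSt.toOverCat T)) w₂ = AlgSt.Points.map A w₂ :=
      (points_map_congr (isoSpMapOfOver A) w₂).symm
    rw [points_map_comp] at e2
    have e3 := congrArg (AlgSt.Points.map (AlgSt.ofOverCat T)) e2
    rw [← points_map_comp] at e3
    have e4 : BasedFunctor.comp (AlgSt.toOverCat T) (AlgSt.ofOverCat T) = BasedFunctor.id _ := rfl
    rw [e4, points_map_id] at e3
    change (AlgSp.Points.schemeEquiv T).symm (ptsEquiv _ (AlgSt.Points.map (AlgSt.ofOverCat T)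
      (AlgSt.Points.map A w₂))) = _
    rw [← e3, ptsEquiv_map]
  ext t
  constructor
  · rintro ⟨x, hx⟩
    obtain ⟨w₁, hw₁, -⟩ := exists_points_fp h𝒳 h𝒴 hT f Y (chartPt T t) x hx.symm
    obtain ⟨w₂, rfl⟩ := (points_map_bijective_of_isEquivOver e he).2 w₁
    refine ⟨AlgSp.Points.map (AlgSt.spMapOfOver A) (ptsEquiv G.obj w₂), ⟨_, rfl⟩, ?_⟩
    rw [← key w₂]
    have e1 : AlgSt.Points.map A w₂ = chartPt T t := by
      rw [← hw₁]
      exact points_map_comp e (fpFst Y f) w₂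
    rw [e1, chartInv_chartPt]
  · rintro ⟨_, ⟨w, rfl⟩, rfl⟩
    obtain ⟨w₂, rfl⟩ := (ptsEquiv G.obj).surjective w
    rw [← key w₂]
    change AlgSt.Points.map Y (chartPt T (chartInv T (AlgSt.Points.map A w₂))) ∈
      Set.range (AlgSt.Points.map f)
    rw [chartPt_chartInv]
    refine ⟨AlgSt.Points.map (fpSnd Y f) (AlgSt.Points.map e w₂), ?_⟩
    have h1 : AlgSt.Points.map A w₂ = AlgSt.Points.map (fpFst Y f) (AlgSt.Points.map e w₂) :=
      points_map_comp e (fpFst Y f) w₂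
    rw [h1]
    exact (points_map_comp (fpSnd Y f) f _).symm.trans
      ((points_map_congr (fpIso Y f) _).symm.trans (points_map_comp (fpFst Y f) Y _))

/-- For a closed immersion of stacks `f : 𝒳 ⟶ 𝒴` and a scheme chart `Y : T ⟶ 𝒴`, the set of points of `T` whose image
lifts to `𝒳` is closed. -/
theorem isClosed_setOf_mem_range (h𝒳 : IsFibGrpd 𝒳.p) (h𝒴 : IsFibGrpd 𝒴.p) (f : 𝒳 ⥤ᵇ 𝒴)
    (hf : AlgSt.RepByAlgSpWith (AlgSp.RepWith @IsClosedImmersion) f) (T : Over S)
    (Y : FibCat.overCat T ⥤ᵇ 𝒴) :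
    IsClosed {t : T.left | AlgSt.Points.map Y (chartPt T t) ∈ Set.range (AlgSt.Points.map f)} := by
  obtain ⟨G, e, he, hcl⟩ := hf T Y
  rw [setOf_mem_range_eq h𝒳 h𝒴 f T Y G e he]
  have hproper := Groth.Agent.H53.isProperMor_of_repWith_isClosedImmersion _ hcl
  have hcm : IsClosedMap (AlgSp.Points.map (AlgSt.spMapOfOver (BasedFunctor.comp e (fpFst Y f)))) :=
    Groth.Agent.H53.univSp_self _ (AlgSp.IsAlgSpace.yon_obj T) hproper.2.2
  exact (AlgSp.Points.schemeHomeo T).symm.isClosedMap _ hcm.isClosed_range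

end Groth.Agent.Lib.Helper66.ClosedImmRange
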