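import Groth.Agent.Lib.Helper65.FppfLift
import Groth.Agent.Lib.Helper65.SubStBij
import Groth.Agent.Lib.Helper65.SubStackQ
import Groth.Agent.Lib.Helper66.LocQFppfDesc

/-!
# Helper66: closed substacks of reduced algebraic stacks are determined by their points
-/

set_option autoImplicit false
set_option backward.isDefEq.respectTransparency false
set_option backward.isDefEq.respectTransparency.types false

universe u

open CategoryTheory CategoryTheory.Functor CategoryTheory.Limits Opposite AlgebraicGeometry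

namespace Groth.Agent.Lib.Helper66.ClosedSubSt

open FibCat Groth.Agent.Lib.Helper31 Groth.Agent.Lib.Helper65

variable {S : Scheme.{u}} {𝒳 𝒴 : AlgSt.Cat S}

instance (Q : 𝒳.obj → Prop) : (AlgSt.subIncl 𝒳 Q).toFunctor.Full :=
  inferInstanceAs (ObjectProperty.ι Q).Full

instance (Q : 𝒳.obj → Prop) : (AlgSt.subIncl 𝒳 Q).toFunctor.Faithful :=
  inferInstanceAs (ObjectProperty.ι Q).Faithful

/-- Descent for the objects of a substack: if the full subcategory on an isomorphism-closed `Q` satisfies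
the stack condition for a sieve `R` on `T`, and `𝒳` satisfies the prestack condition for `R`, then an
object over `T` all of whose restrictions along `R` have `Q` has `Q`. -/
theorem prop_of_sieve (Q : 𝒳.obj → Prop) (hQi : ObjectProperty.IsClosedUnderIsomorphisms Q)
    {T : Over S} (R : Sieve T) (h𝒳 : Stk.IsStackFor R 𝒳) (hsub : Stk.IsStackFor R (AlgSt.fullSub 𝒳 Q))
    (s : FibCat.overCat T ⥤ᵇ 𝒳) (h : ∀ b : (Stk.sieveCat R).obj, Q (s.obj b.obj)) (a : Over T) :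
    Q (s.obj a) := by
  have hE : (Stk.restr (Stk.sieveIncl R) 𝒳).IsEquivalence := h𝒳
  have hE' : (Stk.restr (Stk.sieveIncl R) (AlgSt.fullSub 𝒳 Q)).IsEquivalence := hsub
  obtain ⟨K₀, ⟨σ⟩⟩ := exists_lift_of_ff (AlgSt.subIncl 𝒳 Q) (BasedFunctor.comp (Stk.sieveIncl R) s)
    (fun b => ⟨⟨s.obj b.obj, h b⟩, Iso.refl _, by
      change 𝒳.p.IsHomLift (𝟙 _) (𝟙 (s.obj b.obj))
      have := s.w_obj b.obj
      exact IsHomLift.id this⟩)
  obtain ⟨K, ⟨κ⟩⟩ := Functor.EssSurj.mem_essImage (Stk.restr (Stk.sieveIncl R) (AlgSt.fullSub 𝒳 Q)) K₀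
  let θ : (Stk.restr (Stk.sieveIncl R) 𝒳).obj (BasedFunctor.comp K (AlgSt.subIncl 𝒳 Q)) ≅
      (Stk.restr (Stk.sieveIncl R) 𝒳).obj s :=
    (post (Stk.sieveCat R) (AlgSt.subIncl 𝒳 Q)).mapIso κ ≪≫ σ
  let ρ : BasedFunctor.comp K (AlgSt.subIncl 𝒳 Q) ≅ s :=
    (Stk.restr (Stk.sieveIncl R) 𝒳).preimageIso θ
  exact hQi.of_iso ((basedIsoToNatIso ρ).app a) (K.obj a).property

/-- A closed immersion onto a reduced scheme which is surjective on points has a section. -/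
theorem exists_section_of_closedImm_surj {U : Over S} (hU : IsReduced U.left) {G : AlgSp.Sp S}
    (a : G ⟶ (AlgSp.yon S).obj U) (ha : AlgSp.RepWith @IsClosedImmersion a)
    (hs : AlgSp.IsSurjectiveMor a) : ∃ g : (AlgSp.yon S).obj U ⟶ G, g ≫ a = 𝟙 _ := by
  obtain ⟨hrep, hprop⟩ := (AlgSp.repWith_iff _ a).1 ha
  obtain ⟨V, snd, fst, sq⟩ := hrep (𝟙 ((AlgSp.yon S).obj U))
  have h1 : IsIso fst := sq.isIso_fst_of_isIso
  have hcl : IsClosedImmersion snd.left := hprop _ _ _ sq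
  have hw : fst ≫ a = (AlgSp.yon S).map snd := by rw [sq.w, Category.comp_id]
  have hsurj : AlgSp.IsSurjectiveMor ((AlgSp.yon S).map snd) := by
    intro z
    obtain ⟨x, hx⟩ := hs z
    refine ⟨AlgSp.Points.map (inv fst) x, ?_⟩
    rw [← hw, ← AlgSp.Points.map_comp, IsIso.inv_hom_id_assoc]
    exact hx
  have h2 : Surjective snd.left :=
    Groth.Agent.Lib.Helper66.LocQFppfDesc.surjective_left_of_isSurjectiveMor snd hsurj
  have h3 : IsIso snd.left := isIso_of_isClosedImmersion_of_surjective snd.left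
  have h4 : IsIso ((Over.forget S).map snd) := h3
  have h5 : IsIso snd := isIso_of_reflects_iso snd (Over.forget S)
  refine ⟨(AlgSp.yon S).map (inv snd) ≫ fst, ?_⟩
  rw [Category.assoc, hw, ← Functor.map_comp, IsIso.inv_hom_id]
  exact (AlgSp.yon S).map_id U

/-- An object whose classifying chart admits a section of the base change of the substack lies in the
substack. -/
theorem prop_of_section (Q : 𝒳.obj → Prop) (h𝒳 : IsFibGrpd 𝒳.p)
    (hQi : ObjectProperty.IsClosedUnderIsomorphisms Q) (hfib : IsFibGrpd (AlgSt.fullSub 𝒳 Q).p)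
    {y : 𝒳.obj} (Y : FibCat.overCat (𝒳.p.obj y) ⥤ᵇ 𝒳)
    (ey : Y.obj (Over.mk (𝟙 (𝒳.p.obj y))) ≅ y) (G : AlgSp.Sp S)
    (e : AlgSt.ofSp G ⥤ᵇ fp Y (AlgSt.subIncl 𝒳 Q)) (g : (AlgSp.yon S).obj (𝒳.p.obj y) ⟶ G)
    (hs : g ≫ AlgSt.spMapOfOver (BasedFunctor.comp e (fpFst Y (AlgSt.subIncl 𝒳 Q))) = 𝟙 _) : Q y := by
  let Ψ : FibCat.overCat (𝒳.p.obj y) ⥤ᵇ fp Y (AlgSt.subIncl 𝒳 Q) :=
    BasedFunctor.comp (AlgSt.ofOverCat (𝒳.p.obj y)) (BasedFunctor.comp (AlgSt.ofSpMap g) e)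
  have hid : BasedFunctor.comp (BasedFunctor.comp (AlgSt.ofOverCat (𝒳.p.obj y)) (AlgSt.ofSpMap g))
      (BasedFunctor.comp (AlgSt.ofSpMap
        (AlgSt.spMapOfOver (BasedFunctor.comp e (fpFst Y (AlgSt.subIncl 𝒳 Q)))))
        (AlgSt.toOverCat (𝒳.p.obj y))) = BasedFunctor.id _ := by
    change BasedFunctor.comp (AlgSt.ofOverCat (𝒳.p.obj y)) (BasedFunctor.comp (AlgSt.ofSpMap
      (g ≫ AlgSt.spMapOfOver (BasedFunctor.comp e (fpFst Y (AlgSt.subIncl 𝒳 Q)))))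
      (AlgSt.toOverCat (𝒳.p.obj y))) = _
    rw [hs]
    rfl
  let i : BasedFunctor.comp Ψ (fpFst Y (AlgSt.subIncl 𝒳 Q)) ≅ BasedFunctor.id _ :=
    bWhiskerLeftIso (BasedFunctor.comp (AlgSt.ofOverCat (𝒳.p.obj y)) (AlgSt.ofSpMap g))
      (isoSpMapOfOver (BasedFunctor.comp e (fpFst Y (AlgSt.subIncl 𝒳 Q)))) ≪≫ eqToIso hid
  let a₀ : Over (𝒳.p.obj y) := Over.mk (𝟙 (𝒳.p.obj y))
  have hQz : Q (Ψ.obj a₀).obj.snd.obj := (Ψ.obj a₀).obj.snd.property
  let m : y ⟶ (Ψ.obj a₀).obj.snd.obj :=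
    ey.inv ≫ Y.map (i.inv.toNatTrans.app a₀) ≫ (Ψ.obj a₀).obj.iso.hom
  exact prop_of_hom_of_isFibGrpd_fullSub Q h𝒳 hQi hfib m hQz

/-- An object over a reduced scheme all of whose points lie in a closed substack lies in the substack. -/
theorem prop_of_ptsProp_range_closed (Q : 𝒳.obj → Prop) (h𝒳 : AlgSt.IsAlgStack Scheme.fppfPrecoverage 𝒳)
    (hQ : AlgSt.IsClosedSubstack 𝒳 Q Scheme.fppfPrecoverage) {y : 𝒳.obj}
    (hred : IsReduced (𝒳.p.obj y).left)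
    (hy : ptsProp (Set.range (AlgSt.Points.map (AlgSt.subIncl 𝒳 Q))) y) : Q y := by
  obtain ⟨Y, ⟨ey⟩⟩ := exists_functor_of_obj h𝒳.isStack.1 y
  obtain ⟨G, e, he, hπ⟩ := hQ.2.2 (𝒳.p.obj y) Y
  have hsurj : AlgSp.IsSurjectiveMor
      (AlgSt.spMapOfOver (BasedFunctor.comp e (fpFst Y (AlgSt.subIncl 𝒳 Q)))) := by
    intro z
    obtain ⟨z', rfl⟩ := (overPts_bijective (𝒳.p.obj y)).2 z
    obtain ⟨t, rfl⟩ := (chartPt_bijective (𝒳.p.obj y)).2 z'
    have h1 : AlgSt.Points.ofChart Y t ∈ Set.range (AlgSt.Points.map (AlgSt.subIncl 𝒳 Q)) :=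
      (ptsProp_obj_iff _ h𝒳.isStack.1 Y (Over.mk (𝟙 (𝒳.p.obj y)))).1 (ptsProp_of_hom _ ey.hom hy) t
    obtain ⟨w₀, hw₀⟩ := h1
    obtain ⟨w₁, hw₁, -⟩ := exists_points_fp hQ.2.1.isStack.1 h𝒳.isStack.1
      (isFibGrpd_overForget (𝒳.p.obj y)) (AlgSt.subIncl 𝒳 Q) Y (chartPt (𝒳.p.obj y) t) w₀
      (by rw [hw₀, ofChart_eq])
    obtain ⟨w₂, rfl⟩ := (points_map_bijective_of_isEquivOver e he).2 w₁
    refine ⟨ptsEquiv G.obj w₂, ?_⟩
    rw [← overPts_map, points_map_comp, hw₁]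
  obtain ⟨g, hg⟩ := exists_section_of_closedImm_surj hred _ hπ hsurj
  exact prop_of_section Q h𝒳.isStack.1 hQ.1 hQ.2.1.isStack.1 Y ey G.obj e g hg

/-- A morphism from a reduced algebraic stack whose image on points lies in a closed substack factors
through the substack. -/
theorem prop_map_of_range_subset (h𝒳 : AlgSt.IsAlgStack Scheme.fppfPrecoverage 𝒳)
    (h𝒴 : AlgSt.IsAlgStack Scheme.fppfPrecoverage 𝒴)
    (hred : AlgSt.SmoothLocally (fun X => IsReduced X) 𝒴) (Q : 𝒳.obj → Prop)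
    (hQ : AlgSt.IsClosedSubstack 𝒳 Q Scheme.fppfPrecoverage) (f : 𝒴 ⥤ᵇ 𝒳)
    (hsub : Set.range (AlgSt.Points.map f) ⊆ Set.range (AlgSt.Points.map (AlgSt.subIncl 𝒳 Q)))
    (y₀ : 𝒴.obj) : Q (f.obj y₀) := by
  have hpull : ∀ ⦃y' y : 𝒳.obj⦄ (_ : y' ⟶ y), Q y → Q y' := fun _ _ φ h =>
    prop_of_hom_of_isFibGrpd_fullSub Q h𝒳.isStack.1 hQ.1 hQ.2.1.isStack.1 φ h
  obtain ⟨U, u, hu1, hu2⟩ := h𝒴.atlas
  have hUred : IsReduced U.left := hred U u hu1
  -- step 1: the atlas object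
  have hQU : Q (f.obj (u.obj (Over.mk (𝟙 U)))) := by
    apply prop_of_ptsProp_range_closed Q h𝒳 hQ
    · have h1 : 𝒳.p.obj (f.obj (u.obj (Over.mk (𝟙 U)))) = U := by
        rw [f.w_obj, u.w_obj]
        rfl
      rw [h1]
      exact hUred
    · exact ptsProp_mono hsub (ptsProp_range_map h𝒴.isStack.1 h𝒳.isStack.1 f _)
  -- step 2: a general object, fppf locally
  obtain ⟨Y, ⟨ey⟩⟩ := exists_functor_of_obj h𝒴.isStack.1 y₀
  obtain ⟨T, hT⟩ : ∃ T : Over S, T = 𝒴.p.obj y₀ := ⟨_, rfl⟩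
  subst hT
  have hu1f : AlgSt.RepByAlgSpWith (AlgSp.LocP @Flat) u :=
    repByAlgSpWith_mono (locP_mono smooth_le_flat) u hu1
  have hu1p : AlgSt.RepByAlgSpWith (AlgSp.LocP @LocallyOfFinitePresentation) u :=
    repByAlgSpWith_mono (locP_mono smooth_le_lfp) u hu1
  have hus : AlgSt.IsSurjective u :=
    isSurjective_of_repByAlgSpWith (isFibGrpd_overForget U) h𝒴.isStack.1 u hu2
  obtain ⟨V, g, x', ⟨i⟩, hfl, hfp, hpts⟩ :=
    Groth.Agent.Lib.Helper65.FppfLift.exists_chart_lift h𝒴.isStack.1 (isFibGrpd_overForget U) u hu1f hu1p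
      (𝒴.p.obj y₀) Y
  have hgs : Surjective g.left := by
    refine ⟨fun t => ?_⟩
    obtain ⟨z', hz'⟩ : ∃ z' : AlgSt.Points (FibCat.overCat (𝒴.p.obj y₀)),
        (AlgSp.Points.schemeHomeo (𝒴.p.obj y₀)).symm (overPts (𝒴.p.obj y₀) z') = t := by
      obtain ⟨z', hz'⟩ := (overPts_bijective (𝒴.p.obj y₀)).2 (AlgSp.Points.schemeHomeo (𝒴.p.obj y₀) t)
      exact ⟨z', by rw [hz']; simp⟩
    obtain ⟨r, hr⟩ := hus (AlgSt.Points.map Y z')
    obtain ⟨v, hv⟩ := hpts z' ⟨r, hr.symm⟩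
    exact ⟨v, hv.trans hz'⟩
  let R : Sieve (𝒴.p.obj y₀) := Sieve.generate (Presieve.singleton g)
  have hR : R ∈ AlgSp.J S (𝒴.p.obj y₀) :=
    Groth.Agent.Lib.Helper51.mem_J_of_fppf g R ⟨V, 𝟙 V, g, Presieve.singleton_self g, Category.id_comp g⟩
  -- the object over `V`
  have hQV : Q (f.obj (Y.obj ((AlgSt.overMap g).obj (Over.mk (𝟙 V))))) := by
    have h1 : Q (f.obj (u.obj (x'.obj (Over.mk (𝟙 V))))) :=
      hpull (f.map (u.map (Over.homMk (x'.obj (Over.mk (𝟙 V))).hom (Category.comp_id _) :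
        x'.obj (Over.mk (𝟙 V)) ⟶ Over.mk (𝟙 U)))) hQU
    exact hQ.1.of_iso (f.toFunctor.mapIso ((basedIsoToNatIso i).app (Over.mk (𝟙 V)))) h1
  have hall : ∀ b : (Stk.sieveCat R).obj, Q ((BasedFunctor.comp Y f).obj b.obj) := by
    intro b
    obtain ⟨W, h, k, hk, hcomp⟩ := b.property
    cases hk
    let m : b.obj ⟶ (AlgSt.overMap g).obj (Over.mk (𝟙 V)) :=
      Over.homMk h (by
        change h ≫ (𝟙 V ≫ g) = b.obj.hom
        rw [Category.id_comp]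
        exact hcomp)
    exact hpull (f.map (Y.map m)) hQV
  have hfin : Q ((BasedFunctor.comp Y f).obj (Over.mk (𝟙 (𝒴.p.obj y₀)))) :=
    prop_of_sieve Q hQ.1 R (h𝒳.isStack.2 R hR) (hQ.2.1.isStack.2 R hR) (BasedFunctor.comp Y f) hall _
  exact hQ.1.of_iso (f.toFunctor.mapIso ey) hfin

end Groth.Agent.Lib.Helper66.ClosedSubSt
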