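import Groth.Agent.Lib.Helper66.AlgStDiagCover
import Groth.Agent.Lib.Helper66.AlgStBridgeUnram
import Groth.Agent.Lib.Helper66.AlgStInertia
import Groth.Agent.Lib.Helper66.AlgStImmFacts
import Groth.Agent.Lib.Helper65.LocalProps
import Groth.Agent.Lib.Helper54.SourceLocal2
import Groth.Agent.S10262

/-!
# Helper66: Deligne–Mumford stacks have unramified diagonal; the neutral section of the inertia of a DM morphism
is an open immersion
-/

set_option autoImplicit false
set_option backward.isDefEq.respectTransparency false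
set_option backward.isDefEq.respectTransparency.types false

universe u

open CategoryTheory CategoryTheory.Limits AlgebraicGeometry Opposite

namespace Groth.Agent.Lib.Helper66.DMUnram

open FibCat Groth.Agent.Lib.Helper31 Groth.Agent.Lib.Helper65 Groth.Agent.Lib.Helper66.AlgStPFacts

variable {S : Scheme.{u}} {𝒳 𝒴 : AlgSt.Cat S}

/-- An étale morphism of sheaves has every property of morphisms of schemes implied by étaleness, étale locally. -/
theorem isEtaleMor_le_locP {Q : MorphismProperty Scheme.{u}}
    (hEQ : (@Etale : MorphismProperty Scheme.{u}) ≤ Q) :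
    AlgSp.IsEtaleMor (S := S) ≤ AlgSp.LocP Q := by
  intro X Y f hf
  exact Groth.Agent.Lib.Helper65.locP_mono hEQ _ (Groth.Agent.Lib.Helper54.locP_etale_of_isEtaleMor hf)

/-- A Deligne–Mumford stack (étale atlas) has unramified diagonal. -/
theorem isDMOver_of_isDM (h : AlgSt.IsDM Scheme.fppfPrecoverage 𝒳) : AlgSt.IsDMOver 𝒳 := by
  obtain ⟨hX, U, u, hu1, hu2⟩ := h
  refine Groth.Agent.Lib.Helper66.AlgStDiagCover.repByAlgSpWith_diag_toSelf _
    (AlgStPFacts.stableBC_locP _ listed_unramified) (AlgStPFacts.stableComp_locP _ listed_unramified)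
    isLocalOnBase_fppf_unramified
    (fun V T a => Groth.Agent.Lib.Helper66.AlgStBridgeUnram.locP_unramified_diagonal (V := V)
      (Y := ⟨(AlgSp.yon S).obj T, AlgSp.IsAlgSpace.yon_obj T⟩) (ObjectProperty.homMk a))
    hX.isStack.1 hX.diag u ?_ ?_ hu2 ?_
  · exact repByAlgSpWith_mono (isEtaleMor_le_locP (fun A B φ hφ => by
      have : Etale φ := hφ
      exact (inferInstance : Flat φ))) u hu1
  · exact repByAlgSpWith_mono (isEtaleMor_le_locP (fun A B φ hφ => by
      have : Etale φ := hφ
      exact (inferInstance : LocallyOfFinitePresentation φ))) u hu1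
  · exact repByAlgSpWith_mono (isEtaleMor_le_locP (fun A B φ hφ => by
      have : Etale φ := hφ
      exact ⟨(inferInstance : LocallyOfFiniteType φ), (inferInstance : FormallyUnramified φ)⟩)) u hu1

/-- The neutral section of the relative inertia of a DM morphism is an open immersion. -/
theorem isOpenImm_inertiaNeutral (f : 𝒳 ⥤ᵇ 𝒴) (hf : AlgSt.IsDMMor f) :
    AlgSt.RepByAlgSpWith (AlgSp.RepWith @IsOpenImmersion) (FibCat.inertiaNeutral f) := by
  have h := Groth.Agent.Lib.Helper66.AlgStInertia.repByAlgSpWith_inertiaToBase _ f hf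
  have h1 : AlgSt.RepByAlgSpWith (AlgSp.RepWith @IsOpenImmersion)
      (FibCat.diag (FibCat.inertiaToBase f)) :=
    Groth.Agent.Lib.Helper66.AlgStBridge.repByAlgSpWith_diag_of_rep (AlgSp.RepWith @IsOpenImmersion)
      (AlgSp.LocP (@LocallyOfFiniteType ⊓ @FormallyUnramified))
      (Groth.Agent.Lib.Helper66.AlgStImmFacts.stableBC_repWith _) _ h
      (fun V T a ha => (Groth.Agent.S10262.result (X := V)
        (Y := ⟨(AlgSp.yon S).obj T, AlgSp.IsAlgSpace.yon_obj T⟩) (ObjectProperty.homMk a)).1 ha)
  exact Groth.Agent.Lib.Helper66.AlgStInertia.repByAlgSpWith_inertiaNeutral_of_diag _ f h1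

end Groth.Agent.Lib.Helper66.DMUnram
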