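import Groth.Agent.Lib.Helper66.OpenImmSection
import Groth.Agent.Lib.Helper66.DMUnram
import Groth.Agent.S6404

/-!
# Helper66: a functor out of a Deligne–Mumford stack which is injective on automorphism groups of geometric points
is faithful
-/

set_option autoImplicit false
set_option backward.isDefEq.respectTransparency false
set_option backward.isDefEq.respectTransparency.types false

universe u

open CategoryTheory CategoryTheory.Functor CategoryTheory.Limits Opposite AlgebraicGeometry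

namespace Groth.Agent.Lib.Helper66.DMFaithful

open FibCat Groth.Agent.Lib.Helper31 Groth.Agent.Lib.Helper65
open Groth.Agent.Lib.Helper66.OpenImmSection Groth.Agent.Lib.Helper66.DMUnram
open Groth.Agent.Lib.Helper66.DiagSurjLift

variable {S : Scheme.{u}} {𝒢 ℱ : AlgSt.Cat S}

theorem faithful_of_geometric_aut_injective
    (h𝒢 : AlgSt.IsDM Scheme.fppfPrecoverage 𝒢) (hF : IsFibGrpd ℱ.p) (g : 𝒢 ⥤ᵇ ℱ)
    (hinj : ∀ (k : Type u) [Field k] [IsAlgClosed k] (s : Spec (CommRingCat.of k) ⟶ S)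
        (ξ : 𝒢.obj) (_ : 𝒢.p.obj ξ = Over.mk s) (a : ξ ⟶ ξ),
        𝒢.p.IsHomLift (𝟙 (𝒢.p.obj ξ)) a → g.map a = 𝟙 (g.obj ξ) → a = 𝟙 ξ) :
    g.toFunctor.Faithful := by
  have hG : IsFibGrpd 𝒢.p := h𝒢.1.isStack.1
  refine faithful_of_aut_trivial hG hF g ?_
  intro t χ hχ hgχ
  have hp : 𝒢.p.map χ = 𝟙 (𝒢.p.obj t) :=
    (IsHomLift.eq_of_isHomLift 𝒢.p (𝟙 (𝒢.p.obj t)) χ).symm
  have : IsIso (𝒢.p.map χ) := by rw [hp]; infer_instance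
  have : IsIso χ := isIso_of_isFibGrpd 𝒢.p hG χ
  let k : (inertia (toSelf 𝒢)).obj := ⟨t, asIso χ, hp⟩
  have hI : IsFibGrpd (inertia (toSelf 𝒢)).p := Groth.Agent.S6404.result hG
  have hopen := isOpenImm_inertiaNeutral (toSelf 𝒢) (isDMOver_of_isDM h𝒢)
  obtain ⟨Z, ⟨eZ⟩⟩ := exists_functor_of_obj_eq hI k (𝒢.p.obj t) rfl
  have hpt : ∀ t₀ : (𝒢.p.obj t).left, AlgSt.Points.map Z (chartPt (𝒢.p.obj t) t₀) ∈
      Set.range (AlgSt.Points.map (inertiaNeutral (toSelf 𝒢))) := by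
    intro t₀
    let p₀ : AlgSt.FPt (FibCat.overCat (𝒢.p.obj t)) := schPt (𝒢.p.obj t) t₀
    let kb := AlgebraicClosure p₀.K
    let j : Spec (CommRingCat.of kb) ⟶ Spec (CommRingCat.of p₀.K) :=
      Spec.map (CommRingCat.ofHom (algebraMap p₀.K kb))
    let s : Spec (CommRingCat.of kb) ⟶ S := j ≫ p₀.str
    let ζ : (inertia (toSelf 𝒢)).obj := Z.obj p₀.obj
    have hζ : (inertia (toSelf 𝒢)).p.obj ζ = Over.mk p₀.str := (Z.w_obj p₀.obj).trans p₀.lies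
    let γ : Over.mk s ⟶ (inertia (toSelf 𝒢)).p.obj ζ :=
      (Over.homMk j rfl : Over.mk s ⟶ Over.mk p₀.str) ≫ eqToHom hζ.symm
    obtain ⟨ζ', Φ, hΦ⟩ := hI.exists_lift (x := ζ) γ
    have hζ' : (inertia (toSelf 𝒢)).p.obj ζ' = Over.mk s :=
      IsHomLift.domain_eq (inertia (toSelf 𝒢)).p γ Φ
    have h1 : 𝒢.p.obj ζ'.pt = Over.mk s := hζ'
    let m₀ : p₀.obj ⟶ Over.mk (𝟙 (𝒢.p.obj t)) := Over.homMk p₀.obj.hom (Category.comp_id _)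
    let Φ' : ζ' ⟶ k := Φ ≫ Z.map m₀ ≫ eZ.hom
    have hc : ζ'.aut.hom ≫ Φ'.hom = Φ'.hom ≫ χ := Φ'.comm
    have hg1 : g.map ζ'.aut.hom = 𝟙 (g.obj ζ'.pt) := by
      have e1 : g.map ζ'.aut.hom ≫ g.map Φ'.hom = g.map Φ'.hom := by
        rw [← g.toFunctor.map_comp, hc, g.toFunctor.map_comp]
        change g.map Φ'.hom ≫ g.map χ = g.map Φ'.hom
        rw [hgχ, Category.comp_id]
      have l0 := inertia_aut_isHomLift (toSelf 𝒢) ζ'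
      have l1 : ℱ.p.IsHomLift (𝟙 (𝒢.p.obj ζ'.pt)) (g.map ζ'.aut.hom) := inferInstance
      have l2 : ℱ.p.IsHomLift (𝟙 (𝒢.p.obj ζ'.pt)) (𝟙 (g.obj ζ'.pt)) :=
        IsHomLift.id (g.w_obj ζ'.pt)
      have l3 : ℱ.p.IsHomLift (𝒢.p.map Φ'.hom) (g.map Φ'.hom) := inferInstance
      have hcart := isStronglyCartesian_of_isFibGrpd ℱ.p hF (𝒢.p.map Φ'.hom) (g.map Φ'.hom)
      apply IsStronglyCartesian.ext ℱ.p (𝒢.p.map Φ'.hom) (g.map Φ'.hom) (𝟙 (𝒢.p.obj ζ'.pt))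
      rw [e1, Category.id_comp]
    have haut : ζ'.aut.hom = 𝟙 ζ'.pt :=
      hinj kb s ζ'.pt h1 ζ'.aut.hom (inertia_aut_isHomLift (toSelf 𝒢) ζ') hg1
    refine ⟨AlgSt.Points.mk ⟨kb, s, ζ'.pt, h1⟩, ?_⟩
    let m : (inertiaNeutral (toSelf 𝒢)).obj ζ'.pt ⟶ ζ' := ⟨𝟙 ζ'.pt, by
      change 𝟙 ζ'.pt ≫ 𝟙 ζ'.pt = 𝟙 ζ'.pt ≫ ζ'.aut.hom
      rw [haut]⟩
    exact AlgSt.Points.sound ⟨_, 𝟙 _, m ≫ Φ, trivial⟩
  obtain ⟨x, φ, -⟩ := exists_obj_iso_of_isOpenImm hG hI (inertiaNeutral (toSelf 𝒢)) hopen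
    (𝒢.p.obj t) Z hpt
  let ψ : k ≅ (inertiaNeutral (toSelf 𝒢)).obj x := eZ.symm ≪≫ φ
  have hc : χ ≫ ψ.hom.hom = ψ.hom.hom := ψ.hom.comm.trans (Category.comp_id _)
  have e3 : ψ.hom.hom ≫ ψ.inv.hom = 𝟙 t := congrArg (fun m => m.hom) ψ.hom_inv_id
  calc χ = χ ≫ (ψ.hom.hom ≫ ψ.inv.hom) := by rw [e3, Category.comp_id]
    _ = (χ ≫ ψ.hom.hom) ≫ ψ.inv.hom := by rw [Category.assoc]
    _ = ψ.hom.hom ≫ ψ.inv.hom := by rw [hc]
    _ = 𝟙 t := e3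

end Groth.Agent.Lib.Helper66.DMFaithful
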