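import Groth.Agent.Lib.Helper66.UnramGeomFibre
import Groth.Agent.Lib.Helper66.AlgStDiagLft
import Groth.Agent.Lib.Helper65.BasedEquiv

/-!
# Helper66: an algebraic stack whose geometric points have trivial automorphism group functors is DM over the base
-/

set_option autoImplicit false
set_option backward.isDefEq.respectTransparency false
set_option backward.isDefEq.respectTransparency.types false

universe u

open CategoryTheory CategoryTheory.Functor CategoryTheory.Limits Opposite AlgebraicGeometry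

namespace Groth.Agent.Lib.Helper66.DMOfGeomAut

open FibCat Groth.Agent.Lib.Helper31 Groth.Agent.Lib.Helper65

variable {S : Scheme.{u}} {𝒳 : AlgSt.Cat S}

/-- A morphism `Δ ζ ⟶ Δ ζ'` of `𝒳 ×_S 𝒳` comes from a morphism `ζ ⟶ ζ'` when `ζ` has no non-trivial automorphism over
the identity. -/
theorem eq_diag_map (h𝒳 : IsFibGrpd 𝒳.p) {ζ ζ' : 𝒳.obj}
    (N : (FibCat.diag (toSelf 𝒳)).obj ζ ⟶ (FibCat.diag (toSelf 𝒳)).obj ζ')
    (haut : ∀ χ : ζ ⟶ ζ, 𝒳.p.map χ = 𝟙 (𝒳.p.obj ζ) → χ = 𝟙 ζ) :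
    N = (FibCat.diag (toSelf 𝒳)).map N.hom.fst := by
  have hw : 𝒳.p.map N.hom.fst = 𝒳.p.map N.hom.snd := by
    have h0 := N.hom.w
    have h1 : 𝒳.p.map N.hom.fst ≫ 𝟙 _ = 𝟙 _ ≫ 𝒳.p.map N.hom.snd := h0
    rwa [Category.comp_id, Category.id_comp] at h1
  have hcart : 𝒳.p.IsStronglyCartesian (𝒳.p.map N.hom.snd) N.hom.snd := h𝒳.isStronglyCartesian _
  have hlift : 𝒳.p.IsHomLift (𝒳.p.map N.hom.snd) N.hom.fst := by
    rw [← hw]; infer_instance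
  let χ : ζ ⟶ ζ := IsCartesian.map 𝒳.p (𝒳.p.map N.hom.snd) N.hom.snd N.hom.fst
  have hχ : χ ≫ N.hom.snd = N.hom.fst := IsCartesian.fac 𝒳.p (𝒳.p.map N.hom.snd) N.hom.snd N.hom.fst
  have hχl : 𝒳.p.IsHomLift (𝟙 (𝒳.p.obj ζ)) χ := inferInstance
  have hχ1 : χ = 𝟙 ζ := haut χ (IsHomLift.eq_of_isHomLift 𝒳.p (𝟙 (𝒳.p.obj ζ)) χ).symm
  have hsnd : N.hom.snd = N.hom.fst := by rw [← hχ, hχ1, Category.id_comp]
  apply ObjectProperty.hom_ext
  apply CategoricalPullback.Hom.ext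
  · rfl
  · exact hsnd

/-- Morphisms of `(Sch/T) ×_{𝒳 ×_S 𝒳} 𝒳` out of an object without automorphisms: every morphism of the first components
lifts. -/
theorem exists_hom_fp_diag (h𝒳 : IsFibGrpd 𝒳.p) {T : Over S}
    (t : FibCat.overCat T ⥤ᵇ fp (toSelf 𝒳) (toSelf 𝒳))
    (X Y : (fp t (FibCat.diag (toSelf 𝒳))).obj) (f₁ : X.obj.fst ⟶ Y.obj.fst)
    (haut : ∀ χ : X.obj.snd ⟶ X.obj.snd, 𝒳.p.map χ = 𝟙 (𝒳.p.obj X.obj.snd) → χ = 𝟙 X.obj.snd) :
    ∃ f : X ⟶ Y, f.hom.fst = f₁ := by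
  let N : (FibCat.diag (toSelf 𝒳)).obj X.obj.snd ⟶ (FibCat.diag (toSelf 𝒳)).obj Y.obj.snd :=
    X.obj.iso.inv ≫ t.map f₁ ≫ Y.obj.iso.hom
  have hN := eq_diag_map h𝒳 N haut
  have w : t.map f₁ ≫ Y.obj.iso.hom = X.obj.iso.hom ≫ (FibCat.diag (toSelf 𝒳)).map N.hom.fst := by
    rw [← hN]
    simp only [N, Iso.hom_inv_id_assoc]
  exact ⟨ObjectProperty.homMk ⟨f₁, N.hom.fst, w⟩, rfl⟩

open Groth.Agent.Lib.Helper66.UnramGeomFibre in
/-- An algebraic stack all of whose geometric points have trivial automorphism group functor is DM over the base: its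
diagonal is unramified. -/
theorem isDMOver_of_geometric_aut_trivial
    (h𝒳 : AlgSt.IsAlgStack Scheme.fppfPrecoverage 𝒳)
    (haut : ∀ (k : Type u) [Field k] [IsAlgClosed k] (x : 𝒳.obj)
        (_ : (𝒳.p.obj x).left ≅ Spec (CommRingCat.of k))
        (ξ : 𝒳.obj) (_ : ξ ⟶ x) (σ : ξ ⟶ ξ), 𝒳.p.map σ = 𝟙 (𝒳.p.obj ξ) → σ = 𝟙 ξ) :
    AlgSt.IsDMOver 𝒳 := by
  have hG : IsFibGrpd 𝒳.p := h𝒳.isStack.1
  intro T t
  obtain ⟨F, e, hE, hlft⟩ := Groth.Agent.Lib.Helper66.AlgStDiagLft.repByAlgSpWith_lft_diag_toSelf hG h𝒳.diag h𝒳.atlas T t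
  refine ⟨F, e, hE, locP_unramified_of_sections _ hlft ?_⟩
  intro k _ _ tb T' x y r hx hy
  let ax : (AlgSt.ofSp F.obj).obj := ⟨T', x⟩
  let ay : (AlgSt.ofSp F.obj).obj := ⟨T', y⟩
  let X := e.obj ax
  let Y := e.obj ay
  have hX : X.obj.fst.left = T' := e.w_obj ax
  have hY : Y.obj.fst.left = T' := e.w_obj ay
  have hx' : eqToHom hX.symm ≫ X.obj.fst.hom = r ≫ geomMap T tb := congrArg ULift.down hx
  have hy' : eqToHom hY.symm ≫ Y.obj.fst.hom = r ≫ geomMap T tb := congrArg ULift.down hy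
  have hXhom : X.obj.fst.hom = eqToHom hX ≫ r ≫ geomMap T tb := by
    rw [← hx', eqToHom_trans_assoc, eqToHom_refl, Category.id_comp]
  have hYhom : Y.obj.fst.hom = eqToHom hY ≫ r ≫ geomMap T tb := by
    rw [← hy', eqToHom_trans_assoc, eqToHom_refl, Category.id_comp]
  let f₁ : X.obj.fst ⟶ Y.obj.fst := Over.homMk (eqToHom (hX.trans hY.symm)) (by
    rw [hXhom, hYhom, eqToHom_trans_assoc])
  have hautX : ∀ χ : X.obj.snd ⟶ X.obj.snd, 𝒳.p.map χ = 𝟙 (𝒳.p.obj X.obj.snd) → χ = 𝟙 X.obj.snd := by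
    let ρ : X.obj.fst ⟶ Over.mk (geomMap T tb) := Over.homMk (eqToHom hX ≫ r) (by
      rw [hXhom, Category.assoc]; rfl)
    let x₀ : 𝒳.obj := (t.obj (Over.mk (geomMap T tb))).obj.fst
    have hx₀ : 𝒳.p.obj x₀ = geomBase T tb := t.w_obj (Over.mk (geomMap T tb))
    let φ : X.obj.snd ⟶ x₀ := X.obj.iso.inv.hom.fst ≫ (t.map ρ).hom.fst
    exact haut k x₀ ((Over.forget S).mapIso (eqToIso hx₀)) X.obj.snd φ
  obtain ⟨f, hf⟩ := exists_hom_fp_diag hG t X Y f₁ hautX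
  obtain ⟨hfull, hfaith, -⟩ := isEquivOver_full_faithful_ess e hE
  obtain ⟨α, hα⟩ := e.toFunctor.map_surjective f
  have hl0 : (AlgSt.ofSp F.obj).p.IsHomLift ((AlgSt.ofSp F.obj).p.map α) α :=
    IsHomLift.map (AlgSt.ofSp F.obj).p α
  have hl1 : (fp t (FibCat.diag (toSelf 𝒳))).p.IsHomLift ((AlgSt.ofSp F.obj).p.map α) (e.map α) :=
    BasedFunctor.preserves_isHomLift e _ α
  have h1 : (fp t (FibCat.diag (toSelf 𝒳))).p.map (e.map α) =
      eqToHom (e.w_obj ax) ≫ (AlgSt.ofSp F.obj).p.map α ≫ eqToHom (e.w_obj ay).symm :=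
    IsHomLift.fac' (fp t (FibCat.diag (toSelf 𝒳))).p ((AlgSt.ofSp F.obj).p.map α) (e.map α)
  have h2 : (fp t (FibCat.diag (toSelf 𝒳))).p.map (e.map α) = eqToHom (hX.trans hY.symm) := by
    change (fp t (FibCat.diag (toSelf 𝒳))).p.map (e.toFunctor.map α) = _
    rw [hα]
    change (f.hom.fst).left = _
    rw [hf]
    rfl
  have h3 : α.hom = 𝟙 T' := by
    have h4 : eqToHom hX ≫ α.hom ≫ eqToHom hY.symm = eqToHom (hX.trans hY.symm) := h1.symm.trans h2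
    have h5 := congrArg (fun m => eqToHom hX.symm ≫ m ≫ eqToHom hY) h4
    simpa using h5
  have h6 := α.map_sec
  rw [h3] at h6
  have h7 : F.obj.obj.map (𝟙 T').op y = x := h6
  rw [op_id, F.obj.obj.map_id] at h7
  exact h7.symm

end Groth.Agent.Lib.Helper66.DMOfGeomAut
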