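import Groth.Agent.Lib.Helper66.DMOfGeomAut

/-!
# Helper66: `isDMOver_of_geometric_aut_trivial` with the hypotheses separated (independent of the topology)
-/

set_option autoImplicit false
set_option backward.isDefEq.respectTransparency false
set_option backward.isDefEq.respectTransparency.types false

universe u

open CategoryTheory CategoryTheory.Functor CategoryTheory.Limits Opposite AlgebraicGeometry

namespace Groth.Agent.Lib.Helper66.DMOfGeomAutK

open FibCat Groth.Agent.Lib.Helper31 Groth.Agent.Lib.Helper65 Groth.Agent.Lib.Helper66.DMOfGeomAut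

variable {S : Scheme.{u}} {𝒳 : AlgSt.Cat S}

open Groth.Agent.Lib.Helper66.UnramGeomFibre in
/-- (Version with the three hypotheses separated, for any topology.) An algebraic stack all of whose geometric points have trivial automorphism group functor is DM over the base: its
diagonal is unramified. -/
theorem isDMOver_of_geometric_aut_trivial'
    (hG : IsFibGrpd 𝒳.p) (hdiag : AlgSt.RepByAlgSp1 (FibCat.diag (toSelf 𝒳)))
    (hatlas : AlgSt.HasAtlas (AlgSp.LocP @Smooth) 𝒳)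
    (haut : ∀ (k : Type u) [Field k] [IsAlgClosed k] (x : 𝒳.obj)
        (_ : (𝒳.p.obj x).left ≅ Spec (CommRingCat.of k))
        (ξ : 𝒳.obj) (_ : ξ ⟶ x) (σ : ξ ⟶ ξ), 𝒳.p.map σ = 𝟙 (𝒳.p.obj ξ) → σ = 𝟙 ξ) :
    AlgSt.IsDMOver 𝒳 := by
  intro T t
  obtain ⟨F, e, hE, hlft⟩ := Groth.Agent.Lib.Helper66.AlgStDiagLft.repByAlgSpWith_lft_diag_toSelf hG hdiag hatlas T t
  refine ⟨F, e, hE, locP_unramified_of_sections _ hlft ?_⟩
  intro k _ _ tb T' x y r hx hy
  let ax : (AlgSt.ofSp F.obj).obj := ⟨T', x⟩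
  let ay : (AlgSt.ofSp F.obj).obj := ⟨T', y⟩
  let X := e.obj ax
  let Y := e.obj ay
  have hX : X.obj.fst.left = T' := e.w_obj ax
  have hY : Y.obj.fst.left = T' := e.w_obj ay
  have hx' : eqToHom hX.symm ≫ X.obj.fst.hom = r ≫ geomMap T tb := congrArg ULift.down hx
  have hy' : eqToHom hY.symm ≫ Y.obj.fst.hom = r ≫ geomMap T tb := congrArg ULift.down hy
  have hXhom : X.obj.fst.hom = eqToHom hX ≫ r ≫ geomMap T tb := by
    rw [← hx', eqToHom_trans_assoc, eqToHom_refl, Category.id_comp]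
  have hYhom : Y.obj.fst.hom = eqToHom hY ≫ r ≫ geomMap T tb := by
    rw [← hy', eqToHom_trans_assoc, eqToHom_refl, Category.id_comp]
  let f₁ : X.obj.fst ⟶ Y.obj.fst := Over.homMk (eqToHom (hX.trans hY.symm)) (by
    rw [hXhom, hYhom, eqToHom_trans_assoc])
  have hautX : ∀ χ : X.obj.snd ⟶ X.obj.snd, 𝒳.p.map χ = 𝟙 (𝒳.p.obj X.obj.snd) → χ = 𝟙 X.obj.snd := by
    let ρ : X.obj.fst ⟶ Over.mk (geomMap T tb) := Over.homMk (eqToHom hX ≫ r) (by
      rw [hXhom, Category.assoc]; rfl)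
    let x₀ : 𝒳.obj := (t.obj (Over.mk (geomMap T tb))).obj.fst
    have hx₀ : 𝒳.p.obj x₀ = geomBase T tb := t.w_obj (Over.mk (geomMap T tb))
    let φ : X.obj.snd ⟶ x₀ := X.obj.iso.inv.hom.fst ≫ (t.map ρ).hom.fst
    exact haut k x₀ ((Over.forget S).mapIso (eqToIso hx₀)) X.obj.snd φ
  obtain ⟨f, hf⟩ := exists_hom_fp_diag hG t X Y f₁ hautX
  obtain ⟨hfull, hfaith, -⟩ := isEquivOver_full_faithful_ess e hE
  obtain ⟨α, hα⟩ := e.toFunctor.map_surjective f
  have hl0 : (AlgSt.ofSp F.obj).p.IsHomLift ((AlgSt.ofSp F.obj).p.map α) α :=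
    IsHomLift.map (AlgSt.ofSp F.obj).p α
  have hl1 : (fp t (FibCat.diag (toSelf 𝒳))).p.IsHomLift ((AlgSt.ofSp F.obj).p.map α) (e.map α) :=
    BasedFunctor.preserves_isHomLift e _ α
  have h1 : (fp t (FibCat.diag (toSelf 𝒳))).p.map (e.map α) =
      eqToHom (e.w_obj ax) ≫ (AlgSt.ofSp F.obj).p.map α ≫ eqToHom (e.w_obj ay).symm :=
    IsHomLift.fac' (fp t (FibCat.diag (toSelf 𝒳))).p ((AlgSt.ofSp F.obj).p.map α) (e.map α)
  have h2 : (fp t (FibCat.diag (toSelf 𝒳))).p.map (e.map α) = eqToHom (hX.trans hY.symm) := by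
    change (fp t (FibCat.diag (toSelf 𝒳))).p.map (e.toFunctor.map α) = _
    rw [hα]
    change (f.hom.fst).left = _
    rw [hf]
    rfl
  have h3 : α.hom = 𝟙 T' := by
    have h4 : eqToHom hX ≫ α.hom ≫ eqToHom hY.symm = eqToHom (hX.trans hY.symm) := h1.symm.trans h2
    have h5 := congrArg (fun m => eqToHom hX.symm ≫ m ≫ eqToHom hY) h4
    simpa using h5
  have h6 := α.map_sec
  rw [h3] at h6
  have h7 : F.obj.obj.map (𝟙 T').op y = x := h6
  rw [op_id, F.obj.obj.map_id] at h7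
  exact h7.symm

end Groth.Agent.Lib.Helper66.DMOfGeomAutK
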