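import Groth.Agent.Lib.Helper66.DMUnram

/-!
# Helper66: a category fibred in groupoids with representable diagonal and an étale surjective atlas has unramified
diagonal (topology-free version of `isDMOver_of_isDM`)
-/

set_option autoImplicit false
set_option backward.isDefEq.respectTransparency false
set_option backward.isDefEq.respectTransparency.types false

universe u

open CategoryTheory CategoryTheory.Limits AlgebraicGeometry Opposite

namespace Groth.Agent.Lib.Helper66.DMUnramK

open FibCat Groth.Agent.Lib.Helper31 Groth.Agent.Lib.Helper65 Groth.Agent.Lib.Helper66.AlgStPFacts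
open Groth.Agent.Lib.Helper66.DMUnram

variable {S : Scheme.{u}} {𝒳 𝒴 : AlgSt.Cat S}

/-- A stack with representable diagonal and an étale surjective atlas has unramified diagonal. -/
theorem isDMOver_of_etale_atlas (hG : IsFibGrpd 𝒳.p)
    (hdiag : AlgSt.RepByAlgSp1 (FibCat.diag (FibCat.toSelf 𝒳)))
    (hatlas : AlgSt.HasAtlas AlgSp.IsEtaleMor 𝒳) : AlgSt.IsDMOver 𝒳 := by
  obtain ⟨U, u, hu1, hu2⟩ := hatlas
  refine Groth.Agent.Lib.Helper66.AlgStDiagCover.repByAlgSpWith_diag_toSelf _
    (AlgStPFacts.stableBC_locP _ listed_unramified) (AlgStPFacts.stableComp_locP _ listed_unramified)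
    isLocalOnBase_fppf_unramified
    (fun V T a => Groth.Agent.Lib.Helper66.AlgStBridgeUnram.locP_unramified_diagonal (V := V)
      (Y := ⟨(AlgSp.yon S).obj T, AlgSp.IsAlgSpace.yon_obj T⟩) (ObjectProperty.homMk a))
    hG hdiag u ?_ ?_ hu2 ?_
  · exact repByAlgSpWith_mono (isEtaleMor_le_locP (fun A B φ hφ => by
      have : Etale φ := hφ
      exact (inferInstance : Flat φ))) u hu1
  · exact repByAlgSpWith_mono (isEtaleMor_le_locP (fun A B φ hφ => by
      have : Etale φ := hφ
      exact (inferInstance : LocallyOfFinitePresentation φ))) u hu1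
  · exact repByAlgSpWith_mono (isEtaleMor_le_locP (fun A B φ hφ => by
      have : Etale φ := hφ
      exact ⟨(inferInstance : LocallyOfFiniteType φ), (inferInstance : FormallyUnramified φ)⟩)) u hu1

end Groth.Agent.Lib.Helper66.DMUnramK
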