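import Groth.Agent.Lib.Helper66.ClosedSubSt
import Groth.Agent.Lib.Helper66.AlgStDiagLft2
import Mathlib.AlgebraicGeometry.AlgClosed.Basic

/-!
# Helper66: the diagonal is surjective on points iff 2-arrows over algebraically closed fields lift
-/

set_option autoImplicit false
set_option backward.isDefEq.respectTransparency false
set_option backward.isDefEq.respectTransparency.types false

universe u

open CategoryTheory CategoryTheory.Functor CategoryTheory.Limits Opposite AlgebraicGeometry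

namespace Groth.Agent.Lib.Helper66.DiagSurjLift

open FibCat Groth.Agent.Lib.Helper31 Groth.Agent.Lib.Helper65

variable {S : Scheme.{u}} {𝒳 𝒴 : AlgSt.Cat S}

/-- If 2-arrows over algebraically closed fields lift, the diagonal is surjective on points. -/
theorem isSurjective_diag_of_lift (h𝒳 : IsFibGrpd 𝒳.p) (h𝒴 : IsFibGrpd 𝒴.p) (f : 𝒳 ⥤ᵇ 𝒴)
    (H : ∀ (k : Type u) [Field k] [IsAlgClosed k] (s : Spec (CommRingCat.of k) ⟶ S) (a₁ a₂ : 𝒳.obj)
        (_ : 𝒳.p.obj a₁ = Over.mk s) (_ : 𝒳.p.obj a₂ = Over.mk s) (β : f.obj a₁ ⟶ f.obj a₂),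
        𝒴.p.IsHomLift (𝟙 (Over.mk s)) β →
          ∃ α : a₁ ⟶ a₂, 𝒳.p.IsHomLift (𝟙 (Over.mk s)) α ∧ f.map α = β) :
    AlgSt.IsSurjective (FibCat.diag f) := by
  intro z
  obtain ⟨p, rfl⟩ := AlgSt.Points.mk_surjective z
  let k := AlgebraicClosure p.K
  let j : Spec (CommRingCat.of k) ⟶ Spec (CommRingCat.of p.K) :=
    Spec.map (CommRingCat.ofHom (algebraMap p.K k))
  let s : Spec (CommRingCat.of k) ⟶ S := j ≫ p.str
  let γ : Over.mk s ⟶ (fp f f).p.obj p.obj :=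
    (Over.homMk j rfl : Over.mk s ⟶ Over.mk p.str) ≫ eqToHom p.lies.symm
  have hfp : IsFibGrpd (fp f f).p := isFibGrpd_fp f f h𝒳 h𝒳 h𝒴
  obtain ⟨b', φ, hφ⟩ := hfp.exists_lift (x := p.obj) γ
  have hb' : (fp f f).p.obj b' = Over.mk s := IsHomLift.domain_eq (fp f f).p γ φ
  have h1 : 𝒳.p.obj b'.obj.fst = Over.mk s := hb'
  have h2 : 𝒳.p.obj b'.obj.snd = Over.mk s := ((fpSnd f f).w_obj b').trans hb'
  have hβ : 𝒴.p.IsHomLift (𝟙 (Over.mk s)) b'.obj.iso.hom := by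
    have h3 : 𝒴.p.IsHomLift (𝟙 (𝒳.p.obj b'.obj.fst)) b'.obj.iso.hom := b'.property
    exact h1 ▸ h3
  obtain ⟨α, hα, hfα⟩ := H k s b'.obj.fst b'.obj.snd h1 h2 b'.obj.iso.hom hβ
  let m : (diag f).obj b'.obj.fst ⟶ b' := fpHomMk (𝟙 _) α (by
    rw [hfα]
    change f.map (𝟙 _) ≫ b'.obj.iso.hom = 𝟙 _ ≫ b'.obj.iso.hom
    rw [f.toFunctor.map_id])
  refine ⟨AlgSt.Points.mk ⟨k, s, b'.obj.fst, h1⟩, ?_⟩
  exact AlgSt.Points.sound ⟨_, 𝟙 _, m ≫ φ, trivial⟩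

/-- 2-Yoneda with a prescribed base. -/
theorem exists_functor_of_obj_eq (h𝒳 : IsFibGrpd 𝒳.p) (y : 𝒳.obj) (T : Over S) (hT : 𝒳.p.obj y = T) :
    ∃ Y : FibCat.overCat T ⥤ᵇ 𝒳, Nonempty (Y.obj (Over.mk (𝟙 T)) ≅ y) := by
  subst hT
  exact exists_functor_of_obj h𝒳 y

/-- A nonempty scheme locally of finite type over an algebraically closed field has a rational point. -/
theorem exists_section_of_lft {k : Type u} [Field k] [IsAlgClosed k] {W : Scheme.{u}}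
    (h : W ⟶ Spec (CommRingCat.of k)) [LocallyOfFiniteType h] (hW : Nonempty W) :
    ∃ σ : Spec (CommRingCat.of k) ⟶ W, σ ≫ h = 𝟙 _ := by
  have hJ : JacobsonSpace W := LocallyOfFiniteType.jacobsonSpace h
  have hne : (closedPoints W).Nonempty := by
    by_contra hcon
    rw [Set.not_nonempty_iff_eq_empty] at hcon
    have h1 := closure_closedPoints (X := W)
    rw [hcon, closure_empty] at h1
    obtain ⟨w⟩ := hW
    exact (h1 ▸ Set.mem_univ w : w ∈ (∅ : Set W))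
  obtain ⟨x, hx⟩ := hne
  exact ⟨pointOfClosedPoint h x hx, pointOfClosedPoint_comp h x hx⟩

/-- If the diagonal is surjective on points, 2-arrows over algebraically closed fields lift. -/
theorem exists_lift_of_isSurjective_diag (h𝒳 : AlgSt.IsAlgStack Scheme.fppfPrecoverage 𝒳)
    (h𝒴 : AlgSt.IsAlgStack Scheme.fppfPrecoverage 𝒴) (f : 𝒳 ⥤ᵇ 𝒴)
    (hΔ : AlgSt.IsSurjective (FibCat.diag f))
    (k : Type u) [Field k] [IsAlgClosed k] (s : Spec (CommRingCat.of k) ⟶ S) (a₁ a₂ : 𝒳.obj)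
    (h₁ : 𝒳.p.obj a₁ = Over.mk s) (h₂ : 𝒳.p.obj a₂ = Over.mk s) (β : f.obj a₁ ⟶ f.obj a₂)
    (hβ : 𝒴.p.IsHomLift (𝟙 (Over.mk s)) β) :
    ∃ α : a₁ ⟶ a₂, 𝒳.p.IsHomLift (𝟙 (Over.mk s)) α ∧ f.map α = β := by
  have hfp : IsFibGrpd (fp f f).p := isFibGrpd_fp f f h𝒳.isStack.1 h𝒳.isStack.1 h𝒴.isStack.1
  -- `β` is an isomorphism
  have hβiso : IsIso β := by
    have h3 : 𝒴.p.map β = eqToHom ((f.w_obj a₁).trans h₁) ≫ 𝟙 (Over.mk s) ≫
        eqToHom ((f.w_obj a₂).trans h₂).symm := IsHomLift.fac' 𝒴.p (𝟙 (Over.mk s)) β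
    have h4 : IsIso (𝒴.p.map β) := by rw [h3]; infer_instance
    exact isIso_of_isFibGrpd 𝒴.p h𝒴.isStack.1 β
  -- the object of the fibre product
  let b : (fp f f).obj := ⟨{ fst := a₁, snd := a₂, iso := asIso β }, by
    change 𝒴.p.IsHomLift (𝟙 (𝒳.p.obj a₁)) β
    exact h₁ ▸ hβ⟩
  obtain ⟨B, ⟨eB⟩⟩ := exists_functor_of_obj_eq hfp b (Over.mk s) h₁
  have hΔ' : AlgSt.RepByAlgSpWith (AlgSp.LocP @LocallyOfFiniteType) (FibCat.diag f) :=
    Groth.Agent.Lib.Helper66.AlgStDiagLft2.repByAlgSpWith_lft_diag h𝒳.isStack.1 h𝒴.isStack.1 h𝒳.diag h𝒴.diag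
      h𝒳.atlas f
  obtain ⟨G, e, he, hlft⟩ := hΔ' (Over.mk s) B
  obtain ⟨W, p, hpe, hps⟩ := G.property.atlas
  obtain ⟨h, hh⟩ := (AlgSp.yon S).map_surjective
    (p ≫ AlgSt.spMapOfOver (BasedFunctor.comp e (fpFst B (FibCat.diag f))))
  have hlfth : LocallyOfFiniteType h.left :=
    hlft p (𝟙 _) h hpe (AlgSp.repWith_id _ (Over.mk s)) (by rw [Category.comp_id]; exact hh.symm)
  -- `W` is nonempty
  have hW : Nonempty W.left := by
    let t₀ : ↥(Over.mk s).left := IsLocalRing.closedPoint k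
    obtain ⟨x, hx⟩ := hΔ (AlgSt.Points.map B (chartPt (Over.mk s) t₀))
    obtain ⟨w₁, -, -⟩ := exists_points_fp h𝒳.isStack.1 hfp (isFibGrpd_overForget (Over.mk s))
      (FibCat.diag f) B (chartPt (Over.mk s) t₀) x hx.symm
    obtain ⟨w₂, rfl⟩ := (points_map_bijective_of_isEquivOver e he).2 w₁
    obtain ⟨y, -⟩ := Groth.Agent.H52.surjective_points_of_repWith_surjective p hps (ptsEquiv G.obj w₂)
    exact ⟨(AlgSp.Points.schemeHomeo W).symm y⟩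
  have : LocallyOfFiniteType (h.left : W.left ⟶ Spec (CommRingCat.of k)) := hlfth
  obtain ⟨σ, hσ⟩ := exists_section_of_lft (h.left : W.left ⟶ Spec (CommRingCat.of k)) hW
  let σ' : Over.mk s ⟶ W := Over.homMk σ (by
    have h5 : h.left ≫ s = W.hom := Over.w h
    change σ ≫ W.hom = s
    rw [← h5, ← Category.assoc, hσ]
    exact Category.id_comp _)
  have hσ' : σ' ≫ h = 𝟙 _ := by
    apply Over.OverMorphism.ext
    exact hσ
  let g : (AlgSp.yon S).obj (Over.mk s) ⟶ G.obj := (AlgSp.yon S).map σ' ≫ p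
  have hg : g ≫ AlgSt.spMapOfOver (BasedFunctor.comp e (fpFst B (FibCat.diag f))) = 𝟙 _ := by
    change ((AlgSp.yon S).map σ' ≫ p) ≫ _ = _
    rw [Category.assoc, ← hh, ← Functor.map_comp, hσ']
    exact (AlgSp.yon S).map_id _
  -- the section as a functor
  let Ψ : FibCat.overCat (Over.mk s) ⥤ᵇ fp B (FibCat.diag f) :=
    BasedFunctor.comp (AlgSt.ofOverCat (Over.mk s)) (BasedFunctor.comp (AlgSt.ofSpMap g) e)
  have hid : BasedFunctor.comp (BasedFunctor.comp (AlgSt.ofOverCat (Over.mk s)) (AlgSt.ofSpMap g))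
      (BasedFunctor.comp (AlgSt.ofSpMap
        (AlgSt.spMapOfOver (BasedFunctor.comp e (fpFst B (FibCat.diag f)))))
        (AlgSt.toOverCat (Over.mk s))) = BasedFunctor.id _ := by
    change BasedFunctor.comp (AlgSt.ofOverCat (Over.mk s)) (BasedFunctor.comp (AlgSt.ofSpMap
      (g ≫ AlgSt.spMapOfOver (BasedFunctor.comp e (fpFst B (FibCat.diag f)))))
      (AlgSt.toOverCat (Over.mk s))) = _
    rw [hg]
    rfl
  let i : BasedFunctor.comp Ψ (fpFst B (FibCat.diag f)) ≅ BasedFunctor.id _ :=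
    bWhiskerLeftIso (BasedFunctor.comp (AlgSt.ofOverCat (Over.mk s)) (AlgSt.ofSpMap g))
      (isoSpMapOfOver (BasedFunctor.comp e (fpFst B (FibCat.diag f)))) ≪≫ eqToIso hid
  let a₀ : Over (Over.mk s) := Over.mk (𝟙 (Over.mk s))
  let ψ : b ≅ (FibCat.diag f).obj (Ψ.obj a₀).obj.snd :=
    eB.symm ≪≫ B.toFunctor.mapIso ((basedIsoToNatIso i).symm.app a₀) ≪≫ (Ψ.obj a₀).obj.iso
  refine ⟨ψ.hom.hom.fst ≫ ψ.inv.hom.snd, ?_, ?_⟩
  · have l1 : 𝒳.p.IsHomLift ((fp f f).p.map ψ.hom) ψ.hom.hom.fst :=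
      (inferInstance : 𝒳.p.IsHomLift (𝒳.p.map ψ.hom.hom.fst) ψ.hom.hom.fst)
    have l2 : 𝒳.p.IsHomLift ((fp f f).p.map ψ.inv) ψ.inv.hom.snd := inferInstance
    have l3 : 𝒳.p.IsHomLift ((fp f f).p.map ψ.hom ≫ (fp f f).p.map ψ.inv)
        (ψ.hom.hom.fst ≫ ψ.inv.hom.snd) := inferInstance
    rw [← Functor.map_comp, Iso.hom_inv_id] at l3
    have l5 : (fp f f).p.map (𝟙 b) = 𝟙 (𝒳.p.obj a₁) := (fp f f).p.map_id b
    rw [l5] at l3
    have l4 : 𝒳.p.IsHomLift (𝟙 (𝒳.p.obj a₁)) (ψ.hom.hom.fst ≫ ψ.inv.hom.snd) := l3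
    have key : ∀ (X : Over S) (_ : 𝒳.p.obj a₁ = X),
        𝒳.p.IsHomLift (𝟙 X) (ψ.hom.hom.fst ≫ ψ.inv.hom.snd) := by
      intro X hX
      subst hX
      exact l4
    exact key _ h₁
  · have w1 := fp_hom_w ψ.hom
    have e1 : ((FibCat.diag f).obj (Ψ.obj a₀).obj.snd).obj.iso.hom = 𝟙 _ := rfl
    have e2 : b.obj.iso.hom = β := rfl
    rw [e1, e2, Category.comp_id] at w1
    rw [f.toFunctor.map_comp]
    change f.map ψ.hom.hom.fst ≫ f.map ψ.inv.hom.snd = β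
    rw [w1, Category.assoc, ← f.toFunctor.map_comp]
    have e3 : ψ.hom.hom.snd ≫ ψ.inv.hom.snd = 𝟙 _ := by
      rw [← fp_comp_snd, Iso.hom_inv_id]
      rfl
    change β ≫ f.map (ψ.hom.hom.snd ≫ ψ.inv.hom.snd) = β
    rw [e3, f.toFunctor.map_id]
    exact Category.comp_id _

end Groth.Agent.Lib.Helper66.DiagSurjLift
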