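import Groth.Agent.Lib.Helper65.FpFib
import Groth.Agent.Lib.Helper65.LocalEq
import Groth.Agent.Lib.Helper65.FpStack
import Groth.Agent.Lib.Helper65.BasedEquiv

/-!
# Helper66: the inertia of a category fibred in setoids is trivial
-/

set_option autoImplicit false

universe v u v₂ u₂

open CategoryTheory FibCat Groth.Agent.Lib.Helper65

namespace Groth.Agent.Lib.Helper66.InertiaSetoid

variable {C : Type u} [Category.{v} C] {𝒳 : BasedCategory.{v₂, u₂} C}

/-- The structure functor of a category fibred in setoids is faithful. -/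
theorem faithful_p_of_isFibSetoid (h : IsFibSetoid 𝒳.p) : 𝒳.p.Faithful := by
  have := faithful_of_aut_trivial h.1 isFibGrpd_selfOver (toSelf 𝒳) (fun t χ hχ _ =>
    haveI : 𝒳.p.IsHomLift (𝟙 (𝒳.p.obj t)) (𝟙 t) := IsHomLift.id rfl
    eq_of_isThin_fiber (U := 𝒳.p.obj t) h.2 χ (𝟙 t))
  exact this

theorem inertiaToBase_isEquivOver_of_isFibSetoid (h : IsFibSetoid 𝒳.p) :
    IsEquivOver (inertiaToBase (toSelf 𝒳)) := by
  have hp : 𝒳.p.Faithful := faithful_p_of_isFibSetoid h
  have hfaith : (inertiaToBase (toSelf 𝒳)).toFunctor.Faithful := by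
    constructor
    intro a b f g hfg
    exact InertiaObj.hom_ext hfg
  have hfull : (inertiaToBase (toSelf 𝒳)).toFunctor.Full := by
    constructor
    intro a b f
    refine ⟨⟨f, ?_⟩, rfl⟩
    apply hp.map_injective
    have ha : 𝒳.p.map a.aut.hom = 𝟙 _ := a.map_aut
    have hb : 𝒳.p.map b.aut.hom = 𝟙 _ := b.map_aut
    rw [Functor.map_comp, Functor.map_comp, ha, hb, Category.id_comp, Category.comp_id]
  refine isEquivOver_of_ff_ess _ ?_
  intro y
  exact ⟨⟨y, Iso.refl y, (toSelf 𝒳).map_id y⟩, Iso.refl _, IsHomLift.id rfl⟩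

end Groth.Agent.Lib.Helper66.InertiaSetoid
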