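import Groth.Agent.Lib.Helper66.ClosedImmRange
import Groth.Agent.Lib.Helper66.DMFaithful
import Groth.Agent.Lib.Helper66.InertiaSetoid
import Groth.Agent.Lib.Helper65.MonoFull
import Groth.Agent.Lib.Helper65.StTop2

/-!
# Helper66: 2-endomorphisms of a morphism of Deligne–Mumford stacks that are trivial on a dense substack
-/

set_option autoImplicit false
set_option backward.isDefEq.respectTransparency false
set_option backward.isDefEq.respectTransparency.types false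

universe u

open CategoryTheory CategoryTheory.Functor CategoryTheory.Limits Opposite AlgebraicGeometry

namespace Groth.Agent.Lib.Helper66.EndTransDM

open FibCat Groth.Agent.Lib.Helper31 Groth.Agent.Lib.Helper65
open Groth.Agent.Lib.Helper66.OpenImmSection Groth.Agent.Lib.Helper66.DMUnram
open Groth.Agent.Lib.Helper66.DiagSurjLift

variable {S : Scheme.{u}} {𝒳 𝒴 𝒰 𝒱 : AlgSt.Cat S}

/-- The neutral section of the relative inertia of a morphism with separated diagonal is a closed immersion. -/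
theorem isClosedImm_inertiaNeutral (f : 𝒳 ⥤ᵇ 𝒴)
    (hf : AlgSt.RepByAlgSpWith AlgSp.IsSeparatedMor (FibCat.diag f)) :
    AlgSt.RepByAlgSpWith (AlgSp.RepWith @IsClosedImmersion) (FibCat.inertiaNeutral f) := by
  have h := Groth.Agent.Lib.Helper66.AlgStInertia.repByAlgSpWith_inertiaToBase _ f hf
  have h1 : AlgSt.RepByAlgSpWith (AlgSp.RepWith @IsClosedImmersion)
      (FibCat.diag (FibCat.inertiaToBase f)) :=
    Groth.Agent.Lib.Helper66.AlgStBridge.repByAlgSpWith_diag_of_rep (AlgSp.RepWith @IsClosedImmersion)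
      AlgSp.IsSeparatedMor (Groth.Agent.Lib.Helper66.AlgStImmFacts.stableBC_repWith _) _ h
      (fun V T a ha => ha)
  exact Groth.Agent.Lib.Helper66.AlgStInertia.repByAlgSpWith_inertiaNeutral_of_diag _ f h1

/-- An automorphism of a `T`-point of a Deligne–Mumford stack which is trivial at all points of `T` is trivial. -/
theorem aut_eq_id_of_points_neutral (h𝒴 : AlgSt.IsDM Scheme.fppfPrecoverage 𝒴) {T : Over S}
    (Z : FibCat.overCat T ⥤ᵇ inertia (toSelf 𝒴))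
    (hpt : ∀ t : T.left, AlgSt.Points.map Z (chartPt T t) ∈
      Set.range (AlgSt.Points.map (inertiaNeutral (toSelf 𝒴)))) :
    (Z.obj (Over.mk (𝟙 T))).aut.hom = 𝟙 _ := by
  have hG : IsFibGrpd 𝒴.p := h𝒴.1.isStack.1
  have hI : IsFibGrpd (inertia (toSelf 𝒴)).p := Groth.Agent.S6404.result hG
  have hopen := isOpenImm_inertiaNeutral (toSelf 𝒴) (isDMOver_of_isDM h𝒴)
  obtain ⟨x, φ, -⟩ := exists_obj_iso_of_isOpenImm hG hI (inertiaNeutral (toSelf 𝒴)) hopen T Z hpt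
  have hc : (Z.obj (Over.mk (𝟙 T))).aut.hom ≫ φ.hom.hom = φ.hom.hom :=
    φ.hom.comm.trans (Category.comp_id _)
  have e3 : φ.hom.hom ≫ φ.inv.hom = 𝟙 _ := congrArg (fun m => m.hom) φ.hom_inv_id
  calc (Z.obj (Over.mk (𝟙 T))).aut.hom
      = (Z.obj (Over.mk (𝟙 T))).aut.hom ≫ (φ.hom.hom ≫ φ.inv.hom) := by rw [e3, Category.comp_id]
    _ = ((Z.obj (Over.mk (𝟙 T))).aut.hom ≫ φ.hom.hom) ≫ φ.inv.hom := by rw [Category.assoc]
    _ = φ.hom.hom ≫ φ.inv.hom := by rw [hc]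
    _ = 𝟙 _ := e3

theorem map_app_eq_id (F : 𝒳 ⥤ᵇ 𝒴) (α : F ⟶ F) (x : 𝒳.obj) :
    𝒴.p.map (α.toNatTrans.app x) = 𝟙 (𝒴.p.obj (F.obj x)) := by
  have h : 𝒴.p.IsHomLift (𝟙 (𝒴.p.obj (F.obj x))) (α.toNatTrans.app x) :=
    BasedNatTrans.isHomLift α (F.w_obj x).symm
  exact (IsHomLift.eq_of_isHomLift 𝒴.p (𝟙 (𝒴.p.obj (F.obj x))) (α.toNatTrans.app x)).symm

theorem isIso_app (h𝒴 : IsFibGrpd 𝒴.p) (F : 𝒳 ⥤ᵇ 𝒴) (α : F ⟶ F) (x : 𝒳.obj) :
    IsIso (α.toNatTrans.app x) := by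
  have : IsIso (𝒴.p.map (α.toNatTrans.app x)) := by rw [map_app_eq_id]; infer_instance
  exact isIso_of_isFibGrpd 𝒴.p h𝒴 _

/-- The functor `𝒳 ⟶ I_𝒴`, `x ↦ (F x, α_x)` defined by a 2-endomorphism `α` of `F`. -/
noncomputable def endInertia (h𝒴 : IsFibGrpd 𝒴.p) (F : 𝒳 ⥤ᵇ 𝒴) (α : F ⟶ F) :
    𝒳 ⥤ᵇ inertia (toSelf 𝒴) where
  toFunctor :=
    { obj := fun x => ⟨F.obj x, @asIso _ _ _ _ (α.toNatTrans.app x) (isIso_app h𝒴 F α x),
        map_app_eq_id F α x⟩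
      map := fun {x y} φ => ⟨F.map φ, (α.toNatTrans.naturality φ).symm⟩
      map_id := fun x => InertiaObj.hom_ext (F.toFunctor.map_id x)
      map_comp := fun φ ψ => InertiaObj.hom_ext (F.toFunctor.map_comp φ ψ) }
  w := F.w

theorem endInertia_aut (h𝒴 : IsFibGrpd 𝒴.p) (F : 𝒳 ⥤ᵇ 𝒴) (α : F ⟶ F) (x : 𝒳.obj) :
    ((endInertia h𝒴 F α).obj x).aut.hom = α.toNatTrans.app x := rfl

/-- Objects of `𝒳` coming from `𝒰` have trivial `α`, when `F ∘ i` factors through a fully faithful `j` from a category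
fibred in setoids. -/
theorem app_eq_id_of_factor (F : 𝒳 ⥤ᵇ 𝒴) (i : 𝒰 ⥤ᵇ 𝒳) (j : 𝒱 ⥤ᵇ 𝒴) [j.toFunctor.Full]
    (h𝒱 : IsFibSetoid 𝒱.p) (G : 𝒰 ⥤ᵇ 𝒱) (e : BasedFunctor.comp G j ≅ BasedFunctor.comp i F)
    (α : F ⟶ F) (u₀ : 𝒰.obj) : α.toNatTrans.app (i.obj u₀) = 𝟙 _ := by
  let ε : j.obj (G.obj u₀) ≅ F.obj (i.obj u₀) := (basedIsoToNatIso e).app u₀
  let β : j.obj (G.obj u₀) ⟶ j.obj (G.obj u₀) := ε.hom ≫ α.toNatTrans.app (i.obj u₀) ≫ ε.inv
  have hβ : 𝒴.p.map β = 𝟙 _ := by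
    change 𝒴.p.map (ε.hom ≫ α.toNatTrans.app (i.obj u₀) ≫ ε.inv) = 𝟙 _
    rw [Functor.map_comp, Functor.map_comp, map_app_eq_id F α (i.obj u₀), Category.id_comp,
      ← Functor.map_comp, ε.hom_inv_id]
    exact 𝒴.p.map_id _
  obtain ⟨γ, hγ⟩ := j.toFunctor.map_surjective β
  have hγ1 : 𝒱.p.map γ = 𝟙 _ := by
    have h1 := Functor.congr_hom j.w.symm γ
    rw [h1, Functor.comp_map, hγ, hβ]
    simp
  have hp : 𝒱.p.Faithful := Groth.Agent.Lib.Helper66.InertiaSetoid.faithful_p_of_isFibSetoid h𝒱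
  have hγ2 : γ = 𝟙 _ := hp.map_injective (hγ1.trans (𝒱.p.map_id _).symm)
  have hβ1 : β = 𝟙 _ := by rw [← hγ, hγ2]; exact j.toFunctor.map_id _
  have h2 : α.toNatTrans.app (i.obj u₀) = ε.inv ≫ β ≫ ε.hom := by
    change _ = ε.inv ≫ (ε.hom ≫ α.toNatTrans.app (i.obj u₀) ≫ ε.inv) ≫ ε.hom
    simp
  rw [h2, hβ1]
  simp

/-- **A 2-endomorphism of a morphism of Deligne–Mumford stacks (separated isomorphism spaces on the target) which is
trivial on a dense substack is trivial.** -/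
theorem endTrans_eq_id (h𝒳 : AlgSt.IsDM Scheme.fppfPrecoverage 𝒳)
    (h𝒴 : AlgSt.IsDM Scheme.fppfPrecoverage 𝒴)
    (hΔ : AlgSt.RepByAlgSpWith AlgSp.IsSeparatedMor (FibCat.diag (FibCat.toSelf 𝒴)))
    (F : 𝒳 ⥤ᵇ 𝒴) (i : 𝒰 ⥤ᵇ 𝒳) (hdense : Dense (Set.range (AlgSt.Points.map i)))
    (α : F ⟶ F) (hU : ∀ u₀ : 𝒰.obj, α.toNatTrans.app (i.obj u₀) = 𝟙 _) : α = 𝟙 F := by
  have hX : IsFibGrpd 𝒳.p := h𝒳.1.isStack.1
  have hY : IsFibGrpd 𝒴.p := h𝒴.1.isStack.1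
  have hI : IsFibGrpd (inertia (toSelf 𝒴)).p := Groth.Agent.S6404.result hY
  -- the atlas
  obtain ⟨X, a, ha1, ha2⟩ := h𝒳.1.atlas
  have hAcl : IsClosed {t : X.left | AlgSt.Points.map (BasedFunctor.comp a (endInertia hY F α)) (chartPt X t) ∈
      Set.range (AlgSt.Points.map (inertiaNeutral (toSelf 𝒴)))} :=
    Groth.Agent.Lib.Helper66.ClosedImmRange.isClosed_setOf_mem_range hY hI (inertiaNeutral (toSelf 𝒴))
      (isClosedImm_inertiaNeutral (toSelf 𝒴) hΔ) X (BasedFunctor.comp a (endInertia hY F α))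
  have hopenmap : IsOpenMap (AlgSt.Points.ofChart a) := isOpenMap_ofChart_smooth hX a ha1
  have hBd : Dense (AlgSt.Points.ofChart a ⁻¹' Set.range (AlgSt.Points.map i)) :=
    hdense.preimage hopenmap
  have hBA : AlgSt.Points.ofChart a ⁻¹' Set.range (AlgSt.Points.map i) ⊆
      {t : X.left | AlgSt.Points.map (BasedFunctor.comp a (endInertia hY F α)) (chartPt X t) ∈
        Set.range (AlgSt.Points.map (inertiaNeutral (toSelf 𝒴)))} := by
    rintro t ⟨u, hu⟩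
    change AlgSt.Points.map (BasedFunctor.comp a (endInertia hY F α)) (chartPt X t) ∈
      Set.range (AlgSt.Points.map (inertiaNeutral (toSelf 𝒴)))
    rw [points_map_comp a (endInertia hY F α), ← ofChart_eq, ← hu]
    obtain ⟨p, rfl⟩ := AlgSt.Points.mk_surjective u
    refine ⟨AlgSt.Points.mk ((p.map i).map F), ?_⟩
    let m : (inertiaNeutral (toSelf 𝒴)).obj (F.obj (i.obj p.obj)) ⟶
        (endInertia hY F α).obj (i.obj p.obj) := ⟨𝟙 _, by
      change 𝟙 _ ≫ 𝟙 _ = 𝟙 _ ≫ α.toNatTrans.app (i.obj p.obj)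
      rw [hU p.obj]⟩
    exact AlgSt.Points.sound ⟨_, 𝟙 _, m, trivial⟩
  have hAuniv : ∀ t : X.left, AlgSt.Points.map (BasedFunctor.comp a (endInertia hY F α)) (chartPt X t) ∈
      Set.range (AlgSt.Points.map (inertiaNeutral (toSelf 𝒴))) := by
    intro t
    have h1 : closure (AlgSt.Points.ofChart a ⁻¹' Set.range (AlgSt.Points.map i)) ⊆ _ :=
      closure_minimal hBA hAcl
    exact h1 (hBd t)
  -- all points of `𝒳`
  have hall : ∀ q : AlgSt.Points 𝒳, AlgSt.Points.map (endInertia hY F α) q ∈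
      Set.range (AlgSt.Points.map (inertiaNeutral (toSelf 𝒴))) := by
    intro q
    obtain ⟨t, rfl⟩ := ofChart_surjective hX a ha2 q
    have := hAuniv t
    rwa [points_map_comp a (endInertia hY F α), ← ofChart_eq] at this
  -- all objects
  apply BasedNatTrans.ext
  ext x
  obtain ⟨Xx, ⟨ey⟩⟩ := exists_functor_of_obj_eq hX x (𝒳.p.obj x) rfl
  have h1 := aut_eq_id_of_points_neutral h𝒴 (BasedFunctor.comp Xx (endInertia hY F α)) (fun t => by
    rw [points_map_comp Xx (endInertia hY F α)]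
    exact hall _)
  have h2 : α.toNatTrans.app (Xx.obj (Over.mk (𝟙 (𝒳.p.obj x)))) = 𝟙 _ := h1
  have h3 := α.toNatTrans.naturality ey.hom
  rw [h2, Category.id_comp] at h3
  have : IsIso (F.toFunctor.map ey.hom) := inferInstance
  have h4 : F.toFunctor.map ey.hom ≫ α.toNatTrans.app x = F.toFunctor.map ey.hom ≫ 𝟙 _ := by
    rw [h3, Category.comp_id]
  exact (cancel_epi (F.toFunctor.map ey.hom)).1 h4

end Groth.Agent.Lib.Helper66.EndTransDM
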