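import Mathlib
import Groth.Agent.Lib.Helper60.ExtBridge

/-!
# `Ext^n(X, Y)` (derived-functor `Ext` of Mathlib) is killed by every scalar killing `X`
-/

set_option autoImplicit false
universe u
open CategoryTheory CategoryTheory.Limits Opposite

namespace Groth.Agent.Lib.Helper66.ExtAnn

open Groth.Agent.Lib.Helper60

variable {R : Type u} [CommRing R]

theorem oldMk_congr {X : ModuleCat.{u} R} (P : ProjectiveResolution X) (n : ℕ) (Y : ModuleCat.{u} R)
    {f g : P.complex.X n ⟶ Y} (h : f = g) (hf : P.complex.d (n + 1) n ≫ f = 0)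
    (hg : P.complex.d (n + 1) n ≫ g = 0) : oldMk P n Y f hf = oldMk P n Y g hg := by
  subst h; rfl

theorem smul_eq_zero_of_smul_id_eq_zero (X Y : ModuleCat.{u} R) (n : ℕ) (a : R)
    (ha : a • 𝟙 X = 0) (x : ((Ext R (ModuleCat.{u} R) n).obj (op X)).obj Y) : a • x = 0 := by
  let P : ProjectiveResolution X := ProjectiveResolution.of X
  obtain ⟨h, hh, rfl⟩ := oldMk_surjective P n Y x
  -- two lifts of `a • 𝟙 X = 0`
  have h1 := mapLeft_oldMk P n P (a • 𝟙 X) (a • 𝟙 P.complex) (by
    simp) Y h hh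
  have h2 := mapLeft_oldMk P n P (a • 𝟙 X) 0 (by
    rw [ha]; simp) Y h hh
  rw [h1] at h2
  have e1 : oldMk P n Y ((a • 𝟙 P.complex : P.complex ⟶ P.complex).f n ≫ h)
      (by rw [← Category.assoc, ← (a • 𝟙 P.complex : P.complex ⟶ P.complex).comm, Category.assoc, hh,
        comp_zero]) = a • oldMk P n Y h hh := by
    rw [← oldMk_smul]
    apply oldMk_congr
    simp
  have e2 : oldMk P n Y ((0 : P.complex ⟶ P.complex).f n ≫ h)
      (by rw [← Category.assoc, ← (0 : P.complex ⟶ P.complex).comm, Category.assoc, hh,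
        comp_zero]) = 0 := by
    have h0 := oldMk_smul P n Y (0 : R) h hh
    exact (oldMk_congr P n Y (by simp) _ _).trans (h0.trans (zero_smul R _))
  rw [e1, e2] at h2
  exact h2

end Groth.Agent.Lib.Helper66.ExtAnn
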