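import Groth.Agent.Lib.Helper65.FpFib
import Groth.Agent.Lib.Helper65.LocalEq
import Groth.Agent.Lib.Helper65.BasedEquiv
import Groth.Agent.Lib.Helper31.FibCat

/-!
# Helper66: criteria for faithfulness of a functor over the base between categories fibred in groupoids

* the relative inertia is trivial iff the functor is faithful;
* a functor whose diagonal is full is faithful.
-/

set_option autoImplicit false

universe v u v₂ u₂ v₃ u₃

open CategoryTheory FibCat Groth.Agent.Lib.Helper65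

namespace Groth.Agent.Lib.Helper66.FaithfulCrit

variable {C : Type u} [Category.{v} C] {𝒳 : BasedCategory.{v₂, u₂} C} {𝒴 : BasedCategory.{v₃, u₃} C}

/-- If `F` is faithful then the relative inertia is trivial. -/
theorem inertiaToBase_isEquivOver_of_faithful (F : 𝒳 ⥤ᵇ 𝒴) [F.toFunctor.Faithful] :
    IsEquivOver (inertiaToBase F) := by
  have hfaith : (inertiaToBase F).toFunctor.Faithful := by
    constructor
    intro a b f g hfg
    exact InertiaObj.hom_ext hfg
  have hfull : (inertiaToBase F).toFunctor.Full := by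
    constructor
    intro a b f
    have key : ∀ (g : a.pt ⟶ b.pt), a.aut.hom ≫ g = g ≫ b.aut.hom := by
      intro g
      apply F.toFunctor.map_injective
      have ha : F.map a.aut.hom = 𝟙 _ := a.map_aut
      have hb : F.map b.aut.hom = 𝟙 _ := b.map_aut
      change F.map (a.aut.hom ≫ g) = F.map (g ≫ b.aut.hom)
      rw [Functor.map_comp, Functor.map_comp, ha, hb, Category.id_comp, Category.comp_id]
    exact ⟨⟨f, key f⟩, rfl⟩
  refine isEquivOver_of_ff_ess _ ?_
  intro y
  exact ⟨⟨y, Iso.refl y, F.map_id y⟩, Iso.refl _, IsHomLift.id rfl⟩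

/-- If the relative inertia is trivial then `F` is faithful (categories fibred in groupoids). -/
theorem faithful_of_inertiaToBase_isEquivOver (h𝒳 : IsFibGrpd 𝒳.p) (h𝒴 : IsFibGrpd 𝒴.p) (F : 𝒳 ⥤ᵇ 𝒴)
    (h : IsEquivOver (inertiaToBase F)) : F.toFunctor.Faithful := by
  have heq : (inertiaToBase F).toFunctor.IsEquivalence :=
    Groth.Agent.Lib.Helper31.isEquivalence_of_isEquivOver _ h
  refine faithful_of_aut_trivial h𝒳 h𝒴 F ?_
  intro t χ hχ hFχ
  have hp : 𝒳.p.map χ = 𝟙 (𝒳.p.obj t) :=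
    (CategoryTheory.IsHomLift.eq_of_isHomLift 𝒳.p (𝟙 (𝒳.p.obj t)) χ).symm
  have : IsIso (𝒳.p.map χ) := by rw [hp]; infer_instance
  have : IsIso χ := Groth.Agent.Lib.Helper31.isIso_of_isFibGrpd 𝒳.p h𝒳 χ
  let a : InertiaObj F := ⟨t, asIso χ, hFχ⟩
  let b : InertiaObj F := ⟨t, Iso.refl t, F.map_id t⟩
  obtain ⟨g, hg⟩ := (inertiaToBase F).toFunctor.map_surjective (X := a) (Y := b) (𝟙 t)
  have hg' : g.hom = 𝟙 t := hg
  have hc := g.comm
  rw [hg'] at hc
  simpa [a, b] using hc

theorem inertiaToBase_isEquivOver_iff_faithful (h𝒳 : IsFibGrpd 𝒳.p) (h𝒴 : IsFibGrpd 𝒴.p) (F : 𝒳 ⥤ᵇ 𝒴) :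
    IsEquivOver (inertiaToBase F) ↔ F.toFunctor.Faithful :=
  ⟨faithful_of_inertiaToBase_isEquivOver h𝒳 h𝒴 F, fun _ => inertiaToBase_isEquivOver_of_faithful F⟩

end Groth.Agent.Lib.Helper66.FaithfulCrit
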