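import Groth.Agent.Lib.Helper66.FaithfulCrit

/-!
# Helper66: a functor over the base whose diagonal is full is faithful
-/

set_option autoImplicit false

universe v u v₂ u₂ v₃ u₃

open CategoryTheory FibCat Groth.Agent.Lib.Helper65

namespace Groth.Agent.Lib.Helper66.FaithfulCrit

variable {C : Type u} [Category.{v} C] {𝒳 : BasedCategory.{v₂, u₂} C} {𝒴 : BasedCategory.{v₃, u₃} C}

theorem faithful_of_diag_full (h𝒳 : IsFibGrpd 𝒳.p) (h𝒴 : IsFibGrpd 𝒴.p) (F : 𝒳 ⥤ᵇ 𝒴)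
    [(FibCat.diag F).toFunctor.Full] : F.toFunctor.Faithful := by
  refine faithful_of_aut_trivial h𝒳 h𝒴 F ?_
  intro t χ hχ hFχ
  let m : (FibCat.diag F).obj t ⟶ (FibCat.diag F).obj t :=
    ObjectProperty.homMk
      { fst := χ
        snd := 𝟙 t
        w := by
          change F.map χ ≫ 𝟙 _ = 𝟙 _ ≫ F.map (𝟙 t)
          rw [hFχ, F.map_id] }
  obtain ⟨γ, hγ⟩ := (FibCat.diag F).toFunctor.map_surjective m
  have h1 : γ = χ := congrArg (fun k => k.hom.fst) hγ
  have h2 : γ = 𝟙 t := congrArg (fun k => k.hom.snd) hγ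
  rw [← h1, h2]

end Groth.Agent.Lib.Helper66.FaithfulCrit
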