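import Groth.Agent.Lib.Helper66.FaithfulCrit2

/-!
# Helper66: the second diagonal is an equivalence iff the functor is faithful
-/

set_option autoImplicit false
set_option backward.isDefEq.respectTransparency false
set_option backward.isDefEq.respectTransparency.types false

universe v u v₂ u₂ v₃ u₃

open CategoryTheory CategoryTheory.Limits FibCat Groth.Agent.Lib.Helper65

namespace Groth.Agent.Lib.Helper66.FaithfulCrit

variable {C : Type u} [Category.{v} C] {𝒳 : BasedCategory.{v₂, u₂} C} {𝒴 : BasedCategory.{v₃, u₃} C}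

/-- The diagonal is always faithful. -/
instance diag_faithful (F : 𝒳 ⥤ᵇ 𝒴) : (FibCat.diag F).toFunctor.Faithful := by
  constructor
  intro a b f g hfg
  exact congrArg (fun k => k.hom.fst) hfg

/-- The diagonal of a faithful functor is full. -/
theorem diag_full_of_faithful (F : 𝒳 ⥤ᵇ 𝒴) [F.toFunctor.Faithful] :
    (FibCat.diag F).toFunctor.Full := by
  constructor
  intro a b m
  refine ⟨m.hom.fst, ?_⟩
  have hw := m.hom.w
  have hw' : F.map m.hom.fst ≫ 𝟙 _ = 𝟙 _ ≫ F.map m.hom.snd := hw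
  rw [Category.comp_id, Category.id_comp] at hw'
  have h2 : m.hom.fst = m.hom.snd := F.toFunctor.map_injective hw'
  apply ObjectProperty.hom_ext
  apply CategoricalPullback.hom_ext
  · rfl
  · exact h2

/-- The diagonal of a fully faithful functor between categories fibred in groupoids is an equivalence
over the base. -/
theorem diag_isEquivOver_of_full_faithful (h𝒳 : IsFibGrpd 𝒳.p) (h𝒴 : IsFibGrpd 𝒴.p) (F : 𝒳 ⥤ᵇ 𝒴)
    [F.toFunctor.Full] [F.toFunctor.Faithful] : IsEquivOver (FibCat.diag F) := by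
  have := diag_full_of_faithful F
  refine isEquivOver_of_ff_ess _ ?_
  intro y
  -- `y = (a, b, iso : F a ≅ F b)`; lift `iso` to `a ⟶ b`
  have hfp : IsFibGrpd (fp F F).p := isFibGrpd_fp F F h𝒳 h𝒳 h𝒴
  let g : y.obj.fst ⟶ y.obj.snd := F.toFunctor.preimage y.obj.iso.hom
  have hg : F.map g = y.obj.iso.hom := F.toFunctor.map_preimage _
  let m : (FibCat.diag F).obj y.obj.fst ⟶ y :=
    ObjectProperty.homMk
      { fst := 𝟙 _
        snd := g
        w := by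
          change F.map (𝟙 _) ≫ y.obj.iso.hom = 𝟙 _ ≫ F.map g
          rw [F.map_id, Category.id_comp, Category.id_comp, hg] }
  have hm : (fp F F).p.map m = 𝟙 _ := by
    change 𝒳.p.map (𝟙 _) = 𝟙 _
    exact 𝒳.p.map_id _
  have hiso : IsIso ((fp F F).p.map m) := by rw [hm]; infer_instance
  have : IsIso m := Groth.Agent.Lib.Helper31.isIso_of_isFibGrpd (fp F F).p hfp m
  refine ⟨y.obj.fst, asIso m, ?_⟩
  have h3 : (fp F F).p.IsHomLift ((fp F F).p.map m) m := inferInstance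
  rw [hm] at h3
  exact h3

/-- If the diagonal of `G` is essentially surjective over the base, then `G` is full. -/
theorem full_of_diag_essSurjOver (h𝒳 : IsFibGrpd 𝒳.p) (h𝒴 : IsFibGrpd 𝒴.p) (G : 𝒳 ⥤ᵇ 𝒴)
    (h : EssSurjOver (FibCat.diag G)) : G.toFunctor.Full := by
  apply Groth.Agent.Lib.Helper31.full_of_fiberFunctor_full G h𝒳 h𝒴
  intro U
  constructor
  intro X X' ψ
  have hψ : 𝒴.p.IsHomLift (𝟙 U) ψ.1 := ψ.2
  have hisoψ : IsIso (𝒴.p.map ψ.1) := by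
    rw [IsHomLift.fac' 𝒴.p (𝟙 U) ψ.1]; infer_instance
  have hψiso : IsIso ψ.1 := Groth.Agent.Lib.Helper31.isIso_of_isFibGrpd 𝒴.p h𝒴 ψ.1
  let κ : G.obj X.1 ≅ G.obj X'.1 := asIso ψ.1
  have hX : 𝒳.p.obj X.1 = U := X.2
  have hκ : 𝒴.p.IsHomLift (𝟙 (𝒳.p.obj X.1)) κ.hom := by
    change 𝒴.p.IsHomLift (𝟙 (𝒳.p.obj X.1)) ψ.1
    exact isHomLift_id_of_eq 𝒴.p hX.symm ψ.1
  let T : (fp G G).obj := fpObjMk G G X.1 X'.1 κ hκ
  obtain ⟨x, ε, hε⟩ := h T
  have w : G.map ε.hom.hom.fst ≫ κ.hom = 𝟙 _ ≫ G.map ε.hom.hom.snd := fp_hom_w ε.hom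
  rw [Category.id_comp] at w
  have hε' : (fp G G).p.IsHomLift (𝟙 ((fp G G).p.obj T)) ε.inv := inferInstance
  have h1 : 𝒳.p.IsHomLift (𝟙 (𝒳.p.obj X.1)) ((fpFst G G).map ε.inv) :=
    @BasedFunctor.preserves_isHomLift _ _ _ _ (fpFst G G) _ _ _ _ _ _ hε'
  have h2 : 𝒳.p.IsHomLift (𝟙 (𝒳.p.obj X.1)) ((fpSnd G G).map ε.hom) :=
    @BasedFunctor.preserves_isHomLift _ _ _ _ (fpSnd G G) _ _ _ _ _ _ hε
  have h3 : 𝒳.p.IsHomLift (𝟙 (𝒳.p.obj X.1)) ((fpFst G G).map ε.inv ≫ (fpSnd G G).map ε.hom) := by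
    have : 𝒳.p.IsHomLift (𝟙 (𝒳.p.obj X.1) ≫ 𝟙 (𝒳.p.obj X.1))
      ((fpFst G G).map ε.inv ≫ (fpSnd G G).map ε.hom) := inferInstance
    rw [Category.comp_id] at this
    exact this
  have h4 : 𝒳.p.IsHomLift (𝟙 U) ((fpFst G G).map ε.inv ≫ (fpSnd G G).map ε.hom) :=
    isHomLift_id_of_eq 𝒳.p hX _
  refine ⟨⟨(fpFst G G).map ε.inv ≫ (fpSnd G G).map ε.hom, h4⟩, ?_⟩
  apply Functor.Fiber.hom_ext
  change G.map ((fpFst G G).map ε.inv ≫ (fpSnd G G).map ε.hom) = ψ.1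
  have e1 : (fpSnd G G).map ε.hom = ε.hom.hom.snd := rfl
  have e2 : (fpFst G G).map ε.inv ≫ ε.hom.hom.fst = 𝟙 _ := by
    change (fpFst G G).map ε.inv ≫ (fpFst G G).map ε.hom = 𝟙 _
    rw [← (fpFst G G).toFunctor.map_comp, ε.inv_hom_id]
    exact (fpFst G G).toFunctor.map_id _
  rw [G.toFunctor.map_comp, e1, ← w, ← Category.assoc, ← G.toFunctor.map_comp, e2]
  change G.map (𝟙 _) ≫ ψ.1 = ψ.1
  rw [G.toFunctor.map_id, Category.id_comp]

/-- If the diagonal of `G` is an equivalence over the base, then `G` is full. -/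
theorem full_of_diag_isEquivOver (h𝒳 : IsFibGrpd 𝒳.p) (h𝒴 : IsFibGrpd 𝒴.p) (G : 𝒳 ⥤ᵇ 𝒴)
    (h : IsEquivOver (FibCat.diag G)) : G.toFunctor.Full :=
  full_of_diag_essSurjOver h𝒳 h𝒴 G (isEquivOver_full_faithful_ess _ h).2.2

/-- The second diagonal is an equivalence over the base iff the functor is faithful. -/
theorem diag_diag_isEquivOver_iff_faithful (h𝒳 : IsFibGrpd 𝒳.p) (h𝒴 : IsFibGrpd 𝒴.p) (F : 𝒳 ⥤ᵇ 𝒴) :
    IsEquivOver (FibCat.diag (FibCat.diag F)) ↔ F.toFunctor.Faithful := by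
  have hfp : IsFibGrpd (fp F F).p := isFibGrpd_fp F F h𝒳 h𝒳 h𝒴
  constructor
  · intro h
    have := full_of_diag_isEquivOver h𝒳 hfp (FibCat.diag F) h
    exact faithful_of_diag_full h𝒳 h𝒴 F
  · intro h
    have := diag_full_of_faithful F
    exact diag_isEquivOver_of_full_faithful h𝒳 hfp (FibCat.diag F)

end Groth.Agent.Lib.Helper66.FaithfulCrit
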