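import Groth.Agent.Lib.Helper66.FppfBoot1
import Groth.Agent.Lib.Helper51.AlgSpCoprodAtlas
import Groth.Agent.Lib.Helper51.AlgSpCoprodPullback
import Groth.Agent.Lib.Helper51.FiniteCofan
import Groth.Agent.S9881
import Groth.Agent.H52.QC2
import Groth.Agent.H52.LocPInst

/-!
# Helper66, fppf bootstrap 2: base change, cancellation and covers by families

Assuming `H103 S` (the statement of S10103):

* `repBySpWith_of_isPullback`: `RepBySpWith Q` is stable under base change;
* `repBySp_of_precomp_fppf`: if `a` is an fppf cover representable by spaces and `a ≫ b` is representable by spaces,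
  so is `b` (S10106);
* `isAlgSpace_of_family_cover`: a sheaf covered by a family of algebraic spaces `m i : P i ⟶ F` whose base changes to
  schemes are algebraic spaces, flat and locally finitely presented, and jointly surjective, is an algebraic space.
-/

set_option autoImplicit false

universe u

open CategoryTheory CategoryTheory.Limits AlgebraicGeometry

namespace Groth.Agent.Lib.Helper66.FppfBoot

open AlgSp Groth.Agent.Lib.Helper51

variable {S : Scheme.{u}}

/-- `RepBySpWith Q` is stable under base change. -/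
theorem repBySpWith_of_isPullback (Q : MorphismProperty (Sp S)) {E F G H : Sp S} {f : E ⟶ F} {a' : E ⟶ H}
    {a : F ⟶ G} {b : H ⟶ G} (sq : IsPullback f a' a b) (ha : RepBySpWith Q a.hom) : RepBySpWith Q a'.hom := by
  rw [repBySpWith_hom_iff] at ha ⊢
  intro U ξ F' fst snd sq'
  exact ha (ξ ≫ b) (fst ≫ f) snd (sq'.paste_horiz sq)

/-- **Cancellation of an fppf cover** (given S10103): S10106. -/
theorem repBySp_of_precomp_fppf (h103 : H103 S) {F G H : Sp S} (a : F ⟶ G) (b : G ⟶ H)
    (ha : RepBySpWith (IsSurjectiveMor ⊓ LocP @Flat ⊓ LocP @LocallyOfFinitePresentation) a.hom)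
    (hab : RepBySp (a ≫ b).hom) : RepBySp b.hom := by
  rw [repBySp_hom_iff] at hab ⊢
  intro U ξ G' fst snd sq
  have sqF := IsPullback.of_hasPullback a fst
  have hF' : IsAlgSpace (pullback a fst) :=
    hab ξ (pullback.fst a fst) (pullback.snd a fst ≫ snd) (sqF.paste_vert sq)
  exact isAlgSpace_of_repBySpWith_fppf h103 hF' (pullback.snd a fst)
    (repBySpWith_of_isPullback _ sqF ha)

section Family

variable {ι : Type u} {F : Sp S} (P : ι → Sp S) (m : ∀ i, P i ⟶ F)

/-- **A sheaf with an fppf cover by a family of algebraic spaces is an algebraic space** (given S10103). -/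
theorem isAlgSpace_of_family_cover (h103 : H103 S) (hP : ∀ i, IsAlgSpace (P i))
    (hm : ∀ ⦃T : Over S⦄ (ξ : (yon S).obj T ⟶ F),
      (∀ i, IsAlgSpace (pullback (m i) ξ) ∧ LocP @Flat (pullback.snd (m i) ξ) ∧
        LocP @LocallyOfFinitePresentation (pullback.snd (m i) ξ)) ∧
      ∀ t : Points ((yon S).obj T), ∃ i, t ∈ Set.range (Points.map (pullback.snd (m i) ξ))) :
    IsAlgSpace F := by
  let c : Cofan P := Cofan.mk (∐ P) (Sigma.ι P)
  have hc : IsColimit c := coproductIsCoproduct P
  have hcop : IsAlgSpace c.pt := Groth.Agent.S9881.result S P hP c hc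
  let d : c.pt ⟶ F := Sigma.desc m
  have hd : ∀ i, c.inj i ≫ d = m i := fun i => Sigma.ι_desc m i
  refine isAlgSpace_of_repBySpWith_fppf h103 hcop d ?_
  rw [repBySpWith_hom_iff]
  intro T ξ E fst snd sq
  obtain ⟨hE, hsurj⟩ := hm ξ
  -- the summands of `E`
  have hw : ∀ i, (pullback.fst (m i) ξ ≫ c.inj i) ≫ d = pullback.snd (m i) ξ ≫ ξ := fun i => by
    rw [Category.assoc, hd, pullback.condition]
  let e : ∀ i, pullback (m i) ξ ⟶ E := fun i => sq.lift (pullback.fst (m i) ξ ≫ c.inj i) (pullback.snd (m i) ξ) (hw i)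
  have he1 : ∀ i, e i ≫ fst = pullback.fst (m i) ξ ≫ c.inj i := fun i => sq.lift_fst _ _ _
  have he2 : ∀ i, e i ≫ snd = pullback.snd (m i) ξ := fun i => sq.lift_snd _ _ _
  have top : ∀ i, IsPullback (e i) (pullback.fst (m i) ξ) fst (c.inj i) := by
    intro i
    refine IsPullback.of_right ?_ (he1 i) sq.flip
    rw [he2, hd]
    exact (IsPullback.of_hasPullback (m i) ξ).flip
  have vk := isVanKampenColimit_sheaf_discrete (AlgSp.J S) c hc
  let cE : Cofan (fun i => pullback (m i) ξ) := Cofan.mk E e
  have hcE : IsColimit cE :=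
    ((vk cE (Discrete.natTrans fun i ↦ pullback.fst (m i.as) ξ) fst
      (by
        apply NatTrans.ext
        funext ⟨j⟩
        exact (he1 j).symm)
      (NatTrans.Equifibered.of_discrete _)).2 (fun ⟨i⟩ ↦ top i)).some
  have hEalg : IsAlgSpace E := Groth.Agent.S9881.result S _ (fun i => (hE i).1) cE hcE
  -- atlases of the summands
  have hat : ∀ i, ∃ (W : Over S) (a : (yon S).obj W ⟶ pullback (m i) ξ), RepWith @Etale a ∧ RepWith @Surjective a :=
    fun i => (hE i).1.atlas
  choose W a hae has using hat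
  have hwex : ∀ i, ∃ w : W i ⟶ T, (yon S).map w = a i ≫ pullback.snd (m i) ξ := fun i => (yon S).map_surjective _
  choose w hw' using hwex
  obtain ⟨hCe, hCs⟩ := repWith_etale_surjective_coprodChart _ cE hcE W a hae has
  have hιC := ι_coprodChart _ cE hcE W a
  have comm : coprodChart _ cE hcE W a ≫ snd =
      (yon S).map (sigmaOverDesc (fun i => (W i).hom) w) ≫ 𝟙 _ := by
    rw [Category.comp_id]
    apply Cofan.IsColimit.hom_ext (isColimitYonSigmaOver (fun i ↦ (W i).left) (fun i ↦ (W i).hom))
    intro i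
    change (yon S).map (sigmaOverι _ _ i) ≫ _ = (yon S).map (sigmaOverι _ _ i) ≫ _
    rw [← Category.assoc, hιC i, ← Functor.map_comp, sigmaOverι_desc, hw' i, Category.assoc]
    congr 1
    exact he2 i
  have hloc : ∀ (Q : MorphismProperty Scheme.{u}) [IsZariskiLocalAtSource Q], Groth.Agent.H52.IsEtLocal Q →
      (∀ i, LocP Q (pullback.snd (m i) ξ)) → LocP Q snd := by
    intro Q _ hQ hQi
    refine hQ.locP_of_chart snd (coprodChart _ cE hcE W a) (𝟙 _) (sigmaOverDesc (fun i => (W i).hom) w) hCe hCs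
      (repWith_id _ T) comm ?_
    change Q (Sigma.desc (fun i ↦ (w i).left))
    refine IsZariskiLocalAtSource.of_openCover (P := Q) (sigmaOpenCover (fun i => (W i).left)) (fun i => ?_)
    change Q (Sigma.ι (fun i => (W i).left) i ≫ Sigma.desc (fun i ↦ (w i).left))
    rw [Sigma.ι_desc]
    exact hQi i (a i) (𝟙 _) (w i) (hae i) (repWith_id _ T) (by rw [Category.comp_id, hw' i])
  refine ⟨hEalg, ⟨?_, hloc @Flat Groth.Agent.H52.isEtLocal_flat (fun i => (hE i).2.1)⟩,
    hloc @LocallyOfFinitePresentation Groth.Agent.H52.isEtLocal_lfp (fun i => (hE i).2.2)⟩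
  intro t
  obtain ⟨i, y, hy⟩ := hsurj t
  refine ⟨Points.map (e i) y, ?_⟩
  rw [← hy, ← he2 i, Points.map_comp]

end Family

end Groth.Agent.Lib.Helper66.FppfBoot
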