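import Groth.Agent.Lib.Helper66.FppfBoot3
import Groth.Agent.Lib.Helper51.QuotSpFppf
import Groth.Agent.S10530
import Groth.Agent.S10527

/-!
# Helper66, fppf bootstrap 4: quotients of algebraic spaces by fppf equivalence relations

Assuming `H103 S` (the statement of S10103):

* `repBySpWith_quotSpπ`: for an equivalence relation `s, t : R ⟶ U` of algebraic spaces with `s` flat and locally of
  finite presentation, the quotient map `U ⟶ U/R` is representable by algebraic spaces, surjective, flat and locally
  of finite presentation;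
* `isAlgSpace_quotSp`: the quotient sheaf `U/R` is an algebraic space (S10102).
-/

set_option autoImplicit false

universe u

open CategoryTheory CategoryTheory.Limits AlgebraicGeometry

namespace Groth.Agent.Lib.Helper66.FppfBoot

open AlgSp Groth.Agent.Lib.Helper51 Groth.Agent.H52

variable {S : Scheme.{u}}

/-- A family of flat, locally finitely presented, jointly surjective morphisms of schemes gives an fppf covering of the
represented sheaf. -/
theorem isFppfCover_yon_of_fppf_family {V : Over S} {ι : Type u} (E : ι → Over S)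
    (c : ∀ i, E i ⟶ V) (hflat : ∀ i, Flat (c i).left)
    (hlfp : ∀ i, LocallyOfFinitePresentation (c i).left)
    (hsurj : ∀ x : ↥V.left, ∃ i, x ∈ Set.range (c i).left) :
    IsFppfCover (fun i => (yon S).obj (E i)) (fun i => (yon S).map (c i)) := by
  refine ⟨fun i => ⟨isEtLocal_flat.locP_of_repWith' _ ((repWith_yon_map_iff _ _).2 (hflat i)),
    isEtLocal_lfp.locP_of_repWith' _ ((repWith_yon_map_iff _ _).2 (hlfp i))⟩, fun p => ?_⟩
  obtain ⟨v₀, rfl⟩ := (Points.schemeEquiv V).surjective p
  obtain ⟨i, e, he⟩ := hsurj v₀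
  refine ⟨i, Points.ofScheme (E i) e, ?_⟩
  rw [points_map_ofScheme, he]
  rfl

variable {R U : Sp S} (s t : R ⟶ U)

/-- The quotient map of an fppf equivalence relation of algebraic spaces is an fppf cover representable by algebraic
spaces (given S10103). -/
theorem repBySpWith_quotSpπ (h103 : H103 S) (hR : IsAlgSpace R) (hU : IsAlgSpace U) (hj : IsEqvRelSp s t)
    (hs : LocP @Flat s ∧ LocP @LocallyOfFinitePresentation s) :
    RepBySpWith (IsSurjectiveMor ⊓ LocP @Flat ⊓ LocP @LocallyOfFinitePresentation) (quotSpπ s t).hom := by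
  have K := isPullback_quotSpπ_of_isEqvRelSp s t hj
  have hepi : Epi (quotSpπ s t) := coequalizer.π_epi
  rw [repBySpWith_hom_iff]
  intro T ξ W fst snd sqW
  -- an fppf covering of `T` over which `ξ` lifts to `U`
  obtain ⟨Sv, hSv, hl⟩ := exists_cover_lift_of_epi (quotSpπ s t) ξ
  have key : ∀ x : ↥T.left, ∃ (E : Over S) (c : E ⟶ T) (l : (yon S).obj E ⟶ U),
      x ∈ Set.range c.left ∧ Flat c.left ∧ LocallyOfFinitePresentation c.left ∧
      l ≫ quotSpπ s t = (yon S).map c ≫ ξ := by
    intro x
    obtain ⟨E, c, hc, hx, h1, h2⟩ := exists_fppf_mem_of_mem_J hSv x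
    obtain ⟨l, hl'⟩ := hl c hc
    exact ⟨E, c, l, hx, h1, h2, hl'⟩
  choose E c l hx hflat hlfp hlc using key
  have hcovq : IsFpqcCover (fun x => (yon S).obj (E x)) (fun x => (yon S).map (c x)) :=
    isFpqcCover_yon_of_fppf_family E c hflat hlfp (fun x => ⟨x, hx x⟩)
  have hcovf : IsFppfCover (fun x => (yon S).obj (E x)) (fun x => (yon S).map (c x)) :=
    isFppfCover_yon_of_fppf_family E c hflat hlfp (fun x => ⟨x, hx x⟩)
  -- the base changes
  have sqL := fun x => IsPullback.of_hasPullback s (l x)
  have hXi : ∀ x, IsAlgSpace (pullback s (l x)) := fun x =>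
    isAlgSpace_of_isPullback (sqL x) hR hU (IsAlgSpace.yon_obj (E x))
  have hcomm : ∀ x, (pullback.fst s (l x) ≫ t) ≫ quotSpπ s t =
      (pullback.snd s (l x) ≫ (yon S).map (c x)) ≫ ξ := by
    intro x
    rw [Category.assoc, K.w, ← Category.assoc, pullback.condition, Category.assoc, hlc,
      Category.assoc]
  have sq : ∀ x, IsPullback (sqW.lift _ _ (hcomm x)) (pullback.snd s (l x)) snd ((yon S).map (c x)) := by
    intro x
    refine IsPullback.of_right ?_ (sqW.lift_snd _ _ _) sqW
    rw [sqW.lift_fst, ← hlc]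
    exact (sqL x).paste_horiz K
  -- `W` is an algebraic space
  have hW : IsAlgSpace W := by
    refine isAlgSpace_of_fppf_cover_pullbacks h103 (IsAlgSpace.yon_obj T) (fun x => (yon S).obj (E x))
      (fun x => IsAlgSpace.yon_obj (E x)) (fun x => (yon S).map (c x)) hcovf W snd ?_
    intro x P f₁ f₂ sqP
    exact (hXi x).of_iso ((sq x).isoIsPullback _ _ sqP)
  refine ⟨hW, ⟨surjective_points_of_isPullback sqW (isSurjectiveMor_quotSpπ s t), ?_⟩, ?_⟩
  · refine ((Groth.Agent.S10530.result S) (fun x => (yon S).obj (E x)) (fun x => (yon S).map (c x))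
      (IsAlgSpace.yon_obj T) (fun x => IsAlgSpace.yon_obj (E x)) hcovq snd hW
      (fun x => pullback s (l x)) (fun x => pullback.snd s (l x))
      (fun x => sqW.lift _ _ (hcomm x)) hXi sq).2 fun x => ?_
    exact isEtLocal_flat.locP_of_isPullback hR hU (IsAlgSpace.yon_obj (E x)) (sqL x) hs.1
  · refine ((Groth.Agent.S10527.result S) (fun x => (yon S).obj (E x)) (fun x => (yon S).map (c x))
      (IsAlgSpace.yon_obj T) (fun x => IsAlgSpace.yon_obj (E x)) hcovq snd hW
      (fun x => pullback s (l x)) (fun x => pullback.snd s (l x))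
      (fun x => sqW.lift _ _ (hcomm x)) hXi sq).2 fun x => ?_
    exact isEtLocal_lfp.locP_of_isPullback hR hU (IsAlgSpace.yon_obj (E x)) (sqL x) hs.2

/-- **The quotient of an algebraic space by an fppf equivalence relation is an algebraic space** (given S10103):
S10102. -/
theorem isAlgSpace_quotSp (h103 : H103 S) (hR : IsAlgSpace R) (hU : IsAlgSpace U) (hj : IsEqvRelSp s t)
    (hs : LocP @Flat s ∧ LocP @LocallyOfFinitePresentation s) : IsAlgSpace (quotSp s t) :=
  isAlgSpace_of_repBySpWith_fppf h103 hU (quotSpπ s t) (repBySpWith_quotSpπ s t h103 hR hU hj hs)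

end Groth.Agent.Lib.Helper66.FppfBoot
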