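import Groth.Agent.Lib.Helper66.FppfBoot4
import Groth.Agent.Lib.Helper51.GActionPts

/-!
# Helper66, fppf bootstrap 5: quotients by free actions of flat group algebraic spaces

* `isEqvRelSp_of_isFree`: the action groupoid of a free action is an equivalence relation;
* `quot_free_action` (given S10103): S10112.
-/

set_option autoImplicit false

universe u

open CategoryTheory CategoryTheory.Limits AlgebraicGeometry MonoidalCategory CartesianMonoidalCategory MonObj

namespace Groth.Agent.Lib.Helper66.FppfBoot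

open AlgSp Groth.Agent.Lib.Helper51 Groth.Agent.H52

variable {S : Scheme.{u}} {B : Sp S} {G X : Over B} [GrpObj G] (a : GAction G X)

theorem tensor_hom_eq_snd : (G ⊗ X).hom = (snd G X).left ≫ X.hom := (Over.w (snd G X)).symm

theorem tensor_hom_eq_act : (G ⊗ X).hom = a.act.left ≫ X.hom := (Over.w a.act).symm

/-- a point of `G ×_B X` as a pair -/
theorem eq_lift_of_left {T : Over B} (r : T ⟶ G ⊗ X) : r = lift (r ≫ fst G X) (r ≫ snd G X) := by
  apply CartesianMonoidalCategory.hom_ext <;> simp

/-- **The action groupoid of a free action is an equivalence relation.** -/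
theorem isEqvRelSp_of_isFree (ha : a.IsFree) : IsEqvRelSp (snd G X).left a.act.left := by
  have hmono := mono_shear_of_isFree a ha
  refine ⟨?_, ?_⟩
  · intro T r r' ht hs
    have hβ : r' ≫ (G ⊗ X).hom = r ≫ (G ⊗ X).hom := by
      rw [tensor_hom_eq_snd, ← Category.assoc, ← Category.assoc, hs]
    let p' : Over.mk (r ≫ (G ⊗ X).hom) ⟶ G ⊗ X := Over.homMk r rfl
    let q' : Over.mk (r ≫ (G ⊗ X).hom) ⟶ G ⊗ X := Over.homMk r' hβ
    have hpq' : p' ≫ lift a.act (snd G X) = q' ≫ lift a.act (snd G X) := by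
      apply CartesianMonoidalCategory.hom_ext
      · rw [Category.assoc, Category.assoc, lift_fst]
        apply Over.OverMorphism.ext
        exact ht
      · rw [Category.assoc, Category.assoc, lift_snd]
        apply Over.OverMorphism.ext
        exact hs
    have h : r ≫ (lift a.act (snd G X)).left = r' ≫ (lift a.act (snd G X)).left :=
      congrArg CommaMorphism.left hpq'
    exact (cancel_mono _).1 h
  · intro T
    refine ⟨fun x => ?_, fun {x y} h => ?_, fun {x y z} h1 h2 => ?_⟩
    · let x' : Over.mk (x ≫ X.hom) ⟶ X := Over.homMk x rfl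
      refine ⟨(lift (1 : Over.mk (x ≫ X.hom) ⟶ G) x').left, ?_, ?_⟩
      · rw [← Over.comp_left]
        exact congrArg CommaMorphism.left (one_gsmul a x')
      · rw [← Over.comp_left, lift_snd]
        rfl
    · obtain ⟨r, rfl, rfl⟩ := h
      let r' : Over.mk (r ≫ (G ⊗ X).hom) ⟶ G ⊗ X := Over.homMk r rfl
      have hr' : r' = lift (r' ≫ fst G X) (r' ≫ snd G X) := eq_lift_of_left r'
      refine ⟨(lift (r' ≫ fst G X)⁻¹ (gsmul a (r' ≫ fst G X) (r' ≫ snd G X))).left, ?_, ?_⟩
      · rw [← Over.comp_left]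
        have : lift (r' ≫ fst G X)⁻¹ (gsmul a (r' ≫ fst G X) (r' ≫ snd G X)) ≫ a.act = r' ≫ snd G X := by
          change gsmul a (r' ≫ fst G X)⁻¹ (gsmul a (r' ≫ fst G X) (r' ≫ snd G X)) = _
          rw [← mul_gsmul, inv_mul_cancel, one_gsmul]
        rw [this]
        rfl
      · rw [← Over.comp_left, lift_snd]
        have : gsmul a (r' ≫ fst G X) (r' ≫ snd G X) = r' ≫ a.act := by
          unfold gsmul
          rw [← hr']
        rw [this]
        rfl
    · obtain ⟨r₁, rfl, hy⟩ := h1
      obtain ⟨r₂, rfl, rfl⟩ := h2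
      have hβ : r₂ ≫ (G ⊗ X).hom = r₁ ≫ (G ⊗ X).hom := by
        have e1 : r₂ ≫ (G ⊗ X).hom = (r₂ ≫ a.act.left) ≫ X.hom := by
          rw [Category.assoc, ← tensor_hom_eq_act a]
        have e2 : r₁ ≫ (G ⊗ X).hom = (r₁ ≫ (snd G X).left) ≫ X.hom := by
          rw [Category.assoc, ← tensor_hom_eq_snd]
        rw [e1, e2, hy]
      let r₁' : Over.mk (r₁ ≫ (G ⊗ X).hom) ⟶ G ⊗ X := Over.homMk r₁ rfl
      let r₂' : Over.mk (r₁ ≫ (G ⊗ X).hom) ⟶ G ⊗ X := Over.homMk r₂ hβ
      have hr₁' : r₁' = lift (r₁' ≫ fst G X) (r₁' ≫ snd G X) := eq_lift_of_left r₁'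
      have hr₂' : r₂' = lift (r₂' ≫ fst G X) (r₂' ≫ snd G X) := eq_lift_of_left r₂'
      have hy' : r₁' ≫ snd G X = r₂' ≫ a.act := by
        apply Over.OverMorphism.ext
        exact hy
      refine ⟨(lift ((r₁' ≫ fst G X) * (r₂' ≫ fst G X)) (r₂' ≫ snd G X)).left, ?_, ?_⟩
      · rw [← Over.comp_left]
        have : lift ((r₁' ≫ fst G X) * (r₂' ≫ fst G X)) (r₂' ≫ snd G X) ≫ a.act = r₁' ≫ a.act := by
          change gsmul a ((r₁' ≫ fst G X) * (r₂' ≫ fst G X)) (r₂' ≫ snd G X) = _
          rw [mul_gsmul]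
          have e2 : gsmul a (r₂' ≫ fst G X) (r₂' ≫ snd G X) = r₂' ≫ a.act := by
            unfold gsmul
            rw [← hr₂']
          rw [e2, ← hy']
          unfold gsmul
          rw [← hr₁']
        rw [this]
        rfl
      · rw [← Over.comp_left, lift_snd]
        rfl

/-- **Quotients by free actions of flat, locally finitely presented group algebraic spaces** (given S10103): S10112. -/
theorem quot_free_action (h103 : H103 S) (hB : IsAlgSpace B) (hG : IsAlgSpace G.left) (hX : IsAlgSpace X.left)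
    (ha : a.IsFree) (hfl : LocP @Flat G.hom ∧ LocP @LocallyOfFinitePresentation G.hom) :
    IsAlgSpace a.quot ∧
      (IsSurjectiveMor a.quotπ ∧ LocP @Flat a.quotπ ∧ LocP @LocallyOfFinitePresentation a.quotπ) ∧
      IsIso (pullback.lift a.act.left (snd G X).left
        (quotSp_condition (snd G X).left a.act.left).symm : (G ⊗ X).left ⟶ pullback a.quotπ a.quotπ) := by
  have hj := isEqvRelSp_of_isFree a ha
  have sqR : IsPullback (fst G X).left (snd G X).left G.hom X.hom := by
    have := IsPullback.of_hasPullback G.hom X.hom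
    exact this
  have hR : IsAlgSpace (G ⊗ X).left := isAlgSpace_of_isPullback sqR hG hB hX
  have hs : LocP @Flat (snd G X).left ∧ LocP @LocallyOfFinitePresentation (snd G X).left :=
    ⟨isEtLocal_flat.locP_of_isPullback hG hB hX sqR hfl.1, isEtLocal_lfp.locP_of_isPullback hG hB hX sqR hfl.2⟩
  have hF : IsAlgSpace (quotSp (snd G X).left a.act.left) :=
    isAlgSpace_quotSp (snd G X).left a.act.left h103 hR hX hj hs
  have K := isPullback_quotSpπ_of_isEqvRelSp (snd G X).left a.act.left hj
  refine ⟨hF, ⟨isSurjectiveMor_quotSpπ _ _,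
    locP_quotSpπ_of_isEqvRelSp _ _ isEtLocal_flat (Groth.Agent.S10530.result S) hR hX hj hs.1 hF,
    locP_quotSpπ_of_isEqvRelSp _ _ isEtLocal_lfp (Groth.Agent.S10527.result S) hR hX hj hs.2 hF⟩, ?_⟩
  have e : (pullback.lift a.act.left (snd G X).left
      (quotSp_condition (snd G X).left a.act.left).symm : (G ⊗ X).left ⟶ pullback a.quotπ a.quotπ) =
      K.isoPullback.hom := by
    apply pullback.hom_ext
    · rw [pullback.lift_fst]
      exact (K.isoPullback_hom_fst).symm
    · rw [pullback.lift_snd]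
      exact (K.isoPullback_hom_snd).symm
  rw [e]
  infer_instance

end Groth.Agent.Lib.Helper66.FppfBoot
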