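import Groth.Agent.Lib.Helper51.ChartDescent
import Groth.Agent.Lib.Helper26.QAffDescentDD
import Groth.Agent.Lib.Helper65.RepBC
import Groth.Agent.Lib.Helper65.SetoidPsh
import Groth.Agent.Lib.Helper65.OfPshStack
import Groth.Agent.Lib.Helper65.RepPsh

/-!
# Helper66: fppf descent of representability for stacks in setoids, quasi-affine case

A stack in setoids `G₁ ×_𝒴 𝒳` over a scheme `T` which becomes, over an fppf covering `T' ⟶ T`, a scheme
quasi-affine over `T'`, is an algebraic space (in fact a scheme quasi-affine over `T`): effectivity of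
descent for quasi-affine schemes.
-/

set_option autoImplicit false
set_option backward.isDefEq.respectTransparency false
set_option backward.isDefEq.respectTransparency.types false

universe u

open CategoryTheory CategoryTheory.Functor CategoryTheory.Limits Opposite AlgebraicGeometry

namespace Groth.Agent.Lib.Helper66.FppfDescRep

open FibCat Groth.Agent.Lib.Helper31 Groth.Agent.Lib.Helper65

variable {S : Scheme.{u}} {𝒳 𝒴 : AlgSt.Cat S}

/-- A sheaf `F₁` over `h_T` whose base change along an fppf covering `r : T' ⟶ T` is a scheme quasi-affine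
over `T'` is an algebraic space. -/
theorem isAlgSpace_of_qa_chart {F₁ : AlgSp.Sp S} {T T' W : Over S} (a₁ : F₁ ⟶ (AlgSp.yon S).obj T)
    (r : T' ⟶ T) [Flat r.left] [LocallyOfFinitePresentation r.left] [Surjective r.left]
    (g : W ⟶ T') (hg : Mor2.IsQuasiAffine g.left) (b' : (AlgSp.yon S).obj W ⟶ F₁)
    (sq : IsPullback b' ((AlgSp.yon S).map g) a₁ ((AlgSp.yon S).map r)) :
    AlgSp.IsAlgSpace F₁ := by
  have sq' : IsPullback b' ((AlgSp.yon S).map g) a₁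
      ((AlgSp.yon S).map r ≫ 𝟙 ((AlgSp.yon S).obj T)) := by
    rwa [Category.comp_id]
  have hr : Presieve.singleton r.left ∈ Scheme.fpqcPrecoverage T.left :=
    Scheme.fppfPrecoverage_le_fpqcPrecoverage _ r.left.singleton_mem_fppfPrecoverage
  obtain ⟨W₀, ⟨e⟩⟩ := Groth.Agent.Lib.Helper26.QAffDescentDD.exists_of_qa_of_fpqc r.left hr
    (Groth.Agent.Lib.Helper51.ChartDescent.descDatum a₁ (𝟙 _) r g b' sq') hg
  have hpb := Groth.Agent.Lib.Helper51.ChartDescent.isPullback_of_iso a₁ (𝟙 _) r g b' sq' W₀ e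
  have hiso : IsIso (Groth.Agent.Lib.Helper51.ChartDescent.univPt a₁ (𝟙 _) r g b' sq' W₀ e).hom :=
    hpb.isIso_fst_of_isIso
  exact (AlgSp.IsAlgSpace.yon_obj _).of_iso
    (asIso (Groth.Agent.Lib.Helper51.ChartDescent.univPt a₁ (𝟙 _) r g b' sq' W₀ e).hom)

/-- Descent of representability: if `fp y₁ f` is a stack in setoids over the scheme `T` and its base change
along an fppf covering `T' ⟶ T` is a scheme quasi-affine over `T'`, then `fp y₁ f` is an algebraic space. -/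
theorem repByAlgSp_of_qa_cover (f : 𝒳 ⥤ᵇ 𝒴) {T T' W : Over S}
    (y₁ : AlgSt.ofSp ((AlgSp.yon S).obj T) ⥤ᵇ 𝒴)
    (hst : Stk.IsStack (AlgSp.J S) (fp y₁ f)) (hset : IsFibSetoid (fp y₁ f).p)
    (r : T' ⟶ T) [Flat r.left] [LocallyOfFinitePresentation r.left] [Surjective r.left]
    (y₂ : AlgSt.ofSp ((AlgSp.yon S).obj T') ⥤ᵇ 𝒴)
    (iA : y₂ ≅ BasedFunctor.comp (AlgSt.ofSpMap ((AlgSp.yon S).map r)) y₁)
    (g : W ⟶ T') (hg : Mor2.IsQuasiAffine g.left)
    (E₂ : AlgSt.ofSp ((AlgSp.yon S).obj W) ⥤ᵇ fp y₂ f) (hE₂ : IsEquivOver E₂)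
    (i₂ : BasedFunctor.comp E₂ (fpFst y₂ f) ≅ AlgSt.ofSpMap ((AlgSp.yon S).map g)) :
    AlgSt.RepByAlgSp (fp y₁ f) := by
  obtain ⟨P, E₁, hE₁⟩ := exists_psh_of_isFibSetoid hset
  have hstack : Stk.IsStack (AlgSp.J S) (Stk.ofPsh P) := (isStack_iff_of_equivOver _ E₁ hE₁).2 hst
  have hP : Presheaf.IsSheaf (AlgSp.J S) P :=
    (isSheaf_iff_isSheaf_of_type _ _).2 ((isStack_ofPsh_iff _ P).1 hstack)
  let F₁ : AlgSp.Sp S := ⟨P, hP⟩
  let E₁' : AlgSt.ofSp F₁ ⥤ᵇ fp y₁ f := E₁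
  let a₁ : F₁ ⟶ (AlgSp.yon S).obj T :=
    ObjectProperty.homMk (pshMapOf (BasedFunctor.comp E₁' (fpFst y₁ f)))
  have i₁ : BasedFunctor.comp E₁' (fpFst y₁ f) ≅ AlgSt.ofSpMap a₁ :=
    isoOfPshMap (BasedFunctor.comp E₁' (fpFst y₁ f))
  obtain ⟨b', hb'⟩ := exists_isPullback_of_fp f y₁ E₁' hE₁ a₁ i₁ ((AlgSp.yon S).map r) y₂ iA E₂ hE₂
    ((AlgSp.yon S).map g) i₂
  have hF₁ : AlgSp.IsAlgSpace F₁ := isAlgSpace_of_qa_chart a₁ r g hg b' hb'
  exact ⟨⟨F₁, hF₁⟩, E₁', hE₁⟩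

end Groth.Agent.Lib.Helper66.FppfDescRep
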