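import Groth.Agent.Lib.Helper66.FppfDescRep
import Groth.Agent.Lib.Helper66.AlgStDiagLft
import Groth.Agent.Lib.Helper66.AlgStAffFacts
import Groth.Agent.Lib.Helper66.AlgStBridgeRep
import Groth.Agent.Lib.Helper54.QuasiAffineMor
import Groth.Agent.Lib.Helper54.Points
import Groth.Agent.Lib.Helper11.QuasiAffine
import Groth.Agent.H53.ZarGlueAff
import Groth.Agent.H52.Points

/-!
# Helper66: scheme-valued charts for affine / quasi-affine representable morphisms
-/

set_option autoImplicit false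
set_option backward.isDefEq.respectTransparency false
set_option backward.isDefEq.respectTransparency.types false

universe u

open CategoryTheory CategoryTheory.Functor CategoryTheory.Limits Opposite AlgebraicGeometry

namespace Groth.Agent.Lib.Helper66.FppfDiagRep

open FibCat Groth.Agent.Lib.Helper31 Groth.Agent.Lib.Helper65
open Groth.Agent.Lib.Helper66.AlgStDiagLft Groth.Agent.Lib.Helper66.AlgStAffFacts

variable {S : Scheme.{u}} {𝒳 𝒴 𝒲 : AlgSt.Cat S}

/-- A surjective (on points) morphism of schemes, as a map of sheaves, is surjective. -/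
theorem surjective_of_isSurjectiveMor {T' T : Over S} (r : T' ⟶ T)
    (h : AlgSp.IsSurjectiveMor ((AlgSp.yon S).map r)) : Surjective r.left := by
  refine ⟨fun t => ?_⟩
  obtain ⟨x, hx⟩ := h (AlgSp.Points.ofScheme T t)
  refine ⟨AlgSp.Points.toScheme T' x, ?_⟩
  have h1 : AlgSp.Points.map ((AlgSp.yon S).map r) (AlgSp.Points.ofScheme T' (AlgSp.Points.toScheme T' x)) =
      AlgSp.Points.ofScheme T (r.left (AlgSp.Points.toScheme T' x)) :=
    Groth.Agent.H52.points_map_ofScheme r _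
  rw [AlgSp.Points.ofScheme_toScheme, hx] at h1
  have h2 := congrArg (AlgSp.Points.toScheme T) h1
  rw [AlgSp.Points.toScheme_ofScheme, AlgSp.Points.toScheme_ofScheme] at h2
  exact h2.symm

/-- The base change of a flat, locally finitely presented, surjective and affine `w : 𝒲 ⟶ 𝒴` to a scheme `T`
is an fppf covering of `T` by a scheme. -/
theorem exists_cover_scheme (w : 𝒲 ⥤ᵇ 𝒴)
    (hw₁ : AlgSt.RepByAlgSpWith (AlgSp.LocP @Flat) w)
    (hw₂ : AlgSt.RepByAlgSpWith (AlgSp.LocP @LocallyOfFinitePresentation) w)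
    (hw₃ : AlgSt.RepByAlgSpWith AlgSp.IsSurjectiveMor w)
    (hwa : AlgSt.RepByAlgSpWith AlgSp.IsAffineMor w) (T : Over S) (y : FibCat.overCat T ⥤ᵇ 𝒴) :
    ∃ (T' : Over S) (r : T' ⟶ T) (eG : AlgSt.ofSp ((AlgSp.yon S).obj T') ⥤ᵇ fp y w), IsEquivOver eG ∧
      AlgSt.spMapOfOver (BasedFunctor.comp eG (fpFst y w)) = (AlgSp.yon S).map r ∧
      Flat r.left ∧ LocallyOfFinitePresentation r.left ∧ Surjective r.left := by
  let Z : AlgSp.Space S := ⟨(AlgSp.yon S).obj T, AlgSp.IsAlgSpace.yon_obj T⟩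
  obtain ⟨G, eG, heG, hcov⟩ := exists_cover' w hw₁ hw₂ hw₃ T y
  obtain ⟨G₄, eG₄, heG₄, hd4⟩ := hwa T y
  have hda : AlgSp.IsAffineMor (AlgSt.spMapOfOver (BasedFunctor.comp eG (fpFst y w))) := by
    obtain ⟨ι, hι⟩ := exists_iso_spMapOfOver (fpFst y w) eG heG eG₄ heG₄
    rw [hι]
    exact stableBC_isAffineMor.precomp_iso G₄.property Z.property ι _ hd4
  have hrep := Groth.Agent.H53.ZarGlue.representable_of_isAffineMor hda
  obtain ⟨T', r, fst, sq⟩ := hrep (𝟙 ((AlgSp.yon S).obj T))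
  have hiso : IsIso fst := sq.isIso_fst_of_isIso
  have hT' : AlgSp.IsAlgSpace ((AlgSp.yon S).obj T') := AlgSp.IsAlgSpace.yon_obj T'
  have heq : AlgSt.spMapOfOver (BasedFunctor.comp (BasedFunctor.comp (AlgSt.ofSpMap fst) eG) (fpFst y w)) =
      (AlgSp.yon S).map r := by
    have h1 : AlgSt.spMapOfOver (BasedFunctor.comp (AlgSt.ofSpMap fst)
        (BasedFunctor.comp eG (fpFst y w))) = fst ≫ AlgSt.spMapOfOver (BasedFunctor.comp eG (fpFst y w)) :=
      spMapOfOver_ofSpMap_comp fst _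
    have h2 := sq.w
    rw [Category.comp_id] at h2
    exact h1.trans h2
  refine ⟨T', r, BasedFunctor.comp (AlgSt.ofSpMap fst) eG, isEquivOver_comp _ _
    (Groth.Agent.Lib.Helper66.AlgStBridgeRep.isEquivOver_ofSpMap_of_isIso fst) heG, heq, ?_, ?_, ?_⟩
  · have h1 : AlgSp.LocP @Flat (fst ≫ AlgSt.spMapOfOver (BasedFunctor.comp eG (fpFst y w))) :=
      (Helper65.stableBC_locP _ (Or.inr (Or.inr (Or.inl rfl)))).precomp_iso G.property Z.property
        (asIso fst) _ (hcov.1 PUnit.unit).1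
    have h2 := sq.w
    rw [Category.comp_id] at h2
    rw [h2] at h1
    exact AlgSp.locP_yon_map h1
  · have h1 : AlgSp.LocP @LocallyOfFinitePresentation
        (fst ≫ AlgSt.spMapOfOver (BasedFunctor.comp eG (fpFst y w))) :=
      (Helper65.stableBC_locP _ (Or.inr (Or.inl rfl))).precomp_iso G.property Z.property
        (asIso fst) _ (hcov.1 PUnit.unit).2
    have h2 := sq.w
    rw [Category.comp_id] at h2
    rw [h2] at h1
    exact AlgSp.locP_yon_map h1
  · apply surjective_of_isSurjectiveMor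
    have h2 := sq.w
    rw [Category.comp_id] at h2
    rw [← h2]
    have h3 : AlgSp.IsSurjectiveMor (AlgSt.spMapOfOver (BasedFunctor.comp eG (fpFst y w))) := by
      intro x
      obtain ⟨_, hx⟩ := hcov.2 x
      exact hx
    exact stableBC_isSurjectiveMor.precomp_iso G.property Z.property (asIso fst) _ h3

/-- The preimages of affine opens under a quasi-affine morphism of sheaves between schemes are quasi-affine. -/
theorem isQuasiAffine_of_isQuasiAffineMor {F G : AlgSp.Sp S} {φ : F ⟶ G} (hφ : AlgSp.IsQuasiAffineMor φ)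
    {U V : Over S} (g : (AlgSp.yon S).obj U ⟶ G) (fst : (AlgSp.yon S).obj V ⟶ F) (snd : V ⟶ U)
    (sq : IsPullback fst ((AlgSp.yon S).map snd) φ g) : Mor2.IsQuasiAffine snd.left := by
  refine ⟨(Groth.Agent.Lib.Helper54.repWith_quasiCompact_of_isQuasiAffineMor φ hφ).2 g fst snd sq, ?_⟩
  intro U₀ hU₀
  have hU₀' : IsAffine (Groth.Agent.H53.ZarGlue.ov U U₀).left := hU₀
  obtain ⟨W, i, fstW, sqW, hW⟩ := hφ hU₀' ((AlgSp.yon S).map (Groth.Agent.H53.ZarGlue.ovι U U₀) ≫ g)
  let e : (AlgSp.yon S).obj W ≅ (AlgSp.yon S).obj (Groth.Agent.H53.ZarGlue.ov V (snd.left ⁻¹ᵁ U₀)) :=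
    sqW.isoIsPullback _ _ (Groth.Agent.H53.ZarGlue.isPullback_restrict sq U₀)
  let e' : W.left ≅ (Groth.Agent.H53.ZarGlue.ov V (snd.left ⁻¹ᵁ U₀)).left :=
    (Over.forget S).mapIso ((AlgSp.yon S).preimageIso e)
  have : W.left.IsQuasiAffine := hW
  change Scheme.IsQuasiAffine (Groth.Agent.H53.ZarGlue.ov V (snd.left ⁻¹ᵁ U₀)).left
  exact Groth.Agent.Lib.Helper11.isQuasiAffine_of_iso e'.symm

/-- An algebraic space quasi-affine over a scheme is a scheme, quasi-affine over it. -/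
theorem exists_scheme_of_isQuasiAffineMor {F : AlgSp.Sp S} {T' : Over S} (a : F ⟶ (AlgSp.yon S).obj T')
    (ha : AlgSp.IsQuasiAffineMor a) :
    ∃ (W : Over S) (g : W ⟶ T') (fst : (AlgSp.yon S).obj W ⟶ F), IsIso fst ∧
      fst ≫ a = (AlgSp.yon S).map g ∧ Mor2.IsQuasiAffine g.left := by
  have hrep : AlgSp.Representable a :=
    Groth.Agent.H53.ZarGlue.representable_of_affine_local fun Z hZ g => by
      obtain ⟨W, i, fst, sq, -⟩ := ha hZ g
      exact ⟨W, i, fst, sq⟩
  obtain ⟨W, g, fst, sq⟩ := hrep (𝟙 ((AlgSp.yon S).obj T'))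
  have hiso : IsIso fst := sq.isIso_fst_of_isIso
  have h2 := sq.w
  rw [Category.comp_id] at h2
  exact ⟨W, g, fst, hiso, h2, isQuasiAffine_of_isQuasiAffineMor ha _ fst g sq⟩

end Groth.Agent.Lib.Helper66.FppfDiagRep
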