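import Groth.Agent.Lib.Helper66.RepWithPDet
import Groth.Agent.Lib.Helper65.LocalEss

/-!
# Mixed composition / cancellation for `RepByAlgSpWith` (helper66)

`P` followed by `Q` gives `R` as soon as this holds for morphisms of algebraic spaces; no stability of a single
property under composition is needed.
-/

set_option autoImplicit false
set_option backward.isDefEq.respectTransparency false
set_option backward.isDefEq.respectTransparency.types false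
universe u

open CategoryTheory CategoryTheory.Functor CategoryTheory.Limits Opposite AlgebraicGeometry

namespace Groth.Agent.Lib.Helper66.RepWithPMix

open FibCat Groth.Agent.Lib.Helper31 Groth.Agent.Lib.Helper65 Groth.Agent.Lib.Helper66.RepWithPDet

variable {S : Scheme.{u}}

/-- `P` followed by `Q` gives `R`, for morphisms of algebraic spaces. -/
def MixComp (P Q R : MorphismProperty (AlgSp.Sp S)) : Prop :=
  ∀ ⦃X Y Z : AlgSp.Sp S⦄, AlgSp.IsAlgSpace X → AlgSp.IsAlgSpace Y → AlgSp.IsAlgSpace Z →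
    ∀ (a : X ⟶ Y) (b : Y ⟶ Z), P a → Q b → R (a ≫ b)

variable {𝒳 𝒴 𝒵 : AlgSt.Cat S} (P Q R : MorphismProperty (AlgSp.Sp S))

/-- Mixed composition. -/
theorem repByAlgSpWith_comp_mix (hPb : StableBC P) (hP : Detected P) (hmix : MixComp P Q R)
    (h𝒳 : IsFibGrpd 𝒳.p) (h𝒴 : IsFibGrpd 𝒴.p)
    (f : 𝒳 ⥤ᵇ 𝒴) (g : 𝒴 ⥤ᵇ 𝒵) (hf : AlgSt.RepByAlgSpWith P f) (hg : AlgSt.RepByAlgSpWith Q g) :
    AlgSt.RepByAlgSpWith R (BasedFunctor.comp f g) := by
  intro U z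
  obtain ⟨G, eG, heG, hb⟩ := hg U z
  let yG : AlgSt.ofSp G.obj ⥤ᵇ 𝒴 := BasedFunctor.comp eG (fpSnd z g)
  obtain ⟨V, a, E, hE, ⟨i⟩, hPa⟩ := exists_rep_ofSp_of_repByAlgSpWith P hPb hP h𝒳 h𝒴 f hf G yG
  let Φ : fp yG f ⥤ᵇ fp (fpSnd z g) f :=
    fpMap (F := yG) (G := f) (F' := fpSnd z g) (G' := f) eG (BasedFunctor.id _) (BasedFunctor.id _)
      (Iso.refl _) (Iso.refl _)
  have hΦ : IsEquivOver Φ := fpMap_isEquivOver _ _ _ _ _ heG (isEquivOver_id _) (isEquivOver_id _)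
  let Ψ : AlgSt.ofSp V.obj ⥤ᵇ fp z (BasedFunctor.comp f g) :=
    BasedFunctor.comp (BasedFunctor.comp E Φ) (fpPasteSnd z g f)
  have hΨ : IsEquivOver Ψ :=
    isEquivOver_comp _ _ (isEquivOver_comp E Φ hE hΦ) (fpPasteSnd_isEquivOver z g f)
  refine ⟨V, Ψ, hΨ, ?_⟩
  have j : BasedFunctor.comp Ψ (fpFst z (BasedFunctor.comp f g)) ≅
      BasedFunctor.comp (AlgSt.ofSpMap a.hom) (BasedFunctor.comp eG (fpFst z g)) :=
    bWhiskerRightIso i (BasedFunctor.comp eG (fpFst z g))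
  rw [spMapOfOver_congr j, spMapOfOver_ofSpMap_comp]
  exact hmix V.property G.property (AlgSp.IsAlgSpace.yon_obj U) a.hom _ hPa hb

/-- Mixed cancellation: if `g ∘ f` has `Q` and the diagonal of `g` has `P`, then `f` has `R`. -/
theorem repByAlgSpWith_of_comp_of_diag_mix (hPb : StableBC P) (hP : Detected P) (hmix : MixComp P Q R)
    (h𝒳 : IsFibGrpd 𝒳.p) (h𝒴 : IsFibGrpd 𝒴.p) (h𝒵 : IsFibGrpd 𝒵.p)
    (f : 𝒳 ⥤ᵇ 𝒴) (g : 𝒴 ⥤ᵇ 𝒵) (hgf : AlgSt.RepByAlgSpWith Q (BasedFunctor.comp f g))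
    (hΔ : AlgSt.RepByAlgSpWith P (diag g)) : AlgSt.RepByAlgSpWith R f := by
  have hΓ : AlgSt.RepByAlgSpWith P
      (fpLift (F := BasedFunctor.comp f g) (G := g) (BasedFunctor.id 𝒳) f (Iso.refl _)) :=
    Groth.Agent.Lib.Helper66.AlgStSect.repByAlgSpWith_graph P (BasedFunctor.comp f g) g f
      (Iso.refl _) hΔ
  have h2 : AlgSt.RepByAlgSpWith Q (fpSnd (BasedFunctor.comp f g) g) :=
    Groth.Agent.Lib.Helper66.AlgStBC.repByAlgSpWith_fpSnd Q g (BasedFunctor.comp f g) hgf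
  exact repByAlgSpWith_comp_mix P Q R hPb hP hmix h𝒳
    (isFibGrpd_fp (BasedFunctor.comp f g) g h𝒳 h𝒴 h𝒵) _ _ hΓ h2

/-- If every projection `(Sch/T) ×_𝒴 𝒳 ⟶ (Sch/T)` has `P` (as a morphism of stacks), then `f` has `P`. -/
theorem repByAlgSpWith_of_fpFst (f : 𝒳 ⥤ᵇ 𝒴)
    (h : ∀ (T : Over S) (y : FibCat.overCat T ⥤ᵇ 𝒴), AlgSt.RepByAlgSpWith P (fpFst y f)) :
    AlgSt.RepByAlgSpWith P f := by
  intro T y
  obtain ⟨F, e₀, he₀, hP⟩ := h T y T (BasedFunctor.id _)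
  have hsnd : IsEquivOver (fpSnd (BasedFunctor.id (FibCat.overCat T)) (fpFst y f)) :=
    fpSnd_isEquivOver _ _ (isEquivOver_id _)
  refine ⟨F, BasedFunctor.comp e₀ (fpSnd (BasedFunctor.id _) (fpFst y f)),
    isEquivOver_comp _ _ he₀ hsnd, ?_⟩
  have j : BasedFunctor.comp (BasedFunctor.comp e₀ (fpSnd (BasedFunctor.id _) (fpFst y f))) (fpFst y f) ≅
      BasedFunctor.comp e₀ (fpFst (BasedFunctor.id (FibCat.overCat T)) (fpFst y f)) :=
    bWhiskerLeftIso e₀ (fpIso (BasedFunctor.id (FibCat.overCat T)) (fpFst y f)).symm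
  rw [spMapOfOver_congr j]
  exact hP

end Groth.Agent.Lib.Helper66.RepWithPMix
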