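import Groth.Agent.S10537
import Groth.Agent.Lib.Helper66.RepWithPMix
import Groth.Agent.Lib.Helper66.AlgStPFacts
import Groth.Agent.Lib.Helper66.AlgStAffFacts
import Groth.Agent.H53.ZarGlueAff

/-!
# Quasi-affine morphisms of algebraic spaces: base change, fppf locality, composition with affine morphisms
-/

set_option autoImplicit false
universe u

open CategoryTheory CategoryTheory.Limits AlgebraicGeometry Opposite

namespace Groth.Agent.Lib.Helper66.QuasiAffineMix

open Groth.Agent.Lib.Helper65 Groth.Agent.Lib.Helper66.RepWithPDet Groth.Agent.Lib.Helper66.RepWithPMix AlgSp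

variable {S : Scheme.{u}}

theorem stableBC_isQuasiAffineMor : StableBC (IsQuasiAffineMor (S := S)) :=
  fun _ _ _ _ _ _ _ _ _ _ _ _ sq ha => Groth.Agent.Lib.Helper54.isQuasiAffineMor_of_isPullback sq ha

theorem isLocalOnBase_fppf_isQuasiAffineMor :
    AlgSp.IsLocalOnBase AlgSp.IsFppfCover (IsQuasiAffineMor (S := S)) :=
  Groth.Agent.Lib.Helper66.AlgStPFacts.isLocalOnBase_fppf_of_fpqc _ (Groth.Agent.S10537.result S)

/-- An affine morphism followed by a quasi-affine morphism is quasi-affine. -/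
theorem mixComp_affine_quasiAffine :
    MixComp (IsAffineMor (S := S)) IsQuasiAffineMor IsQuasiAffineMor := by
  intro X Y Z _ _ _ a b ha hb W hW y
  obtain ⟨W1, i1, fst1, sq1, hW1⟩ := hb hW y
  have hrep := Groth.Agent.H53.ZarGlue.repWith_isAffineHom_of_isAffineMor ha
  have sq := hrep.rep.isPullback fst1
  have h1 : IsAffineHom (hrep.rep.snd fst1).left := hrep.property_snd fst1
  refine ⟨_, hrep.rep.snd fst1 ≫ i1, hrep.rep.fst fst1, ?_, ?_⟩
  · rw [Functor.map_comp]
    exact sq.paste_vert sq1
  · have : W1.left.IsQuasiAffine := hW1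
    exact Scheme.IsQuasiAffine.of_isAffineHom (hrep.rep.snd fst1).left

/-- A quasi-affine morphism followed by an affine morphism is quasi-affine. -/
theorem mixComp_quasiAffine_affine :
    MixComp (IsQuasiAffineMor (S := S)) IsAffineMor IsQuasiAffineMor := by
  intro X Y Z _ _ _ a b ha hb W hW y
  obtain ⟨W1, i1, fst1, sq1, hW1⟩ := hb hW y
  obtain ⟨W2, i2, fst2, sq2, hW2⟩ := ha hW1 fst1
  refine ⟨W2, i2 ≫ i1, fst2, ?_, hW2⟩
  rw [Functor.map_comp]
  exact sq2.paste_vert sq1

end Groth.Agent.Lib.Helper66.QuasiAffineMix
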