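import Groth.Agent.Lib.Helper66.FppfDiagRep1
import Groth.Agent.Lib.Helper66.AlgStDiagCover3
import Groth.Agent.Lib.Helper65.FpStack
import Groth.Agent.Lib.Helper65.StUniv
import Groth.Agent.Lib.Helper65.RepSp
import Groth.Agent.Lib.Helper66.QuasiAffineMix

/-!
# Helper66: the diagonal of an fppf prestack with an affine fppf chart whose comparison morphisms are
quasi-affine is representable by algebraic spaces (unconditionally, by quasi-affine fppf descent)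
-/

set_option autoImplicit false
set_option backward.isDefEq.respectTransparency false
set_option backward.isDefEq.respectTransparency.types false

universe u

open CategoryTheory CategoryTheory.Limits AlgebraicGeometry Opposite

namespace Groth.Agent.Lib.Helper66.FppfDiagRep

open FibCat Groth.Agent.Lib.Helper31 Groth.Agent.Lib.Helper65
open Groth.Agent.Lib.Helper66.StackCmp Groth.Agent.Lib.Helper66.StackLift2
open Groth.Agent.Lib.Helper66.AlgStCancel Groth.Agent.Lib.Helper66.AlgStDiagLft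
open Groth.Agent.Lib.Helper66.AlgStDiagCover

variable {S : Scheme.{u}} {𝒳 : AlgSt.Cat S}

theorem isFibSetoid_overCat (W : Over S) : IsFibSetoid (overCat W).p :=
  isFibSetoid_of_equivOver (AlgSt.toOverCat W) (toOverCat_isEquivOver W) (isFibSetoid_ofPsh _)

/-- For an fppf prestack `𝒳`, the base change of the diagonal to a scheme is an fppf stack in setoids. -/
theorem isStack_isFibSetoid_fp_diag (h𝒳 : Stk.IsPrestack (AlgSp.J S) 𝒳) {W : Over S}
    (y : overCat W ⥤ᵇ fp (toSelf 𝒳) (toSelf 𝒳)) :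
    Stk.IsStack (AlgSp.J S) (fp y (FibCat.diag (toSelf 𝒳))) ∧
      IsFibSetoid (fp y (FibCat.diag (toSelf 𝒳))).p := by
  let t := toSelf 𝒳
  let a : overCat W ⥤ᵇ 𝒳 := BasedFunctor.comp y (fpFst t t)
  let b : overCat W ⥤ᵇ 𝒳 := BasedFunctor.comp y (fpSnd t t)
  let e : BasedFunctor.comp (fpFst a b) (BasedFunctor.comp a t) ≅
      BasedFunctor.comp (fpSnd a b) (BasedFunctor.comp b t) :=
    Groth.Agent.Lib.Helper90.LiftSqComp.whiskerRightIso (fpIso a b) t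
  have he : ∀ x, Groth.Agent.Lib.Helper90.LiftSqComp.app e.hom x = t.map x.obj.iso.hom := fun x => rfl
  let ε : BasedFunctor.comp (BasedFunctor.id (overCat W)) (BasedFunctor.comp a t) ≅
      BasedFunctor.comp (BasedFunctor.id (overCat W)) (BasedFunctor.comp b t) :=
    Groth.Agent.Lib.Helper90.LiftSqComp.whiskerLeftIso y (fpIso t t)
  let δ : overCat W ⥤ᵇ fp (BasedFunctor.comp a t) (BasedFunctor.comp b t) :=
    fpLift (BasedFunctor.id _) (BasedFunctor.id _) ε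
  have κ : BasedFunctor.comp δ (cQ a b t) ≅ y :=
    Groth.Agent.Lib.Helper90.LiftSqFp.fpIsoMk (Iso.refl _) (Iso.refl _) (fun w => by
      change t.map (𝟙 _) ≫ (y.obj w).obj.iso.hom = (y.obj w).obj.iso.hom ≫ t.map (𝟙 _)
      rw [t.map_id, t.map_id, Category.id_comp, Category.comp_id])
  let Φ : fp y (FibCat.diag t) ⥤ᵇ fp (BasedFunctor.comp δ (cQ a b t)) (FibCat.diag t) :=
    fpMap (F := y) (G := FibCat.diag t) (F' := BasedFunctor.comp δ (cQ a b t)) (G' := FibCat.diag t)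
      (BasedFunctor.id _) (BasedFunctor.id _) (BasedFunctor.id _) κ.symm (Iso.refl _)
  have hΦ : IsEquivOver Φ := fpMap_isEquivOver _ _ _ _ _ (isEquivOver_id _) (isEquivOver_id _)
    (isEquivOver_id _)
  have hΘ : IsEquivOver (cTh a b t e δ he) := isEquivOver_cTh a b t e δ he
  have hΨ : IsEquivOver (BasedFunctor.comp Φ (cTh a b t e δ he)) := isEquivOver_comp _ _ hΦ hΘ
  -- the model `fp δ (cI a b t e)` is a stack in setoids
  have hWst : Stk.IsStack (AlgSp.J S) (overCat W) := (isAlgStack_overCat W).isStack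
  have hab : Stk.IsStack (AlgSp.J S) (fp a b) := isStack_fp a b _ hWst hWst h𝒳
  have hab' : IsFibSetoid (fp a b).p :=
    isFibSetoid_fp a b (isFibSetoid_overCat W) (isFibSetoid_overCat W) h𝒳.1
  obtain ⟨y', hy'⟩ := exists_prodSlice_equiv a b
  have hprod : Stk.IsStack (AlgSp.J S) (fp (BasedFunctor.comp a t) (BasedFunctor.comp b t)) :=
    (isStack_iff_of_equivOver _ y' hy').1 (isAlgStack_overCat (W ⨯ W)).isStack
  have h1 : Stk.IsStack (AlgSp.J S) (fp δ (cI a b t e)) :=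
    isStack_fp δ (cI a b t e) _ hWst hab (isPrestack_of_isStack _ hprod)
  have h2 : IsFibSetoid (fp δ (cI a b t e)).p :=
    isFibSetoid_fp δ (cI a b t e) (isFibSetoid_overCat W) hab' hprod.1
  obtain ⟨Ψ', hΨ', -, -⟩ := exists_inverse_equivOver _ hΨ
  exact ⟨(isStack_iff_of_equivOver _ _ hΨ).2 h1, isFibSetoid_of_equivOver Ψ' hΨ' h2⟩

/-- The diagonal of an fppf prestack `𝒳` with a flat, locally finitely presented, surjective and affine chart
`u : (Sch/U) ⟶ 𝒳` whose comparison morphisms `T ×_𝒳 U ⟶ T × U` are quasi-affine is representable by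
algebraic spaces. -/
theorem repByAlgSp1_diag_of_cI_quasiAffine (h𝒳 : Stk.IsPrestack (AlgSp.J S) 𝒳)
    {U : Over S} (u : FibCat.overCat U ⥤ᵇ 𝒳)
    (hu₁ : AlgSt.RepByAlgSpWith (AlgSp.LocP @Flat) u)
    (hu₂ : AlgSt.RepByAlgSpWith (AlgSp.LocP @LocallyOfFinitePresentation) u)
    (huj : AlgSt.RepByAlgSpWith AlgSp.IsSurjectiveMor u)
    (hua : AlgSt.RepByAlgSpWith AlgSp.IsAffineMor u)
    (hcI : ∀ (T : Over S) (x₁ : FibCat.overCat T ⥤ᵇ 𝒳)
      (e : BasedFunctor.comp (fpFst x₁ u) (BasedFunctor.comp x₁ (toSelf 𝒳)) ≅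
        BasedFunctor.comp (fpSnd x₁ u) (BasedFunctor.comp u (toSelf 𝒳))),
      AlgSt.RepByAlgSpWith AlgSp.IsQuasiAffineMor (cI x₁ u (toSelf 𝒳) e)) :
    AlgSt.RepByAlgSp1 (FibCat.diag (FibCat.toSelf 𝒳)) := by
  let s := toSelf 𝒳
  have h𝒳g : IsFibGrpd 𝒳.p := h𝒳.1
  have hS : IsFibGrpd (selfOver (Over S)).p := isFibGrpd_selfOver
  have hss : IsFibGrpd (fp s s).p := isFibGrpd_fp s s h𝒳g h𝒳g hS
  have hU : IsFibGrpd (FibCat.overCat U).p := isFibGrpd_overForget U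
  intro T t
  have hT : IsFibGrpd (FibCat.overCat T).p := isFibGrpd_overForget T
  let y₁ : AlgSt.ofSp ((AlgSp.yon S).obj T) ⥤ᵇ fp s s := BasedFunctor.comp (AlgSt.toOverCat T) t
  let Φ : fp y₁ (FibCat.diag s) ⥤ᵇ fp t (FibCat.diag s) :=
    fpMap (F := y₁) (G := FibCat.diag s) (F' := t) (G' := FibCat.diag s) (AlgSt.toOverCat T)
      (BasedFunctor.id _) (BasedFunctor.id _) (Iso.refl _) (Iso.refl _)
  have hΦ : IsEquivOver Φ :=
    fpMap_isEquivOver _ _ _ _ _ (toOverCat_isEquivOver T) (isEquivOver_id _) (isEquivOver_id _)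
  obtain ⟨hst, hset⟩ := isStack_isFibSetoid_fp_diag h𝒳 t
  have hst₁ : Stk.IsStack (AlgSp.J S) (fp y₁ (FibCat.diag s)) := (isStack_iff_of_equivOver _ Φ hΦ).2 hst
  have hset₁ : IsFibSetoid (fp y₁ (FibCat.diag s)).p := by
    obtain ⟨Φ', hΦ', -, -⟩ := exists_inverse_equivOver Φ hΦ
    exact isFibSetoid_of_equivOver Φ' hΦ' hset
  refine repByAlgSp_of_equivOver Φ hΦ ?_
  -- the covering
  let x₁ : FibCat.overCat T ⥤ᵇ 𝒳 := BasedFunctor.comp t (fpFst s s)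
  let x₂ : FibCat.overCat T ⥤ᵇ 𝒳 := BasedFunctor.comp t (fpSnd s s)
  obtain ⟨T', r, eG, heG, hd, hr1, hr2, hr3⟩ := exists_cover_scheme u hu₁ hu₂ huj hua T x₂
  -- the lift
  let A₁ : AlgSt.ofSp ((AlgSp.yon S).obj T') ⥤ᵇ FibCat.overCat T := BasedFunctor.comp eG (fpFst x₂ u)
  let A₂ : AlgSt.ofSp ((AlgSp.yon S).obj T') ⥤ᵇ FibCat.overCat U := BasedFunctor.comp eG (fpSnd x₂ u)
  let τ : AlgSt.ofSp ((AlgSp.yon S).obj T') ⥤ᵇ fp s s := BasedFunctor.comp A₁ t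
  let β₁ : BasedFunctor.comp A₁ x₁ ≅ BasedFunctor.comp τ (fpFst s s) := Iso.refl _
  let β₂ : BasedFunctor.comp A₂ u ≅ BasedFunctor.comp τ (fpSnd s s) :=
    (bWhiskerLeftIso eG (fpIso x₂ u)).symm
  let ℓ := lift2 x₁ u s τ A₁ A₂ β₁ β₂
  let y₂ : AlgSt.ofSp ((AlgSp.yon S).obj T') ⥤ᵇ fp s s := BasedFunctor.comp ℓ (cQ x₁ u s)
  have iA₀ : y₂ ≅ BasedFunctor.comp (AlgSt.ofSpMap (AlgSt.spMapOfOver A₁)) y₁ :=
    lift2Iso x₁ u s τ A₁ A₂ β₁ β₂ ≪≫ bWhiskerRightIso (isoSpMapOfOver A₁) t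
  have iA : y₂ ≅ BasedFunctor.comp (AlgSt.ofSpMap ((AlgSp.yon S).map r)) y₁ := by
    rw [← hd]
    exact iA₀
  let e : BasedFunctor.comp (fpFst x₁ u) (BasedFunctor.comp x₁ s) ≅
      BasedFunctor.comp (fpSnd x₁ u) (BasedFunctor.comp u s) :=
    Groth.Agent.Lib.Helper90.LiftSqComp.whiskerRightIso (fpIso x₁ u) s
  have he : ∀ x, Groth.Agent.Lib.Helper90.LiftSqComp.app e.hom x = s.map x.obj.iso.hom := fun _ => rfl
  have hi := hcI T x₁ e
  let G : AlgSp.Space S := ⟨(AlgSp.yon S).obj T', AlgSp.IsAlgSpace.yon_obj T'⟩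
  obtain ⟨V, a, e', he', ⟨i'⟩, hPa⟩ :=
    exists_rep_ofSp_of_repByAlgSpWith _ Groth.Agent.Lib.Helper66.QuasiAffineMix.stableBC_isQuasiAffineMor
      Groth.Agent.Lib.Helper66.QuasiAffineMix.isLocalOnBase_fppf_isQuasiAffineMor
      (isFibGrpd_fp x₁ u hT hU h𝒳g)
      (isFibGrpd_fp (BasedFunctor.comp x₁ s) (BasedFunctor.comp u s) hT hU hS) (cI x₁ u s e) hi G ℓ
  have hXi : IsEquivOver (cXi x₁ u s e ℓ he) :=
    ⟨cTh x₁ u s e ℓ he, ⟨cXiTh x₁ u s e ℓ he⟩, ⟨cThXi x₁ u s e ℓ he⟩⟩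
  -- the chart is a scheme
  obtain ⟨W, g, fst, hfst, hfg, hg⟩ := exists_scheme_of_isQuasiAffineMor a.hom hPa
  let E₂ : AlgSt.ofSp ((AlgSp.yon S).obj W) ⥤ᵇ fp y₂ (FibCat.diag s) :=
    BasedFunctor.comp (AlgSt.ofSpMap fst) (BasedFunctor.comp e' (cXi x₁ u s e ℓ he))
  have hE₂ : IsEquivOver E₂ :=
    isEquivOver_comp _ _ (Groth.Agent.Lib.Helper66.AlgStBridgeRep.isEquivOver_ofSpMap_of_isIso fst)
      (isEquivOver_comp _ _ he' hXi)
  have i₂ : BasedFunctor.comp E₂ (fpFst y₂ (FibCat.diag s)) ≅ AlgSt.ofSpMap ((AlgSp.yon S).map g) := by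
    have k1 : BasedFunctor.comp E₂ (fpFst y₂ (FibCat.diag s)) ≅
        BasedFunctor.comp (AlgSt.ofSpMap fst) (AlgSt.ofSpMap a.hom) :=
      bWhiskerLeftIso (AlgSt.ofSpMap fst) i'
    have k2 : BasedFunctor.comp (AlgSt.ofSpMap fst) (AlgSt.ofSpMap a.hom) =
        AlgSt.ofSpMap ((AlgSp.yon S).map g) := by
      rw [← hfg]
      rfl
    exact k1 ≪≫ eqToIso k2
  have := hr1
  have := hr2
  have := hr3
  exact Groth.Agent.Lib.Helper66.FppfDescRep.repByAlgSp_of_qa_cover (FibCat.diag s) y₁ hst₁ hset₁ r y₂ iA g hg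
    E₂ hE₂ i₂

end Groth.Agent.Lib.Helper66.FppfDiagRep
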