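import Groth.Agent.Lib.Helper66.AlgStDiagCoverFam
import Groth.Agent.Lib.Helper66.QuasiAffineMix
import Groth.Agent.Lib.Helper66.ProdSliceFst
import Groth.Agent.Lib.Helper66.AlgStRestrChart
import Groth.Agent.Lib.Helper66.AlgStCmp

/-!
# Quasi-affine diagonal of an algebraic stack over an affine base, read on the affine opens of a smooth atlas
-/

set_option autoImplicit false
set_option backward.isDefEq.respectTransparency false
set_option backward.isDefEq.respectTransparency.types false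
set_option linter.style.haveILetI false
universe u

open CategoryTheory CategoryTheory.Limits AlgebraicGeometry Opposite

namespace Groth.Agent.Lib.Helper66.QuasiAffineAtlas

open FibCat Groth.Agent.Lib.Helper31 Groth.Agent.Lib.Helper65
open Groth.Agent.Lib.Helper66.StackCmp Groth.Agent.Lib.Helper66.RepWithPDet
open Groth.Agent.Lib.Helper66.RepWithPMix Groth.Agent.Lib.Helper66.QuasiAffineMix
open Groth.Agent.Lib.Helper66.ProdSliceFst Groth.Agent.Lib.Helper66.AlgStRestrChart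

variable {S : Scheme.{u}} {𝒳 : AlgSt.Cat S}

theorem isAffineHom_prod_fst (T V : Over S) [IsAffineHom V.hom] :
    IsAffineHom (prod.fst : T ⨯ V ⟶ T).left := by
  rw [← Over.prodLeftIsoPullback_hom_fst]
  haveI : IsAffineHom (pullback.fst T.hom V.hom) :=
    MorphismProperty.pullback_fst (P := @IsAffineHom) _ _ ‹_›
  infer_instance

/-- The projection `T ×_S V ⟶ T`, as a morphism of stacks, is affine when `V ⟶ S` is. -/
theorem repByAlgSpWith_isAffineMor_fpFst {T V : Over S} [IsAffineHom V.hom]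
    (y : FibCat.overCat T ⥤ᵇ 𝒳) (v : FibCat.overCat V ⥤ᵇ 𝒳) :
    AlgSt.RepByAlgSpWith AlgSp.IsAffineMor
      (fpFst (BasedFunctor.comp y (toSelf 𝒳)) (BasedFunctor.comp v (toSelf 𝒳))) := by
  obtain ⟨w, hw, hfst⟩ := exists_prodSlice_equiv_fst y v
  have h1 : AlgSt.RepByAlgSpWith (AlgSp.RepWith @IsAffineHom) (AlgSt.overMap (prod.fst : T ⨯ V ⟶ T)) :=
    repByAlgSpWith_overMap_of_prop @IsAffineHom _ (isAffineHom_prod_fst T V)
  have h2 : AlgSt.RepByAlgSpWith (AlgSp.RepWith @IsAffineHom)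
      (fpFst (BasedFunctor.comp y (toSelf 𝒳)) (BasedFunctor.comp v (toSelf 𝒳))) :=
    repByAlgSpWith_of_square' (AlgSp.RepWith @IsAffineHom)
      (fpFst (BasedFunctor.comp y (toSelf 𝒳)) (BasedFunctor.comp v (toSelf 𝒳)))
      (AlgSt.overMap (prod.fst : T ⨯ V ⟶ T)) w (BasedFunctor.id _) hw (isEquivOver_id _)
      (eqToIso hfst.symm) h1
  exact repByAlgSpWith_mono (fun _ _ f hf => Groth.Agent.H52.isAffineMor_of_repWith_isAffineHom f hf) _ h2

/-- If the diagonal of `𝒳` over `S` is quasi-affine, every functor from a scheme affine over `S` is quasi-affine. -/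
theorem repByAlgSpWith_isQuasiAffineMor_of_diag (h𝒳 : IsFibGrpd 𝒳.p)
    (hΔ : AlgSt.RepByAlgSpWith AlgSp.IsQuasiAffineMor (FibCat.diag (FibCat.toSelf 𝒳)))
    {V : Over S} [IsAffineHom V.hom] (v : FibCat.overCat V ⥤ᵇ 𝒳) :
    AlgSt.RepByAlgSpWith AlgSp.IsQuasiAffineMor v := by
  apply repByAlgSpWith_of_fpFst
  intro T y
  let s := toSelf 𝒳
  have hS : IsFibGrpd (selfOver (Over S)).p := isFibGrpd_selfOver
  have hT : IsFibGrpd (FibCat.overCat T).p := isFibGrpd_overForget T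
  have hV : IsFibGrpd (FibCat.overCat V).p := isFibGrpd_overForget V
  let e : BasedFunctor.comp (fpFst y v) (BasedFunctor.comp y s) ≅
      BasedFunctor.comp (fpSnd y v) (BasedFunctor.comp v s) :=
    Groth.Agent.Lib.Helper90.LiftSqComp.whiskerRightIso (fpIso y v) s
  have he : ∀ x, Groth.Agent.Lib.Helper90.LiftSqComp.app e.hom x = s.map x.obj.iso.hom := fun _ => rfl
  have h1 : AlgSt.RepByAlgSpWith AlgSp.IsQuasiAffineMor (cI y v s e) :=
    Groth.Agent.Lib.Helper66.AlgStCmp.repByAlgSpWith_fpComparison _ y v s e he hΔ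
  have h2 := repByAlgSpWith_isAffineMor_fpFst y v
  exact repByAlgSpWith_comp_mix AlgSp.IsQuasiAffineMor AlgSp.IsAffineMor AlgSp.IsQuasiAffineMor
    stableBC_isQuasiAffineMor (detected_of_isLocalOnBase _ isLocalOnBase_fppf_isQuasiAffineMor)
    mixComp_quasiAffine_affine (isFibGrpd_fp y v hT hV h𝒳)
    (isFibGrpd_fp (BasedFunctor.comp y s) (BasedFunctor.comp v s) hT hV hS)
    (cI y v s e) (fpFst (BasedFunctor.comp y s) (BasedFunctor.comp v s)) h1 h2

/-- For a quasi-affine chart `v : (Sch/V) ⟶ 𝒳` with `V` separated over `S`, the comparison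
`T ×_𝒳 V ⟶ T ×_S V` is quasi-affine. -/
theorem repByAlgSpWith_isQuasiAffineMor_cI (h𝒳 : IsFibGrpd 𝒳.p) {T V : Over S} [IsSeparated V.hom]
    (x₁ : FibCat.overCat T ⥤ᵇ 𝒳) (v : FibCat.overCat V ⥤ᵇ 𝒳)
    (hv : AlgSt.RepByAlgSpWith AlgSp.IsQuasiAffineMor v)
    (e : BasedFunctor.comp (fpFst x₁ v) (BasedFunctor.comp x₁ (toSelf 𝒳)) ≅
      BasedFunctor.comp (fpSnd x₁ v) (BasedFunctor.comp v (toSelf 𝒳))) :
    AlgSt.RepByAlgSpWith AlgSp.IsQuasiAffineMor (cI x₁ v (toSelf 𝒳) e) := by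
  let s := toSelf 𝒳
  have hS : IsFibGrpd (selfOver (Over S)).p := isFibGrpd_selfOver
  have hT : IsFibGrpd (FibCat.overCat T).p := isFibGrpd_overForget T
  have hV : IsFibGrpd (FibCat.overCat V).p := isFibGrpd_overForget V
  have hgf : AlgSt.RepByAlgSpWith AlgSp.IsQuasiAffineMor
      (BasedFunctor.comp (cI x₁ v s e) (fpFst (BasedFunctor.comp x₁ s) (BasedFunctor.comp v s))) :=
    repByAlgSpWith_fpFst _ v x₁ hv
  have hΔ' : AlgSt.RepByAlgSpWith AlgSp.IsAffineMor
      (FibCat.diag (fpFst (BasedFunctor.comp x₁ s) (BasedFunctor.comp v s))) := by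
    obtain ⟨y, hy, hfst⟩ := exists_prodSlice_equiv_fst x₁ v
    have h1 : AlgSt.RepByAlgSpWith (AlgSp.RepWith @IsSeparated) (AlgSt.overMap (prod.fst : T ⨯ V ⟶ T)) :=
      repByAlgSpWith_overMap_of_prop @IsSeparated _ (isSeparated_prod_fst T V)
    have h2 : AlgSt.RepByAlgSpWith (AlgSp.RepWith @IsSeparated)
        (fpFst (BasedFunctor.comp x₁ s) (BasedFunctor.comp v s)) :=
      repByAlgSpWith_of_square' (AlgSp.RepWith @IsSeparated)
        (fpFst (BasedFunctor.comp x₁ s) (BasedFunctor.comp v s))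
        (AlgSt.overMap (prod.fst : T ⨯ V ⟶ T)) y (BasedFunctor.id _) hy (isEquivOver_id _)
        (eqToIso hfst.symm) h1
    exact Groth.Agent.Lib.Helper66.AlgStBridge.repByAlgSpWith_diag_of_rep AlgSp.IsAffineMor
      (AlgSp.RepWith @IsSeparated) Groth.Agent.Lib.Helper66.AlgStAffFacts.stableBC_isAffineMor _ h2
      (fun V' T' a ha => Groth.Agent.H52.isAffineMor_of_repWith_isClosedImmersion _
        (Groth.Agent.H53.isSeparatedMor_of_repWith_isSeparated a ha))
  exact repByAlgSpWith_of_comp_of_diag_mix AlgSp.IsAffineMor AlgSp.IsQuasiAffineMor AlgSp.IsQuasiAffineMor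
    Groth.Agent.Lib.Helper66.AlgStAffFacts.stableBC_isAffineMor
    Groth.Agent.Lib.Helper66.AlgStAffFacts.detected_isAffineMor mixComp_affine_quasiAffine
    (isFibGrpd_fp x₁ v hT hV h𝒳)
    (isFibGrpd_fp (BasedFunctor.comp x₁ s) (BasedFunctor.comp v s) hT hV hS) hT
    (cI x₁ v s e) (fpFst (BasedFunctor.comp x₁ s) (BasedFunctor.comp v s)) hgf hΔ'

/-- The affine opens of a surjective chart are jointly surjective on points. -/
theorem exists_affineOpen_point (h𝒳 : IsFibGrpd 𝒳.p) {U : Over S} (x : FibCat.overCat U ⥤ᵇ 𝒳)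
    (hxs : AlgSt.RepByAlgSpWith AlgSp.IsSurjectiveMor x)
    (T : Over S) (y : FibCat.overCat T ⥤ᵇ 𝒳) (z : AlgSt.Points (FibCat.overCat T)) :
    ∃ (i : U.left.affineOpens) (p : AlgSt.Points (FibCat.overCat (openOver i.1))),
      AlgSt.Points.map y z =
        AlgSt.Points.map (BasedFunctor.comp (AlgSt.overMap (openIncl i.1)) x) p := by
  have hsurj : AlgSt.IsSurjective x :=
    isSurjective_of_repByAlgSpWith (isFibGrpd_overForget U) h𝒳 x hxs
  obtain ⟨p, hp⟩ := hsurj (AlgSt.Points.map y z)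
  obtain ⟨t, rfl⟩ := (chartPt_bijective U).2 p
  obtain ⟨V, hV, htV, -⟩ := exists_isAffineOpen_mem_and_subset (x := t) (U := ⊤) trivial
  refine ⟨⟨V, hV⟩, chartPt (openOver V) ⟨t, htV⟩, ?_⟩
  rw [points_map_comp, points_map_overMap_chartPt]
  exact hp.symm

/-- **Quasi-affine diagonal from a smooth atlas whose restrictions to affine opens are quasi-affine**, over an
affine base. -/
theorem repByAlgSpWith_isQuasiAffineMor_diag_of_atlas [IsAffine S]
    (h𝒳 : AlgSt.IsAlgStack Scheme.fppfPrecoverage 𝒳) {U : Over S} (x : FibCat.overCat U ⥤ᵇ 𝒳)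
    (hx : AlgSt.RepByAlgSpWith (AlgSp.LocP @Smooth) x)
    (hxs : AlgSt.RepByAlgSpWith AlgSp.IsSurjectiveMor x)
    (hV : ∀ (V : U.left.Opens), IsAffineOpen V →
      AlgSt.RepByAlgSpWith AlgSp.IsQuasiAffineMor (BasedFunctor.comp (AlgSt.overMap (openIncl V)) x)) :
    AlgSt.RepByAlgSpWith AlgSp.IsQuasiAffineMor (FibCat.diag (FibCat.toSelf 𝒳)) := by
  have hfib : IsFibGrpd 𝒳.p := h𝒳.isStack.1
  have husm : ∀ i : U.left.affineOpens, AlgSt.RepByAlgSpWith (AlgSp.LocP @Smooth)
      (BasedFunctor.comp (AlgSt.overMap (openIncl i.1)) x) := fun i =>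
    overMap_comp_smooth hfib (openIncl i.1) x hx
  refine Groth.Agent.Lib.Helper66.AlgStDiagCoverFam.repByAlgSpWith_diag_toSelf_of_cI_fam _
    stableBC_isQuasiAffineMor isLocalOnBase_fppf_isQuasiAffineMor hfib h𝒳.diag
    (fun i : U.left.affineOpens => openOver i.1)
    (fun i => BasedFunctor.comp (AlgSt.overMap (openIncl i.1)) x)
    (fun i => repByAlgSpWith_mono (locP_mono smooth_le_flat) _ (husm i))
    (fun i => repByAlgSpWith_mono (locP_mono smooth_le_lfp) _ (husm i))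
    (fun T y z => exists_affineOpen_point hfib x hxs T y z) ?_
  intro i T x₁ e
  haveI : IsAffine (openOver i.1).left := i.2
  haveI : IsSeparated (openOver i.1).hom := inferInstance
  exact repByAlgSpWith_isQuasiAffineMor_cI hfib x₁ _ (hV i.1 i.2) e

end Groth.Agent.Lib.Helper66.QuasiAffineAtlas
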