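import Groth.Agent.Lib.Helper66.QuotStHom
import Groth.Agent.Lib.Helper65.OfPsh
import Groth.Agent.Lib.Helper65.FpPaste
import Groth.Agent.Lib.Helper51.SheafGlue

/-!
# Maps from the quotient category `[X/G]` to a sheaf

A `G`-invariant map `f : h_X ⟶ M` to an fppf sheaf descends uniquely along `X ⟶ [X/G]`.
-/

set_option autoImplicit false
set_option backward.isDefEq.respectTransparency false
set_option backward.isDefEq.respectTransparency.types false
set_option linter.unusedSimpArgs false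
set_option linter.unusedVariables false

universe w v₂ u₂ v u

open CategoryTheory CategoryTheory.Limits MonoidalCategory CartesianMonoidalCategory MonObj GrpObj AlgebraicGeometry
  Opposite

namespace Groth.Agent.Lib.Helper66.QuotStUniv

open AlgSt Groth.Agent.Lib.Helper65 Groth.Agent.Lib.Helper66.QuotStBasic

section General

variable {C : Type u} [Category.{v} C] {P : Cᵒᵖ ⥤ Type w} {𝒜 : BasedCategory.{v₂, u₂} C}

theorem eltObj_ext {a b : Stk.EltObj P} (hb : a.base = b.base)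
    (hs : P.map (eqToHom hb.symm).op a.sec = b.sec) : a = b := by
  obtain ⟨ab, as⟩ := a
  obtain ⟨bb, bs⟩ := b
  dsimp only at hb
  subst hb
  dsimp only at hs
  rw [eqToHom_refl, psh_map_id] at hs
  rw [hs]

theorem eqToHom_hom {a b : Stk.EltObj P} (e : a = b) :
    (eqToHom e : a ⟶ b).hom = eqToHom (congrArg Stk.EltObj.base e) := by
  subst e; rfl

/-- Functors over `C` into `ofPsh P` with the same sections are equal. -/
theorem eq_of_secOf_eq {Φ Ψ : 𝒜 ⥤ᵇ Stk.ofPsh P} (h : ∀ a, secOf Φ a = secOf Ψ a) : Φ = Ψ := by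
  apply basedFunctor_ext
  have hobj : ∀ a, Φ.obj a = Ψ.obj a := by
    intro a
    refine eltObj_ext ((base_eq Φ a).trans (base_eq Ψ a).symm) ?_
    have h1 := h a
    unfold secOf at h1
    have e : (Ψ.obj a).sec = P.map (eqToHom (base_eq Ψ a)).op
        (P.map (eqToHom (base_eq Ψ a).symm).op (Ψ.obj a).sec) := by
      rw [psh_map_map]; simp only [eqToHom_trans, eqToHom_refl]; exact (psh_map_id P _).symm
    rw [e, ← h1, psh_map_map]
    simp
  refine CategoryTheory.Functor.ext hobj ?_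
  intro a b k
  apply Stk.EltObj.hom_ext
  change (Φ.map k).hom = (eqToHom (hobj a)).hom ≫ (Ψ.map k).hom ≫ (eqToHom (hobj b).symm).hom
  rw [eqToHom_hom, eqToHom_hom, map_hom_eq, map_hom_eq]
  simp

end General

variable {S : Scheme.{u}} {G : Over S} [GrpObj G] {X : Over S} {aX : AlgGrp.Action G X}

open AlgSp Groth.Agent.Lib.Helper51

/-- The sieve of maps to the base of `A` which lift to its torsor. -/
def liftSieve {K : Precoverage Scheme.{u}} (A : QuotObj K G aX) : Sieve A.base where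
  arrows Y k := ∃ s : Y ⟶ A.P, s ≫ A.π = k
  downward_closed := by
    rintro Y Z k ⟨s, hs⟩ m
    exact ⟨m ≫ s, by rw [Category.assoc, hs]⟩

theorem liftSieve_mem (A : QuotObj Scheme.fppfPrecoverage G aX) : liftSieve A ∈ AlgSp.J S A.base := by
  obtain ⟨R, hR, hsec⟩ := A.loc
  rw [AlgSp.J_eq, GrothendieckTopology.mem_over_iff]
  refine Scheme.fppfTopology.superset_covering ?_ (Precoverage.generate_mem_toGrothendieck hR)
  rintro W g ⟨Z, k, f, hf, rfl⟩
  rw [Sieve.overEquiv_iff]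
  obtain ⟨s, hs⟩ := hsec f hf
  have hs' : s ≫ A.π.left = f := hs
  have hw : (k ≫ s) ≫ A.P.hom = (k ≫ f) ≫ A.base.hom := by
    rw [← hs', Category.assoc, Category.assoc, Category.assoc, Over.w A.π]
  refine ⟨Over.homMk (k ≫ s) hw, ?_⟩
  apply Over.OverMorphism.ext
  change (k ≫ s) ≫ A.π.left = k ≫ f
  rw [Category.assoc, hs']

variable {M : AlgSp.Sp S} (f : (AlgSp.yon S).obj X ⟶ M)
  (hf : (AlgSp.yon S).map aX.act ≫ f = (AlgSp.yon S).map (snd G X) ≫ f)

include hf in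
/-- Two lifts of the same map to the base have the same image under an invariant map. -/
theorem inv_of_lifts {K : Precoverage Scheme.{u}} (A : QuotObj K G aX) {Y : Over S} (s₁ s₂ : Y ⟶ A.P)
    (h : s₁ ≫ A.π = s₂ ≫ A.π) :
    (AlgSp.yon S).map (s₁ ≫ A.φ) ≫ f = (AlgSp.yon S).map (s₂ ≫ A.φ) ≫ f := by
  let u : Y ⟶ G ⊗ A.P := A.cart.lift s₁ s₂ h
  have hu1 : u ≫ A.act.act = s₁ := A.cart.lift_fst _ _ _
  have hu2 : u ≫ snd G A.P = s₂ := A.cart.lift_snd _ _ _
  have e1 : s₁ ≫ A.φ = (u ≫ (G ◁ A.φ)) ≫ aX.act := by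
    rw [← hu1, Category.assoc, A.eqv, Category.assoc]
  have e2 : s₂ ≫ A.φ = (u ≫ (G ◁ A.φ)) ≫ snd G X := by
    rw [← hu2, Category.assoc, Category.assoc, whiskerLeft_snd]
  rw [e1, e2, Functor.map_comp, Category.assoc, hf, ← Category.assoc, ← Functor.map_comp]

include hf in
theorem exists_desc (A : QuotObj Scheme.fppfPrecoverage G aX) :
    ∃ ξ : (AlgSp.yon S).obj A.base ⟶ M, ∀ ⦃Y : Over S⦄ (s : Y ⟶ A.P),
      (AlgSp.yon S).map (s ≫ A.π) ≫ ξ = (AlgSp.yon S).map (s ≫ A.φ) ≫ f := by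
  let x : ∀ ⦃Y : Over S⦄ (k : Y ⟶ A.base), (liftSieve A).arrows k → ((AlgSp.yon S).obj Y ⟶ M) :=
    fun Y k hk => (AlgSp.yon S).map (Exists.choose hk ≫ A.φ) ≫ f
  have hx : ∀ ⦃Y Z : Over S⦄ (k : Y ⟶ A.base) (hk : (liftSieve A).arrows k) (m : Z ⟶ Y),
      (AlgSp.yon S).map m ≫ x k hk = x (m ≫ k) ((liftSieve A).downward_closed hk m) := by
    intro Y Z k hk m
    have hk' : (liftSieve A).arrows (m ≫ k) := (liftSieve A).downward_closed hk m
    change (AlgSp.yon S).map m ≫ (AlgSp.yon S).map (Exists.choose hk ≫ A.φ) ≫ f =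
      (AlgSp.yon S).map (Exists.choose hk' ≫ A.φ) ≫ f
    rw [← Category.assoc, ← Functor.map_comp, ← Category.assoc]
    apply inv_of_lifts f hf A
    rw [Category.assoc, Exists.choose_spec hk, Exists.choose_spec hk']
  obtain ⟨ξ, hξ⟩ := exists_yon_glue (X := M) (liftSieve_mem A) x hx
  refine ⟨ξ, fun Y s => ?_⟩
  have hk : (liftSieve A).arrows (s ≫ A.π) := ⟨s, rfl⟩
  rw [hξ (s ≫ A.π) hk]
  exact inv_of_lifts f hf A _ _ (Exists.choose_spec hk)

theorem desc_unique (A : QuotObj Scheme.fppfPrecoverage G aX) {ξ₁ ξ₂ : (AlgSp.yon S).obj A.base ⟶ M}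
    (h : ∀ ⦃Y : Over S⦄ (s : Y ⟶ A.P),
      (AlgSp.yon S).map (s ≫ A.π) ≫ ξ₁ = (AlgSp.yon S).map (s ≫ A.π) ≫ ξ₂) : ξ₁ = ξ₂ := by
  refine yon_hom_ext_of_mem_J (liftSieve_mem A) ?_
  rintro Y k ⟨s, rfl⟩
  exact h s

/-- The descended point. -/
noncomputable def descPt (A : QuotObj Scheme.fppfPrecoverage G aX) : (AlgSp.yon S).obj A.base ⟶ M :=
  (exists_desc f hf A).choose

theorem descPt_spec (A : QuotObj Scheme.fppfPrecoverage G aX) {Y : Over S} (s : Y ⟶ A.P) :
    (AlgSp.yon S).map (s ≫ A.π) ≫ descPt f hf A = (AlgSp.yon S).map (s ≫ A.φ) ≫ f :=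
  (exists_desc f hf A).choose_spec s

theorem descPt_map {A B : QuotObj Scheme.fppfPrecoverage G aX} (k : A ⟶ B) :
    (AlgSp.yon S).map k.base ≫ descPt f hf B = descPt f hf A := by
  apply desc_unique A
  intro Y s
  rw [descPt_spec, ← Category.assoc, ← Functor.map_comp]
  have e1 : (s ≫ A.π) ≫ k.base = (s ≫ k.top) ≫ B.π := by
    rw [Category.assoc, Category.assoc, k.cart.w]
  rw [e1, descPt_spec, Category.assoc, k.wφ]

theorem descPt_triv (T : Over S) (x : T ⟶ X) :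
    descPt f hf (trivObj (K := Scheme.fppfPrecoverage) (aX := aX) T x) = (AlgSp.yon S).map x ≫ f := by
  let e : T ⟶ G ⊗ T := lift (1 : T ⟶ G) (𝟙 T)
  have h : (AlgSp.yon S).map (e ≫ snd G T) ≫
      descPt f hf (trivObj (K := Scheme.fppfPrecoverage) (aX := aX) T x) =
      (AlgSp.yon S).map (e ≫ (G ◁ x) ≫ aX.act) ≫ f :=
    descPt_spec f hf (trivObj (K := Scheme.fppfPrecoverage) (aX := aX) T x) (Y := T) e
  have e1 : e ≫ snd G T = 𝟙 T := lift_snd _ _
  have e2 : e ≫ (G ◁ x) ≫ aX.act = x := by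
    have h2 : e ≫ (G ◁ x) = lift (1 : T ⟶ G) x := by
      apply CartesianMonoidalCategory.hom_ext
      · simp only [e, Category.assoc, lift_fst, whiskerLeft_fst]
      · simp only [e, Category.assoc, lift_snd, whiskerLeft_snd, lift_snd_assoc, Category.id_comp]
    rw [← Category.assoc, h2, act_one_pt]
  rw [e1, e2, CategoryTheory.Functor.map_id] at h
  exact (Category.id_comp _).symm.trans h

theorem secOf_eq_of_obj_eq {C : Type u} [Category.{v} C] {P : Cᵒᵖ ⥤ Type w} {𝒜 : BasedCategory.{v₂, u₂} C}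
    (Φ : 𝒜 ⥤ᵇ Stk.ofPsh P) (a : 𝒜.obj) (m : P.obj (op (𝒜.p.obj a)))
    (h : Φ.obj a = ⟨𝒜.p.obj a, m⟩) : secOf Φ a = m := by
  have key : ∀ (o : Stk.EltObj P) (hb : o.base = 𝒜.p.obj a), o = ⟨𝒜.p.obj a, m⟩ →
      P.map (eqToHom hb.symm).op o.sec = m := by
    rintro _ hb rfl
    rw [eqToHom_refl]
    exact psh_map_id P m
  exact key _ (base_eq Φ a) h

theorem yonEquiv_map {T U : Over S} (x : T ⟶ U) :
    yonEquiv ((AlgSp.yon S).map x) = (⟨x⟩ : ULift.{u + 1} (T ⟶ U)) := by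
  change (⟨𝟙 T ≫ x⟩ : ULift.{u + 1} (T ⟶ U)) = ⟨x⟩
  rw [Category.id_comp]

/-- The descended functor `[X/G] ⟶ M`. -/
noncomputable def descFunctor : QuotSt Scheme.fppfPrecoverage G aX ⥤ᵇ AlgSt.ofSp M :=
  ofSec (𝒜 := QuotSt Scheme.fppfPrecoverage G aX) (P := M.obj) (fun A => yonEquiv (descPt f hf A))
    (fun {A B} k => by
      change M.obj.map k.base.op (yonEquiv (descPt f hf B)) = yonEquiv (descPt f hf A)
      rw [yonEquiv_naturality, descPt_map])

theorem quotMap_comp_descFunctor :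
    BasedFunctor.comp (quotMap Scheme.fppfPrecoverage G aX) (descFunctor f hf) = AlgSt.ofSpMap f := by
  apply eq_of_secOf_eq
  intro a
  rw [secOf_eq_of_obj_eq (BasedFunctor.comp (quotMap Scheme.fppfPrecoverage G aX) (descFunctor f hf)) a
      (yonEquiv (descPt f hf (trivObj (K := Scheme.fppfPrecoverage) (aX := aX) a.base a.sec.down))) rfl,
    secOf_eq_of_obj_eq (AlgSt.ofSpMap f) a (f.hom.app _ a.sec) rfl, descPt_triv, yonEquiv_comp,
    yonEquiv_map]
  rfl

theorem eq_descFunctor (φ' : QuotSt Scheme.fppfPrecoverage G aX ⥤ᵇ AlgSt.ofSp M)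
    (h : BasedFunctor.comp (quotMap Scheme.fppfPrecoverage G aX) φ' = AlgSt.ofSpMap f) :
    φ' = descFunctor f hf := by
  apply eq_of_secOf_eq
  intro A
  have h0 : secOf (descFunctor f hf) A = yonEquiv (descPt f hf A) :=
    secOf_eq_of_obj_eq (descFunctor f hf) A _ rfl
  rw [h0]
  obtain ⟨m, hm⟩ : ∃ m : M.obj.obj (op A.base), m = secOf φ' A := ⟨_, rfl⟩
  rw [← hm]
  have h1 : yonEquiv.symm m = descPt f hf A := by
    apply desc_unique A
    intro Y s
    rw [descPt_spec]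
    apply yonEquiv.injective
    rw [← yonEquiv_naturality, Equiv.apply_symm_apply]
    have h2 : M.obj.map (s ≫ A.π).op m =
        secOf φ' (trivObj (K := Scheme.fppfPrecoverage) (aX := aX) Y (s ≫ A.φ)) := by
      rw [hm]
      exact secOf_compat φ' (trivHom (K := Scheme.fppfPrecoverage) A s)
    have h3 : secOf φ' (trivObj (K := Scheme.fppfPrecoverage) (aX := aX) Y (s ≫ A.φ)) =
        secOf (BasedFunctor.comp (quotMap Scheme.fppfPrecoverage G aX) φ')
          (⟨Y, ⟨s ≫ A.φ⟩⟩ : (AlgSt.ofSch X).obj) := rfl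
    rw [h3, h] at h2
    rw [secOf_eq_of_obj_eq (AlgSt.ofSpMap f) (⟨Y, ⟨s ≫ A.φ⟩⟩ : (AlgSt.ofSch X).obj)
      (f.hom.app _ ⟨s ≫ A.φ⟩) rfl] at h2
    rw [yonEquiv_comp, yonEquiv_map]
    exact h2
  rw [← h1, Equiv.apply_symm_apply]

end Groth.Agent.Lib.Helper66.QuotStUniv
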