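import Groth.Agent.Lib.Helper66.QuotStRep
import Groth.Agent.Lib.Helper66.QuotStUniv
import Groth.Agent.Lib.Helper66.AlgStPFacts
import Groth.Agent.Lib.Helper65.RepDesc2
import Groth.Agent.Lib.Helper65.LocalProps

/-!
# Properties of `X ⟶ [X/G]` inherited from `G ⟶ S`
-/

set_option autoImplicit false
set_option backward.isDefEq.respectTransparency false
set_option backward.isDefEq.respectTransparency.types false
set_option linter.unusedSimpArgs false
set_option linter.unusedVariables false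

universe u

open CategoryTheory CategoryTheory.Limits MonoidalCategory CartesianMonoidalCategory MonObj GrpObj AlgebraicGeometry

namespace Groth.Agent.Lib.Helper66.QuotStProp

open AlgSt Groth.Agent.Lib.Helper66.QuotStBasic Groth.Agent.Lib.Helper66.QuotStRep
  Groth.Agent.Lib.Helper66.QuotStUniv Groth.Agent.Lib.Helper65

variable {S : Scheme.{u}} {G : Over S} [GrpObj G] {X : Over S} {aX : AlgGrp.Action G X}

/-- The representing space and equivalence: a property of the torsor projections is a property of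
`X ⟶ [X/G]`. -/
theorem repByAlgSpWith_qF {K : Precoverage Scheme.{u}} [K.HasIsos] (P : MorphismProperty (AlgSp.Sp S))
    (hP : ∀ (A : QuotObj K G aX) (T : Over S) (e : A.base = T), P ((AlgSp.yon S).map (A.π ≫ eqToHom e))) :
    AlgSt.RepByAlgSpWith P (qF K G aX) := by
  intro U y
  refine ⟨⟨(AlgSp.yon S).obj (topObj y).P, AlgSp.IsAlgSpace.yon_obj _⟩, repF y, repF_isEquivOver y, ?_⟩
  change P (AlgSt.spMapOfOver (BasedFunctor.comp (ofSpMap ((AlgSp.yon S).map (topπ y))) (toOverCat U)))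
  rw [spMapOfOver_ofSpMap_toOverCat]
  exact hP _ _ _

theorem snd_left_prop (Q : MorphismProperty Scheme.{u}) [Q.IsStableUnderBaseChange] (hG : Q G.hom)
    (T : Over S) : Q (snd G T).left := by
  rw [Over.snd_left]
  exact MorphismProperty.pullback_snd _ _ hG

/-- An fppf family of local sections of a torsor. -/
theorem exists_sections (A : QuotObj Scheme.fppfPrecoverage G aX) :
    ∃ (J : Type u) (V : J → Over S) (h : ∀ i, V i ⟶ A.base) (s : ∀ i, V i ⟶ A.P),
      (∀ i, s i ≫ A.π = h i) ∧ (∀ i, Flat (h i).left) ∧ (∀ i, LocallyOfFinitePresentation (h i).left) ∧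
      ∀ x : ↥A.base.left, ∃ i, x ∈ Set.range (h i).left := by
  obtain ⟨J, V, h, h0, h1, h2, h3⟩ := exists_fppf_family_of_mem_J (liftSieve_mem A)
  choose s hs using h0
  exact ⟨J, V, h, s, hs, h1, h2, h3⟩

theorem locP_yon_map_π (Q : MorphismProperty Scheme.{u}) [Q.IsStableUnderBaseChange]
    (hQ : Groth.Agent.Lib.Helper66.AlgStPFacts.Listed Q)
    (hloc : AlgSp.IsLocalOnBase AlgSp.IsFppfCover (AlgSp.LocP (S := S) Q)) (hG : Q G.hom)
    (A : QuotObj Scheme.fppfPrecoverage G aX) : AlgSp.LocP Q ((AlgSp.yon S).map A.π) := by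
  obtain ⟨J, V, h, s, hs, h1, h2, h3⟩ := exists_sections A
  have hcov := isFppfCover_yon V h h1 h2 h3
  refine (hloc (fun i => (AlgSp.yon S).obj (V i)) (fun i => (AlgSp.yon S).map (h i))
    (AlgSp.IsAlgSpace.yon_obj _) (fun i => AlgSp.IsAlgSpace.yon_obj _) hcov
    ((AlgSp.yon S).map A.π) (AlgSp.IsAlgSpace.yon_obj _)
    (fun i => (AlgSp.yon S).obj (G ⊗ V i)) (fun i => (AlgSp.yon S).map (snd G (V i)))
    (fun i => (AlgSp.yon S).map ((G ◁ s i) ≫ A.act.act)) (fun i => AlgSp.IsAlgSpace.yon_obj _) ?_).2 ?_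
  · intro i
    have sq : IsPullback ((G ◁ s i) ≫ A.act.act) (snd G (V i)) A.π (s i ≫ A.π) :=
      (isPullback_whiskerLeft (s i)).paste_horiz A.cart
    rw [hs i] at sq
    exact sq.map (AlgSp.yon S)
  · intro i
    exact (Groth.Agent.H52.isEtLocal_of_list _ hQ).locP_of_repWith' _
      ((AlgSp.repWith_yon_map_iff Q (snd G (V i))).2 (snd_left_prop Q hG (V i)))

theorem isSurjectiveMor_yon_map_π (A : QuotObj Scheme.fppfPrecoverage G aX) :
    AlgSp.IsSurjectiveMor ((AlgSp.yon S).map A.π) := by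
  obtain ⟨J, V, h, s, hs, h1, h2, h3⟩ := exists_sections A
  intro x
  obtain ⟨u, rfl⟩ := Groth.Agent.Lib.Helper54.exists_ofScheme_eq A.base x
  obtain ⟨i, v, hv⟩ := h3 u
  refine ⟨AlgSp.Points.ofScheme A.P ((s i).left v), ?_⟩
  refine (AlgSp.Points.map_yon_map_apply A.π ((s i).left v)).trans (congrArg _ ?_)
  rw [← hv, ← hs i]
  rfl

theorem comp_eqToHom_prop (P : MorphismProperty (AlgSp.Sp S)) {K : Precoverage Scheme.{u}}
    (hP : ∀ A : QuotObj K G aX, P ((AlgSp.yon S).map A.π))
    (A : QuotObj K G aX) (T : Over S) (e : A.base = T) : P ((AlgSp.yon S).map (A.π ≫ eqToHom e)) := by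
  subst e
  rw [eqToHom_refl, Category.comp_id]
  exact hP A

end Groth.Agent.Lib.Helper66.QuotStProp
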