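import Groth.Agent.Lib.Helper66.SmoothPres
import Groth.Agent.Lib.Helper68.SmoothEtSheaf

/-!
# Helper66: an étale stack with a smooth surjective cover (representable by algebraic spaces) by an algebraic
space is an algebraic stack for the étale topology
-/

set_option autoImplicit false

universe u

open CategoryTheory CategoryTheory.Limits AlgebraicGeometry

namespace Groth.Agent.Lib.Helper66.SmoothPresEt

open AlgSp Groth.Agent.Lib.Helper65 Groth.Agent.Lib.Helper31 FibCat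
open Groth.Agent.Lib.Helper66.SmBoot

variable {S : Scheme.{u}}

/-- A stack for the fppf topology is a stack for the étale topology. -/
theorem isStack_et_of_fppf {𝒳 : AlgSt.Cat S} (h : Stk.IsStack (AlgSp.J S) 𝒳) :
    Stk.IsStack (QuotSh.J Scheme.etalePrecoverage S) 𝒳 :=
  ⟨h.1, fun _ R hR => h.2 R (Groth.Agent.H52.Bootstrap.jet_le_J _ hR)⟩

/-- A stack in setoids with a smooth surjective cover by an algebraic space is an algebraic space. -/
theorem repByAlgSp_of_smooth_cover {ℐ 𝒲 : AlgSt.Cat S} (hℐ : Stk.IsStack (QuotSh.J Scheme.etalePrecoverage S) ℐ)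
    (hset : IsFibSetoid ℐ.p) (h𝒲 : AlgSt.RepByAlgSp 𝒲) (q : 𝒲 ⥤ᵇ ℐ)
    (hq1 : AlgSt.RepByAlgSpWith (LocP @Smooth) q)
    (hq2 : AlgSt.RepByAlgSpWith IsSurjectiveMor q) : AlgSt.RepByAlgSp ℐ := by
  obtain ⟨P, E, hE⟩ := exists_psh_of_isFibSetoid hset
  obtain ⟨E', hE', -, ⟨i₂⟩⟩ := exists_inverse_equivOver E hE
  have hstack : Stk.IsStack (QuotSh.J Scheme.etalePrecoverage S) (Stk.ofPsh P) := (isStack_iff_of_equivOver _ E hE).2 hℐ
  have hP : Presheaf.IsSheaf (QuotSh.J Scheme.etalePrecoverage S) P :=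
    (isSheaf_iff_isSheaf_of_type _ _).2 ((isStack_ofPsh_iff _ P).1 hstack)
  obtain ⟨X, eX, heX⟩ := h𝒲
  let y : AlgSt.ofSp X.obj ⥤ᵇ Stk.ofPsh P := BasedFunctor.comp (BasedFunctor.comp eX q) E'
  let p₀ : X.obj.obj ⟶ P := pshMapOf y
  have hsq : ∀ (Q : MorphismProperty (Sp S)), AlgSt.RepByAlgSpWith Q q →
      AlgSt.RepByAlgSpWith Q (Stk.ofPshMap p₀) := by
    intro Q hQ
    refine repByAlgSpWith_of_square Q q (Stk.ofPshMap p₀) eX E heX hE ?_ hQ
    exact bWhiskerRightIso (isoOfPshMap y).symm E ≪≫ bWhiskerLeftIso (BasedFunctor.comp eX q) i₂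
  have h1 := hsq _ hq1
  have h2 := hsq _ hq2
  have hrep : RepBySp p₀ := by
    apply repBySp_of_repByAlgSp1
    intro V z
    obtain ⟨G, e, he, -⟩ := h1 V z
    exact ⟨G, e, he⟩
  have hp1 : RepBySpWith (LocP @Smooth) p₀ := repBySpWith_of_repByAlgSpWith p₀ _ hrep h1
  have hp2 : RepBySpWith IsSurjectiveMor p₀ := repBySpWith_of_repByAlgSpWith p₀ _ hrep h2
  have hp : RepBySpWith (IsSurjectiveMor ⊓ LocP @Smooth) p₀ := by
    intro V ξ F' fst snd sq
    obtain ⟨hsh, hA, hs⟩ := hp2 ξ fst snd sq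
    obtain ⟨_, _, hsm⟩ := hp1 ξ fst snd sq
    exact ⟨hsh, hA, hs, hsm⟩
  obtain ⟨hsh, hF⟩ :=
    Groth.Agent.Lib.Helper68.SmoothEtSheaf.isAlgSpaceP_of_etale_sheaf_of_repBySpWith_smooth P hP
      X.obj X.property p₀ hp
  exact ⟨⟨⟨P, hsh⟩, hF⟩, E, hE⟩

variable {𝒰 𝒳 : AlgSt.Cat S}

/-- Every functor from a scheme to a stack with a smooth surjective cover by an algebraic space is
representable by algebraic spaces. -/
theorem repByAlgSp1_of_smooth_cover (h𝒰 : Stk.IsStack (QuotSh.J Scheme.etalePrecoverage S) 𝒰) (h𝒳 : Stk.IsStack (QuotSh.J Scheme.etalePrecoverage S) 𝒳)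
    (hU : AlgSt.RepByAlgSp 𝒰) (u : 𝒰 ⥤ᵇ 𝒳) (hsm : AlgSt.RepByAlgSpWith (LocP @Smooth) u)
    (hsurj : AlgSt.RepByAlgSpWith IsSurjectiveMor u) (T : Over S) (x : overCat T ⥤ᵇ 𝒳) :
    AlgSt.RepByAlgSp1 x := by
  intro V y
  have hu1 : AlgSt.RepByAlgSp1 u := fun W z => by
    obtain ⟨G, e, he, -⟩ := hsm W z
    exact ⟨G, e, he⟩
  have hsetO : ∀ W : Over S, IsFibSetoid (overCat W).p := fun W =>
    isFibSetoid_of_equivOver (AlgSt.toOverCat W) (toOverCat_isEquivOver W) (isFibSetoid_ofPsh _)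
  have hI_stack : Stk.IsStack (QuotSh.J Scheme.etalePrecoverage S) (fp y x) :=
    isStack_fp y x _ (isStack_et_of_fppf (isAlgStack_overCat V).isStack)
      (isStack_et_of_fppf (isAlgStack_overCat T).isStack) (isPrestack_of_isStack _ h𝒳)
  have hI_set : IsFibSetoid (fp y x).p := isFibSetoid_fp y x (hsetO V) (hsetO T) h𝒳.1
  -- the cover
  have hA1 : AlgSt.RepByAlgSpWith (LocP @Smooth) (fpFst x u) := repByAlgSpWith_fpFst _ u x hsm
  have hA2 : AlgSt.RepByAlgSpWith IsSurjectiveMor (fpFst x u) := repByAlgSpWith_fpFst _ u x hsurj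
  have hq1 : AlgSt.RepByAlgSpWith (LocP @Smooth) (fpFst (fpSnd y x) (fpFst x u)) :=
    repByAlgSpWith_fpFst _ (fpFst x u) (fpSnd y x) hA1
  have hq2 : AlgSt.RepByAlgSpWith IsSurjectiveMor (fpFst (fpSnd y x) (fpFst x u)) :=
    repByAlgSpWith_fpFst _ (fpFst x u) (fpSnd y x) hA2
  -- the cover is an algebraic space
  have hB : AlgSt.RepByAlgSp (fp (fpSnd y u) (fpSnd x u)) := by
    refine repByAlgSp_fp_of_repByAlgSp
      (isFibGrpd_fp x u (isFibGrpd_overForget T) h𝒰.1 h𝒳.1) h𝒰.1 (fpSnd x u) (fpSnd y u) ?_ (hu1 V y)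
    exact repByAlgSp1_of_repByAlgSp _ (hu1 T x) hU
  have hc : AlgSt.RepByAlgSp (fp y (BasedFunctor.comp (fpSnd x u) u)) :=
    (repByAlgSp_iff_of_equivOver _ (fpPasteSnd_isEquivOver y u (fpSnd x u))).1 hB
  let Φ : fp y (BasedFunctor.comp (fpFst x u) x) ⥤ᵇ fp y (BasedFunctor.comp (fpSnd x u) u) :=
    fpMap (F := y) (G := BasedFunctor.comp (fpFst x u) x) (F' := y)
      (G' := BasedFunctor.comp (fpSnd x u) u)
      (BasedFunctor.id _) (BasedFunctor.id _) (BasedFunctor.id _) (Iso.refl _) (fpIso x u)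
  have hΦ : IsEquivOver Φ :=
    fpMap_isEquivOver _ _ _ _ _ (isEquivOver_id _) (isEquivOver_id _) (isEquivOver_id _)
  have hb : AlgSt.RepByAlgSp (fp y (BasedFunctor.comp (fpFst x u) x)) :=
    (repByAlgSp_iff_of_equivOver Φ hΦ).2 hc
  have ha : AlgSt.RepByAlgSp (fp (fpSnd y x) (fpFst x u)) :=
    (repByAlgSp_iff_of_equivOver _ (fpPasteSnd_isEquivOver y x (fpFst x u))).2 hb
  exact repByAlgSp_of_smooth_cover hI_stack hI_set ha _ hq1 hq2

/-- A stack with a smooth surjective cover (representable by algebraic spaces) by an algebraic space is an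
algebraic stack. -/
theorem isAlgStack_of_smooth_cover (h𝒰 : Stk.IsStack (QuotSh.J Scheme.etalePrecoverage S) 𝒰) (h𝒳 : Stk.IsStack (QuotSh.J Scheme.etalePrecoverage S) 𝒳)
    (hU : AlgSt.RepByAlgSp 𝒰) (u : 𝒰 ⥤ᵇ 𝒳) (hsm : AlgSt.RepByAlgSpWith (LocP @Smooth) u)
    (hsurj : AlgSt.RepByAlgSpWith IsSurjectiveMor u) :
    AlgSt.IsAlgStack Scheme.etalePrecoverage 𝒳 := by
  refine ⟨h𝒳, repByAlgSp1_diag_of_all (fun T x =>
    repByAlgSp1_of_smooth_cover h𝒰 h𝒳 hU u hsm hsurj T x), ?_⟩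
  obtain ⟨X, e, he⟩ := hU
  have h𝒰alg : AlgSt.IsAlgStack Scheme.fppfPrecoverage 𝒰 :=
    isAlgStack_of_equivOver _ e he (isAlgStack_ofSp X)
  obtain ⟨V, a, ha1, ha2⟩ := h𝒰alg.atlas
  refine ⟨V, BasedFunctor.comp a u, ?_, ?_⟩
  · exact repByAlgSpWith_comp _ stableBC_locP_smooth stableComp_locP_smooth
      isLocalOnBase_fppf_locP_smooth (isFibGrpd_overForget V) h𝒰.1 a u ha1 hsm
  · exact repByAlgSpWith_comp _ stableBC_isSurjectiveMor stableComp_isSurjectiveMor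
      isLocalOnBase_fppf_isSurjectiveMor (isFibGrpd_overForget V) h𝒰.1 a u ha2 hsurj

end Groth.Agent.Lib.Helper66.SmoothPresEt
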