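import Groth.Agent.Lib.Helper66.QuotStGlue
import Groth.Agent.Lib.Helper66.QuotStProp
import Groth.Agent.Lib.Helper66.SmoothPresEt
import Groth.Agent.Lib.Helper66.AlgStDiagCover3
import Groth.Agent.Lib.Helper66.ProdSliceFst
import Groth.Agent.Lib.Helper66.QuasiAffineMix
import Groth.Agent.Lib.Helper66.QuasiAffineAtlas
import Groth.Agent.S10533
import Groth.Prelude.Def_ActBC

/-!
# Helper66: the diagonal of `[X/G]`

* `toFppf`: a torsor for a precoverage contained in the fppf precoverage is an fppf torsor;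
* properties of the torsor projections (`LocP Q`, surjective, affine) and of `X ⟶ [X/G]`, for such a precoverage;
* `repByAlgSp1_of_smooth_cover_of_isPrestack`: the étale-smooth bootstrap for functors from schemes to a PRESTACK;
* `repByAlgSpWith_diag_fpFst`: the diagonal of `T ×_S X ⟶ T` as a morphism of stacks, for `X ⟶ S` with affine
  diagonal;
* `repByAlgSpWith_isAffineMor_diag_quotSt_etale`: S16823.
-/

set_option autoImplicit false
set_option backward.isDefEq.respectTransparency false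
set_option backward.isDefEq.respectTransparency.types false
set_option linter.unusedSimpArgs false
set_option linter.unusedVariables false
set_option linter.style.haveILetI false

universe u

open CategoryTheory CategoryTheory.Limits MonoidalCategory CartesianMonoidalCategory MonObj GrpObj AlgebraicGeometry

namespace Groth.Agent.Lib.Helper66.QuotStDiag

open AlgSt FibCat Groth.Agent.Lib.Helper31 Groth.Agent.Lib.Helper65
open Groth.Agent.Lib.Helper66.QuotStBasic Groth.Agent.Lib.Helper66.QuotStRep Groth.Agent.Lib.Helper66.QuotStProp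
open Groth.Agent.Lib.Helper66.QuotStFib Groth.Agent.Lib.Helper66.QuotStGlue
open Groth.Agent.Lib.Helper66.StackCmp Groth.Agent.Lib.Helper66.ProdSliceFst
open Groth.Agent.Lib.Helper66.AlgStDiagCover

variable {S : Scheme.{u}} {G : Over S} [GrpObj G] {X : Over S} {aX : AlgGrp.Action G X}

section ToFppf

variable {K : Precoverage Scheme.{u}} (hK : K ≤ Scheme.fppfPrecoverage)

/-- a torsor for a precoverage contained in the fppf precoverage is an fppf torsor -/
def toFppf (A : QuotObj K G aX) : QuotObj Scheme.fppfPrecoverage G aX where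
  base := A.base
  P := A.P
  act := A.act
  π := A.π
  cart := A.cart
  loc := by
    obtain ⟨R, hR, h⟩ := A.loc
    exact ⟨R, hK _ hR, h⟩
  φ := A.φ
  eqv := A.eqv

@[simp] theorem toFppf_π (A : QuotObj K G aX) : (toFppf hK A).π = A.π := rfl

include hK in
theorem locP_yon_map_π_of_le (Q : MorphismProperty Scheme.{u}) [Q.IsStableUnderBaseChange]
    (hQ : Groth.Agent.Lib.Helper66.AlgStPFacts.Listed Q)
    (hloc : AlgSp.IsLocalOnBase AlgSp.IsFppfCover (AlgSp.LocP (S := S) Q)) (hG : Q G.hom)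
    (A : QuotObj K G aX) : AlgSp.LocP Q ((AlgSp.yon S).map A.π) :=
  locP_yon_map_π Q hQ hloc hG (toFppf hK A)

include hK in
theorem isSurjectiveMor_yon_map_π_of_le (A : QuotObj K G aX) :
    AlgSp.IsSurjectiveMor ((AlgSp.yon S).map A.π) :=
  isSurjectiveMor_yon_map_π (toFppf hK A)

end ToFppf

/-- The projection of an fppf torsor under an affine group scheme is affine. -/
theorem isAffineMor_yon_map_π (hG : IsAffineHom G.hom) (A : QuotObj Scheme.fppfPrecoverage G aX) :
    AlgSp.IsAffineMor ((AlgSp.yon S).map A.π) := by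
  obtain ⟨J, V, h, s, hs, h1, h2, h3⟩ := exists_sections A
  have hcov := isFppfCover_yon V h h1 h2 h3
  have hloc : AlgSp.IsLocalOnBase AlgSp.IsFppfCover (AlgSp.IsAffineMor (S := S)) :=
    Groth.Agent.Lib.Helper66.AlgStPFacts.isLocalOnBase_fppf_of_fpqc _ (Groth.Agent.S10533.result S)
  refine (hloc (fun i => (AlgSp.yon S).obj (V i)) (fun i => (AlgSp.yon S).map (h i))
    (AlgSp.IsAlgSpace.yon_obj _) (fun i => AlgSp.IsAlgSpace.yon_obj _) hcov
    ((AlgSp.yon S).map A.π) (AlgSp.IsAlgSpace.yon_obj _)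
    (fun i => (AlgSp.yon S).obj (G ⊗ V i)) (fun i => (AlgSp.yon S).map (snd G (V i)))
    (fun i => (AlgSp.yon S).map ((G ◁ s i) ≫ A.act.act)) (fun i => AlgSp.IsAlgSpace.yon_obj _) ?_).2 ?_
  · intro i
    have sq : IsPullback ((G ◁ s i) ≫ A.act.act) (snd G (V i)) A.π (s i ≫ A.π) :=
      (isPullback_whiskerLeft (s i)).paste_horiz A.cart
    rw [hs i] at sq
    exact sq.map (AlgSp.yon S)
  · intro i
    exact Groth.Agent.H52.isAffineMor_of_repWith_isAffineHom _
      ((AlgSp.repWith_yon_map_iff @IsAffineHom (snd G (V i))).2 (snd_left_prop @IsAffineHom hG (V i)))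

theorem isAffineMor_yon_map_π_of_le {K : Precoverage Scheme.{u}} (hK : K ≤ Scheme.fppfPrecoverage)
    (hG : IsAffineHom G.hom) (A : QuotObj K G aX) : AlgSp.IsAffineMor ((AlgSp.yon S).map A.π) :=
  isAffineMor_yon_map_π hG (toFppf hK A)

section Atlas

variable {K : Precoverage Scheme.{u}} [K.HasIsos] (hK : K ≤ Scheme.fppfPrecoverage)

include hK in
/-- `X ⟶ [X/G]` has `Q` étale locally when `G ⟶ S` has `Q`. -/
theorem repByAlgSpWith_locP_qF (Q : MorphismProperty Scheme.{u}) [Q.IsStableUnderBaseChange]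
    (hQ : Groth.Agent.Lib.Helper66.AlgStPFacts.Listed Q)
    (hloc : AlgSp.IsLocalOnBase AlgSp.IsFppfCover (AlgSp.LocP (S := S) Q)) (hG : Q G.hom) :
    AlgSt.RepByAlgSpWith (AlgSp.LocP Q) (qF K G aX) :=
  repByAlgSpWith_qF _ (comp_eqToHom_prop _ (locP_yon_map_π_of_le hK Q hQ hloc hG))

include hK in
/-- `X ⟶ [X/G]` is surjective. -/
theorem repByAlgSpWith_isSurjectiveMor_qF : AlgSt.RepByAlgSpWith AlgSp.IsSurjectiveMor (qF K G aX) :=
  repByAlgSpWith_qF _ (comp_eqToHom_prop _ (isSurjectiveMor_yon_map_π_of_le hK))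

include hK in
/-- `X ⟶ [X/G]` is affine when `G ⟶ S` is. -/
theorem repByAlgSpWith_isAffineMor_qF (hG : IsAffineHom G.hom) :
    AlgSt.RepByAlgSpWith AlgSp.IsAffineMor (qF K G aX) :=
  repByAlgSpWith_qF _ (comp_eqToHom_prop _ (isAffineMor_yon_map_π_of_le hK hG))

end Atlas

section Bootstrap

open AlgSp Groth.Agent.Lib.Helper66.SmBoot Groth.Agent.Lib.Helper66.SmoothPresEt

variable {𝒰 𝒳 : AlgSt.Cat S}

/-- Every functor from a scheme to an étale PRESTACK with a smooth surjective cover by an algebraic space is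
representable by algebraic spaces. -/
theorem repByAlgSp1_of_smooth_cover_of_isPrestack
    (h𝒰 : IsFibGrpd 𝒰.p) (h𝒳 : Stk.IsPrestack (QuotSh.J Scheme.etalePrecoverage S) 𝒳)
    (hU : AlgSt.RepByAlgSp 𝒰) (u : 𝒰 ⥤ᵇ 𝒳) (hsm : AlgSt.RepByAlgSpWith (LocP @Smooth) u)
    (hsurj : AlgSt.RepByAlgSpWith IsSurjectiveMor u) (T : Over S) (x : overCat T ⥤ᵇ 𝒳) :
    AlgSt.RepByAlgSp1 x := by
  intro V y
  have hu1 : AlgSt.RepByAlgSp1 u := fun W z => by
    obtain ⟨G, e, he, -⟩ := hsm W z
    exact ⟨G, e, he⟩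
  have hsetO : ∀ W : Over S, IsFibSetoid (overCat W).p := fun W =>
    isFibSetoid_of_equivOver (AlgSt.toOverCat W) (toOverCat_isEquivOver W) (isFibSetoid_ofPsh _)
  have hI_stack : Stk.IsStack (QuotSh.J Scheme.etalePrecoverage S) (fp y x) :=
    isStack_fp y x _ (isStack_et_of_fppf (isAlgStack_overCat V).isStack)
      (isStack_et_of_fppf (isAlgStack_overCat T).isStack) h𝒳
  have hI_set : IsFibSetoid (fp y x).p := isFibSetoid_fp y x (hsetO V) (hsetO T) h𝒳.1
  have hA1 : AlgSt.RepByAlgSpWith (LocP @Smooth) (fpFst x u) := repByAlgSpWith_fpFst _ u x hsm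
  have hA2 : AlgSt.RepByAlgSpWith IsSurjectiveMor (fpFst x u) := repByAlgSpWith_fpFst _ u x hsurj
  have hq1 : AlgSt.RepByAlgSpWith (LocP @Smooth) (fpFst (fpSnd y x) (fpFst x u)) :=
    repByAlgSpWith_fpFst _ (fpFst x u) (fpSnd y x) hA1
  have hq2 : AlgSt.RepByAlgSpWith IsSurjectiveMor (fpFst (fpSnd y x) (fpFst x u)) :=
    repByAlgSpWith_fpFst _ (fpFst x u) (fpSnd y x) hA2
  have hB : AlgSt.RepByAlgSp (fp (fpSnd y u) (fpSnd x u)) := by
    refine repByAlgSp_fp_of_repByAlgSp
      (isFibGrpd_fp x u (isFibGrpd_overForget T) h𝒰 h𝒳.1) h𝒰 (fpSnd x u) (fpSnd y u) ?_ (hu1 V y)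
    exact repByAlgSp1_of_repByAlgSp _ (hu1 T x) hU
  have hc : AlgSt.RepByAlgSp (fp y (BasedFunctor.comp (fpSnd x u) u)) :=
    (repByAlgSp_iff_of_equivOver _ (fpPasteSnd_isEquivOver y u (fpSnd x u))).1 hB
  let Φ : fp y (BasedFunctor.comp (fpFst x u) x) ⥤ᵇ fp y (BasedFunctor.comp (fpSnd x u) u) :=
    fpMap (F := y) (G := BasedFunctor.comp (fpFst x u) x) (F' := y)
      (G' := BasedFunctor.comp (fpSnd x u) u)
      (BasedFunctor.id _) (BasedFunctor.id _) (BasedFunctor.id _) (Iso.refl _) (fpIso x u)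
  have hΦ : IsEquivOver Φ :=
    fpMap_isEquivOver _ _ _ _ _ (isEquivOver_id _) (isEquivOver_id _) (isEquivOver_id _)
  have hb : AlgSt.RepByAlgSp (fp y (BasedFunctor.comp (fpFst x u) x)) :=
    (repByAlgSp_iff_of_equivOver Φ hΦ).2 hc
  have ha : AlgSt.RepByAlgSp (fp (fpSnd y x) (fpFst x u)) :=
    (repByAlgSp_iff_of_equivOver _ (fpPasteSnd_isEquivOver y x (fpFst x u))).2 hb
  exact repByAlgSp_of_smooth_cover hI_stack hI_set ha _ hq1 hq2

end Bootstrap

section DiagProj

variable {𝒳 : AlgSt.Cat S}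

/-- morphisms of schemes with affine diagonal -/
abbrev affDiag : MorphismProperty Scheme.{u} := MorphismProperty.diagonal @IsAffineHom

theorem diagonal_isAffineHom_prod_fst (T U : Over S) (hU : IsAffineHom (pullback.diagonal U.hom)) :
    affDiag.{u} (prod.fst : T ⨯ U ⟶ T).left := by
  rw [← Over.prodLeftIsoPullback_hom_fst]
  have h1 : affDiag.{u} (pullback.fst T.hom U.hom) :=
    MorphismProperty.pullback_fst (P := affDiag.{u}) _ _ hU
  exact (affDiag.{u}.cancel_left_of_respectsIso _ _).2 h1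

/-- For `U ⟶ S` with affine diagonal, the projection `T ×_S U ⟶ T`, as a morphism of stacks, has affine diagonal. -/
theorem repByAlgSpWith_isAffineMor_diag_fpFst {T U : Over S} (hU : IsAffineHom (pullback.diagonal U.hom))
    (x : FibCat.overCat T ⥤ᵇ 𝒳) (u : FibCat.overCat U ⥤ᵇ 𝒳) :
    AlgSt.RepByAlgSpWith AlgSp.IsAffineMor
      (FibCat.diag (fpFst (BasedFunctor.comp x (toSelf 𝒳)) (BasedFunctor.comp u (toSelf 𝒳)))) := by
  obtain ⟨y, hy, hfst⟩ := exists_prodSlice_equiv_fst x u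
  have h1 : AlgSt.RepByAlgSpWith (AlgSp.RepWith affDiag.{u})
      (AlgSt.overMap (prod.fst : T ⨯ U ⟶ T)) :=
    repByAlgSpWith_overMap_of_prop affDiag.{u} _ (diagonal_isAffineHom_prod_fst T U hU)
  have h2 : AlgSt.RepByAlgSpWith (AlgSp.RepWith affDiag.{u})
      (fpFst (BasedFunctor.comp x (toSelf 𝒳)) (BasedFunctor.comp u (toSelf 𝒳))) :=
    repByAlgSpWith_of_square' (AlgSp.RepWith affDiag.{u})
      (fpFst (BasedFunctor.comp x (toSelf 𝒳)) (BasedFunctor.comp u (toSelf 𝒳)))
      (AlgSt.overMap (prod.fst : T ⨯ U ⟶ T)) y (BasedFunctor.id _) hy (isEquivOver_id _)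
      (eqToIso hfst.symm) h1
  refine Groth.Agent.Lib.Helper66.AlgStBridge.repByAlgSpWith_diag_of_rep AlgSp.IsAffineMor
    (AlgSp.RepWith affDiag.{u}) Groth.Agent.Lib.Helper66.AlgStAffFacts.stableBC_isAffineMor _ h2
    (fun V' T' a ha => ?_)
  refine Groth.Agent.H52.isAffineMor_of_repWith_isAffineHom _ ?_
  refine Groth.Agent.H52.repWith_diagonal_of_forall_base_change @IsAffineHom a fun W z => ?_
  have hr := ha.rep
  refine ⟨_, hr.fst z, (AlgSp.yon S).map (hr.snd z), hr.isPullback z, ?_⟩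
  exact (AlgSp.repWith_diagonal_yon_map_iff _ _).2 (ha.property_snd z)

end DiagProj

section Etale

theorem listed_smooth : Groth.Agent.Lib.Helper66.AlgStPFacts.Listed (@Smooth : MorphismProperty Scheme.{u}) :=
  Or.inr (Or.inr (Or.inr (Or.inl rfl)))

theorem listed_flat' : Groth.Agent.Lib.Helper66.AlgStPFacts.Listed (@Flat : MorphismProperty Scheme.{u}) :=
  Or.inr (Or.inr (Or.inl rfl))

theorem listed_lfp' : Groth.Agent.Lib.Helper66.AlgStPFacts.Listed
    (@LocallyOfFinitePresentation : MorphismProperty Scheme.{u}) :=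
  Or.inr (Or.inl rfl)

/-- **S16823**: for `G` smooth and affine over `S` and `X ⟶ S` with affine diagonal, the diagonal of the étale
quotient stack `[X/G]` is representable by algebraic spaces and affine. -/
theorem repByAlgSpWith_isAffineMor_diag_quotSt_etale (hGs : Smooth G.hom) (hGa : IsAffineHom G.hom)
    (hX : IsAffineHom (pullback.diagonal X.hom)) :
    AlgSt.RepByAlgSpWith AlgSp.IsAffineMor
      (FibCat.diag (FibCat.toSelf (AlgSt.QuotSt Scheme.etalePrecoverage G aX))) := by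
  have hK : Scheme.etalePrecoverage ≤ Scheme.fppfPrecoverage := BigSite.etalePrecoverage_le_fppfPrecoverage
  have hfib : IsFibGrpd (QuotSt Scheme.etalePrecoverage G aX).p := isFibGrpd_quotSt
  have hpre : Stk.IsPrestack (QuotSh.J Scheme.etalePrecoverage S) (QuotSt Scheme.etalePrecoverage G aX) :=
    isPrestack_quotSt
  have hGf : Flat G.hom := inferInstance
  have hGp : LocallyOfFinitePresentation G.hom := inferInstance
  have hsm : AlgSt.RepByAlgSpWith (AlgSp.LocP @Smooth) (qF Scheme.etalePrecoverage G aX) :=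
    repByAlgSpWith_locP_qF hK @Smooth listed_smooth isLocalOnBase_fppf_locP_smooth hGs
  have hfl : AlgSt.RepByAlgSpWith (AlgSp.LocP @Flat) (qF Scheme.etalePrecoverage G aX) :=
    repByAlgSpWith_locP_qF hK @Flat listed_flat' isLocalOnBase_fppf_locP_flat hGf
  have hlfp : AlgSt.RepByAlgSpWith (AlgSp.LocP @LocallyOfFinitePresentation) (qF Scheme.etalePrecoverage G aX) :=
    repByAlgSpWith_locP_qF hK @LocallyOfFinitePresentation listed_lfp' isLocalOnBase_fppf_locP_lfp hGp
  have hsurj : AlgSt.RepByAlgSpWith AlgSp.IsSurjectiveMor (qF Scheme.etalePrecoverage G aX) :=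
    repByAlgSpWith_isSurjectiveMor_qF hK
  have haff : AlgSt.RepByAlgSpWith AlgSp.IsAffineMor (qF Scheme.etalePrecoverage G aX) :=
    repByAlgSpWith_isAffineMor_qF hK hGa
  have hloc : AlgSp.IsLocalOnBase AlgSp.IsFppfCover (AlgSp.IsAffineMor (S := S)) :=
    Groth.Agent.Lib.Helper66.AlgStPFacts.isLocalOnBase_fppf_of_fpqc _ (Groth.Agent.S10533.result S)
  have hΔ : AlgSt.RepByAlgSp1 (FibCat.diag (FibCat.toSelf (QuotSt Scheme.etalePrecoverage G aX))) :=
    repByAlgSp1_diag_of_all (fun T x =>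
      repByAlgSp1_of_smooth_cover_of_isPrestack (isFibGrpd_overForget X) hpre (repByAlgSp_overCat X)
        (qF Scheme.etalePrecoverage G aX) hsm hsurj T x)
  exact repByAlgSpWith_diag_toSelf_of_cI AlgSp.IsAffineMor
    Groth.Agent.Lib.Helper66.AlgStAffFacts.stableBC_isAffineMor hloc hfib hΔ
    (qF Scheme.etalePrecoverage G aX) hfl hlfp hsurj
    (fun T x₁ e => repByAlgSpWith_cI_of_diag AlgSp.IsAffineMor
      Groth.Agent.Lib.Helper66.AlgStAffFacts.stableBC_isAffineMor
      Groth.Agent.Lib.Helper66.AlgStAffFacts.stableComp_isAffineMor hloc hfib x₁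
      (qF Scheme.etalePrecoverage G aX) haff e
      (repByAlgSpWith_isAffineMor_diag_fpFst hX x₁ (qF Scheme.etalePrecoverage G aX)))

end Etale

end Groth.Agent.Lib.Helper66.QuotStDiag
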