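import Groth.Agent.Lib.Helper66.FppfDiagRep2
import Groth.Agent.Lib.Helper66.QuasiAffineAtlas
import Groth.Agent.Lib.Helper66.QuotStDiag

/-!
# Helper66: quasi-affine comparison morphisms for an affine chart from a quasi-separated scheme
-/

set_option autoImplicit false
set_option backward.isDefEq.respectTransparency false
set_option backward.isDefEq.respectTransparency.types false

universe u

open CategoryTheory CategoryTheory.Limits AlgebraicGeometry Opposite

namespace Groth.Agent.Lib.Helper66.FppfDiagRep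

open FibCat Groth.Agent.Lib.Helper31 Groth.Agent.Lib.Helper65
open Groth.Agent.Lib.Helper66.StackCmp Groth.Agent.Lib.Helper66.RepWithPDet
open Groth.Agent.Lib.Helper66.RepWithPMix Groth.Agent.Lib.Helper66.QuasiAffineMix
open Groth.Agent.Lib.Helper66.ProdSliceFst Groth.Agent.Lib.Helper66.AlgStRestrChart

variable {S : Scheme.{u}} {𝒳 : AlgSt.Cat S}

/-- quasi-compact immersions -/
abbrev qcImm : MorphismProperty Scheme.{u} := @IsImmersion ⊓ @QuasiCompact

/-- morphisms of schemes whose diagonal is a quasi-compact immersion: the quasi-separated ones -/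
abbrev qcImmDiag : MorphismProperty Scheme.{u} := MorphismProperty.diagonal qcImm.{u}

theorem qcImmDiag_of_quasiSeparated {X Y : Scheme.{u}} (f : X ⟶ Y) [QuasiSeparated f] : qcImmDiag.{u} f :=
  ⟨inferInstance, QuasiSeparated.quasiCompact_diagonal⟩

theorem qcImmDiag_prod_fst (T U : Over S) [QuasiSeparated U.hom] :
    qcImmDiag.{u} (prod.fst : T ⨯ U ⟶ T).left := by
  rw [← Over.prodLeftIsoPullback_hom_fst]
  have h1 : qcImmDiag.{u} (pullback.fst T.hom U.hom) :=
    MorphismProperty.pullback_fst (P := qcImmDiag.{u}) _ _ (qcImmDiag_of_quasiSeparated U.hom)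
  exact (qcImmDiag.{u}.cancel_left_of_respectsIso _ _).2 h1

/-- A morphism of sheaves representable by quasi-compact immersions is quasi-affine. -/
theorem isQuasiAffineMor_of_repWith_qcImm {F G : AlgSp.Sp S} (f : F ⟶ G) (h : AlgSp.RepWith qcImm.{u} f) :
    AlgSp.IsQuasiAffineMor f := by
  intro Z hZ g
  have hr := h.rep
  refine ⟨_, hr.snd g, hr.fst g, hr.isPullback g, ?_⟩
  obtain ⟨h1, h2⟩ := h.property_snd g
  have : IsImmersion (hr.snd g).left := h1
  have : QuasiCompact (hr.snd g).left := h2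
  have : IsAffine Z.left := hZ
  have : CompactSpace ↥(hr.pullback g).left := QuasiCompact.compactSpace_of_compactSpace (hr.snd g).left
  exact Scheme.IsQuasiAffine.of_isImmersion (hr.snd g).left

/-- For `U ⟶ S` quasi-separated, the projection `T ×_S U ⟶ T`, as a morphism of stacks, has quasi-affine
diagonal. -/
theorem repByAlgSpWith_isQuasiAffineMor_diag_fpFst {T U : Over S} [QuasiSeparated U.hom]
    (x : FibCat.overCat T ⥤ᵇ 𝒳) (u : FibCat.overCat U ⥤ᵇ 𝒳) :
    AlgSt.RepByAlgSpWith AlgSp.IsQuasiAffineMor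
      (FibCat.diag (fpFst (BasedFunctor.comp x (toSelf 𝒳)) (BasedFunctor.comp u (toSelf 𝒳)))) := by
  obtain ⟨y, hy, hfst⟩ := exists_prodSlice_equiv_fst x u
  have h1 : AlgSt.RepByAlgSpWith (AlgSp.RepWith qcImmDiag.{u})
      (AlgSt.overMap (prod.fst : T ⨯ U ⟶ T)) :=
    repByAlgSpWith_overMap_of_prop qcImmDiag.{u} _ (qcImmDiag_prod_fst T U)
  have h2 : AlgSt.RepByAlgSpWith (AlgSp.RepWith qcImmDiag.{u})
      (fpFst (BasedFunctor.comp x (toSelf 𝒳)) (BasedFunctor.comp u (toSelf 𝒳))) :=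
    repByAlgSpWith_of_square' (AlgSp.RepWith qcImmDiag.{u})
      (fpFst (BasedFunctor.comp x (toSelf 𝒳)) (BasedFunctor.comp u (toSelf 𝒳)))
      (AlgSt.overMap (prod.fst : T ⨯ U ⟶ T)) y (BasedFunctor.id _) hy (isEquivOver_id _)
      (eqToIso hfst.symm) h1
  refine Groth.Agent.Lib.Helper66.AlgStBridge.repByAlgSpWith_diag_of_rep AlgSp.IsQuasiAffineMor
    (AlgSp.RepWith qcImmDiag.{u}) stableBC_isQuasiAffineMor _ h2
    (fun V' T' a ha => ?_)
  refine isQuasiAffineMor_of_repWith_qcImm _ ?_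
  refine Groth.Agent.H52.repWith_diagonal_of_forall_base_change qcImm.{u} a fun W z => ?_
  have hr := ha.rep
  refine ⟨_, hr.fst z, (AlgSp.yon S).map (hr.snd z), hr.isPullback z, ?_⟩
  exact (AlgSp.repWith_diagonal_yon_map_iff _ _).2 (ha.property_snd z)

/-- For an affine chart `v : (Sch/V) ⟶ 𝒳` with `V` quasi-separated over `S`, the comparison
`T ×_𝒳 V ⟶ T ×_S V` is quasi-affine. -/
theorem repByAlgSpWith_isQuasiAffineMor_cI_of_affine (h𝒳 : IsFibGrpd 𝒳.p) {T V : Over S}
    [QuasiSeparated V.hom] (x₁ : FibCat.overCat T ⥤ᵇ 𝒳) (v : FibCat.overCat V ⥤ᵇ 𝒳)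
    (hv : AlgSt.RepByAlgSpWith AlgSp.IsAffineMor v)
    (e : BasedFunctor.comp (fpFst x₁ v) (BasedFunctor.comp x₁ (toSelf 𝒳)) ≅
      BasedFunctor.comp (fpSnd x₁ v) (BasedFunctor.comp v (toSelf 𝒳))) :
    AlgSt.RepByAlgSpWith AlgSp.IsQuasiAffineMor (cI x₁ v (toSelf 𝒳) e) := by
  let s := toSelf 𝒳
  have hS : IsFibGrpd (selfOver (Over S)).p := isFibGrpd_selfOver
  have hT : IsFibGrpd (FibCat.overCat T).p := isFibGrpd_overForget T
  have hV : IsFibGrpd (FibCat.overCat V).p := isFibGrpd_overForget V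
  have hgf : AlgSt.RepByAlgSpWith AlgSp.IsAffineMor
      (BasedFunctor.comp (cI x₁ v s e) (fpFst (BasedFunctor.comp x₁ s) (BasedFunctor.comp v s))) :=
    repByAlgSpWith_fpFst _ v x₁ hv
  have hΔ' := repByAlgSpWith_isQuasiAffineMor_diag_fpFst (𝒳 := 𝒳) x₁ v
  exact repByAlgSpWith_of_comp_of_diag_mix AlgSp.IsQuasiAffineMor AlgSp.IsAffineMor AlgSp.IsQuasiAffineMor
    stableBC_isQuasiAffineMor (detected_of_isLocalOnBase _ isLocalOnBase_fppf_isQuasiAffineMor)
    mixComp_quasiAffine_affine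
    (isFibGrpd_fp x₁ v hT hV h𝒳)
    (isFibGrpd_fp (BasedFunctor.comp x₁ s) (BasedFunctor.comp v s) hT hV hS) hT
    (cI x₁ v s e) (fpFst (BasedFunctor.comp x₁ s) (BasedFunctor.comp v s)) hgf hΔ'

end Groth.Agent.Lib.Helper66.FppfDiagRep
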