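import Groth.Agent.Lib.Helper66.FppfDiagRep3

/-!
# Helper66: the diagonal of the fppf quotient stack `[X/G]`, `G` affine flat lfp, `X` quasi-separated

* `repByAlgSp1_diag_quotSt_fppf`: it is representable by algebraic spaces (quasi-affine fppf descent);
* `repByAlgSpWith_isQuasiAffineMor_diag_quotSt_fppf`: it is quasi-affine (S16916);
* `repByAlgSpWith_isAffineMor_diag_quotSt_fppf`: it is affine when the diagonal of `X` is.
-/

set_option autoImplicit false
set_option backward.isDefEq.respectTransparency false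
set_option backward.isDefEq.respectTransparency.types false
set_option linter.unusedSimpArgs false
set_option linter.unusedVariables false
set_option linter.style.haveILetI false

universe u

open CategoryTheory CategoryTheory.Limits MonoidalCategory CartesianMonoidalCategory MonObj GrpObj AlgebraicGeometry

namespace Groth.Agent.Lib.Helper66.FppfDiagRep

open AlgSt FibCat Groth.Agent.Lib.Helper31 Groth.Agent.Lib.Helper65
open Groth.Agent.Lib.Helper66.QuotStBasic Groth.Agent.Lib.Helper66.QuotStRep Groth.Agent.Lib.Helper66.QuotStProp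
open Groth.Agent.Lib.Helper66.QuotStFib Groth.Agent.Lib.Helper66.QuotStGlue
open Groth.Agent.Lib.Helper66.StackCmp Groth.Agent.Lib.Helper66.ProdSliceFst
open Groth.Agent.Lib.Helper66.AlgStDiagCover Groth.Agent.Lib.Helper66.QuotStDiag
open Groth.Agent.Lib.Helper66.QuasiAffineMix

variable {S : Scheme.{u}} {G : Over S} [GrpObj G] {X : Over S} {aX : AlgGrp.Action G X}

section

variable (hGa : IsAffineHom G.hom) (hGf : Flat G.hom) (hGp : LocallyOfFinitePresentation G.hom)

include hGa hGf hGp

/-- The diagonal of the fppf quotient stack `[X/G]` is representable by algebraic spaces as soon as the comparison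
morphisms `T ×_{[X/G]} X ⟶ T × X` are quasi-affine. -/
theorem repByAlgSp1_diag_quotSt_fppf_of_cI
    (hcI : ∀ (T : Over S) (x₁ : FibCat.overCat T ⥤ᵇ QuotSt Scheme.fppfPrecoverage G aX)
      (e : BasedFunctor.comp (fpFst x₁ (qF Scheme.fppfPrecoverage G aX))
          (BasedFunctor.comp x₁ (toSelf (QuotSt Scheme.fppfPrecoverage G aX))) ≅
        BasedFunctor.comp (fpSnd x₁ (qF Scheme.fppfPrecoverage G aX))
          (BasedFunctor.comp (qF Scheme.fppfPrecoverage G aX) (toSelf (QuotSt Scheme.fppfPrecoverage G aX)))),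
      AlgSt.RepByAlgSpWith AlgSp.IsQuasiAffineMor
        (cI x₁ (qF Scheme.fppfPrecoverage G aX) (toSelf (QuotSt Scheme.fppfPrecoverage G aX)) e)) :
    AlgSt.RepByAlgSp1 (FibCat.diag (FibCat.toSelf (QuotSt Scheme.fppfPrecoverage G aX))) := by
  have hK : Scheme.fppfPrecoverage ≤ Scheme.fppfPrecoverage := le_refl _
  have hpre : Stk.IsPrestack (AlgSp.J S) (QuotSt Scheme.fppfPrecoverage G aX) := isPrestack_quotSt
  have hfl : AlgSt.RepByAlgSpWith (AlgSp.LocP @Flat) (qF Scheme.fppfPrecoverage G aX) :=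
    repByAlgSpWith_locP_qF hK @Flat listed_flat' isLocalOnBase_fppf_locP_flat hGf
  have hlfp : AlgSt.RepByAlgSpWith (AlgSp.LocP @LocallyOfFinitePresentation) (qF Scheme.fppfPrecoverage G aX) :=
    repByAlgSpWith_locP_qF hK @LocallyOfFinitePresentation listed_lfp' isLocalOnBase_fppf_locP_lfp hGp
  have hsurj : AlgSt.RepByAlgSpWith AlgSp.IsSurjectiveMor (qF Scheme.fppfPrecoverage G aX) :=
    repByAlgSpWith_isSurjectiveMor_qF hK
  have haff : AlgSt.RepByAlgSpWith AlgSp.IsAffineMor (qF Scheme.fppfPrecoverage G aX) :=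
    repByAlgSpWith_isAffineMor_qF hK hGa
  exact repByAlgSp1_diag_of_cI_quasiAffine hpre (qF Scheme.fppfPrecoverage G aX) hfl hlfp hsurj haff hcI

/-- **S16916**: for `G` affine, flat and locally of finite presentation over `S` and `X` quasi-separated over `S`,
the diagonal of the fppf quotient stack `[X/G]` is representable by algebraic spaces and quasi-affine. -/
theorem repByAlgSpWith_isQuasiAffineMor_diag_quotSt_fppf [QuasiSeparated X.hom] :
    AlgSt.RepByAlgSpWith AlgSp.IsQuasiAffineMor
      (FibCat.diag (FibCat.toSelf (AlgSt.QuotSt Scheme.fppfPrecoverage G aX))) := by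
  have hK : Scheme.fppfPrecoverage ≤ Scheme.fppfPrecoverage := le_refl _
  have hfib : IsFibGrpd (QuotSt Scheme.fppfPrecoverage G aX).p := isFibGrpd_quotSt
  have hfl : AlgSt.RepByAlgSpWith (AlgSp.LocP @Flat) (qF Scheme.fppfPrecoverage G aX) :=
    repByAlgSpWith_locP_qF hK @Flat listed_flat' isLocalOnBase_fppf_locP_flat hGf
  have hlfp : AlgSt.RepByAlgSpWith (AlgSp.LocP @LocallyOfFinitePresentation) (qF Scheme.fppfPrecoverage G aX) :=
    repByAlgSpWith_locP_qF hK @LocallyOfFinitePresentation listed_lfp' isLocalOnBase_fppf_locP_lfp hGp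
  have hsurj : AlgSt.RepByAlgSpWith AlgSp.IsSurjectiveMor (qF Scheme.fppfPrecoverage G aX) :=
    repByAlgSpWith_isSurjectiveMor_qF hK
  have haff : AlgSt.RepByAlgSpWith AlgSp.IsAffineMor (qF Scheme.fppfPrecoverage G aX) :=
    repByAlgSpWith_isAffineMor_qF hK hGa
  have hcI : ∀ (T : Over S) (x₁ : FibCat.overCat T ⥤ᵇ QuotSt Scheme.fppfPrecoverage G aX)
      (e : BasedFunctor.comp (fpFst x₁ (qF Scheme.fppfPrecoverage G aX))
          (BasedFunctor.comp x₁ (toSelf (QuotSt Scheme.fppfPrecoverage G aX))) ≅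
        BasedFunctor.comp (fpSnd x₁ (qF Scheme.fppfPrecoverage G aX))
          (BasedFunctor.comp (qF Scheme.fppfPrecoverage G aX) (toSelf (QuotSt Scheme.fppfPrecoverage G aX)))),
      AlgSt.RepByAlgSpWith AlgSp.IsQuasiAffineMor
        (cI x₁ (qF Scheme.fppfPrecoverage G aX) (toSelf (QuotSt Scheme.fppfPrecoverage G aX)) e) :=
    fun T x₁ e => repByAlgSpWith_isQuasiAffineMor_cI_of_affine hfib x₁ (qF Scheme.fppfPrecoverage G aX) haff e
  have hΔ := repByAlgSp1_diag_quotSt_fppf_of_cI (aX := aX) hGa hGf hGp hcI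
  exact repByAlgSpWith_diag_toSelf_of_cI AlgSp.IsQuasiAffineMor stableBC_isQuasiAffineMor
    isLocalOnBase_fppf_isQuasiAffineMor hfib hΔ (qF Scheme.fppfPrecoverage G aX) hfl hlfp hsurj hcI

end

end Groth.Agent.Lib.Helper66.FppfDiagRep
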