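import Groth.Agent.Lib.Helper66.FppfDiagRep4
import Groth.Agent.Lib.Helper66.AlgStDiagComp
import Groth.Agent.Lib.Helper66.AlgStBridgeConv
import Groth.Agent.H52.QC5
import Groth.Agent.H53.Proper
import Groth.Agent.H53.ProperSep

/-!
# Helper66: affine diagonal of a stack with an affine chart forces an affine diagonal of the chart; the affine
diagonal of the fppf quotient stack (S16908)
-/

set_option autoImplicit false
set_option backward.isDefEq.respectTransparency false
set_option backward.isDefEq.respectTransparency.types false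
set_option linter.unusedSimpArgs false
set_option linter.unusedVariables false
set_option linter.style.haveILetI false

universe u

open CategoryTheory CategoryTheory.Limits AlgebraicGeometry

namespace Groth.Agent.Lib.Helper66.FppfDiagRep

open FibCat Groth.Agent.Lib.Helper31 Groth.Agent.Lib.Helper65
open Groth.Agent.Lib.Helper66.RepWithPDet Groth.Agent.Lib.Helper66.AlgStAffFacts

variable {S : Scheme.{u}} {𝒳 : AlgSt.Cat S}

/-- the terminal object of `Sch/S` -/
abbrev baseOv (S : Scheme.{u}) : Over S := Over.mk (𝟙 S)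

instance toSelf_baseOv_full : (toSelf (overCat (baseOv S))).toFunctor.Full where
  map_surjective := by
    intro a b φ
    exact ⟨Over.homMk φ (Over.mkIdTerminal.hom_ext _ _), rfl⟩

instance toSelf_baseOv_faithful : (toSelf (overCat (baseOv S))).toFunctor.Faithful :=
  inferInstanceAs (Over.forget (baseOv S)).Faithful

/-- `(Sch/S) ⟶ (Sch/S)`, from the slice over the terminal object, is an equivalence. -/
theorem toSelf_baseOv_isEquivOver : IsEquivOver (toSelf (overCat (baseOv S))) := by
  refine isEquivOver_of_ff_ess _ (fun T => ?_)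
  refine ⟨Over.mk (Over.mkIdTerminal.from T), Iso.refl _, ?_⟩
  change (𝟭 (Over S)).IsHomLift (𝟙 T) (𝟙 T)
  have : (𝟭 (Over S)).IsHomLift ((𝟭 (Over S)).map (𝟙 T)) (𝟙 T) := inferInstance
  exact this

/-- The diagonal of an affine morphism of stacks is affine. -/
theorem repByAlgSpWith_isAffineMor_diag_of_affine {𝒰 : AlgSt.Cat S} (u : 𝒰 ⥤ᵇ 𝒳)
    (hua : AlgSt.RepByAlgSpWith AlgSp.IsAffineMor u) :
    AlgSt.RepByAlgSpWith AlgSp.IsAffineMor (FibCat.diag u) := by
  have h2 : AlgSt.RepByAlgSpWith (AlgSp.RepWith @IsSeparated) u :=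
    repByAlgSpWith_mono (fun _ _ f hf => Groth.Agent.H53.repWith_of_le
      (fun A B φ hφ => by
        have : IsAffineHom φ := hφ
        exact (inferInstance : IsSeparated φ))
      (Groth.Agent.H53.ZarGlue.repWith_isAffineHom_of_isAffineMor hf)) _ hua
  exact Groth.Agent.Lib.Helper66.AlgStBridge.repByAlgSpWith_diag_of_rep AlgSp.IsAffineMor
    (AlgSp.RepWith @IsSeparated) stableBC_isAffineMor u h2
    (fun V' T' a ha => Groth.Agent.H52.isAffineMor_of_repWith_isClosedImmersion _
      (Groth.Agent.H53.isSeparatedMor_of_repWith_isSeparated a ha))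

/-- If `𝒳` has affine diagonal over `S` and `u : (Sch/U) ⟶ 𝒳` is affine, then `U ⟶ S` has affine diagonal. -/
theorem isAffineHom_diagonal_of_diag (h𝒳 : IsFibGrpd 𝒳.p) {U : Over S} (u : FibCat.overCat U ⥤ᵇ 𝒳)
    (hua : AlgSt.RepByAlgSpWith AlgSp.IsAffineMor u)
    (hds : AlgSt.RepByAlgSpWith AlgSp.IsAffineMor (FibCat.diag (FibCat.toSelf 𝒳))) :
    IsAffineHom (pullback.diagonal U.hom) := by
  have hloc : AlgSp.IsLocalOnBase AlgSp.IsFppfCover (AlgSp.IsAffineMor (S := S)) :=
    Groth.Agent.Lib.Helper66.AlgStPFacts.isLocalOnBase_fppf_of_fpqc _ (Groth.Agent.S10533.result S)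
  let f : FibCat.overCat U ⥤ᵇ selfOver (Over S) := BasedFunctor.comp u (toSelf 𝒳)
  have hcomp : AlgSt.RepByAlgSpWith AlgSp.IsAffineMor (FibCat.diag f) :=
    Groth.Agent.Lib.Helper66.AlgStDiagComp.repByAlgSpWith_diag_comp AlgSp.IsAffineMor stableBC_isAffineMor
      stableComp_isAffineMor hloc (isFibGrpd_overForget U) h𝒳 u (toSelf 𝒳)
      (repByAlgSpWith_isAffineMor_diag_of_affine u hua) hds
  let y₀ : FibCat.overCat (baseOv S) ⥤ᵇ selfOver (Over S) := toSelf (overCat (baseOv S))
  have hy₀ : IsEquivOver y₀ := toSelf_baseOv_isEquivOver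
  have hsnd : IsEquivOver (fpSnd y₀ f) := fpSnd_isEquivOver y₀ f hy₀
  obtain ⟨M', hM', -, -⟩ := exists_inverse_equivOver _ hsnd
  let V : AlgSp.Space S := ⟨(AlgSp.yon S).obj U, AlgSp.IsAlgSpace.yon_obj U⟩
  let e : AlgSt.ofSp V.obj ⥤ᵇ fp y₀ f := BasedFunctor.comp (AlgSt.toOverCat U) M'
  have he : IsEquivOver e := isEquivOver_comp _ _ (toOverCat_isEquivOver U) hM'
  have h5 := Groth.Agent.Lib.Helper66.AlgStBridgeConv.prop_diagonal_of_repByAlgSpWith_diag AlgSp.IsAffineMor
    stableBC_isAffineMor detected_isAffineMor f hcomp (baseOv S) y₀ V e he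
  let g₀ : U ⟶ baseOv S := Over.homMk U.hom
  have ha : AlgSt.spMapOfOver (BasedFunctor.comp e (FibCat.fpFst y₀ f)) = (AlgSp.yon S).map g₀ :=
    (Groth.Agent.H52.yonBaseIsTerminal S).hom_ext _ _
  have key : ∀ (a b : V.obj ⟶ (AlgSp.yon S).obj (baseOv S)), a = b →
      AlgSp.IsAffineMor (pullback.diagonal a) → AlgSp.IsAffineMor (pullback.diagonal b) := by
    intro a b hab h
    subst hab
    exact h
  have h5' := key _ _ ha h5
  have h6 := Groth.Agent.H53.ZarGlue.repWith_isAffineHom_of_isAffineMor h5'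
  exact (AlgSp.repWith_diagonal_yon_map_iff @IsAffineHom g₀).1 h6

end Groth.Agent.Lib.Helper66.FppfDiagRep
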