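import Groth.Agent.Lib.Helper66.FppfDiagRep5

/-!
# Helper66: the fppf quotient stack `[X/G]` (`G` affine flat lfp) has affine diagonal iff `X` has (S16908)
-/

set_option autoImplicit false
set_option backward.isDefEq.respectTransparency false
set_option backward.isDefEq.respectTransparency.types false
set_option linter.unusedSimpArgs false
set_option linter.unusedVariables false
set_option linter.style.haveILetI false

universe u

open CategoryTheory CategoryTheory.Limits MonoidalCategory CartesianMonoidalCategory MonObj GrpObj AlgebraicGeometry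

namespace Groth.Agent.Lib.Helper66.FppfDiagRep

open AlgSt FibCat Groth.Agent.Lib.Helper31 Groth.Agent.Lib.Helper65
open Groth.Agent.Lib.Helper66.QuotStBasic Groth.Agent.Lib.Helper66.QuotStRep Groth.Agent.Lib.Helper66.QuotStProp
open Groth.Agent.Lib.Helper66.QuotStFib Groth.Agent.Lib.Helper66.QuotStGlue
open Groth.Agent.Lib.Helper66.StackCmp Groth.Agent.Lib.Helper66.ProdSliceFst
open Groth.Agent.Lib.Helper66.AlgStDiagCover Groth.Agent.Lib.Helper66.QuotStDiag
open Groth.Agent.Lib.Helper66.QuasiAffineMix Groth.Agent.Lib.Helper66.RepWithPDet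

variable {S : Scheme.{u}} {G : Over S} [GrpObj G] {X : Over S} {aX : AlgGrp.Action G X}

theorem isQuasiAffineMor_of_isAffineMor {F H : AlgSp.Sp S} (f : F ⟶ H) (hf : AlgSp.IsAffineMor f) :
    AlgSp.IsQuasiAffineMor f := by
  intro Z hZ g
  obtain ⟨W, i, fst, sq, hW⟩ := hf hZ g
  have : IsAffine W.left := hW
  exact ⟨W, i, fst, sq, inferInstance⟩

/-- **S16908**: for `G` affine, flat and locally of finite presentation over `S`, the diagonal of the fppf quotient
stack `[X/G]` is representable by algebraic spaces and affine if and only if the diagonal of `X` over `S` is affine. -/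
theorem repByAlgSpWith_isAffineMor_diag_quotSt_fppf_iff (hGa : IsAffineHom G.hom) (hGf : Flat G.hom)
    (hGp : LocallyOfFinitePresentation G.hom) :
    AlgSt.RepByAlgSpWith AlgSp.IsAffineMor
        (FibCat.diag (FibCat.toSelf (AlgSt.QuotSt Scheme.fppfPrecoverage G aX))) ↔
      IsAffineHom (pullback.diagonal X.hom) := by
  have hK : Scheme.fppfPrecoverage ≤ Scheme.fppfPrecoverage := le_refl _
  have hfib : IsFibGrpd (QuotSt Scheme.fppfPrecoverage G aX).p := isFibGrpd_quotSt
  have haff : AlgSt.RepByAlgSpWith AlgSp.IsAffineMor (qF Scheme.fppfPrecoverage G aX) :=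
    repByAlgSpWith_isAffineMor_qF hK hGa
  constructor
  · intro h
    exact isAffineHom_diagonal_of_diag hfib (qF Scheme.fppfPrecoverage G aX) haff h
  · intro hX
    have hfl : AlgSt.RepByAlgSpWith (AlgSp.LocP @Flat) (qF Scheme.fppfPrecoverage G aX) :=
      repByAlgSpWith_locP_qF hK @Flat listed_flat' isLocalOnBase_fppf_locP_flat hGf
    have hlfp : AlgSt.RepByAlgSpWith (AlgSp.LocP @LocallyOfFinitePresentation) (qF Scheme.fppfPrecoverage G aX) :=
      repByAlgSpWith_locP_qF hK @LocallyOfFinitePresentation listed_lfp' isLocalOnBase_fppf_locP_lfp hGp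
    have hsurj : AlgSt.RepByAlgSpWith AlgSp.IsSurjectiveMor (qF Scheme.fppfPrecoverage G aX) :=
      repByAlgSpWith_isSurjectiveMor_qF hK
    have hloc : AlgSp.IsLocalOnBase AlgSp.IsFppfCover (AlgSp.IsAffineMor (S := S)) :=
      Groth.Agent.Lib.Helper66.AlgStPFacts.isLocalOnBase_fppf_of_fpqc _ (Groth.Agent.S10533.result S)
    have hcI : ∀ (T : Over S) (x₁ : FibCat.overCat T ⥤ᵇ QuotSt Scheme.fppfPrecoverage G aX)
        (e : BasedFunctor.comp (fpFst x₁ (qF Scheme.fppfPrecoverage G aX))
            (BasedFunctor.comp x₁ (toSelf (QuotSt Scheme.fppfPrecoverage G aX))) ≅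
          BasedFunctor.comp (fpSnd x₁ (qF Scheme.fppfPrecoverage G aX))
            (BasedFunctor.comp (qF Scheme.fppfPrecoverage G aX) (toSelf (QuotSt Scheme.fppfPrecoverage G aX)))),
        AlgSt.RepByAlgSpWith AlgSp.IsAffineMor
          (cI x₁ (qF Scheme.fppfPrecoverage G aX) (toSelf (QuotSt Scheme.fppfPrecoverage G aX)) e) :=
      fun T x₁ e => repByAlgSpWith_cI_of_diag AlgSp.IsAffineMor
        Groth.Agent.Lib.Helper66.AlgStAffFacts.stableBC_isAffineMor
        Groth.Agent.Lib.Helper66.AlgStAffFacts.stableComp_isAffineMor hloc hfib x₁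
        (qF Scheme.fppfPrecoverage G aX) haff e
        (repByAlgSpWith_isAffineMor_diag_fpFst hX x₁ (qF Scheme.fppfPrecoverage G aX))
    have hΔ := repByAlgSp1_diag_quotSt_fppf_of_cI (aX := aX) hGa hGf hGp
      (fun T x₁ e => repByAlgSpWith_mono (fun _ _ f hf => isQuasiAffineMor_of_isAffineMor f hf) _ (hcI T x₁ e))
    exact repByAlgSpWith_diag_toSelf_of_cI AlgSp.IsAffineMor
      Groth.Agent.Lib.Helper66.AlgStAffFacts.stableBC_isAffineMor hloc hfib hΔ
      (qF Scheme.fppfPrecoverage G aX) hfl hlfp hsurj hcI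

end Groth.Agent.Lib.Helper66.FppfDiagRep
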