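import Groth.Agent.Lib.Helper65.FppfLift
import Groth.Agent.Lib.Helper65.SubStBij
import Groth.Agent.Lib.Helper65.StSurj
import Groth.Agent.Lib.Helper65.LocalEss
import Groth.Agent.Lib.Helper65.StPoints2
import Groth.Agent.Lib.Helper51.AlgSpBasic

/-!
# Helper66: surjective flat locally finitely presented 1-morphisms are fppf-locally essentially surjective
-/

set_option autoImplicit false
set_option backward.isDefEq.respectTransparency false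
set_option backward.isDefEq.respectTransparency.types false

universe u

open CategoryTheory CategoryTheory.Functor CategoryTheory.Limits Opposite AlgebraicGeometry

namespace Groth.Agent.Lib.Helper66.FppfEssSurj

open FibCat Groth.Agent.Lib.Helper31 Groth.Agent.Lib.Helper65

variable {S : Scheme.{u}} {𝒲 𝒴 : AlgSt.Cat S}

/-- 2-Yoneda with the isomorphism over the identity. -/
theorem exists_functor_of_obj' (h𝒴 : IsFibGrpd 𝒴.p) (y : 𝒴.obj) :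
    ∃ (Y : FibCat.overCat (𝒴.p.obj y) ⥤ᵇ 𝒴) (e : Y.obj (Over.mk (𝟙 (𝒴.p.obj y))) ≅ y),
      𝒴.p.IsHomLift (𝟙 (𝒴.p.obj y)) e.hom := by
  have hE : (FibCat.evalAtId 𝒴 (𝒴.p.obj y)).IsEquivalence :=
    evalAtId_isEquivalence_of_isFibGrpd h𝒴 _
  let x : 𝒴.p.Fiber (𝒴.p.obj y) := ⟨y, rfl⟩
  have e := (FibCat.evalAtId 𝒴 (𝒴.p.obj y)).objObjPreimageIso x
  refine ⟨(FibCat.evalAtId 𝒴 (𝒴.p.obj y)).objPreimage x, ⟨e.hom.1, e.inv.1, ?_, ?_⟩, e.hom.2⟩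
  · exact congrArg (fun t => t.1) e.hom_inv_id
  · exact congrArg (fun t => t.1) e.inv_hom_id

theorem locallyEssSurj_of_fppf (h𝒴 : IsFibGrpd 𝒴.p) (h𝒲 : IsFibGrpd 𝒲.p) (w : 𝒲 ⥤ᵇ 𝒴)
    (hw₁ : AlgSt.RepByAlgSpWith (AlgSp.LocP @Flat) w)
    (hw₂ : AlgSt.RepByAlgSpWith (AlgSp.LocP @LocallyOfFinitePresentation) w)
    (hw₃ : AlgSt.RepByAlgSpWith AlgSp.IsSurjectiveMor w) :
    LocallyEssSurj (AlgSp.J S) w := by
  intro y₀
  obtain ⟨Y, ey, hey⟩ := exists_functor_of_obj' h𝒴 y₀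
  obtain ⟨V, g, x', ⟨i⟩, hfl, hfp, hpts⟩ :=
    Groth.Agent.Lib.Helper65.FppfLift.exists_chart_lift h𝒴 h𝒲 w hw₁ hw₂ (𝒴.p.obj y₀) Y
  have hus : AlgSt.IsSurjective w := isSurjective_of_repByAlgSpWith h𝒲 h𝒴 w hw₃
  have hgs : Surjective g.left := by
    refine ⟨fun t => ?_⟩
    obtain ⟨z', hz'⟩ : ∃ z' : AlgSt.Points (FibCat.overCat (𝒴.p.obj y₀)),
        (AlgSp.Points.schemeHomeo (𝒴.p.obj y₀)).symm (overPts (𝒴.p.obj y₀) z') = t := by
      obtain ⟨z', hz'⟩ := (overPts_bijective (𝒴.p.obj y₀)).2 (AlgSp.Points.schemeHomeo (𝒴.p.obj y₀) t)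
      exact ⟨z', by rw [hz']; simp⟩
    obtain ⟨r, hr⟩ := hus (AlgSt.Points.map Y z')
    obtain ⟨v, hv⟩ := hpts z' ⟨r, hr.symm⟩
    exact ⟨v, hv.trans hz'⟩
  let R : Sieve (𝒴.p.obj y₀) := Sieve.generate (Presieve.singleton g)
  have hR : R ∈ AlgSp.J S (𝒴.p.obj y₀) :=
    Groth.Agent.Lib.Helper51.mem_J_of_fppf g R ⟨V, 𝟙 V, g, Presieve.singleton_self g, Category.id_comp g⟩
  refine ⟨R, hR, ?_⟩
  intro V' f hf
  obtain ⟨W, h, k', hk, hcomp⟩ := hf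
  cases hk
  let a : Over (𝒴.p.obj y₀) := (AlgSt.overMap g).obj (Over.mk h)
  have ha : a.hom = f := by
    change h ≫ g = f
    exact hcomp
  let ψ : w.obj (x'.obj (Over.mk h)) ⟶ y₀ :=
    (basedIsoToNatIso i).hom.app (Over.mk h) ≫ Y.map (toId a) ≫ ey.hom
  refine ⟨x'.obj (Over.mk h), ψ, ?_⟩
  have h1 : 𝒴.p.IsHomLift a.hom (Y.map (toId a)) := map_toId_isHomLift Y a
  have h2 : 𝒴.p.IsHomLift (a.hom ≫ 𝟙 _) (Y.map (toId a) ≫ ey.hom) := inferInstance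
  have h3 : 𝒴.p.IsHomLift (𝟙 V') ((basedIsoToNatIso i).hom.app (Over.mk h)) :=
    i.hom.isHomLift' (Over.mk h)
  have h4 : 𝒴.p.IsHomLift (𝟙 V' ≫ a.hom ≫ 𝟙 _) ψ := inferInstance
  rw [Category.id_comp, Category.comp_id, ha] at h4
  exact h4

end Groth.Agent.Lib.Helper66.FppfEssSurj
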