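import Groth.Agent.Lib.Helper66.GpdTranslate

/-!
# Conjugation on the stabilizer of a groupoid in sheaves

For a groupoid `(U, R, s, t, c)` with stabilizer `Stab ⟶ U` and `v : V ⟶ R`:
* `exists_isPullback_conj` : `Stab ×_{U, t ∘ v} V ≅ Stab ×_{U, s ∘ v} V` over `V` by `(γ, a) ↦ (v(a)⁻¹ ∘ γ ∘ v(a), a)`, in the form of a
  pullback square.
-/

set_option autoImplicit false
set_option linter.unusedVariables false

universe u

open CategoryTheory CategoryTheory.Limits AlgebraicGeometry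

namespace Groth.Agent.Lib.Helper66.GpdConj

open AlgSp Groth.Agent.Lib.Helper66.GpdTranslate

variable {S : Scheme.{u}} {B : Sp S} (G : GroupoidSp B)

/-- total composition of `T`-valued arrows (junk value when not composable) -/
noncomputable def mul {T : Sp S} (α β : T ⟶ G.R) : T ⟶ G.R := by
  classical exact if h : α ≫ G.s = β ≫ G.t then cmp G α β h else α

theorem mul_eq {T : Sp S} (α β : T ⟶ G.R) (h : α ≫ G.s = β ≫ G.t) : mul G α β = cmp G α β h := by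
  unfold mul
  rw [dif_pos h]

theorem mul_s {T : Sp S} (α β : T ⟶ G.R) (h : α ≫ G.s = β ≫ G.t) : mul G α β ≫ G.s = β ≫ G.s := by
  rw [mul_eq G α β h, cmp_s]

theorem mul_t {T : Sp S} (α β : T ⟶ G.R) (h : α ≫ G.s = β ≫ G.t) : mul G α β ≫ G.t = α ≫ G.t := by
  rw [mul_eq G α β h, cmp_t]

theorem mul_assoc {T : Sp S} (α β γ : T ⟶ G.R) (h₁ : α ≫ G.s = β ≫ G.t) (h₂ : β ≫ G.s = γ ≫ G.t) :
    mul G (mul G α β) γ = mul G α (mul G β γ) := by
  have e1 : mul G α β = cmp G α β h₁ := mul_eq G α β h₁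
  have e2 : mul G β γ = cmp G β γ h₂ := mul_eq G β γ h₂
  rw [mul_eq G (mul G α β) γ (by rw [mul_s G α β h₁, h₂]),
    mul_eq G α (mul G β γ) (by rw [mul_t G β γ h₂, h₁])]
  rw [cmp_congr G e1 rfl, cmp_congr G (rfl : α = α) e2]
  exact cmp_assoc G α β γ h₁ h₂

theorem mul_e {T : Sp S} (α ε : T ⟶ G.R) (hε : ε = α ≫ G.s ≫ G.e) : mul G α ε = α := by
  have h : α ≫ G.s = ε ≫ G.t := by
    rw [hε, Category.assoc, Category.assoc, G.e_t, Category.comp_id]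
  rw [mul_eq G α ε h]
  exact cmp_e G α ε hε h

theorem mul_e' {T : Sp S} (α ε : T ⟶ G.R) (x : T ⟶ G.U) (h : α ≫ G.s = x) (hε : ε = x ≫ G.e) :
    mul G α ε = α :=
  mul_e G α ε (by rw [hε, ← h, Category.assoc])

theorem e_mul {T : Sp S} (α ε : T ⟶ G.R) (hε : ε = α ≫ G.t ≫ G.e) : mul G ε α = α := by
  have h : ε ≫ G.s = α ≫ G.t := by
    rw [hε, Category.assoc, Category.assoc, G.e_s, Category.comp_id]
  rw [mul_eq G ε α h]
  subst hε
  exact G.e_comp α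

theorem inv_mul {T : Sp S} (β : T ⟶ G.R) : mul G (β ≫ G.i) β = β ≫ G.s ≫ G.e := by
  have h : (β ≫ G.i) ≫ G.s = β ≫ G.t := by rw [Category.assoc, G.i_s]
  rw [mul_eq G _ _ h]
  exact i_cmp G β h

theorem mul_inv {T : Sp S} (β : T ⟶ G.R) : mul G β (β ≫ G.i) = β ≫ G.t ≫ G.e := by
  have h : β ≫ G.s = (β ≫ G.i) ≫ G.t := by rw [Category.assoc, G.i_t]
  rw [mul_eq G _ _ h]
  exact cmp_i G β h

theorem precomp_mul {T T' : Sp S} (m : T' ⟶ T) (α β : T ⟶ G.R) (h : α ≫ G.s = β ≫ G.t) :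
    m ≫ mul G α β = mul G (m ≫ α) (m ≫ β) := by
  rw [mul_eq G α β h, mul_eq G (m ≫ α) (m ≫ β) (by rw [Category.assoc, Category.assoc, h])]
  exact precomp_cmp G m α β h

/-- `β⁻¹ ∘ γ ∘ β` -/
noncomputable def conj {T : Sp S} (β γ : T ⟶ G.R) : T ⟶ G.R := mul G (mul G (β ≫ G.i) γ) β

/-- `β ∘ γ ∘ β⁻¹` -/
noncomputable def conj' {T : Sp S} (β γ : T ⟶ G.R) : T ⟶ G.R := mul G (mul G β γ) (β ≫ G.i)

section

variable {T : Sp S} (β γ : T ⟶ G.R)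

theorem conj_s (h1 : γ ≫ G.t = β ≫ G.t) (h2 : γ ≫ G.s = β ≫ G.t) : conj G β γ ≫ G.s = β ≫ G.s := by
  have ha : (β ≫ G.i) ≫ G.s = γ ≫ G.t := by rw [Category.assoc, G.i_s, h1]
  unfold conj
  rw [mul_s G _ _ (by rw [mul_s G _ _ ha, h2])]

theorem conj_t (h1 : γ ≫ G.t = β ≫ G.t) (h2 : γ ≫ G.s = β ≫ G.t) : conj G β γ ≫ G.t = β ≫ G.s := by
  have ha : (β ≫ G.i) ≫ G.s = γ ≫ G.t := by rw [Category.assoc, G.i_s, h1]
  unfold conj
  rw [mul_t G _ _ (by rw [mul_s G _ _ ha, h2]), mul_t G _ _ ha, Category.assoc, G.i_t]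

theorem conj'_s (h1 : γ ≫ G.t = β ≫ G.s) (h2 : γ ≫ G.s = β ≫ G.s) : conj' G β γ ≫ G.s = β ≫ G.t := by
  have ha : β ≫ G.s = γ ≫ G.t := h1.symm
  unfold conj'
  rw [mul_s G _ _ (by rw [mul_s G _ _ ha, h2, Category.assoc, G.i_t]), Category.assoc, G.i_s]

theorem conj'_t (h1 : γ ≫ G.t = β ≫ G.s) (h2 : γ ≫ G.s = β ≫ G.s) : conj' G β γ ≫ G.t = β ≫ G.t := by
  have ha : β ≫ G.s = γ ≫ G.t := h1.symm
  unfold conj'
  rw [mul_t G _ _ (by rw [mul_s G _ _ ha, h2, Category.assoc, G.i_t]), mul_t G _ _ ha]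

/-- `β ∘ (β⁻¹ ∘ γ ∘ β) ∘ β⁻¹ = γ` -/
theorem conj'_conj (h1 : γ ≫ G.t = β ≫ G.t) (h2 : γ ≫ G.s = β ≫ G.t) : conj' G β (conj G β γ) = γ := by
  have ha : (β ≫ G.i) ≫ G.s = γ ≫ G.t := by rw [Category.assoc, G.i_s, h1]
  have hb : mul G (β ≫ G.i) γ ≫ G.s = β ≫ G.t := by rw [mul_s G _ _ ha, h2]
  have hc : mul G (β ≫ G.i) γ ≫ G.t = β ≫ G.s := by rw [mul_t G _ _ ha, Category.assoc, G.i_t]
  have hd : β ≫ G.s = (β ≫ G.i) ≫ G.t := by rw [Category.assoc, G.i_t]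
  unfold conj' conj
  -- β ((β⁻¹γ) β) = (β (β⁻¹ γ)) β
  rw [← mul_assoc G β (mul G (β ≫ G.i) γ) β hc.symm hb]
  -- ((β (β⁻¹ γ)) β) β⁻¹ = (β (β⁻¹ γ)) (β β⁻¹)
  rw [mul_assoc G (mul G β (mul G (β ≫ G.i) γ)) β (β ≫ G.i)
    (by rw [mul_s G _ _ hc.symm, hb]) hd]
  rw [mul_inv, mul_e' G _ _ (β ≫ G.t) (by rw [mul_s G _ _ hc.symm, hb]) (Category.assoc _ _ _).symm]
  -- β (β⁻¹ γ) = (β β⁻¹) γ
  rw [← mul_assoc G β (β ≫ G.i) γ hd ha, mul_inv]
  exact e_mul G γ _ (by rw [← Category.assoc, ← h1, Category.assoc])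

/-- `β⁻¹ ∘ (β ∘ γ ∘ β⁻¹) ∘ β = γ` -/
theorem conj_conj' (h1 : γ ≫ G.t = β ≫ G.s) (h2 : γ ≫ G.s = β ≫ G.s) : conj G β (conj' G β γ) = γ := by
  have ha : β ≫ G.s = γ ≫ G.t := h1.symm
  have hd : β ≫ G.s = (β ≫ G.i) ≫ G.t := by rw [Category.assoc, G.i_t]
  have hi : (β ≫ G.i) ≫ G.s = β ≫ G.t := by rw [Category.assoc, G.i_s]
  have hb : mul G β γ ≫ G.s = (β ≫ G.i) ≫ G.t := by rw [mul_s G _ _ ha, h2, hd]
  have hc : mul G β γ ≫ G.t = β ≫ G.t := by rw [mul_t G _ _ ha]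
  unfold conj conj'
  -- β⁻¹ ((β γ) β⁻¹) = (β⁻¹ (β γ)) β⁻¹
  rw [← mul_assoc G (β ≫ G.i) (mul G β γ) (β ≫ G.i) (by rw [hi, hc]) hb]
  -- ((β⁻¹ (β γ)) β⁻¹) β = (β⁻¹ (β γ)) (β⁻¹ β)
  rw [mul_assoc G (mul G (β ≫ G.i) (mul G β γ)) (β ≫ G.i) β
    (by rw [mul_s G _ _ (by rw [hi, hc]), hb]) hi]
  rw [inv_mul, mul_e' G _ _ (β ≫ G.s) (by rw [mul_s G _ _ (by rw [hi, hc]), mul_s G _ _ ha, h2])
    (Category.assoc _ _ _).symm]
  -- β⁻¹ (β γ) = (β⁻¹ β) γ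
  rw [← mul_assoc G (β ≫ G.i) β γ hi ha, inv_mul]
  exact e_mul G γ _ (by rw [← Category.assoc, ← h1, Category.assoc])

theorem precomp_conj {T' : Sp S} (m : T' ⟶ T) (h1 : γ ≫ G.t = β ≫ G.t) (h2 : γ ≫ G.s = β ≫ G.t) :
    m ≫ conj G β γ = conj G (m ≫ β) (m ≫ γ) := by
  have ha : (β ≫ G.i) ≫ G.s = γ ≫ G.t := by rw [Category.assoc, G.i_s, h1]
  unfold conj
  rw [precomp_mul G m _ _ (by rw [mul_s G _ _ ha, h2]), precomp_mul G m _ _ ha, Category.assoc]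

theorem precomp_conj' {T' : Sp S} (m : T' ⟶ T) (h1 : γ ≫ G.t = β ≫ G.s) (h2 : γ ≫ G.s = β ≫ G.s) :
    m ≫ conj' G β γ = conj' G (m ≫ β) (m ≫ γ) := by
  have ha : β ≫ G.s = γ ≫ G.t := h1.symm
  unfold conj'
  rw [precomp_mul G m _ _ (by rw [mul_s G _ _ ha, h2, Category.assoc, G.i_t]), precomp_mul G m _ _ ha,
    Category.assoc]

end

/-! ### The stabilizer -/

theorem stabι_t : G.stabilizerι ≫ G.t = G.stabilizerToU := by
  have h := congrArg (fun m => m ≫ pullback.fst G.pU G.pU) (pullback.condition (f := G.j) (g := G.diag))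
  simp only [Category.assoc, GroupoidSp.j_fst] at h
  have hd : G.diag ≫ pullback.fst G.pU G.pU = 𝟙 _ := pullback.lift_fst _ _ _
  rw [hd, Category.comp_id] at h
  exact h

theorem stabι_s : G.stabilizerι ≫ G.s = G.stabilizerToU := by
  have h := congrArg (fun m => m ≫ pullback.snd G.pU G.pU) (pullback.condition (f := G.j) (g := G.diag))
  simp only [Category.assoc, GroupoidSp.j_snd] at h
  have hd : G.diag ≫ pullback.snd G.pU G.pU = 𝟙 _ := pullback.lift_snd _ _ _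
  rw [hd, Category.comp_id] at h
  exact h

/-- A `T`-valued point of the stabilizer from an arrow with equal source and target. -/
noncomputable def stabMk {T : Sp S} (γ : T ⟶ G.R) (h : γ ≫ G.t = γ ≫ G.s) : T ⟶ G.stabilizer :=
  pullback.lift γ (γ ≫ G.s) (by
    apply pullback.hom_ext
    · rw [Category.assoc, GroupoidSp.j_fst, Category.assoc]
      have hd : G.diag ≫ pullback.fst G.pU G.pU = 𝟙 _ := pullback.lift_fst _ _ _
      rw [hd, Category.comp_id, h]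
    · rw [Category.assoc, GroupoidSp.j_snd, Category.assoc]
      have hd : G.diag ≫ pullback.snd G.pU G.pU = 𝟙 _ := pullback.lift_snd _ _ _
      rw [hd, Category.comp_id])

theorem stabMk_ι {T : Sp S} (γ : T ⟶ G.R) (h : γ ≫ G.t = γ ≫ G.s) : stabMk G γ h ≫ G.stabilizerι = γ :=
  pullback.lift_fst _ _ _

theorem stabMk_toU {T : Sp S} (γ : T ⟶ G.R) (h : γ ≫ G.t = γ ≫ G.s) :
    stabMk G γ h ≫ G.stabilizerToU = γ ≫ G.s :=
  pullback.lift_snd _ _ _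

theorem stab_ext {T : Sp S} {m₁ m₂ : T ⟶ G.stabilizer} (h : m₁ ≫ G.stabilizerι = m₂ ≫ G.stabilizerι) :
    m₁ = m₂ := by
  apply pullback.hom_ext
  · exact h
  · change m₁ ≫ G.stabilizerToU = m₂ ≫ G.stabilizerToU
    rw [← stabι_s, ← Category.assoc, h, Category.assoc]

variable {V : Sp S} (v : V ⟶ G.R)

/-- The conjugation square. -/
theorem exists_isPullback_conj :
    ∃ τ : pullback G.stabilizerToU (v ≫ G.t) ⟶ G.stabilizer,
      IsPullback τ (pullback.snd G.stabilizerToU (v ≫ G.t)) G.stabilizerToU (v ≫ G.s) := by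
  -- notation
  let X₂ := pullback G.stabilizerToU (v ≫ G.t)
  let X₁ := pullback G.stabilizerToU (v ≫ G.s)
  let γ₂ : X₂ ⟶ G.R := pullback.fst G.stabilizerToU (v ≫ G.t) ≫ G.stabilizerι
  let β₂ : X₂ ⟶ G.R := pullback.snd G.stabilizerToU (v ≫ G.t) ≫ v
  have h2t : γ₂ ≫ G.t = β₂ ≫ G.t := by
    simp only [γ₂, β₂, Category.assoc]
    rw [stabι_t, pullback.condition]
  have h2s : γ₂ ≫ G.s = β₂ ≫ G.t := by
    simp only [γ₂, β₂, Category.assoc]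
    rw [stabι_s, pullback.condition]
  let γ₁ : X₁ ⟶ G.R := pullback.fst G.stabilizerToU (v ≫ G.s) ≫ G.stabilizerι
  let β₁ : X₁ ⟶ G.R := pullback.snd G.stabilizerToU (v ≫ G.s) ≫ v
  have h1t : γ₁ ≫ G.t = β₁ ≫ G.s := by
    simp only [γ₁, β₁, Category.assoc]
    rw [stabι_t, pullback.condition]
  have h1s : γ₁ ≫ G.s = β₁ ≫ G.s := by
    simp only [γ₁, β₁, Category.assoc]
    rw [stabι_s, pullback.condition]
  let τ : X₂ ⟶ G.stabilizer := stabMk G (conj G β₂ γ₂) (by rw [conj_s G _ _ h2t h2s, conj_t G _ _ h2t h2s])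
  let τ' : X₁ ⟶ G.stabilizer := stabMk G (conj' G β₁ γ₁) (by rw [conj'_s G _ _ h1t h1s, conj'_t G _ _ h1t h1s])
  have hτ : τ ≫ G.stabilizerToU = pullback.snd G.stabilizerToU (v ≫ G.t) ≫ v ≫ G.s := by
    simp only [τ]
    rw [stabMk_toU, conj_s G _ _ h2t h2s]
    simp only [β₂, Category.assoc]
  have hτ' : τ' ≫ G.stabilizerToU = pullback.snd G.stabilizerToU (v ≫ G.s) ≫ v ≫ G.t := by
    simp only [τ']
    rw [stabMk_toU, conj'_s G _ _ h1t h1s]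
    simp only [β₁, Category.assoc]
  let θ : X₂ ⟶ X₁ := pullback.lift τ (pullback.snd G.stabilizerToU (v ≫ G.t)) hτ
  let θ' : X₁ ⟶ X₂ := pullback.lift τ' (pullback.snd G.stabilizerToU (v ≫ G.s)) hτ'
  have hθβ : θ ≫ β₁ = β₂ := by
    simp only [θ, β₁, β₂]
    rw [pullback.lift_snd_assoc]
  have hθγ : θ ≫ γ₁ = conj G β₂ γ₂ := by
    simp only [θ, γ₁]
    rw [pullback.lift_fst_assoc]
    exact stabMk_ι G _ _
  have hθ'β : θ' ≫ β₂ = β₁ := by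
    simp only [θ', β₁, β₂]
    rw [pullback.lift_snd_assoc]
  have hθ'γ : θ' ≫ γ₂ = conj' G β₁ γ₁ := by
    simp only [θ', γ₂]
    rw [pullback.lift_fst_assoc]
    exact stabMk_ι G _ _
  have h12 : θ ≫ θ' = 𝟙 X₂ := by
    apply pullback.hom_ext
    · apply stab_ext
      rw [Category.id_comp, Category.assoc, Category.assoc]
      change θ ≫ θ' ≫ γ₂ = γ₂
      rw [hθ'γ, precomp_conj' G β₁ γ₁ θ h1t h1s, hθβ, hθγ]
      exact conj'_conj G β₂ γ₂ h2t h2s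
    · rw [Category.id_comp, Category.assoc]
      simp only [θ, θ']
      rw [pullback.lift_snd, pullback.lift_snd]
  have h21 : θ' ≫ θ = 𝟙 X₁ := by
    apply pullback.hom_ext
    · apply stab_ext
      rw [Category.id_comp, Category.assoc, Category.assoc]
      change θ' ≫ θ ≫ γ₁ = γ₁
      rw [hθγ, precomp_conj G β₂ γ₂ θ' h2t h2s, hθ'β, hθ'γ]
      exact conj_conj' G β₁ γ₁ h1t h1s
    · rw [Category.id_comp, Category.assoc]
      simp only [θ, θ']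
      rw [pullback.lift_snd, pullback.lift_snd]
  refine ⟨τ, IsPullback.of_iso_pullback ⟨hτ⟩ ⟨θ, θ', h12, h21⟩ ?_ ?_⟩
  · exact pullback.lift_fst _ _ _
  · exact pullback.lift_snd _ _ _

end Groth.Agent.Lib.Helper66.GpdConj
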