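import Groth.Agent.Lib.Helper66.GpdTranslate
import Groth.Agent.Lib.Helper54.LargestOpen

/-!
# The largest open subspace over which the source map of a groupoid has a property is invariant
-/

set_option autoImplicit false
set_option linter.unusedVariables false
set_option linter.style.haveILetI false

universe u

open CategoryTheory CategoryTheory.Limits AlgebraicGeometry

namespace Groth.Agent.Lib.Helper66.GpdInvOpen

open AlgSp Groth.Agent.Lib.Helper54 Groth.Agent.Lib.Helper66.GpdTranslate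

variable {S : Scheme.{u}}

/-- A general criterion: a family of "structure maps" `F ⟶ U` compatible with translation. We state the source-map case. -/
theorem isInvariant_of_translation {Q P : MorphismProperty (Sp S)} (hQ : CovClass Q)
    (hP : IsLocalOnBase (fun _ _ Y g => IsCover Q Y g) P)
    {B : Sp S} (G : GroupoidSp B) (hU : IsAlgSpace G.U) (hR : IsAlgSpace G.R)
    (hs : Q G.s) (ht : Q G.t)
    {E : Sp S} (hE : IsAlgSpace E) (π : E ⟶ G.U)
    (htr : ∀ {V : Sp S} (v : V ⟶ G.R), ∃ τ : pullback π (v ≫ G.t) ⟶ E,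
      IsPullback τ (pullback.snd π (v ≫ G.t)) π (v ≫ G.s))
    {W : Sp S} (hWsp : IsAlgSpace W) (w : W ⟶ G.U) (hw : RepWith @IsOpenImmersion w)
    (hmax : ∀ (W' : Sp S) (w' : W' ⟶ G.U), IsAlgSpace W' → RepWith @IsOpenImmersion w' →
      (P (pullback.snd π w') ↔ ∃ k : W' ⟶ W, k ≫ w = w')) :
    G.IsInvariant w := by
  -- V = s⁻¹(W)
  have sqV := IsPullback.of_hasPullback G.s w
  have hV : IsAlgSpace (pullback G.s w) := Groth.Agent.H52.isAlgSpace_of_isPullback sqV hR hU hWsp
  have hv : RepWith @IsOpenImmersion (pullback.fst G.s w) := MorphismProperty.of_isPullback sqV.flip hw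
  have hQv : Q (pullback.fst G.s w) := hQ.of_oi _ hv
  have hQp : Q (pullback.snd G.s w) := by
    refine hQ.cancel hWsp _ w hw ?_
    rw [← pullback.condition]
    exact hQ.precomp _ _ hv hs
  have hQg : Q (pullback.fst G.s w ≫ G.t) := hQ.precomp _ _ hv ht
  -- the base change of `π` to `W`
  have sqEW := IsPullback.of_hasPullback π w
  have hEW : IsAlgSpace (pullback π w) := Groth.Agent.H52.isAlgSpace_of_isPullback sqEW hE hU hWsp
  have hPW : P (pullback.snd π w) := (hmax W w hWsp hw).2 ⟨𝟙 W, Category.id_comp _⟩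
  -- the base change of `π` along `g = v ≫ t`
  have sq0 := IsPullback.of_hasPullback π (pullback.fst G.s w ≫ G.t)
  have hX' : IsAlgSpace (pullback π (pullback.fst G.s w ≫ G.t)) :=
    Groth.Agent.H52.isAlgSpace_of_isPullback sq0 hE hU hV
  obtain ⟨τ, hτ⟩ := htr (pullback.fst G.s w)
  -- `v ≫ s = p ≫ w`
  have hτ' : IsPullback τ (pullback.snd π (pullback.fst G.s w ≫ G.t)) π (pullback.snd G.s w ≫ w) := by
    rw [← pullback.condition]
    exact hτ
  have hcomm : τ ≫ π = (pullback.snd π (pullback.fst G.s w ≫ G.t) ≫ pullback.snd G.s w) ≫ w := by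
    rw [Category.assoc]
    exact hτ'.w
  have sqL : IsPullback (sqEW.lift τ (pullback.snd π (pullback.fst G.s w ≫ G.t) ≫ pullback.snd G.s w) hcomm)
      (pullback.snd π (pullback.fst G.s w ≫ G.t)) (pullback.snd π w) (pullback.snd G.s w) := by
    refine IsPullback.of_right ?_ (sqEW.lift_snd _ _ _) sqEW
    rw [sqEW.lift_fst]
    exact hτ'
  have hPf' : P (pullback.snd π (pullback.fst G.s w ≫ G.t)) :=
    baseChange_of_isLocalOnBase hQ hP hEW hWsp hX' hV sqL hQp hPW
  have hover := hasOver_range_of_baseChange hQ hP hE hU hX' hV sq0 hQg hPf'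
  have hΩ : IsOpen (Set.range (Points.map (pullback.fst G.s w ≫ G.t))) :=
    (hQ.isOpenMap hV hU _ hQg).isOpen_range
  have hW' := isAlgSpace_openSub hU _ hΩ
  have hw' := repWith_isOpenImmersion_openSubι G.U _ hΩ
  have hP' : P (pullback.snd π (openSubι G.U (Set.range (Points.map (pullback.fst G.s w ≫ G.t))))) := by
    have sq1 := IsPullback.of_hasPullback π (openSubι G.U (Set.range (Points.map (pullback.fst G.s w ≫ G.t))))
    exact hover _ _ _ _ _ hW' (Groth.Agent.H52.isAlgSpace_of_isPullback sq1 hE hU hW') hw'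
      (range_points_map_openSubι G.U _) sq1
  obtain ⟨k, hk⟩ := (hmax _ _ hW' hw').1 hP'
  obtain ⟨g₁, hg₁⟩ := Groth.Agent.H53.exists_factor_of_range_subset _ hw' (pullback.fst G.s w ≫ G.t)
    (by rw [range_points_map_openSubι])
  -- one direction
  have key : ∀ ⦃T : Over S⦄ (r : (yon S).obj T ⟶ G.R),
      (∃ a : (yon S).obj T ⟶ W, a ≫ w = r ≫ G.s) → (∃ a : (yon S).obj T ⟶ W, a ≫ w = r ≫ G.t) := by
    rintro T r ⟨a, ha⟩
    refine ⟨pullback.lift r a ha.symm ≫ g₁ ≫ k, ?_⟩
    rw [Category.assoc, Category.assoc, hk, hg₁, pullback.lift_fst_assoc]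
  intro T r
  refine ⟨fun h => ?_, key r⟩
  have h' : ∃ a : (yon S).obj T ⟶ W, a ≫ w = (r ≫ G.i) ≫ G.s := by
    rw [Category.assoc, G.i_s]
    exact h
  obtain ⟨a, ha⟩ := key (r ≫ G.i) h'
  exact ⟨a, by rw [ha, Category.assoc, G.i_t]⟩

/-- The source-map case. -/
theorem isInvariant_largest_open_source {Q P : MorphismProperty (Sp S)} (hQ : CovClass Q)
    (hP : IsLocalOnBase (fun _ _ Y g => IsCover Q Y g) P)
    {B : Sp S} (G : GroupoidSp B) (hU : IsAlgSpace G.U) (hR : IsAlgSpace G.R)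
    (hs : Q G.s) (ht : Q G.t)
    {W : Sp S} (hWsp : IsAlgSpace W) (w : W ⟶ G.U) (hw : RepWith @IsOpenImmersion w)
    (hmax : ∀ (W' : Sp S) (w' : W' ⟶ G.U), IsAlgSpace W' → RepWith @IsOpenImmersion w' →
      (P (pullback.snd G.s w') ↔ ∃ k : W' ⟶ W, k ≫ w = w')) :
    G.IsInvariant w :=
  isInvariant_of_translation hQ hP G hU hR hs ht hR G.s
    (fun v => ⟨translate G v, isPullback_translate G v⟩) hWsp w hw hmax

end Groth.Agent.Lib.Helper66.GpdInvOpen
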