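import Groth.Agent.Lib.Helper66.GpdInvOpen
import Groth.Agent.Lib.Helper66.GpdConj

/-!
# The largest open subspace over which the stabilizer of a groupoid has a property is invariant
-/

set_option autoImplicit false
set_option linter.unusedVariables false

universe u

open CategoryTheory CategoryTheory.Limits AlgebraicGeometry

namespace Groth.Agent.Lib.Helper66.GpdInvOpen

open AlgSp Groth.Agent.Lib.Helper54

variable {S : Scheme.{u}}

theorem isAlgSpace_stabilizer {B : Sp S} (hB : IsAlgSpace B) (G : GroupoidSp B) (hU : IsAlgSpace G.U)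
    (hR : IsAlgSpace G.R) : IsAlgSpace G.stabilizer := by
  have hUU : IsAlgSpace (pullback G.pU G.pU) :=
    Groth.Agent.H52.isAlgSpace_of_isPullback (IsPullback.of_hasPullback G.pU G.pU) hU hB hU
  exact Groth.Agent.H52.isAlgSpace_of_isPullback (IsPullback.of_hasPullback G.j G.diag) hR hUU hU

/-- The stabilizer case. -/
theorem isInvariant_largest_open_stabilizer {Q P : MorphismProperty (Sp S)} (hQ : CovClass Q)
    (hP : IsLocalOnBase (fun _ _ Y g => IsCover Q Y g) P)
    {B : Sp S} (hB : IsAlgSpace B) (G : GroupoidSp B) (hU : IsAlgSpace G.U) (hR : IsAlgSpace G.R)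
    (hs : Q G.s) (ht : Q G.t)
    {W : Sp S} (hWsp : IsAlgSpace W) (w : W ⟶ G.U) (hw : RepWith @IsOpenImmersion w)
    (hmax : ∀ (W' : Sp S) (w' : W' ⟶ G.U), IsAlgSpace W' → RepWith @IsOpenImmersion w' →
      (P (pullback.snd G.stabilizerToU w') ↔ ∃ k : W' ⟶ W, k ≫ w = w')) :
    G.IsInvariant w :=
  isInvariant_of_translation hQ hP G hU hR hs ht (isAlgSpace_stabilizer hB G hU hR) G.stabilizerToU
    (fun v => Groth.Agent.Lib.Helper66.GpdConj.exists_isPullback_conj G v) hWsp w hw hmax

end Groth.Agent.Lib.Helper66.GpdInvOpen
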