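import Groth.Prelude.Def_AlgSpGpd

/-!
# Translation squares of a groupoid in sheaves

For a groupoid `(U, R, s, t, c)` and `v : V ⟶ R`:
* `isPullback_translate` : `R ×_{s, U, t ∘ v} V ≅ R ×_{s, U, s ∘ v} V` over `V` by `(r', a) ↦ (r' ∘ v(a), a)`, in the form of a
  pullback square.
-/

set_option autoImplicit false
set_option linter.unusedVariables false

universe u

open CategoryTheory CategoryTheory.Limits AlgebraicGeometry

namespace Groth.Agent.Lib.Helper66.GpdTranslate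

open AlgSp

variable {S : Scheme.{u}} {B : Sp S} (G : GroupoidSp B)

/-- composition of `T`-valued arrows -/
noncomputable def cmp {T : Sp S} (α β : T ⟶ G.R) (h : α ≫ G.s = β ≫ G.t) : T ⟶ G.R :=
  pullback.lift α β h ≫ G.c

theorem cmp_s {T : Sp S} (α β : T ⟶ G.R) (h : α ≫ G.s = β ≫ G.t) : cmp G α β h ≫ G.s = β ≫ G.s :=
  G.comp_s α β h

theorem cmp_t {T : Sp S} (α β : T ⟶ G.R) (h : α ≫ G.s = β ≫ G.t) : cmp G α β h ≫ G.t = α ≫ G.t :=
  G.comp_t α β h

theorem cmp_assoc {T : Sp S} (α β γ : T ⟶ G.R) (h₁ : α ≫ G.s = β ≫ G.t) (h₂ : β ≫ G.s = γ ≫ G.t) :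
    cmp G (cmp G α β h₁) γ ((cmp_s G α β h₁).trans h₂) =
      cmp G α (cmp G β γ h₂) (h₁.trans (cmp_t G β γ h₂).symm) :=
  G.assoc α β γ h₁ h₂

theorem precomp_cmp {T T' : Sp S} (m : T' ⟶ T) (α β : T ⟶ G.R) (h : α ≫ G.s = β ≫ G.t) :
    m ≫ cmp G α β h = cmp G (m ≫ α) (m ≫ β) (by rw [Category.assoc, Category.assoc, h]) := by
  unfold cmp
  rw [← Category.assoc]
  congr 1
  apply pullback.hom_ext
  · rw [Category.assoc, pullback.lift_fst, pullback.lift_fst]
  · rw [Category.assoc, pullback.lift_snd, pullback.lift_snd]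

theorem cmp_congr {T : Sp S} {α α' β β' : T ⟶ G.R} (hα : α = α') (hβ : β = β') (h : α ≫ G.s = β ≫ G.t) :
    cmp G α β h = cmp G α' β' (by rw [← hα, ← hβ]; exact h) := by
  subst hα; subst hβ; rfl

/-- `α ∘ e = α` -/
theorem cmp_e {T : Sp S} (α : T ⟶ G.R) (ε : T ⟶ G.R) (hε : ε = α ≫ G.s ≫ G.e) (h : α ≫ G.s = ε ≫ G.t) :
    cmp G α ε h = α := by
  subst hε
  exact G.comp_e α

/-- `α ∘ α⁻¹ ... ` : `β⁻¹ ∘ β = e` -/
theorem i_cmp {T : Sp S} (β : T ⟶ G.R) (h : (β ≫ G.i) ≫ G.s = β ≫ G.t) :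
    cmp G (β ≫ G.i) β h = β ≫ G.s ≫ G.e :=
  G.i_comp β

theorem cmp_i {T : Sp S} (β : T ⟶ G.R) (h : β ≫ G.s = (β ≫ G.i) ≫ G.t) :
    cmp G β (β ≫ G.i) h = β ≫ G.t ≫ G.e :=
  G.comp_i β

/-- `(α ∘ β⁻¹) ∘ β = α` -/
theorem cmp_inv_cmp {T : Sp S} (α β : T ⟶ G.R) (h : α ≫ G.s = β ≫ G.s) :
    cmp G (cmp G α (β ≫ G.i) (by rw [Category.assoc, G.i_t]; exact h)) β
      (by rw [cmp_s, Category.assoc, G.i_s]) = α := by
  rw [cmp_assoc G α (β ≫ G.i) β (by rw [Category.assoc, G.i_t]; exact h) (by rw [Category.assoc, G.i_s])]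
  apply cmp_e
  rw [i_cmp, ← Category.assoc, ← h, Category.assoc]

/-- `(α ∘ β) ∘ β⁻¹ = α` -/
theorem cmp_cmp_inv {T : Sp S} (α β : T ⟶ G.R) (h : α ≫ G.s = β ≫ G.t) :
    cmp G (cmp G α β h) (β ≫ G.i) (by rw [cmp_s, Category.assoc, G.i_t]) = α := by
  rw [cmp_assoc G α β (β ≫ G.i) h (by rw [Category.assoc, G.i_t])]
  apply cmp_e
  rw [cmp_i, ← Category.assoc, ← h, Category.assoc]

variable {V : Sp S} (v : V ⟶ G.R)

/-- `(r', a) ↦ r' ∘ v(a)` on `R ×_{s, U, t ∘ v} V`. -/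
noncomputable def translate : pullback G.s (v ≫ G.t) ⟶ G.R :=
  cmp G (pullback.fst G.s (v ≫ G.t)) (pullback.snd G.s (v ≫ G.t) ≫ v)
    (by rw [pullback.condition, Category.assoc])

theorem translate_s : translate G v ≫ G.s = pullback.snd G.s (v ≫ G.t) ≫ v ≫ G.s := by
  unfold translate
  rw [cmp_s, Category.assoc]

/-- The translation square. -/
theorem isPullback_translate :
    IsPullback (translate G v) (pullback.snd G.s (v ≫ G.t)) G.s (v ≫ G.s) := by
  refine ⟨⟨translate_s G v⟩, ⟨PullbackCone.IsLimit.mk _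
    (fun c => pullback.lift (cmp G c.fst (c.snd ≫ v ≫ G.i)
        (by rw [c.condition]; simp only [Category.assoc, G.i_t])) c.snd
      (by rw [cmp_s]; simp only [Category.assoc, G.i_s])) ?_ ?_ ?_⟩⟩
  · intro c
    unfold translate
    rw [precomp_cmp]
    have h1 : pullback.lift (cmp G c.fst (c.snd ≫ v ≫ G.i)
        (by rw [c.condition]; simp only [Category.assoc, G.i_t])) c.snd
        (by rw [cmp_s]; simp only [Category.assoc, G.i_s]) ≫ pullback.fst G.s (v ≫ G.t) =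
        cmp G c.fst ((c.snd ≫ v) ≫ G.i)
          (by rw [c.condition]; simp only [Category.assoc, G.i_t]) := by
      rw [pullback.lift_fst]
      exact cmp_congr G rfl (by rw [Category.assoc]) _
    have h2 : pullback.lift (cmp G c.fst (c.snd ≫ v ≫ G.i)
        (by rw [c.condition]; simp only [Category.assoc, G.i_t])) c.snd
        (by rw [cmp_s]; simp only [Category.assoc, G.i_s]) ≫
        pullback.snd G.s (v ≫ G.t) ≫ v = c.snd ≫ v := by
      rw [pullback.lift_snd_assoc]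
    rw [cmp_congr G h1 h2]
    exact cmp_inv_cmp G c.fst (c.snd ≫ v) (by rw [c.condition, Category.assoc])
  · intro c
    exact pullback.lift_snd _ _ _
  · intro c m hm1 hm2
    apply pullback.hom_ext
    · rw [pullback.lift_fst]
      -- m ≫ fst = (m ≫ translate) ∘ (v a)⁻¹
      have hcond : (m ≫ pullback.fst G.s (v ≫ G.t)) ≫ G.s = (c.snd ≫ v) ≫ G.t := by
        rw [Category.assoc, pullback.condition, ← Category.assoc, hm2, Category.assoc]
      have h3 : c.fst = cmp G (m ≫ pullback.fst G.s (v ≫ G.t)) (c.snd ≫ v) hcond := by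
        rw [← hm1]
        unfold translate
        rw [precomp_cmp]
        exact cmp_congr G rfl (by rw [← Category.assoc, hm2]) _
      have h4 := cmp_cmp_inv G (m ≫ pullback.fst G.s (v ≫ G.t)) (c.snd ≫ v) hcond
      rw [← h4]
      exact cmp_congr G h3.symm (by rw [Category.assoc]) _
    · rw [pullback.lift_snd]
      exact hm2

end Groth.Agent.Lib.Helper66.GpdTranslate
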