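import Mathlib
import Groth.Prelude.Def_GrSyz
import Groth.Agent.Lib.Helper66.GrHilbB

/-!
# The degree-`d` strand of a graded free resolution is exact; Euler characteristic
-/

set_option autoImplicit false
universe u

namespace Groth.Agent.Lib.Helper66.GrHilb

open DirectSum

section Abstract
variable {k : Type*} [Field k] {A B C : Type*} [AddCommGroup A] [AddCommGroup B] [AddCommGroup C]
  [Module k A] [Module k B] [Module k C]

/-- restricting an exact pair to subspaces compatible with projections stays exact -/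
theorem restrict_exact (f : A →ₗ[k] B) (g : B →ₗ[k] C) (pA : Submodule k A) (pB : Submodule k B)
    (pC : Submodule k C) (hf : ∀ x ∈ pA, f x ∈ pB) (hg : ∀ x ∈ pB, g x ∈ pC)
    (πA : A →ₗ[k] A) (πB : B →ₗ[k] B) (hπA : ∀ x, πA x ∈ pA) (hπB : ∀ x ∈ pB, πB x = x)
    (hcomm : ∀ x, πB (f x) = f (πA x)) (hex : LinearMap.ker g = LinearMap.range f) :
    LinearMap.ker (g.restrict hg) = LinearMap.range (f.restrict hf) := by
  ext v
  rw [LinearMap.mem_ker, LinearMap.mem_range]
  constructor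
  · intro hv
    have h1 : g v.1 = 0 := by
      have := congrArg Subtype.val hv
      simpa using this
    have h2 : v.1 ∈ LinearMap.range f := by rw [← hex]; exact h1
    obtain ⟨w₀, hw₀⟩ := h2
    refine ⟨⟨πA w₀, hπA w₀⟩, ?_⟩
    apply Subtype.ext
    rw [LinearMap.restrict_coe_apply]
    change f (πA w₀) = v.1
    rw [← hcomm, hw₀, hπB v.1 v.2]
  · rintro ⟨w, rfl⟩
    apply Subtype.ext
    rw [LinearMap.restrict_coe_apply, LinearMap.restrict_coe_apply]
    have : f w.1 ∈ LinearMap.ker g := by rw [hex]; exact ⟨w.1, rfl⟩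
    exact this

/-- restricting a surjection to subspaces compatible with projections stays surjective -/
theorem restrict_surjective (f : A →ₗ[k] B) (pA : Submodule k A) (pB : Submodule k B)
    (hf : ∀ x ∈ pA, f x ∈ pB)
    (πA : A →ₗ[k] A) (πB : B →ₗ[k] B) (hπA : ∀ x, πA x ∈ pA) (hπB : ∀ x ∈ pB, πB x = x)
    (hcomm : ∀ x, πB (f x) = f (πA x)) (hsurj : Function.Surjective f) :
    Function.Surjective (f.restrict hf) := by
  intro y
  obtain ⟨w₀, hw₀⟩ := hsurj y.1
  refine ⟨⟨πA w₀, hπA w₀⟩, ?_⟩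
  apply Subtype.ext
  rw [LinearMap.restrict_coe_apply]
  change f (πA w₀) = y.1
  rw [← hcomm, hw₀, hπB y.1 y.2]

/-- the alternating sum of a finite exact sequence, in telescoped form -/
theorem alternating_sum_eq (a c : ℕ → ℤ) (D : ℤ) (h0 : a 0 = D + c 0)
    (hs : ∀ i, a (i + 1) = c i + c (i + 1)) (m : ℕ) :
    ∑ i ∈ Finset.range (m + 1), (-1 : ℤ) ^ i * a i = D + (-1 : ℤ) ^ m * c m := by
  induction m with
  | zero => simp [h0]
  | succ m ih =>
    rw [Finset.sum_range_succ, ih, hs m, pow_succ]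
    ring

end Abstract

section Dim
variable {k : Type u} [Field k] {R : Type u} [CommRing R] [Algebra k R]
  (𝒜 : ℤ → Submodule k R) [GradedAlgebra 𝒜] [∀ n, Module.Finite k (𝒜 n)]
  {n : ℕ} (deg : Fin n → ℤ) (d : ℤ)

/-- the degree-`d` piece as a product of pieces of the ring -/
def pieceEquiv : piece 𝒜 deg d ≃ₗ[k] (∀ b : Fin n, 𝒜 (d - deg b)) where
  toFun v := fun b => ⟨v.1 b, (mem_piece 𝒜 deg d v.1).mp v.2 b⟩
  invFun w := ⟨fun b => (w b).1, (mem_piece 𝒜 deg d _).mpr fun b => (w b).2⟩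
  map_add' _ _ := rfl
  map_smul' _ _ := rfl
  left_inv _ := rfl
  right_inv _ := rfl

instance finite_piece : Module.Finite k (piece 𝒜 deg d) :=
  Module.Finite.equiv (pieceEquiv 𝒜 deg d).symm

theorem finrank_piece :
    Module.finrank k (piece 𝒜 deg d) = ∑ b, Module.finrank k (𝒜 (d - deg b)) := by
  rw [(pieceEquiv 𝒜 deg d).finrank_eq, Module.finrank_pi_fintype]

end Dim

section Strand
variable {k : Type u} [Field k] {R : Type u} [CommRing R] [Algebra k R]
  (𝒜 : ℤ → Submodule k R) [GradedAlgebra 𝒜]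
  {M : Type u} [AddCommGroup M] [Module k M] [Module R M] [IsScalarTower k R M]
  (ℳ : ℤ → Submodule k M) [DirectSum.Decomposition ℳ] [SetLike.GradedSMul 𝒜 ℳ]
  (F : GrSyz.FreeRes 𝒜 ℳ) (d : ℤ)

/-- the differential of the degree-`d` strand -/
def strandD (i : ℕ) : piece 𝒜 (F.deg (i + 1)) d →ₗ[k] piece 𝒜 (F.deg i) d :=
  ((Matrix.mulVecLin (F.d i)).restrictScalars k).restrict
    (fun v hv => mulVec_mem_piece 𝒜 (F.deg i) (F.deg (i + 1)) (F.d i) (F.d_mem i) d v hv)

/-- the augmentation of the degree-`d` strand -/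
def strandAug : piece 𝒜 (F.deg 0) d →ₗ[k] ℳ d :=
  ((Fintype.linearCombination R F.aug).restrictScalars k).restrict
    (fun v hv => linearCombination_mem 𝒜 ℳ (F.deg 0) F.aug F.aug_mem d v hv)

/-- projection of `M` to its degree-`d` piece, as an endomorphism -/
def projM : M →ₗ[k] M := (ℳ d).subtype.comp ((DFinsupp.lapply d).comp (decomposeLinearEquiv ℳ).toLinearMap)

theorem projM_apply (x : M) : projM ℳ d x = (decompose ℳ x d : M) := rfl

theorem strandAug_surjective : Function.Surjective (strandAug 𝒜 ℳ F d) := by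
  refine restrict_surjective _ _ _ _ (projV 𝒜 (F.deg 0) d) (projM ℳ d) (projV_mem 𝒜 _ d)
    (fun x hx => decompose_of_mem_same ℳ hx) (fun v => ?_) F.aug_surjective
  exact decompose_linearCombination 𝒜 ℳ (F.deg 0) F.aug F.aug_mem d v

theorem strand_exact_zero :
    LinearMap.ker (strandAug 𝒜 ℳ F d) = LinearMap.range (strandD 𝒜 ℳ F d 0) := by
  refine restrict_exact _ _ _ _ _ _ _ (projV 𝒜 (F.deg 1) d) (projV 𝒜 (F.deg 0) d)
    (projV_mem 𝒜 _ d) (fun x hx => projV_of_mem 𝒜 _ d x hx) (fun v => ?_) ?_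
  · exact projV_mulVec 𝒜 (F.deg 0) (F.deg 1) (F.d 0) (F.d_mem 0) d v
  · ext v
    have := congrArg (fun S => v ∈ S) F.exact_zero
    simpa using this

theorem strand_exact_succ (i : ℕ) :
    LinearMap.ker (strandD 𝒜 ℳ F d i) = LinearMap.range (strandD 𝒜 ℳ F d (i + 1)) := by
  refine restrict_exact _ _ _ _ _ _ _ (projV 𝒜 (F.deg (i + 2)) d) (projV 𝒜 (F.deg (i + 1)) d)
    (projV_mem 𝒜 _ d) (fun x hx => projV_of_mem 𝒜 _ d x hx) (fun v => ?_) ?_
  · exact projV_mulVec 𝒜 (F.deg (i + 1)) (F.deg (i + 2)) (F.d (i + 1)) (F.d_mem (i + 1)) d v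
  · ext v
    have := congrArg (fun S => v ∈ S) (F.exact_succ i)
    simpa using this

end Strand

section Euler
variable {k : Type u} [Field k] {R : Type u} [CommRing R] [Algebra k R]
  (𝒜 : ℤ → Submodule k R) [GradedAlgebra 𝒜] [∀ n, Module.Finite k (𝒜 n)]
  {M : Type u} [AddCommGroup M] [Module k M] [Module R M] [IsScalarTower k R M]
  (ℳ : ℤ → Submodule k M) [DirectSum.Decomposition ℳ] [SetLike.GradedSMul 𝒜 ℳ]
  (F : GrSyz.FreeRes 𝒜 ℳ) (d : ℤ)

/-- the Hilbert function of `M` is the alternating sum of those of the terms of a finite graded free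
resolution -/
theorem finrank_eq_alternating_sum (m : ℕ) (hF : F.HasLengthLE m) :
    (Module.finrank k (ℳ d) : ℤ) =
      ∑ i ∈ Finset.range (m + 1), (-1 : ℤ) ^ i * (Module.finrank k (piece 𝒜 (F.deg i) d) : ℤ) := by
  set a : ℕ → ℤ := fun i => (Module.finrank k (piece 𝒜 (F.deg i) d) : ℤ) with ha
  set c : ℕ → ℤ := fun i => (Module.finrank k (LinearMap.range (strandD 𝒜 ℳ F d i)) : ℤ) with hc
  have h0 : a 0 = (Module.finrank k (ℳ d) : ℤ) + c 0 := by
    have h := LinearMap.finrank_range_add_finrank_ker (strandAug 𝒜 ℳ F d)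
    rw [LinearMap.range_eq_top.mpr (strandAug_surjective 𝒜 ℳ F d), finrank_top,
      strand_exact_zero 𝒜 ℳ F d] at h
    simp only [ha, hc]
    exact_mod_cast h.symm
  have hs : ∀ i, a (i + 1) = c i + c (i + 1) := by
    intro i
    have h := LinearMap.finrank_range_add_finrank_ker (strandD 𝒜 ℳ F d i)
    rw [strand_exact_succ 𝒜 ℳ F d i] at h
    simp only [ha, hc]
    exact_mod_cast h.symm
  have hcm : c m = 0 := by
    have hrk : F.rk (m + 1) = 0 := hF (m + 1) (Nat.lt_succ_self m)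
    haveI : IsEmpty (Fin (F.rk (m + 1))) := by rw [hrk]; infer_instance
    have h1 : Module.finrank k (piece 𝒜 (F.deg (m + 1)) d) = 0 := by
      rw [finrank_piece]
      exact Fintype.sum_empty _
    have h2 := LinearMap.finrank_range_le (strandD 𝒜 ℳ F d m)
    rw [h1] at h2
    simp only [hc]
    exact_mod_cast Nat.le_zero.mp h2
  have := alternating_sum_eq a c (Module.finrank k (ℳ d) : ℤ) h0 hs m
  rw [this, hcm, mul_zero, add_zero]

end Euler

end Groth.Agent.Lib.Helper66.GrHilb
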