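import Mathlib
import Groth.Prelude.Def_GrSyz
import Groth.Agent.Lib.Helper66.GrHilbA
import Groth.Agent.Lib.Helper66.GrHilbC

/-!
# Hilbert function of a graded module over `k[x_0, …, x_r]` from a finite graded free resolution
-/

set_option autoImplicit false
universe u

namespace Groth.Agent.Lib.Helper66.GrHilb

variable (k : Type u) [Field k] (r : ℕ)
  {M : Type u} [AddCommGroup M] [Module k M] [Module (MvPolynomial (Fin (r + 1)) k) M]
  [IsScalarTower k (MvPolynomial (Fin (r + 1)) k) M]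
  (ℳ : ℤ → Submodule k M) [DirectSum.Decomposition ℳ]
  [SetLike.GradedSMul (GrSyz.stdGr k (Fin (r + 1))) ℳ]
  (F : GrSyz.FreeRes (GrSyz.stdGr k (Fin (r + 1))) ℳ)

/-- the binomial coefficient `C(r + (d - j), r)`, zero for `d < j` -/
def binom (d j : ℤ) : ℤ := if j ≤ d then ((Nat.choose (r + (d - j).toNat) r : ℕ) : ℤ) else 0

theorem finrank_piece_stdGr (i : ℕ) (d : ℤ) :
    (Module.finrank k (piece (GrSyz.stdGr k (Fin (r + 1))) (F.deg i) d) : ℤ) =
      ∑ b : Fin (F.rk i), binom r d (F.deg i b) := by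
  rw [finrank_piece]
  push_cast
  refine Finset.sum_congr rfl fun b _ => ?_
  rw [finrank_stdGr, binom]
  simp only [sub_nonneg]

theorem hilbert_eq (m : ℕ) (hF : F.HasLengthLE m) (d : ℤ) :
    (Module.finrank k (ℳ d) : ℤ) =
      ∑ i ∈ Finset.range (m + 1), (-1 : ℤ) ^ i * ∑ b : Fin (F.rk i), binom r d (F.deg i b) := by
  rw [finrank_eq_alternating_sum (GrSyz.stdGr k (Fin (r + 1))) ℳ F d m hF]
  refine Finset.sum_congr rfl fun i _ => ?_
  rw [finrank_piece_stdGr]

end Groth.Agent.Lib.Helper66.GrHilb
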