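import Mathlib
import Groth.Prelude.Def_GrSyz
import Groth.Agent.Lib.Helper66.GrHilbD

/-!
# The Hilbert polynomial from a finite graded free resolution
-/

set_option autoImplicit false
universe u

namespace Groth.Agent.Lib.Helper66.GrHilb

open Polynomial

/-- the polynomial `C(X + r, r)` -/
noncomputable def binomPoly (r : ℕ) : Polynomial ℚ :=
  C ((r.factorial : ℚ)⁻¹) * ∏ j ∈ Finset.range r, (X + C ((j : ℚ) + 1))

theorem binomPoly_eval (r : ℕ) (n : ℤ) (hn : -(r : ℤ) ≤ n) :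
    (binomPoly r).eval (n : ℚ) = ((binom r n 0 : ℤ) : ℚ) := by
  unfold binomPoly binom
  rw [eval_mul, eval_C, eval_prod]
  simp only [eval_add, eval_X, eval_C, sub_zero]
  split_ifs with h
  · obtain ⟨N, rfl⟩ := Int.eq_ofNat_of_zero_le h
    have h1 : ∏ j ∈ Finset.range r, (((N : ℤ) : ℚ) + ((j : ℚ) + 1)) =
        (((N + 1).ascFactorial r : ℕ) : ℚ) := by
      rw [Nat.ascFactorial_eq_prod_range]
      push_cast
      refine Finset.prod_congr rfl fun j _ => ?_
      ring
    rw [h1, Nat.ascFactorial_eq_factorial_mul_choose]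
    have hr : (r.factorial : ℚ) ≠ 0 := by exact_mod_cast r.factorial_ne_zero
    push_cast
    rw [Int.toNat_natCast, ← mul_assoc, inv_mul_cancel₀ hr, one_mul, add_comm]
  · push_neg at h
    have hj : (-n - 1).toNat ∈ Finset.range r := by
      rw [Finset.mem_range]; omega
    rw [Finset.prod_eq_zero hj]
    · simp
    · have : (((-n - 1).toNat : ℕ) : ℤ) = -n - 1 := Int.toNat_of_nonneg (by omega)
      have h2 : (((-n - 1).toNat : ℕ) : ℚ) = -(n : ℚ) - 1 := by exact_mod_cast this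
      rw [h2]; ring

variable (k : Type u) [Field k] (r : ℕ)
  {M : Type u} [AddCommGroup M] [Module k M] [Module (MvPolynomial (Fin (r + 1)) k) M]
  [IsScalarTower k (MvPolynomial (Fin (r + 1)) k) M]
  (ℳ : ℤ → Submodule k M) [DirectSum.Decomposition ℳ]
  [SetLike.GradedSMul (GrSyz.stdGr k (Fin (r + 1))) ℳ]
  (F : GrSyz.FreeRes (GrSyz.stdGr k (Fin (r + 1))) ℳ)

theorem binom_sub (d j : ℤ) : binom r d j = binom r (d - j) 0 := by
  unfold binom
  simp only [sub_zero, sub_nonneg]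

/-- the Hilbert polynomial -/
noncomputable def hilbPoly (m : ℕ) : Polynomial ℚ :=
  ∑ i ∈ Finset.range (m + 1), C ((-1 : ℚ) ^ i) *
    ∑ b : Fin (F.rk i), (binomPoly r).comp (X - C ((F.deg i b : ℤ) : ℚ))

theorem hilbPoly_eval (m : ℕ) (hF : F.HasLengthLE m) (d : ℤ)
    (hd : ∀ (i : ℕ) (b : Fin (F.rk i)), F.deg i b - (r : ℤ) ≤ d) :
    ((Module.finrank k (ℳ d) : ℤ) : ℚ) = (hilbPoly k r ℳ F m).eval (d : ℚ) := by
  rw [hilbert_eq k r ℳ F m hF d, hilbPoly, eval_finset_sum]
  push_cast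
  refine Finset.sum_congr rfl fun i _ => ?_
  rw [eval_mul, eval_C, eval_finset_sum]
  congr 1
  refine Finset.sum_congr rfl fun b _ => ?_
  rw [eval_comp, eval_sub, eval_X, eval_C, binom_sub]
  have h := binomPoly_eval r (d - F.deg i b) (by have := hd i b; omega)
  rw [← h]
  push_cast
  rfl

end Groth.Agent.Lib.Helper66.GrHilb
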