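import Mathlib
import Groth.Prelude.Def_GrSyz
import Groth.Agent.Lib.Helper66.GrHilbD

/-!
# The Hilbert function in terms of the alternating Betti numbers
-/

set_option autoImplicit false
universe u

namespace Groth.Agent.Lib.Helper66.GrHilb

variable (k : Type u) [Field k] (r : ℕ)
  {M : Type u} [AddCommGroup M] [Module k M] [Module (MvPolynomial (Fin (r + 1)) k) M]
  [IsScalarTower k (MvPolynomial (Fin (r + 1)) k) M]
  (ℳ : ℤ → Submodule k M) [DirectSum.Decomposition ℳ]
  [SetLike.GradedSMul (GrSyz.stdGr k (Fin (r + 1))) ℳ]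
  (F : GrSyz.FreeRes (GrSyz.stdGr k (Fin (r + 1))) ℳ) (m : ℕ)

/-- the alternating sum of the Betti numbers in degree `j` -/
noncomputable def altBetti (j : ℤ) : ℤ := ∑ i ∈ Finset.range (m + 1), (-1 : ℤ) ^ i * (F.betti i j : ℤ)

/-- all degrees of basis vectors of the terms `F_0, …, F_m` -/
noncomputable def degSet : Finset ℤ := (Finset.range (m + 1)).biUnion (fun i => Finset.univ.image (F.deg i))

theorem betti_eq_zero_of_notMem (i : ℕ) (hi : i ∈ Finset.range (m + 1)) (j : ℤ)
    (hj : j ∉ degSet k r ℳ F m) : F.betti i j = 0 := by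
  unfold GrSyz.FreeRes.betti
  rw [Finset.card_eq_zero, Finset.filter_eq_empty_iff]
  intro b _ hb
  apply hj
  unfold degSet
  rw [Finset.mem_biUnion]
  exact ⟨i, hi, Finset.mem_image.mpr ⟨b, Finset.mem_univ _, hb⟩⟩

theorem altBetti_eq_zero_of_notMem (j : ℤ) (hj : j ∉ degSet k r ℳ F m) :
    altBetti k r ℳ F m j = 0 := by
  unfold altBetti
  refine Finset.sum_eq_zero fun i hi => ?_
  rw [betti_eq_zero_of_notMem k r ℳ F m i hi j hj]
  simp

theorem sum_comp_deg (i : ℕ) (hi : i ∈ Finset.range (m + 1)) (g : ℤ → ℤ) :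
    ∑ b : Fin (F.rk i), g (F.deg i b) = ∑ j ∈ degSet k r ℳ F m, (F.betti i j : ℤ) * g j := by
  classical
  have hmaps : ∀ b ∈ (Finset.univ : Finset (Fin (F.rk i))), F.deg i b ∈ degSet k r ℳ F m := by
    intro b _
    unfold degSet
    rw [Finset.mem_biUnion]
    exact ⟨i, hi, Finset.mem_image.mpr ⟨b, Finset.mem_univ _, rfl⟩⟩
  rw [← Finset.sum_fiberwise_of_maps_to hmaps]
  refine Finset.sum_congr rfl fun j _ => ?_
  unfold GrSyz.FreeRes.betti
  rw [Finset.sum_congr rfl (fun b hb => by rw [(Finset.mem_filter.mp hb).2] : ∀ b ∈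
    Finset.univ.filter (fun b => F.deg i b = j), g (F.deg i b) = g j)]
  rw [Finset.sum_const, nsmul_eq_mul]

theorem hilbert_eq_sum_degSet (hF : F.HasLengthLE m) (d : ℤ) :
    (Module.finrank k (ℳ d) : ℤ) =
      ∑ j ∈ degSet k r ℳ F m, altBetti k r ℳ F m j * binom r d j := by
  rw [hilbert_eq k r ℳ F m hF d]
  unfold altBetti
  simp_rw [Finset.sum_mul]
  rw [Finset.sum_comm]
  refine Finset.sum_congr rfl fun i hi => ?_
  rw [sum_comp_deg k r ℳ F m i hi (fun j => binom r d j), Finset.mul_sum]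
  refine Finset.sum_congr rfl fun j _ => ?_
  ring

theorem hilbert_eq_finsum (hF : F.HasLengthLE m) (d : ℤ) :
    (Module.finrank k (ℳ d) : ℤ) = ∑ᶠ j : ℤ, altBetti k r ℳ F m j * binom r d j := by
  rw [hilbert_eq_sum_degSet k r ℳ F m hF d]
  symm
  apply finsum_eq_sum_of_support_subset
  intro j hj
  rw [Function.mem_support] at hj
  by_contra hmem
  apply hj
  rw [altBetti_eq_zero_of_notMem k r ℳ F m j hmem, zero_mul]

theorem binom_self (j : ℤ) : binom r j j = 1 := by
  unfold binom
  simp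

theorem binom_of_lt (d j : ℤ) (h : d < j) : binom r d j = 0 := by
  unfold binom
  rw [if_neg (by omega)]

theorem binom_of_lt' (d j : ℤ) (h : j < d) :
    binom r d j = ((Nat.choose (r + (d - j).toNat) r : ℕ) : ℤ) := by
  unfold binom
  rw [if_pos (by omega)]

theorem altBetti_recursion (hF : F.HasLengthLE m) (j : ℤ) :
    altBetti k r ℳ F m j = (Module.finrank k (ℳ j) : ℤ) -
      ∑ᶠ n : ℤ, (if n < j then altBetti k r ℳ F m n * ((Nat.choose (r + (j - n).toNat) r : ℕ) : ℤ)
        else 0) := by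
  classical
  have h1 := hilbert_eq_sum_degSet k r ℳ F m hF j
  have hsub : degSet k r ℳ F m ⊆ insert j (degSet k r ℳ F m) := Finset.subset_insert _ _
  have h2 : ∑ n ∈ degSet k r ℳ F m, altBetti k r ℳ F m n * binom r j n =
      ∑ n ∈ insert j (degSet k r ℳ F m), altBetti k r ℳ F m n * binom r j n := by
    apply Finset.sum_subset hsub
    intro n _ hn
    rw [altBetti_eq_zero_of_notMem k r ℳ F m n hn, zero_mul]
  have h3 : ∑ᶠ n : ℤ, (if n < j then altBetti k r ℳ F m n * ((Nat.choose (r + (j - n).toNat) r : ℕ) : ℤ)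
        else 0) = ∑ n ∈ insert j (degSet k r ℳ F m),
        (if n < j then altBetti k r ℳ F m n * ((Nat.choose (r + (j - n).toNat) r : ℕ) : ℤ) else 0) := by
    apply finsum_eq_sum_of_support_subset
    intro n hn
    rw [Function.mem_support] at hn
    by_contra hmem
    apply hn
    have hn' : n ∉ degSet k r ℳ F m := fun h => hmem (Finset.mem_insert_of_mem h)
    rw [altBetti_eq_zero_of_notMem k r ℳ F m n hn', zero_mul, ite_self]
  rw [h1, h2, h3, ← Finset.sum_sub_distrib]
  rw [Finset.sum_eq_single j]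
  · rw [binom_self, mul_one, if_neg (lt_irrefl j), sub_zero]
  · intro n _ hne
    rcases lt_or_gt_of_ne hne with h | h
    · rw [if_pos h, binom_of_lt' r j n h, sub_self]
    · rw [if_neg (by omega), binom_of_lt r j n h, mul_zero, sub_zero]
  · intro h
    exact absurd (Finset.mem_insert_self _ _) h

end Groth.Agent.Lib.Helper66.GrHilb
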