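import Mathlib

/-!
# Local structure of inertia (helper66)

`B` a local ring, `Γ` a group of automorphisms acting trivially on the residue field `k` and
stabilising every principal ideal.  For `b ≠ 0` we get a character `χ_b : Γ →* k`,
`γ • b = b * u ↦ u mod m`.
-/

set_option autoImplicit false
universe u v

namespace Groth.Agent.Lib.Helper66.InertiaLocal

open IsLocalRing

section
variable {B : Type u} [CommRing B] [IsLocalRing B] {Γ : Type v} [Group Γ] [MulSemiringAction Γ B]

theorem residue_eq_iff (a b : B) : residue B a = residue B b ↔ a - b ∈ maximalIdeal B := by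
  rw [← sub_eq_zero, ← map_sub, residue_eq_zero_iff]

theorem smul_mem_maximalIdeal (hin : ∀ (γ : Γ) (b : B), γ • b - b ∈ maximalIdeal B)
    (γ : Γ) {x : B} (hx : x ∈ maximalIdeal B) : γ • x ∈ maximalIdeal B := by
  have : γ • x = (γ • x - x) + x := by ring
  rw [this]
  exact add_mem (hin γ x) hx

theorem residue_smul (hin : ∀ (γ : Γ) (b : B), γ • b - b ∈ maximalIdeal B) (γ : Γ) (b : B) :
    residue B (γ • b) = residue B b :=
  (residue_eq_iff _ _).mpr (hin γ b)

/-- The underlying function of the character `χ_b`. -/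
noncomputable def chiFun (hst : ∀ (γ : Γ) (b : B), ∃ u : B, γ • b = b * u) (b : B) (γ : Γ) :
    ResidueField B :=
  residue B (Classical.choose (hst γ b))

theorem chiFun_spec (hst : ∀ (γ : Γ) (b : B), ∃ u : B, γ • b = b * u) (b : B) (γ : Γ) :
    ∃ u : B, γ • b = b * u ∧ residue B u = chiFun hst b γ :=
  ⟨_, Classical.choose_spec (hst γ b), rfl⟩

theorem chiFun_eq (hst : ∀ (γ : Γ) (b : B), ∃ u : B, γ • b = b * u) {b : B} (hb : b ≠ 0) (γ : Γ)
    {u : B} (h : γ • b = b * u) : residue B u = chiFun hst b γ := by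
  obtain ⟨u₀, h₀, hu₀⟩ := chiFun_spec hst b γ
  rw [← hu₀, residue_eq_iff]
  by_contra hnot
  have hunit : IsUnit (u - u₀) := notMem_maximalIdeal.mp hnot
  have h1 : b * (u - u₀) = 0 := by rw [mul_sub, ← h, ← h₀, sub_self]
  exact hb (hunit.mul_left_eq_zero.mp h1)

/-- The character `χ_b : Γ →* k` for `b ≠ 0`. -/
noncomputable def chi (hin : ∀ (γ : Γ) (b : B), γ • b - b ∈ maximalIdeal B)
    (hst : ∀ (γ : Γ) (b : B), ∃ u : B, γ • b = b * u) (b : B) (hb : b ≠ 0) :
    Γ →* ResidueField B where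
  toFun := chiFun hst b
  map_one' := by
    rw [← chiFun_eq hst hb 1 (u := 1) (by simp), map_one]
  map_mul' := by
    intro γ δ
    obtain ⟨uγ, hγ, huγ⟩ := chiFun_spec hst b γ
    obtain ⟨uδ, hδ, huδ⟩ := chiFun_spec hst b δ
    rw [← chiFun_eq hst hb (γ * δ) (u := uγ * γ • uδ)
      (by rw [mul_smul, hδ, smul_mul', hγ, mul_assoc]), map_mul, residue_smul hin, huγ, huδ]

theorem chi_eq (hin : ∀ (γ : Γ) (b : B), γ • b - b ∈ maximalIdeal B)
    (hst : ∀ (γ : Γ) (b : B), ∃ u : B, γ • b = b * u) {b : B} (hb : b ≠ 0) (γ : Γ)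
    {u : B} (h : γ • b = b * u) : chi hin hst b hb γ = residue B u :=
  (chiFun_eq hst hb γ h).symm

theorem chi_spec (hin : ∀ (γ : Γ) (b : B), γ • b - b ∈ maximalIdeal B)
    (hst : ∀ (γ : Γ) (b : B), ∃ u : B, γ • b = b * u) {b : B} (hb : b ≠ 0) (γ : Γ) :
    ∃ u : B, γ • b = b * u ∧ residue B u = chi hin hst b hb γ :=
  chiFun_spec hst b γ

/-- Membership in the "wild" subset in terms of characters. -/
theorem wild_iff (hin : ∀ (γ : Γ) (b : B), γ • b - b ∈ maximalIdeal B)
    (hst : ∀ (γ : Γ) (b : B), ∃ u : B, γ • b = b * u) (γ : Γ) :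
    (∀ b : B, ∃ x ∈ maximalIdeal B, γ • b = b + b * x) ↔
      ∀ (b : B) (hb : b ≠ 0), chi hin hst b hb γ = 1 := by
  constructor
  · intro h b hb
    obtain ⟨x, hx, hbx⟩ := h b
    rw [chi_eq hin hst hb γ (u := 1 + x) (by rw [hbx]; ring), ← map_one (residue B),
      residue_eq_iff]
    simpa using hx
  · intro h b
    by_cases hb : b = 0
    · exact ⟨0, zero_mem _, by simp [hb]⟩
    · obtain ⟨u, hu, hu1⟩ := chi_spec hin hst hb γ
      rw [h b hb, ← map_one (residue B), residue_eq_iff] at hu1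
      exact ⟨u - 1, hu1, by rw [hu]; ring⟩

/-- The wild inertia subgroup. -/
noncomputable def wild (hin : ∀ (γ : Γ) (b : B), γ • b - b ∈ maximalIdeal B)
    (hst : ∀ (γ : Γ) (b : B), ∃ u : B, γ • b = b * u) : Subgroup Γ :=
  ⨅ b : {b : B // b ≠ 0}, (chi hin hst b.1 b.2).ker

instance wild_normal (hin : ∀ (γ : Γ) (b : B), γ • b - b ∈ maximalIdeal B)
    (hst : ∀ (γ : Γ) (b : B), ∃ u : B, γ • b = b * u) : (wild hin hst).Normal :=
  Subgroup.normal_iInf_normal fun _ => inferInstance

theorem mem_wild_iff (hin : ∀ (γ : Γ) (b : B), γ • b - b ∈ maximalIdeal B)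
    (hst : ∀ (γ : Γ) (b : B), ∃ u : B, γ • b = b * u) (γ : Γ) :
    γ ∈ wild hin hst ↔ ∀ (b : B) (hb : b ≠ 0), chi hin hst b hb γ = 1 := by
  simp only [wild, Subgroup.mem_iInf, MonoidHom.mem_ker, Subtype.forall]

theorem mem_wild_iff' (hin : ∀ (γ : Γ) (b : B), γ • b - b ∈ maximalIdeal B)
    (hst : ∀ (γ : Γ) (b : B), ∃ u : B, γ • b = b * u) (γ : Γ) :
    γ ∈ wild hin hst ↔ ∀ b : B, ∃ x ∈ maximalIdeal B, γ • b = b + b * x :=
  (mem_wild_iff hin hst γ).trans (wild_iff hin hst γ).symm

/-- Commutators are wild. -/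
theorem commutator_mem_wild (hin : ∀ (γ : Γ) (b : B), γ • b - b ∈ maximalIdeal B)
    (hst : ∀ (γ : Γ) (b : B), ∃ u : B, γ • b = b * u) (γ δ : Γ) :
    γ * δ * γ⁻¹ * δ⁻¹ ∈ wild hin hst := by
  rw [mem_wild_iff]
  intro b hb
  rw [map_mul, map_mul, map_mul, mul_right_comm ((chi hin hst b hb) γ), ← map_mul, mul_inv_cancel,
    map_one, one_mul, ← map_mul, mul_inv_cancel, map_one]


/-- Trace lemma: a wild element of order dividing `m`, with `m` invertible in `B`, acts trivially. -/
theorem smul_eq_of_pow_eq_one (γ : Γ) (m : ℕ) (hm : IsUnit (m : B)) (hγm : γ ^ m = 1)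
    (hγ : ∀ (i : ℕ) (b : B), ∃ x ∈ maximalIdeal B, γ ^ i • b = b + b * x) (c : B) :
    γ • c = c := by
  classical
  let tr : B → B := fun c => ∑ i ∈ Finset.range m, γ ^ i • c
  have hnat : ∀ g : Γ, g • (m : B) = m := fun g =>
    map_natCast (MulSemiringAction.toRingHom Γ B g) m
  have htr_inv : ∀ c, γ • tr c = tr c := by
    intro c
    have h1 : γ • tr c = ∑ i ∈ Finset.range m, γ ^ (i + 1) • c := by
      simp only [tr, Finset.smul_sum]
      refine Finset.sum_congr rfl fun i _ => ?_
      rw [← mul_smul, ← pow_succ']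
    have h2 := Finset.sum_range_succ' (fun i => γ ^ i • c) m
    have h3 := Finset.sum_range_succ (fun i => γ ^ i • c) m
    rw [h3] at h2
    simp only [hγm, pow_zero, one_smul] at h2
    rw [h1]
    exact (add_right_cancel h2).symm
  have htr_pow : ∀ (i : ℕ) (c : B), γ ^ i • tr c = tr c := by
    intro i c
    induction i with
    | zero => simp
    | succ i ih => rw [pow_succ', mul_smul, ih, htr_inv]
  have htr_unit : ∀ c, ∃ U : B, IsUnit U ∧ tr c = c * U := by
    intro c
    choose x hx hxc using fun i => hγ i c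
    refine ⟨(m : B) + ∑ i ∈ Finset.range m, x i, ?_, ?_⟩
    · rw [← notMem_maximalIdeal]
      intro hmem
      have hsum : ∑ i ∈ Finset.range m, x i ∈ maximalIdeal B := sum_mem fun i _ => hx i
      have : (m : B) ∈ maximalIdeal B := by
        have h := sub_mem hmem hsum
        simpa using h
      exact notMem_maximalIdeal.mpr hm this
    · simp only [tr, hxc, Finset.sum_add_distrib, Finset.sum_const, Finset.card_range,
        nsmul_eq_mul, ← Finset.mul_sum]
      ring
  have htr_sub : ∀ a b, tr (a - b) = tr a - tr b := by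
    intro a b
    simp only [tr, smul_sub, Finset.sum_sub_distrib]
  have htr_nat : ∀ c, tr ((m : B) * c) = (m : B) * tr c := by
    intro c
    simp only [tr, smul_mul', Finset.mul_sum]
    refine Finset.sum_congr rfl fun i _ => ?_
    rw [hnat]
  have htr_tr : ∀ c, tr (tr c) = (m : B) * tr c := by
    intro c
    have : tr (tr c) = ∑ i ∈ Finset.range m, tr c :=
      Finset.sum_congr rfl fun i _ => htr_pow i c
    rw [this, Finset.sum_const, Finset.card_range, nsmul_eq_mul]
  -- `c' = m c - tr c` has trace zero, hence vanishes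
  have hc' : (m : B) * c - tr c = 0 := by
    obtain ⟨U, hU, hUc⟩ := htr_unit ((m : B) * c - tr c)
    have h0 : tr ((m : B) * c - tr c) = 0 := by
      rw [htr_sub, htr_nat, htr_tr, sub_self]
    rw [h0] at hUc
    exact hU.mul_left_eq_zero.mp hUc.symm
  have h4 : (m : B) * c = tr c := sub_eq_zero.mp hc'
  have h5 : γ • ((m : B) * c) = (m : B) * c := by rw [h4, htr_inv]
  rw [smul_mul', hnat] at h5
  exact hm.mul_left_cancel h5

/-- A natural number that is nonzero in the residue field is a unit. -/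
theorem isUnit_natCast_of_residue_ne_zero (m : ℕ) (h : (m : ResidueField B) ≠ 0) :
    IsUnit (m : B) := by
  rw [← notMem_maximalIdeal]
  intro hmem
  apply h
  have := (residue_eq_zero_iff (m : B)).mpr hmem
  simpa using this

end

end Groth.Agent.Lib.Helper66.InertiaLocal
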