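import Mathlib
import Groth.Agent.Lib.Helper66.InertiaLocal

/-!
# Local structure of inertia, part 2 (helper66)
-/

set_option autoImplicit false
universe u v

namespace Groth.Agent.Lib.Helper66.InertiaLocal

open IsLocalRing

section
variable {B : Type u} [CommRing B] [IsLocalRing B] {Γ : Type v} [Group Γ] [Finite Γ]
  [MulSemiringAction Γ B] [FaithfulSMul Γ B]
  (hin : ∀ (γ : Γ) (b : B), γ • b - b ∈ maximalIdeal B)
  (hst : ∀ (γ : Γ) (b : B), ∃ u : B, γ • b = b * u)

include hin hst in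
/-- A wild element of order prime to the residue characteristic is trivial. -/
theorem eq_one_of_mem_wild (γ : Γ) (hγ : γ ∈ wild hin hst) (m : ℕ)
    (hm : (m : ResidueField B) ≠ 0) (hγm : γ ^ m = 1) : γ = 1 := by
  apply FaithfulSMul.eq_of_smul_eq_smul (α := B)
  intro c
  rw [one_smul]
  exact smul_eq_of_pow_eq_one γ m (isUnit_natCast_of_residue_ne_zero m hm) hγm
    (fun i b => (mem_wild_iff' hin hst (γ ^ i)).mp (pow_mem hγ i) b) c

theorem wild_eq_bot_of_char_zero (h0 : ringChar (ResidueField B) = 0) : wild hin hst = ⊥ := by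
  rw [eq_bot_iff]
  intro γ hγ
  rw [Subgroup.mem_bot]
  have hchar : CharP (ResidueField B) 0 := h0 ▸ ringChar.charP _
  apply eq_one_of_mem_wild hin hst γ hγ (orderOf γ) _ (pow_orderOf_eq_one γ)
  rw [Ne, CharP.cast_eq_zero_iff (ResidueField B) 0, zero_dvd_iff]
  exact (orderOf_pos γ).ne'

theorem isPGroup_wild (p : ℕ) [Fact p.Prime] (hp : ringChar (ResidueField B) = p) :
    IsPGroup p (wild hin hst) := by
  intro g
  obtain ⟨e, m, hpm, hem⟩ := Nat.exists_eq_pow_mul_and_not_dvd (orderOf_pos (g : Γ)).ne' p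
    (Fact.out : p.Prime).ne_one
  refine ⟨e, Subtype.ext ?_⟩
  rw [Subgroup.coe_pow, Subgroup.coe_one]
  have hchar : CharP (ResidueField B) p := hp ▸ ringChar.charP _
  apply eq_one_of_mem_wild hin hst _ (pow_mem g.2 _) m
  · rw [Ne, CharP.cast_eq_zero_iff (ResidueField B) p]
    exact hpm
  · rw [← pow_mul, ← hem, pow_orderOf_eq_one]

theorem not_dvd_index_wild (p : ℕ) [Fact p.Prime] (hp : ringChar (ResidueField B) = p) :
    ¬ p ∣ (wild hin hst).index := by
  intro hdvd
  have hchar : CharP (ResidueField B) p := hp ▸ ringChar.charP _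
  rw [Subgroup.index_eq_card] at hdvd
  obtain ⟨g, hg⟩ := exists_prime_orderOf_dvd_card' (G := Γ ⧸ wild hin hst) p hdvd
  obtain ⟨γ, rfl⟩ := QuotientGroup.mk_surjective g
  have h1 : γ ^ p ∈ wild hin hst := by
    rw [← QuotientGroup.eq_one_iff, QuotientGroup.mk_pow, ← hg, pow_orderOf_eq_one]
  have h2 : γ ∉ wild hin hst := by
    intro h
    rw [← QuotientGroup.eq_one_iff] at h
    rw [h, orderOf_one] at hg
    exact (Fact.out : p.Prime).ne_one hg.symm
  apply h2
  rw [mem_wild_iff] at h1 ⊢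
  intro b hb
  have h3 := h1 b hb
  rw [map_pow] at h3
  have h4 : (chi hin hst b hb γ - 1) ^ p = 0 := by
    rw [sub_pow_char, h3, one_pow, sub_self]
  exact sub_eq_zero.mp ((pow_eq_zero_iff (Fact.out : p.Prime).ne_zero).mp h4)

theorem exists_primitiveRoot (γ : Γ) (n : ℕ) (hn : 0 < n) (hγn : γ ^ n ∈ wild hin hst)
    (hmin : ∀ i : ℕ, 0 < i → i < n → γ ^ i ∉ wild hin hst) :
    ∃ ζ : ResidueField B, IsPrimitiveRoot ζ n := by
  classical
  have hpow : ∀ (b : B) (hb : b ≠ 0), (chi hin hst b hb γ) ^ n = 1 := fun b hb => by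
    rw [← map_pow]
    exact (mem_wild_iff hin hst _).mp hγn b hb
  let z : {b : B // b ≠ 0} → (ResidueField B)ˣ := fun b =>
    Units.ofPowEqOne _ n (hpow b.1 b.2) hn.ne'
  let Z : Subgroup (ResidueField B)ˣ := Subgroup.closure (Set.range z)
  have hZle : Z ≤ rootsOfUnity n (ResidueField B) := by
    rw [Subgroup.closure_le]
    rintro _ ⟨b, rfl⟩
    rw [SetLike.mem_coe, mem_rootsOfUnity]
    ext
    simp [z, hpow]
  haveI : NeZero n := ⟨hn.ne'⟩
  have : Finite Z :=
    Finite.of_injective (Subgroup.inclusion hZle) (Subgroup.inclusion_injective hZle)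
  obtain ⟨ζ, hζ⟩ := IsCyclic.exists_generator (α := Z)
  have he_pos : 0 < orderOf ζ := orderOf_pos ζ
  have hall : ∀ w : Z, w ^ orderOf ζ = 1 := by
    intro w
    obtain ⟨j, rfl⟩ := Subgroup.mem_zpowers_iff.mp (hζ w)
    rw [← zpow_natCast, ← zpow_mul, mul_comm, zpow_mul, zpow_natCast, pow_orderOf_eq_one,
      one_zpow]
  have hen : orderOf ζ ∣ n := by
    apply orderOf_dvd_of_pow_eq_one
    have := hZle ζ.2
    rw [mem_rootsOfUnity] at this
    exact Subtype.ext (by simpa using this)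
  have hγe : γ ^ orderOf ζ ∈ wild hin hst := by
    rw [mem_wild_iff]
    intro b hb
    rw [map_pow]
    have h1 := hall ⟨z ⟨b, hb⟩, Subgroup.subset_closure ⟨_, rfl⟩⟩
    have h2 := congrArg (fun w : Z => ((w : (ResidueField B)ˣ) : ResidueField B)) h1
    simpa [z] using h2
  have hee : orderOf ζ = n := by
    by_contra hne
    have hlt : orderOf ζ < n := lt_of_le_of_ne (Nat.le_of_dvd hn hen) hne
    exact hmin _ he_pos hlt hγe
  refine ⟨((ζ : (ResidueField B)ˣ) : ResidueField B), ?_⟩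
  have h3 : orderOf ((ζ : (ResidueField B)ˣ) : ResidueField B) = n := by
    rw [← hee, orderOf_units, Subgroup.orderOf_coe]
  rw [← h3]
  exact IsPrimitiveRoot.orderOf _

end

end Groth.Agent.Lib.Helper66.InertiaLocal
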