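import Mathlib

/-!
# Trace-one elements and tame primes (helper66)

For a finite group `Γ` acting on a commutative ring `B` and an ideal `P` of `B`, the monoid
homomorphisms `ψ_γ : b ↦ γ • b mod P` have fibres (in `γ`) the right cosets of the inertia group.
Hence `tr b mod P = |T| * Σ_{ψ} ψ b` over the distinct `ψ`'s; Dedekind independence then controls
whether all traces lie in `P`.
-/

set_option autoImplicit false
universe u v

namespace Groth.Agent.Lib.Helper66.TraceTame

section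
variable {B : Type u} [CommRing B] {Γ : Type v} [Group Γ] [MulSemiringAction Γ B]

/-- `b ↦ γ • b mod P` as a monoid hom. -/
def psi (P : Ideal B) (γ : Γ) : B →* B ⧸ P :=
  (((Ideal.Quotient.mk P).comp (MulSemiringAction.toRingHom Γ B γ) : B →+* B ⧸ P) : B →* B ⧸ P)

@[simp] theorem psi_apply (P : Ideal B) (γ : Γ) (b : B) :
    psi P γ b = Ideal.Quotient.mk P (γ • b) := rfl

theorem psi_eq_iff (P : Ideal B) (γ γ' : Γ) :
    psi P γ = psi P γ' ↔ γ * γ'⁻¹ ∈ P.inertia Γ := by
  constructor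
  · intro h x
    have := DFunLike.congr_fun h (γ'⁻¹ • x)
    simp only [psi_apply, smul_inv_smul] at this
    rw [Ideal.Quotient.eq] at this
    rw [mul_smul]
    exact this
  · intro h
    ext b
    have := h (γ' • b)
    rw [mul_smul, inv_smul_smul] at this
    simp only [psi_apply]
    rw [Ideal.Quotient.eq]
    exact this

theorem card_fiber [Fintype Γ] (P : Ideal B) [DecidableEq (B →* B ⧸ P)] (γ' : Γ) :
    (Finset.univ.filter (fun γ : Γ => psi P γ = psi P γ')).card = Nat.card (P.inertia Γ) := by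
  classical
  rw [← Fintype.card_subtype, ← Nat.card_eq_fintype_card]
  apply Nat.card_congr
  exact
    { toFun := fun γ => ⟨γ.1 * γ'⁻¹, (psi_eq_iff P _ _).mp γ.2⟩
      invFun := fun τ => ⟨τ.1 * γ', (psi_eq_iff P _ _).mpr (by simp)⟩
      left_inv := fun γ => by ext; simp
      right_inv := fun τ => by ext; simp }

theorem mk_trace [Fintype Γ] (P : Ideal B) [DecidableEq (B →* B ⧸ P)] (b : B) :
    Ideal.Quotient.mk P (∑ γ : Γ, γ • b) =
      (Nat.card (P.inertia Γ) : B ⧸ P) * ∑ ψ ∈ Finset.univ.image (psi (Γ := Γ) P), ψ b := by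
  rw [map_sum]
  have h1 : ∑ γ : Γ, Ideal.Quotient.mk P (γ • b) = ∑ γ : Γ, (fun ψ : B →* B ⧸ P => ψ b) (psi P γ) :=
    rfl
  rw [h1, Finset.sum_comp (fun ψ : B →* B ⧸ P => ψ b) (psi (Γ := Γ) P), Finset.mul_sum]
  refine Finset.sum_congr rfl fun ψ hψ => ?_
  obtain ⟨γ', -, rfl⟩ := Finset.mem_image.mp hψ
  rw [card_fiber P γ', nsmul_eq_mul]

/-- If no element has trace one, all traces lie in a common prime (even maximal) ideal. -/
theorem exists_prime_of_forall_trace_ne_one [Fintype Γ] (hcon : ∀ b : B, ∑ γ : Γ, γ • b ≠ 1) :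
    ∃ P : Ideal B, P.IsPrime ∧ ∀ b : B, ∑ γ : Γ, γ • b ∈ P := by
  classical
  let A : Subring B := FixedPoints.subring B Γ
  have : Algebra.IsInvariant A B Γ := ⟨fun b hb => ⟨⟨b, hb⟩, rfl⟩⟩
  have : Algebra.IsIntegral A B := Algebra.IsInvariant.isIntegral A B Γ
  have trmem : ∀ b : B, ∑ γ : Γ, γ • b ∈ A := by
    intro b g
    rw [Finset.smul_sum]
    exact Fintype.sum_equiv (Equiv.mulLeft g) _ _ (fun x => by simp [mul_smul])
  let trA : B →ₗ[A] A :=
    { toFun := fun b => ⟨∑ γ : Γ, γ • b, trmem b⟩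
      map_add' := fun b b' => by
        ext
        simp [smul_add, Finset.sum_add_distrib]
      map_smul' := fun a b => by
        ext
        have ha : ∀ γ : Γ, γ • (a : B) = a := fun γ => a.2 γ
        simp [Subring.smul_def, smul_mul', ha, Finset.mul_sum] }
  let I : Ideal A := LinearMap.range trA
  have hI : I ≠ ⊤ := by
    intro htop
    have h1 : (1 : A) ∈ I := htop ▸ Submodule.mem_top
    obtain ⟨b, hb⟩ := h1
    exact hcon b (congrArg Subtype.val hb)
  obtain ⟨𝔮, h𝔮max, hI𝔮⟩ := Ideal.exists_le_maximal I hI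
  have hker : RingHom.ker (algebraMap A B) ≤ 𝔮 := by
    intro a ha
    have : a = 0 := Subtype.ext (by simpa using ha)
    rw [this]
    exact zero_mem _
  obtain ⟨Q, hQmax, hQ⟩ := Ideal.exists_ideal_over_maximal_of_isIntegral 𝔮 hker
  refine ⟨Q, hQmax.isPrime, fun b => ?_⟩
  have hb : trA b ∈ 𝔮 := hI𝔮 ⟨b, rfl⟩
  rw [← hQ] at hb
  exact hb

end

end Groth.Agent.Lib.Helper66.TraceTame
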