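import Mathlib
import Groth.Agent.Lib.Helper66.TraceTame

/-!
# The inertia ring and separability of its residue field (helper66)

`Γ` a finite group acting on a commutative ring `B`, `P` a maximal ideal, `D` the decomposition group,
`T` the inertia group.  We set up the action of `D ⧸ T` on `B^T`, show that the inertia group of
`P ∩ B^T` in `D ⧸ T` is trivial, and deduce (trace argument + Dedekind independence) that an element of
`B^T` which is `D`-invariant modulo `P` is congruent to a `D`-invariant element.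
-/

set_option autoImplicit false
universe u v

namespace Groth.Agent.Lib.Helper66.InertiaSep

open Polynomial

section
variable {B : Type u} [CommRing B] {Γ : Type v} [Group Γ] [MulSemiringAction Γ B]

/-- The decomposition group of an ideal, as a subgroup. -/
def decomp (P : Ideal B) : Subgroup Γ where
  carrier := {γ | ∀ y : B, y ∈ P ↔ γ • y ∈ P}
  one_mem' := by intro y; simp
  mul_mem' := by
    intro a b ha hb y
    rw [mul_smul]
    exact (hb y).trans (ha _)
  inv_mem' := by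
    intro a ha y
    have := ha (a⁻¹ • y)
    rw [smul_inv_smul] at this
    exact this.symm

theorem mem_decomp (P : Ideal B) (γ : Γ) :
    γ ∈ decomp (Γ := Γ) P ↔ ∀ y : B, y ∈ P ↔ γ • y ∈ P := Iff.rfl

theorem inertia_le_decomp (P : Ideal B) : P.inertia Γ ≤ decomp (Γ := Γ) P := by
  intro τ hτ y
  have h := hτ y
  change τ • y - y ∈ P at h
  constructor
  · intro hy
    have : τ • y = (τ • y - y) + y := by ring
    rw [this]
    exact add_mem h hy
  · intro hy
    have : y = τ • y - (τ • y - y) := by ring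
    rw [this]
    exact sub_mem hy h

theorem conj_mem_inertia (P : Ideal B) {δ τ : Γ} (hδ : δ ∈ decomp (Γ := Γ) P)
    (hτ : τ ∈ P.inertia Γ) : δ * τ * δ⁻¹ ∈ P.inertia Γ := by
  intro x
  change (δ * τ * δ⁻¹) • x - x ∈ P
  have h := hτ (δ⁻¹ • x)
  change τ • δ⁻¹ • x - δ⁻¹ • x ∈ P at h
  have h2 := ((mem_decomp P δ).mp hδ _).mp h
  rw [smul_sub, smul_inv_smul] at h2
  rw [mul_smul, mul_smul]
  exact h2

/-- The inertia group as a subgroup of the decomposition group. -/
abbrev H (P : Ideal B) : Subgroup (decomp (Γ := Γ) P) := P.inertia (decomp (Γ := Γ) P)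

theorem mem_H_iff (P : Ideal B) (δ : decomp (Γ := Γ) P) : δ ∈ H P ↔ (δ : Γ) ∈ P.inertia Γ :=
  Iff.rfl

instance normal_H (P : Ideal B) : (H (Γ := Γ) P).Normal := by
  constructor
  intro τ hτ δ
  rw [mem_H_iff] at hτ ⊢
  exact conj_mem_inertia P δ.2 hτ

/-- The inertia ring `B^T`. -/
abbrev S (P : Ideal B) : Subring B := FixedPoints.subring B (H (Γ := Γ) P)

theorem mem_S_iff (P : Ideal B) (y : B) :
    y ∈ S (Γ := Γ) P ↔ ∀ γ : Γ, γ ∈ P.inertia Γ → γ • y = y := by
  constructor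
  · intro h γ hγ
    exact h ⟨⟨γ, inertia_le_decomp P hγ⟩, hγ⟩
  · intro h τ
    exact h (τ : decomp (Γ := Γ) P) τ.2

theorem smul_mem_S (P : Ideal B) {δ : Γ} (hδ : δ ∈ decomp (Γ := Γ) P) {y : B}
    (hy : y ∈ S (Γ := Γ) P) : δ • y ∈ S (Γ := Γ) P := by
  rw [mem_S_iff] at hy ⊢
  intro γ hγ
  have h1 : δ⁻¹ * γ * δ ∈ P.inertia Γ := by
    have := conj_mem_inertia P (inv_mem hδ) hγ
    rwa [inv_inv] at this
  have h2 := hy _ h1
  rw [mul_smul, mul_smul] at h2
  have h3 := congrArg (fun t => δ • t) h2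
  simpa using h3

theorem mk_smul_coe (P : Ideal B) (δ : decomp (Γ := Γ) P) (s : S (Γ := Γ) P) :
    (((QuotientGroup.mk δ : decomp (Γ := Γ) P ⧸ H (Γ := Γ) P) • s : S (Γ := Γ) P) : B) =
      (δ : Γ) • (s : B) := rfl


/-- For a tame prime, not all traces lie in the prime (Dedekind independence). -/
theorem exists_trace_notMem [Fintype Γ] (P : Ideal B) [P.IsPrime]
    (hT : ((Nat.card (P.inertia Γ) : ℕ) : B ⧸ P) ≠ 0) : ∃ b : B, ∑ γ : Γ, γ • b ∉ P := by
  classical
  by_contra hcon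
  push Not at hcon
  have hli := linearIndependent_monoidHom B (B ⧸ P)
  rw [linearIndependent_iff'] at hli
  have key : ∀ b : B, ∑ ψ ∈ Finset.univ.image (TraceTame.psi (Γ := Γ) P), ψ b = 0 := by
    intro b
    have h2 := TraceTame.mk_trace (Γ := Γ) P b
    rw [Ideal.Quotient.eq_zero_iff_mem.mpr (hcon b)] at h2
    exact (mul_eq_zero.mp h2.symm).resolve_left hT
  have h3 := hli (Finset.univ.image (TraceTame.psi (Γ := Γ) P))
    (fun _ => 1) (by ext b; simp [key b])
    (TraceTame.psi P 1) (Finset.mem_image_of_mem _ (Finset.mem_univ _))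
  exact one_ne_zero h3

theorem smul_trace [Fintype Γ] (g : Γ) (b : B) : g • ∑ h : Γ, h • b = ∑ h : Γ, h • b := by
  rw [Finset.smul_sum]
  exact Fintype.sum_equiv (Equiv.mulLeft g) _ _ (fun x => by simp [mul_smul])

/-- The inertia group of `P ∩ B^T` in `D ⧸ T` is trivial. -/
theorem inertia_comap_eq_bot [Finite Γ] (P : Ideal B) [P.IsPrime] :
    (P.comap (S (Γ := Γ) P).subtype).inertia (decomp (Γ := Γ) P ⧸ H (Γ := Γ) P) = ⊥ := by
  classical
  rw [eq_bot_iff]
  intro g hg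
  obtain ⟨δ, rfl⟩ := QuotientGroup.mk_surjective g
  rw [Subgroup.mem_bot, QuotientGroup.eq_one_iff, mem_H_iff]
  have hg' : ∀ s : B, s ∈ S (Γ := Γ) P → (δ : Γ) • s - s ∈ P := by
    intro s hs
    exact hg ⟨s, hs⟩
  intro x
  change (δ : Γ) • x - x ∈ P
  cases nonempty_fintype (H (Γ := Γ) P)
  let N : B[X] := MulSemiringAction.charpoly (H (Γ := Γ) P) x
  have hcoeff : ∀ i, N.coeff i ∈ S (Γ := Γ) P :=
    fun i τ => MulSemiringAction.smul_coeff_charpoly x i τ
  let φ : B →+* B ⧸ P := (Ideal.Quotient.mk P).comp (MulSemiringAction.toRingHom Γ B δ)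
  have hφ : ∀ b : B, φ b = Ideal.Quotient.mk P ((δ : Γ) • b) := fun b => rfl
  have hmap : N.map φ = N.map (Ideal.Quotient.mk P) := by
    ext i
    rw [coeff_map, coeff_map, hφ, Ideal.Quotient.eq]
    exact hg' _ (hcoeff i)
  have h1 : (N.map φ).eval (φ x) = 0 := by
    simp only [N, MulSemiringAction.charpoly_eq, Polynomial.map_prod, Polynomial.map_sub, map_X,
      map_C, eval_prod, eval_sub, eval_X, eval_C]
    apply Finset.prod_eq_zero (Finset.mem_univ (1 : H (Γ := Γ) P))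
    rw [one_smul, sub_self]
  have h2 : (N.map (Ideal.Quotient.mk P)).eval (φ x) =
      (φ x - Ideal.Quotient.mk P x) ^ Fintype.card (H (Γ := Γ) P) := by
    simp only [N, MulSemiringAction.charpoly_eq, Polynomial.map_prod, Polynomial.map_sub, map_X,
      map_C, eval_prod, eval_sub, eval_X, eval_C]
    rw [← Finset.card_univ, ← Finset.prod_const]
    refine Finset.prod_congr rfl fun τ _ => ?_
    congr 1
    rw [Ideal.Quotient.eq]
    exact τ.2 x
  rw [hmap, h2] at h1
  have h3 := pow_eq_zero_iff (Fintype.card_ne_zero) |>.mp h1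
  rw [sub_eq_zero, hφ] at h3
  exact Ideal.Quotient.eq.mp h3

/-- An element of `B^T` which is `D`-invariant modulo `P` is congruent to a `D`-invariant element. -/
theorem exists_decomp_invariant [Finite Γ] (P : Ideal B) [P.IsMaximal] (z : B)
    (hzT : ∀ γ : Γ, γ ∈ P.inertia Γ → γ • z = z)
    (hzD : ∀ δ : Γ, δ ∈ decomp (Γ := Γ) P → δ • z - z ∈ P) :
    ∃ a : B, (∀ δ : Γ, δ ∈ decomp (Γ := Γ) P → δ • a = a) ∧ z - a ∈ P := by
  classical
  have hPprime : P.IsPrime := Ideal.IsMaximal.isPrime inferInstance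
  cases nonempty_fintype (decomp (Γ := Γ) P ⧸ H (Γ := Γ) P)
  have hprime' : (P.comap (S (Γ := Γ) P).subtype).IsPrime := Ideal.comap_isPrime _ _
  have hT : ((Nat.card ((P.comap (S (Γ := Γ) P).subtype).inertia
      (decomp (Γ := Γ) P ⧸ H (Γ := Γ) P)) : ℕ) :
      S (Γ := Γ) P ⧸ (P.comap (S (Γ := Γ) P).subtype)) ≠ 0 := by
    rw [inertia_comap_eq_bot P, Subgroup.card_bot]
    simp
  obtain ⟨b, hb⟩ := exists_trace_notMem (Γ := decomp (Γ := Γ) P ⧸ H (Γ := Γ) P)
    (P.comap (S (Γ := Γ) P).subtype) hT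
  let zS : S (Γ := Γ) P := ⟨z, (mem_S_iff P z).mpr hzT⟩
  let u : S (Γ := Γ) P := ∑ g : decomp (Γ := Γ) P ⧸ H (Γ := Γ) P, g • b
  let a₀ : S (Γ := Γ) P := ∑ g : decomp (Γ := Γ) P ⧸ H (Γ := Γ) P, g • (b * zS)
  have huD : ∀ δ : Γ, δ ∈ decomp (Γ := Γ) P → δ • (u : B) = u := fun δ hδ =>
    congrArg Subtype.val (smul_trace (QuotientGroup.mk ⟨δ, hδ⟩ :
      decomp (Γ := Γ) P ⧸ H (Γ := Γ) P) b)
  have ha₀D : ∀ δ : Γ, δ ∈ decomp (Γ := Γ) P → δ • (a₀ : B) = a₀ := fun δ hδ =>
    congrArg Subtype.val (smul_trace (QuotientGroup.mk ⟨δ, hδ⟩ :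
      decomp (Γ := Γ) P ⧸ H (Γ := Γ) P) (b * zS))
  have hu : (u : B) ∉ P := hb
  have hcong : (a₀ : B) - u * z ∈ P := by
    have h1 : a₀ - u * zS = ∑ g : decomp (Γ := Γ) P ⧸ H (Γ := Γ) P, (g • b) * (g • zS - zS) := by
      simp only [a₀, u, Finset.sum_mul, smul_mul', mul_sub, Finset.sum_sub_distrib]
    have h2 : a₀ - u * zS ∈ P.comap (S (Γ := Γ) P).subtype := by
      rw [h1]
      refine sum_mem fun g _ => Ideal.mul_mem_left _ _ ?_
      obtain ⟨δ, rfl⟩ := QuotientGroup.mk_surjective g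
      exact hzD δ δ.2
    exact h2
  -- invert `u` modulo `P` inside `B^D`
  let A' : Subring B := FixedPoints.subring B (decomp (Γ := Γ) P)
  have : Algebra.IsInvariant A' B (decomp (Γ := Γ) P) := ⟨fun b hb => ⟨⟨b, hb⟩, rfl⟩⟩
  have : Algebra.IsIntegral A' B := Algebra.IsInvariant.isIntegral A' B (decomp (Γ := Γ) P)
  have hmax : (P.comap (algebraMap A' B)).IsMaximal :=
    Ideal.isMaximal_comap_of_isIntegral_of_isMaximal P
  let uA : A' := ⟨u, fun δ => huD δ δ.2⟩
  have huA : uA ∉ P.comap (algebraMap A' B) := hu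
  obtain ⟨v, i, hi, hvi⟩ := hmax.exists_inv huA
  have hvD : ∀ δ : Γ, δ ∈ decomp (Γ := Γ) P → δ • (v : B) = v := fun δ hδ => v.2 ⟨δ, hδ⟩
  have hvu : (v : B) * u - 1 ∈ P := by
    have h1 : (v : B) * u - 1 = -(i : B) := by
      have := congrArg Subtype.val hvi
      simp only [Subring.coe_add, Subring.coe_mul, Subring.coe_one] at this
      rw [← this]
      simp [uA]
    rw [h1]
    exact neg_mem hi
  refine ⟨v * a₀, fun δ hδ => by rw [smul_mul', hvD δ hδ, ha₀D δ hδ], ?_⟩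
  have h3 : z - v * a₀ = -((v : B) * (a₀ - u * z) + (v * u - 1) * z) := by ring
  rw [h3]
  exact neg_mem (add_mem (Ideal.mul_mem_left _ _ hcong) (Ideal.mul_mem_right _ _ hvu))

end

end Groth.Agent.Lib.Helper66.InertiaSep
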