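import Mathlib
import Groth.Agent.Lib.Helper66.InertiaSep

/-!
# The inertia ring and separability of its residue field, part 2 (helper66)
-/

set_option autoImplicit false
universe u v

namespace Groth.Agent.Lib.Helper66.InertiaSep

open Polynomial

section
variable {B : Type u} [CommRing B] {Γ : Type v} [Group Γ] [MulSemiringAction Γ B]

/-- If `x mod P` is a root of a polynomial with `T`-invariant coefficients that is separable mod `P`,
then `x` is congruent mod `P` to a `T`-invariant element. -/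
theorem exists_invariant_of_separable [Finite Γ] (P : Ideal B) [P.IsMaximal] (x : B)
    (g : Polynomial B)
    (hg : ∀ (i : ℕ) (γ : Γ), γ ∈ P.inertia Γ → γ • g.coeff i = g.coeff i)
    (hsep : (g.map (Ideal.Quotient.mk P)).Separable) (hroot : Polynomial.aeval x g ∈ P) :
    ∃ y : B, (∀ γ : Γ, γ ∈ P.inertia Γ → γ • y = y) ∧ x - y ∈ P := by
  classical
  cases nonempty_fintype (H (Γ := Γ) P)
  let S' : Subring B := S (Γ := Γ) P
  have : Algebra.IsInvariant S' B (H (Γ := Γ) P) := ⟨fun b hb => ⟨⟨b, hb⟩, rfl⟩⟩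
  have : Algebra.IsIntegral S' B := Algebra.IsInvariant.isIntegral S' B (H (Γ := Γ) P)
  let P' : Ideal S' := P.comap (algebraMap S' B)
  have hmax : P'.IsMaximal := Ideal.isMaximal_comap_of_isIntegral_of_isMaximal P
  let _ : Field (S' ⧸ P') := Ideal.Quotient.field P'
  let _ : Field (B ⧸ P) := Ideal.Quotient.field P
  -- compatibility of the quotient maps
  have hcomp : (algebraMap (S' ⧸ P') (B ⧸ P)).comp (Ideal.Quotient.mk P') =
      (Ideal.Quotient.mk P).comp (algebraMap S' B) := by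
    ext s; rfl
  -- lift `g` to `S'[X]`
  have hgl : g ∈ lifts (algebraMap S' B) := by
    rw [lifts_iff_coeff_lifts]
    intro i
    exact ⟨⟨g.coeff i, (mem_S_iff P _).mpr (hg i)⟩, rfl⟩
  obtain ⟨gS, hgS⟩ := (mem_lifts _).mp hgl
  let gK : (S' ⧸ P')[X] := gS.map (Ideal.Quotient.mk P')
  have hgK : gK.map (algebraMap (S' ⧸ P') (B ⧸ P)) = g.map (Ideal.Quotient.mk P) := by
    rw [Polynomial.map_map, hcomp, ← Polynomial.map_map, hgS]
  have hsepK : gK.Separable := by
    rw [← Polynomial.separable_map (algebraMap (S' ⧸ P') (B ⧸ P)), hgK]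
    exact hsep
  have hmk_eval : ∀ q : B[X], (q.map (Ideal.Quotient.mk P)).eval (Ideal.Quotient.mk P x) =
      Ideal.Quotient.mk P (q.eval x) := by
    intro q
    rw [Polynomial.eval_map, Polynomial.eval₂_at_apply]
  have hrootK : aeval (Ideal.Quotient.mk P x) gK = 0 := by
    rw [Polynomial.aeval_def, Polynomial.eval₂_eq_eval_map, hgK, hmk_eval]
    rw [Ideal.Quotient.eq_zero_iff_mem]
    simpa [Polynomial.aeval_def] using hroot
  -- the norm polynomial
  let N : B[X] := MulSemiringAction.charpoly (H (Γ := Γ) P) x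
  have hNl : N ∈ lifts (algebraMap S' B) := by
    rw [lifts_iff_coeff_lifts]
    intro i
    exact ⟨⟨N.coeff i, fun τ => MulSemiringAction.smul_coeff_charpoly x i τ⟩, rfl⟩
  obtain ⟨NS, hNS⟩ := (mem_lifts _).mp hNl
  let NK : (S' ⧸ P')[X] := NS.map (Ideal.Quotient.mk P')
  have hNmap : N.map (Ideal.Quotient.mk P) =
      (X - C (Ideal.Quotient.mk P x)) ^ Fintype.card (H (Γ := Γ) P) := by
    simp only [N, MulSemiringAction.charpoly_eq, Polynomial.map_prod, Polynomial.map_sub, map_X,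
      map_C]
    rw [← Finset.card_univ, ← Finset.prod_const]
    refine Finset.prod_congr rfl fun τ _ => ?_
    congr 2
    rw [Ideal.Quotient.eq]
    exact τ.2 x
  have hNK : NK.map (algebraMap (S' ⧸ P') (B ⧸ P)) =
      (X - C (Ideal.Quotient.mk P x)) ^ Fintype.card (H (Γ := Γ) P) := by
    rw [Polynomial.map_map, hcomp, ← Polynomial.map_map, hNS, hNmap]
  have hrootN : aeval (Ideal.Quotient.mk P x) NK = 0 := by
    rw [Polynomial.aeval_def, Polynomial.eval₂_eq_eval_map, hNK]
    simp [Fintype.card_ne_zero]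
  -- the minimal polynomial
  have hint : IsIntegral (S' ⧸ P') (Ideal.Quotient.mk P x) := by
    refine ⟨NK, ?_, hrootN⟩
    have h1 : (NK.map (algebraMap (S' ⧸ P') (B ⧸ P))).Monic := by
      rw [hNK]
      exact (monic_X_sub_C _).pow _
    exact Polynomial.monic_map_iff.mp h1
  set μ := minpoly (S' ⧸ P') (Ideal.Quotient.mk P x) with hμ
  have hμg : μ ∣ gK := minpoly.dvd _ _ hrootK
  have hμN : μ ∣ NK := minpoly.dvd _ _ hrootN
  have hμsep : μ.Separable := hsepK.of_dvd hμg
  have hμsq : Squarefree (μ.map (algebraMap (S' ⧸ P') (B ⧸ P))) := hμsep.map.squarefree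
  have hμdvd : μ.map (algebraMap (S' ⧸ P') (B ⧸ P)) ∣
      (X - C (Ideal.Quotient.mk P x)) ^ Fintype.card (H (Γ := Γ) P) := by
    rw [← hNK]
    exact Polynomial.map_dvd _ hμN
  obtain ⟨i, -, hi⟩ := (dvd_prime_pow (prime_X_sub_C (Ideal.Quotient.mk P x)) _).mp hμdvd
  have hi01 : i = 0 ∨ i = 1 := by
    have h1 : Squarefree ((X - C (Ideal.Quotient.mk P x)) ^ i) :=
      (hμsq.squarefree_of_dvd hi.symm.dvd)
    exact h1.eq_zero_or_one_of_pow_of_not_isUnit (prime_X_sub_C _).not_isUnit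
  have hdeg : μ.natDegree = i := by
    have h1 := natDegree_eq_of_degree_eq (degree_eq_degree_of_associated hi)
    rw [Polynomial.natDegree_map, natDegree_pow, natDegree_X_sub_C, mul_one] at h1
    exact h1
  have hpos : 0 < μ.natDegree := minpoly.natDegree_pos hint
  have hone : μ.natDegree = 1 := by
    rcases hi01 with h | h
    · omega
    · omega
  have hdeg1 : μ.degree = 1 := by
    rw [Polynomial.degree_eq_natDegree (minpoly.ne_zero hint), hone]
    rfl
  obtain ⟨k₀, hk₀⟩ := minpoly.mem_range_of_degree_eq_one _ _ hdeg1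
  obtain ⟨s, rfl⟩ := Ideal.Quotient.mk_surjective k₀
  refine ⟨(s : B), (mem_S_iff P _).mp s.2, ?_⟩
  rw [← Ideal.Quotient.eq]
  exact hk₀.symm


/-- If `y` is `T`-invariant, then `y mod P` is a root of a polynomial with `Γ`-invariant coefficients
whose reduction mod `P` is separable.  (`hdesc` is the statement `B^D = B^Γ + P ∩ B^D`.) -/
theorem exists_separable_poly [Finite Γ] (P : Ideal B) [P.IsMaximal] (x y : B)
    (hyT : ∀ γ : Γ, γ ∈ P.inertia Γ → γ • y = y) (hxy : x - y ∈ P)
    (hdesc : ∀ a : B, (∀ δ : Γ, δ ∈ decomp (Γ := Γ) P → δ • a = a) →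
      ∃ c : B, (∀ γ : Γ, γ • c = c) ∧ a - c ∈ P) :
    ∃ g : Polynomial B, (∀ (i : ℕ) (γ : Γ), γ • g.coeff i = g.coeff i) ∧
        (g.map (Ideal.Quotient.mk P)).Separable ∧ Polynomial.aeval x g ∈ P := by
  classical
  cases nonempty_fintype (decomp (Γ := Γ) P)
  let _ : Field (B ⧸ P) := Ideal.Quotient.field P
  have hyS : y ∈ S (Γ := Γ) P := (mem_S_iff P y).mpr hyT
  let O : Finset (B ⧸ P) :=
    Finset.univ.image (fun δ : decomp (Γ := Γ) P => Ideal.Quotient.mk P ((δ : Γ) • y))
  let μ : (B ⧸ P)[X] := ∏ c ∈ O, (X - C c)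
  have hsep : μ.Separable :=
    (separable_prod_X_sub_C_iff' (f := fun c : B ⧸ P => c) (s := O)).mpr (fun _ _ _ _ h => h)
  have hroot : μ.eval (Ideal.Quotient.mk P y) = 0 := by
    simp only [μ, eval_prod, eval_sub, eval_X, eval_C]
    apply Finset.prod_eq_zero (i := Ideal.Quotient.mk P y)
    · exact Finset.mem_image.mpr ⟨1, Finset.mem_univ _, by simp⟩
    · exact sub_self _
  -- coefficients of `μ` come from `S`
  let f : S (Γ := Γ) P →+* B ⧸ P := (Ideal.Quotient.mk P).comp (S (Γ := Γ) P).subtype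
  have hlifts : μ ∈ lifts f := by
    refine Subsemiring.prod_mem _ fun c hc => ?_
    obtain ⟨δ, -, rfl⟩ := Finset.mem_image.mp hc
    rw [mem_lifts]
    exact ⟨X - C ⟨(δ : Γ) • y, smul_mem_S P δ.2 hyS⟩, by simp [f]⟩
  have hcoeffS : ∀ i, ∃ z : B, z ∈ S (Γ := Γ) P ∧ Ideal.Quotient.mk P z = μ.coeff i := by
    intro i
    obtain ⟨z, hz⟩ := (lifts_iff_coeff_lifts μ).mp hlifts i
    exact ⟨z, z.2, hz⟩
  -- `D`-invariance of `μ`
  have hinv : ∀ δ : decomp (Γ := Γ) P, ∀ z : B, Ideal.Quotient.mk P z ∈ Set.range μ.coeff →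
      (δ : Γ) • z - z ∈ P := by
    intro δ z hz
    obtain ⟨i, hi⟩ := hz
    have hker : ∀ a : B, a ∈ P →
        ((Ideal.Quotient.mk P).comp (MulSemiringAction.toRingHom Γ B (δ : Γ))) a = 0 := by
      intro a ha
      rw [RingHom.comp_apply, Ideal.Quotient.eq_zero_iff_mem]
      exact ((mem_decomp P _).mp δ.2 a).mp ha
    let δbar : B ⧸ P →+* B ⧸ P := Ideal.Quotient.lift P _ hker
    have hδbar : ∀ b : B, δbar (Ideal.Quotient.mk P b) = Ideal.Quotient.mk P ((δ : Γ) • b) :=
      fun b => rfl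
    have himage : O.image δbar = O := by
      ext c
      simp only [O, Finset.mem_image, Finset.mem_univ, true_and]
      constructor
      · rintro ⟨_, ⟨δ', rfl⟩, rfl⟩
        refine ⟨δ * δ', ?_⟩
        rw [hδbar, Subgroup.coe_mul, mul_smul]
      · rintro ⟨δ'', rfl⟩
        refine ⟨_, ⟨δ⁻¹ * δ'', rfl⟩, ?_⟩
        rw [hδbar, Subgroup.coe_mul, mul_smul, Subgroup.coe_inv, smul_inv_smul]
    have hμmap : μ.map δbar = μ := by
      have h0 : μ.map δbar = ∏ c ∈ O, (X - C (δbar c)) := by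
        rw [show μ = ∏ c ∈ O, (X - C c) from rfl, Polynomial.map_prod]
        refine Finset.prod_congr rfl fun c _ => ?_
        rw [Polynomial.map_sub, map_X, map_C]
      rw [h0, show μ = ∏ c ∈ O, (X - C c) from rfl]
      conv_rhs => rw [← himage]
      rw [Finset.prod_image (fun a _ b _ hab => δbar.injective hab)]
    have h1 : δbar (μ.coeff i) = μ.coeff i := by
      rw [← coeff_map, hμmap]
    rw [hi, hδbar] at h1
    exact Ideal.Quotient.eq.mp h1
  -- descend each coefficient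
  have hcoeff : ∀ i, ∃ c : B, (∀ γ : Γ, γ • c = c) ∧ Ideal.Quotient.mk P c = μ.coeff i := by
    intro i
    obtain ⟨z, hzS, hz⟩ := hcoeffS i
    obtain ⟨a, haD, hza⟩ := exists_decomp_invariant P z ((mem_S_iff P z).mp hzS)
      (fun δ hδ => hinv ⟨δ, hδ⟩ z ⟨i, hz.symm⟩)
    obtain ⟨c, hcΓ, hac⟩ := hdesc a haD
    refine ⟨c, hcΓ, ?_⟩
    rw [← hz]
    symm
    rw [Ideal.Quotient.eq]
    have : z - c = (z - a) + (a - c) := by ring
    rw [this]
    exact add_mem hza hac
  choose c hc1 hc2 using hcoeff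
  let g : B[X] := ∑ i ∈ μ.support, monomial i (c i)
  have hgcoeff : ∀ j, g.coeff j = if j ∈ μ.support then c j else 0 := by
    intro j
    simp only [g, finsetSum_coeff, coeff_monomial]
    rw [Finset.sum_ite_eq' μ.support j (fun i => c i)]
  have hgmap : g.map (Ideal.Quotient.mk P) = μ := by
    ext j
    rw [coeff_map, hgcoeff]
    split_ifs with hj
    · exact hc2 j
    · rw [map_zero]
      exact (notMem_support_iff.mp hj).symm
  refine ⟨g, ?_, ?_, ?_⟩
  · intro i γ
    rw [hgcoeff]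
    split_ifs
    · exact hc1 i γ
    · exact smul_zero _
  · rw [hgmap]
    exact hsep
  · rw [← Ideal.Quotient.eq_zero_iff_mem]
    have h1 : Ideal.Quotient.mk P (aeval x g) =
        (g.map (Ideal.Quotient.mk P)).eval (Ideal.Quotient.mk P x) := by
      rw [Polynomial.eval_map, Polynomial.eval₂_at_apply]
      simp [Polynomial.aeval_def]
    rw [h1, hgmap, (Ideal.Quotient.eq.mpr hxy : Ideal.Quotient.mk P x = Ideal.Quotient.mk P y)]
    exact hroot

end

end Groth.Agent.Lib.Helper66.InertiaSep
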