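import Groth.Prelude.Def_W4c1tameactTame
import Groth.Agent.Lib.Helper66.Hopf
import Groth.Agent.Lib.Helper66.Reynolds

/-!
# Total integrals and comodule retractions of the coaction

For a commutative Hopf algebra `A` over `k` and a commutative `k`-algebra `B` with multiplicative coaction,
a total integral `α : A → B` gives the comodule retraction `λ(b ⊗ a) = Σ b₀ α(S(b₁) a)` of `ρ : B → B ⊗ A`.
-/

set_option autoImplicit false
universe u v w

namespace Groth.Agent.Lib.Helper66

open TensorProduct HopfRep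

section
variable (k : Type u) [CommRing k] (A : Type v) [CommRing A] [HopfAlgebra k A]
  (B : Type w) [CommRing B] [Algebra k B]
  (α : A →ₗ[k] B)

/-- `Λ((b ⊗ x) ⊗ a) = b * α(S x * a)`. -/
noncomputable def bigLam : (B ⊗[k] A) ⊗[k] A →ₗ[k] B :=
  LinearMap.mul' k B ∘ₗ
    (α ∘ₗ LinearMap.mul' k A ∘ₗ (HopfAlgebraStruct.antipode (R := k) (A := A)).rTensor A).lTensor B ∘ₗ
      (TensorProduct.assoc k B A A).toLinearMap

@[simp] theorem bigLam_tmul (b : B) (x a : A) :
    bigLam k A B α ((b ⊗ₜ[k] x) ⊗ₜ[k] a) = b * α (HopfAlgebraStruct.antipode (R := k) x * a) := by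
  simp [bigLam]

variable [HopfRep.Comod k A B]

/-- The retraction `λ(b ⊗ a) = Σ b₀ α(S(b₁) a)`. -/
noncomputable def retr : B ⊗[k] A →ₗ[k] B :=
  bigLam k A B α ∘ₗ (HopfRep.Comod.coact (k := k) (A := A)).rTensor A

theorem retr_tmul (b : B) (a : A) :
    retr k A B α (b ⊗ₜ[k] a) = bigLam k A B α (HopfRep.Comod.coact (k := k) (A := A) b ⊗ₜ[k] a) := by
  simp [retr]

/-- `λ ∘ ρ = id`. -/
theorem retr_coact (hα1 : α 1 = 1) (b : B) :
    retr k A B α (HopfRep.Comod.coact (k := k) (A := A) b) = b := by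
  unfold retr
  rw [LinearMap.comp_apply]
  have h := LinearMap.congr_fun (HopfRep.Comod.coassoc (k := k) (A := A) (V := B)) b
  simp only [LinearMap.comp_apply, LinearEquiv.coe_coe] at h
  have h' : (HopfRep.Comod.coact (k := k) (A := A)).rTensor A (HopfRep.Comod.coact (k := k) (A := A) b) =
      (TensorProduct.assoc k B A A).symm ((Coalgebra.comul (R := k) (A := A)).lTensor B
        (HopfRep.Comod.coact (k := k) (A := A) b)) := by
    rw [← h, LinearEquiv.symm_apply_apply]
  rw [h']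
  have key : ∀ z : B ⊗[k] A, bigLam k A B α ((TensorProduct.assoc k B A A).symm
      ((Coalgebra.comul (R := k) (A := A)).lTensor B z)) =
      (TensorProduct.rid k B) ((Coalgebra.counit (R := k) (A := A)).lTensor B z) := by
    intro z
    induction z using TensorProduct.induction_on with
    | zero => simp
    | tmul b' x =>
      rw [LinearMap.lTensor_tmul, LinearMap.lTensor_tmul, TensorProduct.rid_tmul]
      let T : A ⊗[k] A →ₗ[k] B :=
        LinearMap.mul k B b' ∘ₗ α ∘ₗ LinearMap.mul' k A ∘ₗ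
          (HopfAlgebraStruct.antipode (R := k) (A := A)).rTensor A
      have e1 : ∀ y : A ⊗[k] A, bigLam k A B α ((TensorProduct.assoc k B A A).symm (b' ⊗ₜ[k] y)) = T y := by
        intro y
        induction y using TensorProduct.induction_on with
        | zero => simp
        | tmul x₁ x₂ => simp [T]
        | add y z hy hz => simp only [TensorProduct.tmul_add, map_add, hy, hz]
      rw [e1]
      simp only [T, LinearMap.comp_apply]
      have e2 := HopfAlgebra.mul_antipode_rTensor_comul_apply (R := k) x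
      have e3 : (HopfAlgebraStruct.antipode (R := k) (A := A)) = HopfAlgebra.antipode k := rfl
      rw [e3, e2, Algebra.algebraMap_eq_smul_one, map_smul, hα1]
      simp
    | add y z hy hz => simp only [map_add, hy, hz]
  rw [key]
  have h2 := LinearMap.congr_fun (HopfRep.Comod.counit_comp (k := k) (A := A) (V := B)) b
  simp only [LinearMap.comp_apply] at h2
  rw [h2]
  simp

end

end Groth.Agent.Lib.Helper66

namespace Groth.Agent.Lib.Helper66

open TensorProduct HopfRep

section ComodHom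
variable (k : Type u) [CommRing k] (A : Type v) [CommRing A] [HopfAlgebra k A]
  (B : Type w) [CommRing B] [Algebra k B]
  (α : A →ₗ[k] B)

/-- `HU((z ⊗ y) ⊗ w) = z * (α ⊗ id)((S ⊗ S)(τ y) * w)`. -/
noncomputable def bigHU : ((B ⊗[k] A) ⊗[k] (A ⊗[k] A)) ⊗[k] (A ⊗[k] A) →ₗ[k] B ⊗[k] A :=
  LinearMap.mul' k (B ⊗[k] A) ∘ₗ
    (α.rTensor A ∘ₗ LinearMap.mul' k (A ⊗[k] A) ∘ₗ
      (TensorProduct.map (HopfAlgebraStruct.antipode (R := k) (A := A))
        (HopfAlgebraStruct.antipode (R := k) (A := A)) ∘ₗ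
          (TensorProduct.comm k A A).toLinearMap).rTensor (A ⊗[k] A)).lTensor (B ⊗[k] A) ∘ₗ
      (TensorProduct.assoc k (B ⊗[k] A) (A ⊗[k] A) (A ⊗[k] A)).toLinearMap

@[simp] theorem bigHU_tmul (z : B ⊗[k] A) (y w : A ⊗[k] A) :
    bigHU k A B α ((z ⊗ₜ[k] y) ⊗ₜ[k] w) =
      z * α.rTensor A (TensorProduct.map (HopfAlgebraStruct.antipode (R := k) (A := A))
        (HopfAlgebraStruct.antipode (R := k) (A := A)) (TensorProduct.comm k A A y) * w) := by
  simp [bigHU]

variable [HopfRep.Comod k A B] [GLin.IsCoactAlg k A B]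

/-- Step 1. -/
theorem coact_bigLam (hα : Hoch.IsComodHom A α) (z : B ⊗[k] A) (a : A) :
    HopfRep.Comod.coact (k := k) (A := A) (bigLam k A B α (z ⊗ₜ[k] a)) =
      bigHU k A B α ((TensorProduct.map (HopfRep.Comod.coact (k := k) (A := A))
        (Coalgebra.comul (R := k) (A := A)) z) ⊗ₜ[k] Coalgebra.comul (R := k) a) := by
  induction z using TensorProduct.induction_on with
  | zero => simp
  | tmul b' x =>
    rw [bigLam_tmul, GLin.IsCoactAlg.coact_mul, TensorProduct.map_tmul, bigHU_tmul]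
    have h := LinearMap.congr_fun hα (HopfAlgebraStruct.antipode (R := k) x * a)
    simp only [LinearMap.comp_apply] at h
    rw [h]
    have h2 : HopfRep.Comod.coact (k := k) (A := A) (HopfAlgebraStruct.antipode (R := k) x * a) =
        Coalgebra.comul (R := k) (HopfAlgebra.antipode k x * a) := rfl
    rw [h2, Bialgebra.comul_mul, comul_antipode]
  | add y z hy hz => simp only [TensorProduct.add_tmul, map_add, hy, hz]

/-- Step 3 on pure tensors. -/
theorem bigHU_comul_tmul (b' : B) (x a₁ a₂ : A) :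
    bigHU k A B α (((Coalgebra.comul (R := k) (A := A)).lTensor (B ⊗[k] A)
        ((TensorProduct.assoc k B A A).symm (b' ⊗ₜ[k] Coalgebra.comul (R := k) x))) ⊗ₜ[k] (a₁ ⊗ₜ[k] a₂)) =
      (b' * α (HopfAlgebraStruct.antipode (R := k) x * a₁)) ⊗ₜ[k] a₂ := by
  let T₀ : A ⊗[k] (A ⊗[k] A) →ₗ[k] B ⊗[k] A :=
    bigHU k A B α ∘ₗ (TensorProduct.mk k _ (A ⊗[k] A)).flip (a₁ ⊗ₜ[k] a₂) ∘ₗ
      (TensorProduct.assoc k B A (A ⊗[k] A)).symm.toLinearMap ∘ₗ
        TensorProduct.mk k B (A ⊗[k] (A ⊗[k] A)) b'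
  have e1 : ∀ y : A ⊗[k] A, bigHU k A B α (((Coalgebra.comul (R := k) (A := A)).lTensor (B ⊗[k] A)
        ((TensorProduct.assoc k B A A).symm (b' ⊗ₜ[k] y))) ⊗ₜ[k] (a₁ ⊗ₜ[k] a₂)) =
      T₀ ((Coalgebra.comul (R := k) (A := A)).lTensor A y) := by
    intro y
    induction y using TensorProduct.induction_on with
    | zero => simp
    | tmul x₁ x₂ => simp [T₀]
    | add x y hx hy => simp only [map_add, TensorProduct.tmul_add, TensorProduct.add_tmul, hx, hy]
  rw [e1, ← Coalgebra.coassoc_apply]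
  let L' : A ⊗[k] A →ₗ[k] B ⊗[k] A :=
    TensorProduct.map (LinearMap.mul k B b' ∘ₗ α ∘ₗ (LinearMap.mul k A).flip a₁ ∘ₗ
        HopfAlgebraStruct.antipode (R := k) (A := A)) ((LinearMap.mul k A).flip a₂) ∘ₗ
      (TensorProduct.comm k A A).toLinearMap
  let T' : (A ⊗[k] A) ⊗[k] A →ₗ[k] B ⊗[k] A :=
    L' ∘ₗ (LinearMap.mul' k A ∘ₗ
      (HopfAlgebraStruct.antipode (R := k) (A := A)).lTensor A).rTensor A
  have e2 : T₀ ∘ₗ (TensorProduct.assoc k A A A).toLinearMap = T' := by
    refine TensorProduct.ext_threefold fun x₁ x₂ x₃ => ?_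
    simp [T₀, T', L', mul_assoc]
    rw [mul_comm a₁ _, mul_comm a₂ _, mul_assoc]
  have e3 := LinearMap.congr_fun e2 ((Coalgebra.comul (R := k) (A := A)).rTensor A (Coalgebra.comul (R := k) x))
  simp only [LinearMap.comp_apply, LinearEquiv.coe_coe] at e3
  rw [e3]
  have e4 : (LinearMap.mul' k A ∘ₗ (HopfAlgebraStruct.antipode (R := k) (A := A)).lTensor A) ∘ₗ
      Coalgebra.comul (R := k) (A := A) = Algebra.linearMap k A ∘ₗ Coalgebra.counit (R := k) (A := A) := by
    rw [LinearMap.comp_assoc]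
    exact HopfAlgebra.mul_antipode_lTensor_comul
  have e5 : (LinearMap.mul' k A ∘ₗ (HopfAlgebraStruct.antipode (R := k) (A := A)).lTensor A).rTensor A
      ((Coalgebra.comul (R := k) (A := A)).rTensor A (Coalgebra.comul (R := k) x)) = (1 : A) ⊗ₜ[k] x := by
    rw [← LinearMap.comp_apply (LinearMap.rTensor A _), ← LinearMap.rTensor_comp, e4,
      LinearMap.rTensor_comp, LinearMap.comp_apply, Coalgebra.rTensor_counit_comul]
    simp
  have e6 : ∀ u, T' u = L' ((LinearMap.mul' k A ∘ₗ
      (HopfAlgebraStruct.antipode (R := k) (A := A)).lTensor A).rTensor A u) := fun u => rfl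
  rw [e6, e5]
  simp [L']
  rw [mul_comm a₁ _]

/-- Step 3. -/
theorem bigHU_comul (z : B ⊗[k] A) (w : A ⊗[k] A) :
    bigHU k A B α (((Coalgebra.comul (R := k) (A := A)).lTensor (B ⊗[k] A)
        ((TensorProduct.assoc k B A A).symm ((Coalgebra.comul (R := k) (A := A)).lTensor B z))) ⊗ₜ[k] w) =
      (bigLam k A B α).rTensor A ((TensorProduct.assoc k (B ⊗[k] A) A A).symm (z ⊗ₜ[k] w)) := by
  induction z using TensorProduct.induction_on with
  | zero => simp
  | tmul b' x =>
    induction w using TensorProduct.induction_on with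
    | zero => simp
    | tmul a₁ a₂ =>
      rw [LinearMap.lTensor_tmul, bigHU_comul_tmul]
      simp
    | add w₁ w₂ h₁ h₂ => simp only [TensorProduct.tmul_add, map_add, h₁, h₂]
  | add z₁ z₂ h₁ h₂ => simp only [TensorProduct.add_tmul, map_add, h₁, h₂]

/-- The retraction is a comodule map `B ⊗ A → B` for the coaction `id ⊗ Δ`. -/
theorem coact_retr (hα : Hoch.IsComodHom A α) (b : B) (a : A) :
    HopfRep.Comod.coact (k := k) (A := A) (retr k A B α (b ⊗ₜ[k] a)) =
      (retr k A B α).rTensor A ((TensorProduct.assoc k B A A).symm (b ⊗ₜ[k] Coalgebra.comul (R := k) a)) := by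
  rw [retr_tmul, coact_bigLam k A B α hα, map_coact_comul_coact, bigHU_comul]
  generalize Coalgebra.comul (R := k) a = w
  induction w using TensorProduct.induction_on with
  | zero => simp
  | tmul a₁ a₂ => simp [retr_tmul]
  | add w₁ w₂ h₁ h₂ => simp only [TensorProduct.tmul_add, map_add, h₁, h₂]

end ComodHom

end Groth.Agent.Lib.Helper66
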