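import Mathlib.LinearAlgebra.Finsupp.LinearCombination
import Mathlib.LinearAlgebra.Matrix.ToLin
import Mathlib.RingTheory.Ideal.Basic

/-!
# Irredundant finite generating families and relations with a unit coefficient
-/

set_option autoImplicit false
universe u v

namespace Groth.Agent.Lib.Helper66

section
variable {R : Type u} [CommRing R] {N : Type v} [AddCommGroup N] [Module R N] {n : ℕ}

theorem exists_fun_of_mem_span_image (v : Fin n → N) (s : Set (Fin n)) (x : N)
    (hx : x ∈ Submodule.span R (v '' s)) :
    ∃ c : Fin n → R, (∀ i, i ∉ s → c i = 0) ∧ ∑ i, c i • v i = x := by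
  induction hx using Submodule.span_induction with
  | mem x hx =>
    obtain ⟨b, hb, rfl⟩ := hx
    refine ⟨Pi.single b 1, fun i hi => ?_, ?_⟩
    · have : i ≠ b := fun h => hi (h ▸ hb)
      simp [this]
    · simp [Pi.single_apply]
  | zero => exact ⟨0, fun _ _ => rfl, by simp⟩
  | add x y _ _ hx hy =>
    obtain ⟨c, hc, rfl⟩ := hx
    obtain ⟨c', hc', rfl⟩ := hy
    refine ⟨c + c', fun i hi => by simp [hc i hi, hc' i hi], ?_⟩
    simp [add_smul, Finset.sum_add_distrib]
  | smul r x _ hx =>
    obtain ⟨c, hc, rfl⟩ := hx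
    refine ⟨r • c, fun i hi => by simp [hc i hi], ?_⟩
    simp [Finset.smul_sum, mul_smul]

/-- If every relation among the `v i` has all coefficients in a proper ideal, no `v b` is in the span
of the others. -/
theorem notMem_span_of_ker_le (v : Fin n → N) (𝔪 : Ideal R) (h1 : (1 : R) ∉ 𝔪)
    (hker : ∀ w ∈ LinearMap.ker (Fintype.linearCombination R v), ∀ b, w b ∈ 𝔪) (b : Fin n) :
    v b ∉ Submodule.span R (v '' {b' | b' ≠ b}) := by
  intro hb
  obtain ⟨c, hc, hsum⟩ := exists_fun_of_mem_span_image v _ _ hb
  have hcb : c b = 0 := hc b (by simp)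
  have hw : (Pi.single b 1 - c) ∈ LinearMap.ker (Fintype.linearCombination R v) := by
    rw [LinearMap.mem_ker, map_sub, Fintype.linearCombination_apply_single, one_smul,
      Fintype.linearCombination_apply, hsum, sub_self]
  have := hker _ hw b
  rw [Pi.sub_apply, Pi.single_eq_same, hcb, sub_zero] at this
  exact h1 this

/-- A relation with a unit coefficient at `a` puts `v a` in the span of the others. -/
theorem mem_span_of_ker_unit (v : Fin n → N) (w : Fin n → R)
    (hw : w ∈ LinearMap.ker (Fintype.linearCombination R v)) (a : Fin n) (ha : IsUnit (w a)) :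
    v a ∈ Submodule.span R (v '' {a' | a' ≠ a}) := by
  rw [LinearMap.mem_ker, Fintype.linearCombination_apply] at hw
  obtain ⟨u, hu⟩ := ha
  have h1 : w a • v a = - ∑ i ∈ Finset.univ.erase a, w i • v i := by
    rw [← Finset.add_sum_erase _ _ (Finset.mem_univ a)] at hw
    exact eq_neg_of_add_eq_zero_left hw
  have h2 : v a = (↑u⁻¹ : R) • (w a • v a) := by
    rw [← hu, smul_smul, Units.inv_mul, one_smul]
  rw [h2, h1]
  refine Submodule.smul_mem _ _ (Submodule.neg_mem _ (Submodule.sum_mem _ fun i hi => ?_))
  refine Submodule.smul_mem _ _ (Submodule.subset_span ⟨i, ?_, rfl⟩)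
  exact Finset.ne_of_mem_erase hi

/-- `M *ᵥ ·` is the linear combination of the columns. -/
theorem mulVecLin_eq_linearCombination {m : ℕ} (M : Matrix (Fin m) (Fin n) R) :
    Matrix.mulVecLin M = Fintype.linearCombination R (fun b a => M a b) := by
  ext w a
  simp [Matrix.mulVec, dotProduct, Fintype.linearCombination_apply, mul_comm]

end

end Groth.Agent.Lib.Helper66
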