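import Mathlib
import Groth.Prelude.Def_Wider
import Groth.Agent.Lib.Helper66.ExtAnn

set_option autoImplicit false
universe u
open CategoryTheory CategoryTheory.Limits Opposite

namespace Groth.Agent.Lib.Helper66.LocCohTorsion

/-- every element of local cohomology is killed by a power of the ideal -/
theorem exists_pow_smul_eq_zero (A : Type u) [CommRing A] (I : Ideal A) (i : ℕ) (N : ModuleCat.{u} A)
    (x : ((colimit (localCohomology.diagram (localCohomology.idealPowersDiagram I) i)).obj N : Type u)) :
    ∃ n : ℕ, ∀ a ∈ I ^ n, a • x = 0 := by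
  let F := localCohomology.diagram (localCohomology.idealPowersDiagram I) i
  let e : (colimit F).obj N ≅ colimit (F ⋙ (evaluation _ _).obj N) :=
    colimitObjIsoColimitCompEvaluation F N
  have h0 : PreservesFilteredColimitsOfSize.{0, 0} (forget (ModuleCat.{u} A)) :=
    preservesSmallestFilteredColimits_of_preservesFilteredColimits.{u, u} _
  have : PreservesColimitsOfShape ℕᵒᵖᵒᵖ (forget (ModuleCat.{u} A)) :=
    h0.preserves_filtered_colimits _
  obtain ⟨j, y, hy⟩ := Concrete.colimit_exists_rep (F ⋙ (evaluation _ _).obj N) (e.hom.hom x)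
  refine ⟨j.unop.unop, fun a ha => ?_⟩
  have hy0 : a • y = 0 := by
    apply Groth.Agent.Lib.Helper66.ExtAnn.smul_eq_zero_of_smul_id_eq_zero
    ext z
    obtain ⟨z, rfl⟩ := Ideal.Quotient.mk_surjective (I := (localCohomology.idealPowersDiagram I).obj (unop j)) z
    change a • (Ideal.Quotient.mk _ z) = 0
    rw [← Ideal.Quotient.mk_eq_mk, ← Submodule.Quotient.mk_smul, Submodule.Quotient.mk_eq_zero]
    exact Ideal.mul_mem_right z _ ha
  have h1 : e.hom.hom (a • x) = 0 := by
    rw [map_smul, ← hy]
    erw [← map_smul]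
    rw [hy0, map_zero]
  have h2 := congrArg e.inv.hom h1
  rw [map_zero] at h2
  rw [← h2]
  exact (congrArg (fun φ => φ.hom (a • x)) e.hom_inv_id).symm


end Groth.Agent.Lib.Helper66.LocCohTorsion
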