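import Mathlib.RingTheory.PowerSeries.Exp
import Mathlib.RingTheory.PowerSeries.Derivative
import Mathlib.RingTheory.PowerSeries.Inverse
import Mathlib.RingTheory.PowerSeries.WellKnown

/-!
# Logarithmic derivatives of power series over a field of characteristic zero

`IsLogDeriv F D` means `F' = D * F`.  A power series with nonzero constant term is determined by its
logarithmic derivative and its constant term.
-/

set_option autoImplicit false
universe u

namespace Groth.Agent.Lib.Helper66

open PowerSeries

section
variable {K : Type u} [Field K]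

/-- `F' = D * F` -/
def IsLogDeriv (F D : K⟦X⟧) : Prop := d⁄dX K F = D * F

theorem isLogDeriv_one : IsLogDeriv (1 : K⟦X⟧) 0 := by
  unfold IsLogDeriv
  rw [zero_mul]
  exact PowerSeries.derivative_one

theorem IsLogDeriv.mul {F G D E : K⟦X⟧} (hF : IsLogDeriv F D) (hG : IsLogDeriv G E) :
    IsLogDeriv (F * G) (D + E) := by
  unfold IsLogDeriv at *
  rw [Derivation.leibniz, hF, hG, smul_eq_mul, smul_eq_mul]
  ring

theorem IsLogDeriv.pow {F D : K⟦X⟧} (hF : IsLogDeriv F D) (n : ℕ) :
    IsLogDeriv (F ^ n) (n • D) := by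
  induction n with
  | zero => simpa using isLogDeriv_one
  | succ n ih =>
    rw [pow_succ, succ_nsmul]
    exact ih.mul hF

theorem IsLogDeriv.prod {ι : Type*} (s : Finset ι) (F D : ι → K⟦X⟧)
    (h : ∀ i ∈ s, IsLogDeriv (F i) (D i)) :
    IsLogDeriv (∏ i ∈ s, F i) (∑ i ∈ s, D i) := by
  classical
  induction s using Finset.induction_on with
  | empty => simpa using isLogDeriv_one
  | insert a s ha ih =>
    rw [Finset.prod_insert ha, Finset.sum_insert ha]
    exact (h a (Finset.mem_insert_self a s)).mul
      (ih fun i hi => h i (Finset.mem_insert_of_mem hi))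

/-- the logarithmic derivative of an invertible power series -/
theorem isLogDeriv_of_constantCoeff_ne_zero (G : K⟦X⟧) (hG : constantCoeff G ≠ 0) :
    IsLogDeriv G (d⁄dX K G * G⁻¹) := by
  unfold IsLogDeriv
  rw [mul_assoc, PowerSeries.inv_mul_cancel G hG, mul_one]

theorem isLogDeriv_exp_subst [Algebra ℚ K] (L : K⟦X⟧) (hL : constantCoeff L = 0) :
    IsLogDeriv ((exp K).subst L) (d⁄dX K L) := by
  unfold IsLogDeriv
  rw [derivative_subst (HasSubst.of_constantCoeff_zero' hL), derivative_exp, mul_comm]

theorem constantCoeff_exp_subst [Algebra ℚ K] (L : K⟦X⟧) (hL : constantCoeff L = 0) :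
    constantCoeff ((exp K).subst L) = 1 := by
  have hs : HasSubst L := HasSubst.of_constantCoeff_zero' hL
  rw [← coeff_zero_eq_constantCoeff_apply, coeff_subst' hs, finsum_eq_single _ 0]
  · simp
  · intro d hd
    rw [coeff_zero_eq_constantCoeff_apply, map_pow, hL, zero_pow hd, smul_zero]

variable [CharZero K]

/-- A power series with zero derivative is constant. -/
theorem eq_C_of_derivative_eq_zero (F : K⟦X⟧) (h : d⁄dX K F = 0) : F = C (constantCoeff F) := by
  ext n
  cases n with
  | zero => simp
  | succ n =>
    have := congrArg (coeff n) h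
    rw [coeff_derivative, map_zero] at this
    rw [coeff_C, if_neg (Nat.succ_ne_zero n)]
    have hne : ((n : K) + 1) ≠ 0 := by exact_mod_cast Nat.succ_ne_zero n
    exact (mul_eq_zero.mp this).resolve_right hne

/-- Uniqueness: same logarithmic derivative and same nonzero constant term. -/
theorem IsLogDeriv.unique {F G D : K⟦X⟧} (hF : IsLogDeriv F D) (hG : IsLogDeriv G D)
    (h0 : constantCoeff F = constantCoeff G) (hG0 : constantCoeff G ≠ 0) : F = G := by
  unfold IsLogDeriv at *
  have hd : d⁄dX K (F * G⁻¹) = 0 := by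
    rw [Derivation.leibniz, derivative_inv', hF, hG, smul_eq_mul, smul_eq_mul]
    have hinv : G⁻¹ * G = 1 := PowerSeries.inv_mul_cancel G hG0
    calc F * (-G⁻¹ ^ 2 * (D * G)) + G⁻¹ * (D * F)
        = D * F * G⁻¹ * (1 - G⁻¹ * G) := by ring
      _ = 0 := by rw [hinv, sub_self, mul_zero]
  have hc := eq_C_of_derivative_eq_zero _ hd
  rw [map_mul, constantCoeff_inv, h0, mul_inv_cancel₀ hG0, map_one] at hc
  have := congrArg (· * G) hc
  simp only [one_mul] at this
  rw [mul_assoc, PowerSeries.inv_mul_cancel G hG0, mul_one] at this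
  exact this

end

end Groth.Agent.Lib.Helper66
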