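import Mathlib

/-!
# The mass formula for a finite group acting on a finite set

`∑_{classes c} 1 / #Stab(x_c) = #Ξ / #Γ`, in a form adapted to groupoids of torsors: `Q` is any type
receiving a surjection from `Ξ` whose fibres are the orbits, `a c` is the order of the stabilizer of any point over `c`.
-/

set_option autoImplicit false

namespace Groth.Agent.Lib.Helper66.MassFormula

open scoped BigOperators

theorem mass_formula {Γ Ξ Q : Type*} [Group Γ] [MulAction Γ Ξ] [Finite Γ] [Finite Ξ]
    (Φ : Ξ → Q) (hsurj : Function.Surjective Φ)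
    (horb : ∀ x y, Φ x = Φ y ↔ ∃ g : Γ, g • y = x)
    (a : Q → ℕ) (ha : ∀ x, a (Φ x) = Nat.card (MulAction.stabilizer Γ x)) :
    Finite Q ∧ ∑ᶠ c : Q, ((a c : ℚ))⁻¹ = (Nat.card Ξ : ℚ) / (Nat.card Γ : ℚ) := by
  classical
  have hQ : Finite Q := Finite.of_surjective Φ hsurj
  refine ⟨hQ, ?_⟩
  haveI := Fintype.ofFinite Γ
  haveI := Fintype.ofFinite Ξ
  haveI := Fintype.ofFinite Q
  rw [finsum_eq_sum_of_fintype, Nat.card_eq_fintype_card, Nat.card_eq_fintype_card]
  have hΓ : (Fintype.card Γ : ℚ) ≠ 0 := by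
    have : 0 < Fintype.card Γ := Fintype.card_pos
    exact_mod_cast this.ne'
  have hterm : ∀ c : Q, ((a c : ℚ))⁻¹ =
      ((Finset.univ.filter (fun x => Φ x = c)).card : ℚ) / (Fintype.card Γ : ℚ) := by
    intro c
    obtain ⟨x, rfl⟩ := hsurj c
    rw [ha x, Nat.card_eq_fintype_card]
    have h1 : (Finset.univ.filter (fun y => Φ y = Φ x)).card = Fintype.card (MulAction.orbit Γ x) := by
      rw [← Fintype.card_subtype]
      apply Fintype.card_congr
      exact Equiv.subtypeEquivRight (fun y => by rw [horb y x]; rfl)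
    have h2 := MulAction.card_orbit_mul_card_stabilizer_eq_card_group Γ x
    have hs : (Fintype.card (MulAction.stabilizer Γ x) : ℚ) ≠ 0 := by
      have : 0 < Fintype.card (MulAction.stabilizer Γ x) := Fintype.card_pos
      exact_mod_cast this.ne'
    have ho : (Fintype.card (MulAction.orbit Γ x) : ℚ) ≠ 0 := by
      have : 0 < Fintype.card (MulAction.orbit Γ x) :=
        Fintype.card_pos_iff.mpr ⟨⟨x, MulAction.mem_orbit_self x⟩⟩
      exact_mod_cast this.ne'
    rw [h1, ← h2]
    push_cast
    field_simp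
  simp_rw [hterm]
  rw [← Finset.sum_div, ← Nat.cast_sum]
  congr 2
  rw [← Finset.card_univ (α := Ξ)]
  exact (Finset.card_eq_sum_card_fiberwise (f := Φ) (s := Finset.univ) (t := Finset.univ)
    (fun x _ => Finset.mem_univ _)).symm

end Groth.Agent.Lib.Helper66.MassFormula
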