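import Groth.Agent.Lib.Helper66.ModStFib
import Groth.Agent.Lib.Helper49.StalkNbhd
import Groth.Agent.Lib.Helper49.PrinPartFP
import Groth.Agent.Lib.Helper16.FlatPull.BaseChange
import Groth.Agent.Lib.Helper65.SubSt

/-!
# Helper66: the categories over `(Sch/S)` of flat finitely presented / quasi-coherent modules are fibred in groupoids
-/

set_option autoImplicit false
set_option linter.style.haveILetI false

universe u

open CategoryTheory CategoryTheory.Limits AlgebraicGeometry Opposite

namespace Groth.Agent.Lib.Helper66.ModStCoh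

open ModSt Groth.Agent.Lib.Helper66.ModStFib

section Iso

variable {X Y : Scheme.{u}}

theorem stalkMap_comp {M N P : X.Modules} (φ : M ⟶ N) (ψ : N ⟶ P) (x : X) :
    Helper49.stalkMap (φ ≫ ψ) x = Helper49.stalkMap φ x ≫ Helper49.stalkMap ψ x := by
  unfold Helper49.stalkMap
  exact (TopCat.Presheaf.stalkFunctor Ab x).map_comp φ.mapPresheaf ψ.mapPresheaf

theorem stalkMap_id (M : X.Modules) (x : X) :
    Helper49.stalkMap (𝟙 M) x = 𝟙 _ := by
  unfold Helper49.stalkMap
  exact (TopCat.Presheaf.stalkFunctor _ x).map_id _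

/-- The stalk of an isomorphism of modules, as a linear equivalence. -/
noncomputable def stalkLinearEquivOfIso {G G' : X.Modules} (e : G ≅ G') (x : X) :
    ↑(G.presheaf.stalk x) ≃ₗ[X.presheaf.stalk x] ↑(G'.presheaf.stalk x) :=
  LinearEquiv.ofBijective (Helper49.stalkMapLinear e.hom x) (by
    have h1 : ∀ a, (Helper49.stalkMap e.inv x).hom ((Helper49.stalkMap e.hom x).hom a) = a := by
      intro a
      have := stalkMap_comp e.hom e.inv x
      rw [e.hom_inv_id, stalkMap_id] at this
      have h' := congrArg (fun f => f.hom a) this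
      simpa using h'.symm
    have h2 : ∀ a, (Helper49.stalkMap e.hom x).hom ((Helper49.stalkMap e.inv x).hom a) = a := by
      intro a
      have := stalkMap_comp e.inv e.hom x
      rw [e.inv_hom_id, stalkMap_id] at this
      have h' := congrArg (fun f => f.hom a) this
      simpa using h'.symm
    exact ⟨fun a b hab => by
        have := congrArg (Helper49.stalkMap e.inv x).hom hab
        simpa [Helper49.stalkMapLinear, h1] using this,
      fun b => ⟨(Helper49.stalkMap e.inv x).hom b, h2 b⟩⟩)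

theorem isFlatOverAt_of_iso (f : X ⟶ Y) {G G' : X.Modules} (e : G ≅ G') (x : X)
    (h : FlatMod.IsFlatOverAt f G x) : FlatMod.IsFlatOverAt f G' x := by
  letI := (f.stalkMap x).hom.toAlgebra
  letI : Module (Y.presheaf.stalk (f.base x)) (G.presheaf.stalk x) := FlatMod.moduleStalkOver f G x
  letI : Module (Y.presheaf.stalk (f.base x)) (G'.presheaf.stalk x) :=
    FlatMod.moduleStalkOver f G' x
  haveI : IsScalarTower (Y.presheaf.stalk (f.base x)) (X.presheaf.stalk x)
      (G.presheaf.stalk x) := IsScalarTower.of_compHom _ _ _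
  haveI : IsScalarTower (Y.presheaf.stalk (f.base x)) (X.presheaf.stalk x)
      (G'.presheaf.stalk x) := IsScalarTower.of_compHom _ _ _
  haveI : Module.Flat (Y.presheaf.stalk (f.base x)) (G.presheaf.stalk x) := h
  exact Module.Flat.of_linearEquiv
    ((stalkLinearEquivOfIso e x).restrictScalars (Y.presheaf.stalk (f.base x))).symm

/-- Two modules receiving cartesian comparison maps from the same module along the same morphism are isomorphic. -/
theorem nonempty_iso_of_isCart {h : X ⟶ Y} {N : Y.Modules} {M₁ M₂ : X.Modules}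
    {c₁ : N ⟶ (Scheme.Modules.pushforward h).obj M₁} (hc₁ : IsCart h c₁)
    {c₂ : N ⟶ (Scheme.Modules.pushforward h).obj M₂} (hc₂ : IsCart h c₂) :
    Nonempty (M₁ ≅ M₂) := by
  obtain ⟨u, hu⟩ := (hc₁ M₂).2 c₂
  obtain ⟨v, hv⟩ := (hc₂ M₁).2 c₁
  have hu' : c₁ ≫ (Scheme.Modules.pushforward h).map u = c₂ := hu
  have hv' : c₂ ≫ (Scheme.Modules.pushforward h).map v = c₁ := hv
  refine ⟨⟨u, v, ?_, ?_⟩⟩
  · apply (hc₁ M₁).1
    show c₁ ≫ (Scheme.Modules.pushforward h).map (u ≫ v) = c₁ ≫ (Scheme.Modules.pushforward h).map (𝟙 _)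
    rw [Functor.map_comp, ← Category.assoc, hu', hv', CategoryTheory.Functor.map_id, Category.comp_id]
  · apply (hc₂ M₂).1
    show c₂ ≫ (Scheme.Modules.pushforward h).map (v ≫ u) = c₂ ≫ (Scheme.Modules.pushforward h).map (𝟙 _)
    rw [Functor.map_comp, ← Category.assoc, hv', hu', CategoryTheory.Functor.map_id, Category.comp_id]

end Iso

section Closure

variable {X S : Scheme.{u}} {f : X ⟶ S}

/-- The module of the source of a morphism is the pull-back of the module of the target. -/
theorem nonempty_iso_pullback {A' A : Obj f} (φ : A' ⟶ A) :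
    Nonempty ((Scheme.Modules.pullback φ.top).obj A.E ≅ A'.E) :=
  nonempty_iso_of_isCart (isCart_unit φ.top A.E) φ.cart

theorem isFlatOver_of_hom {A' A : Obj f} (φ : A' ⟶ A) [A.E.IsQuasicoherent]
    (h : FlatMod.IsFlatOver A.q A.E) : FlatMod.IsFlatOver A'.q A'.E := by
  obtain ⟨e⟩ := nonempty_iso_pullback φ
  intro x'
  exact isFlatOverAt_of_iso A'.q e x'
    (Groth.Agent.Lib.Helper16.FlatPull.isFlatOverAt_baseChange A.q A'.q φ.top φ.base.left
      (Obj.Hom.isPullback_top φ) A.E x' (h _))

theorem isCohObj_of_hom {A' A : Obj f} (φ : A' ⟶ A) (h : IsCohObj A) : IsCohObj A' := by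
  obtain ⟨h1, h2⟩ := h
  haveI : SheafOfModules.IsFinitePresentation (R := A.XT.ringCatSheaf) A.E := h2
  haveI : A.E.IsQuasicoherent := inferInstance
  refine ⟨isFlatOver_of_hom φ h1, ?_⟩
  obtain ⟨e⟩ := nonempty_iso_pullback φ
  exact (SheafOfModules.isFinitePresentation A'.XT.ringCatSheaf).prop_of_iso e
    (Groth.Agent.Lib.Helper49.PrinPartFP.isFinitePresentation_pullback φ.top A.E h2)

theorem isQCohObj_of_hom {A' A : Obj f} (φ : A' ⟶ A) (h : IsQCohObj A) : IsQCohObj A' := by
  obtain ⟨h1, h2⟩ := h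
  haveI : A.E.IsQuasicoherent := h2
  refine ⟨isFlatOver_of_hom φ h1, ?_⟩
  obtain ⟨e⟩ := nonempty_iso_pullback φ
  exact (SheafOfModules.isQuasicoherent A'.XT.ringCatSheaf).prop_of_iso e
    (Groth.Agent.Lib.Helper16.FlatPull.isQuasicoherent_pullback φ.top A.E)

variable (f)

theorem isFibGrpd_coh : FibCat.IsFibGrpd (ModSt.Coh f).p :=
  Groth.Agent.Lib.Helper65.isFibGrpd_fullSub (𝒳 := ModSt.Fam f) IsCohObj (isFibGrpd_fam f)
    (fun _ _ φ h => isCohObj_of_hom φ h)

theorem isFibGrpd_qcoh : FibCat.IsFibGrpd (ModSt.QCoh f).p :=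
  Groth.Agent.Lib.Helper65.isFibGrpd_fullSub (𝒳 := ModSt.Fam f) IsQCohObj (isFibGrpd_fam f)
    (fun _ _ φ h => isQCohObj_of_hom φ h)

end Closure

end Groth.Agent.Lib.Helper66.ModStCoh
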