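import Groth.Prelude.Def_ModSt
import Groth.Agent.Lib.Helper31.FibCat

/-!
# Helper66: the category over `(Sch/S)` of all modules on base changes of `X` is fibred in groupoids
-/

set_option autoImplicit false

universe u

open CategoryTheory CategoryTheory.Limits AlgebraicGeometry Opposite

namespace Groth.Agent.Lib.Helper66.ModStFib

open ModSt

section Cart

variable {Y Z W : Scheme.{u}}

/-- Two-out-of-three for cartesian comparison maps: if `c₂` and the composite of `c₂` and `c₁` are cartesian, so is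
`c₁`. -/
theorem isCart_of_comp {t : Y ⟶ Z} {h : Z ⟶ W} {P : W.Modules} {N : Z.Modules} {M : Y.Modules}
    {c₂ : P ⟶ (Scheme.Modules.pushforward h).obj N} (hc₂ : IsCart h c₂)
    (c₁ : N ⟶ (Scheme.Modules.pushforward t).obj M)
    (hcomp : IsCart (t ≫ h) (c₂ ≫ (Scheme.Modules.pushforward h).map c₁ ≫
      (Scheme.Modules.pushforwardComp t h).hom.app M)) : IsCart t c₁ := by
  intro M'
  have heq : (fun v : M ⟶ M' => (c₂ ≫ (Scheme.Modules.pushforward h).map c₁ ≫
      (Scheme.Modules.pushforwardComp t h).hom.app M) ≫ (Scheme.Modules.pushforward (t ≫ h)).map v) =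
      (((Scheme.Modules.pushforwardComp t h).app M').homToEquiv ∘
        (fun w : N ⟶ (Scheme.Modules.pushforward t).obj M' => c₂ ≫ (Scheme.Modules.pushforward h).map w)) ∘
        (fun v : M ⟶ M' => c₁ ≫ (Scheme.Modules.pushforward t).map v) := by
    funext v
    simp only [Function.comp_apply, Iso.homToEquiv_apply, Iso.app_hom, Category.assoc, Functor.map_comp]
    rw [← (Scheme.Modules.pushforwardComp t h).hom.naturality v]
    rfl
  have h1 := hcomp M'
  rw [heq] at h1
  exact (Function.Bijective.of_comp_iff' ((Equiv.bijective _).comp (hc₂ _)) _).1 h1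

/-- A comparison map along a composite factors through a cartesian comparison map along the second morphism. -/
theorem exists_factor {t : Y ⟶ Z} {h : Z ⟶ W} {P : W.Modules} {N : Z.Modules} {M : Y.Modules}
    {c₂ : P ⟶ (Scheme.Modules.pushforward h).obj N} (hc₂ : IsCart h c₂)
    (c' : P ⟶ (Scheme.Modules.pushforward (t ≫ h)).obj M) :
    ∃ c₁ : N ⟶ (Scheme.Modules.pushforward t).obj M,
      c₂ ≫ (Scheme.Modules.pushforward h).map c₁ ≫ (Scheme.Modules.pushforwardComp t h).hom.app M = c' := by
  obtain ⟨c₁, hc₁⟩ := (hc₂ ((Scheme.Modules.pushforward t).obj M)).2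
    (c' ≫ (Scheme.Modules.pushforwardComp t h).inv.app M)
  refine ⟨c₁, ?_⟩
  have hc₁' : c₂ ≫ (Scheme.Modules.pushforward h).map c₁ =
      c' ≫ (Scheme.Modules.pushforwardComp t h).inv.app M := hc₁
  rw [← Category.assoc, hc₁', Category.assoc, Iso.inv_hom_id_app, Category.comp_id]

/-- Uniqueness in `exists_factor`. -/
theorem factor_unique {t : Y ⟶ Z} {h : Z ⟶ W} {P : W.Modules} {N : Z.Modules} {M : Y.Modules}
    {c₂ : P ⟶ (Scheme.Modules.pushforward h).obj N} (hc₂ : IsCart h c₂)
    (c₁ c₁' : N ⟶ (Scheme.Modules.pushforward t).obj M)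
    (hh : c₂ ≫ (Scheme.Modules.pushforward h).map c₁ ≫ (Scheme.Modules.pushforwardComp t h).hom.app M =
      c₂ ≫ (Scheme.Modules.pushforward h).map c₁' ≫ (Scheme.Modules.pushforwardComp t h).hom.app M) :
    c₁ = c₁' := by
  apply (hc₂ ((Scheme.Modules.pushforward t).obj M)).1
  have := congrArg (fun m => m ≫ (Scheme.Modules.pushforwardComp t h).inv.app M) hh
  simpa using this

/-- The unit of the pull-back/push-forward adjunction is a cartesian comparison map. -/
theorem isCart_unit (h : Y ⟶ Z) (N : Z.Modules) :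
    IsCart h ((Scheme.Modules.pullbackPushforwardAdjunction h).unit.app N) := by
  intro M'
  have heq : (fun v : (Scheme.Modules.pullback h).obj N ⟶ M' =>
      (Scheme.Modules.pullbackPushforwardAdjunction h).unit.app N ≫ (Scheme.Modules.pushforward h).map v) =
      (Scheme.Modules.pullbackPushforwardAdjunction h).homEquiv N M' := by
    funext v
    exact ((Scheme.Modules.pullbackPushforwardAdjunction h).homEquiv_unit N M' v).symm
  rw [heq]
  exact Equiv.bijective _

end Cart

section Fam

variable {X S : Scheme.{u}} (f : X ⟶ S)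

/-- The pull-back of an object along a morphism of bases. -/
noncomputable def pullObj (A : Obj f) {V : Over S} (g : V ⟶ A.base) : Obj f where
  base := V
  XT := pullback A.q g.left
  p := pullback.fst A.q g.left ≫ A.p
  q := pullback.snd A.q g.left
  isPullback := by
    have h := (IsPullback.of_hasPullback A.q g.left).paste_horiz A.isPullback
    rwa [Over.w g] at h
  E := (Scheme.Modules.pullback (pullback.fst A.q g.left)).obj A.E

/-- The canonical morphism from the pull-back. -/
noncomputable def pullHom (A : Obj f) {V : Over S} (g : V ⟶ A.base) : pullObj f A g ⟶ A where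
  base := g
  top := pullback.fst A.q g.left
  w_p := rfl
  w_q := pullback.condition
  c := (Scheme.Modules.pullbackPushforwardAdjunction (pullback.fst A.q g.left)).unit.app A.E
  cart := isCart_unit _ _

variable {f}

/-- The universal property of a morphism of `ModSt.Fam f`, with the top map of the factorization given. -/
theorem existsUnique_factor {x y z : Obj f} (φ : y ⟶ x) (g : z.base ⟶ y.base) (t : z.XT ⟶ y.XT)
    (wp : t ≫ y.p = z.p) (wq : t ≫ y.q = z.q ≫ g.left)
    (wp' : (t ≫ φ.top) ≫ x.p = z.p) (wq' : (t ≫ φ.top) ≫ x.q = z.q ≫ (g ≫ φ.base).left)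
    (c' : x.E ⟶ (Scheme.Modules.pushforward (t ≫ φ.top)).obj z.E) (hc' : IsCart (t ≫ φ.top) c') :
    ∃ χ : z ⟶ y, χ.base = g ∧ χ.top = t ∧
      χ ≫ φ = (⟨g ≫ φ.base, t ≫ φ.top, wp', wq', c', hc'⟩ : Obj.Hom z x) := by
  obtain ⟨c₁, hc₁⟩ := exists_factor φ.cart (t := t) c'
  have hcart : IsCart t c₁ := isCart_of_comp φ.cart c₁ (by rw [hc₁]; exact hc')
  refine ⟨⟨g, t, wp, wq, c₁, hcart⟩, rfl, rfl, ?_⟩
  refine Obj.Hom.ext' rfl rfl (fun U s => heq_of_eq ?_)
  have := congrArg (fun m => m.app U s) hc₁
  exact this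


variable (f) in
/-- The category of all modules on base changes of `X` is fibred in groupoids over `(Sch/S)`. -/
theorem isFibGrpd_fam : FibCat.IsFibGrpd (ModSt.Fam f).p := by
  refine ⟨?_, ?_⟩
  · intro x V g
    exact ⟨pullObj f x g, pullHom f x g,
      inferInstanceAs ((Obj.forget f).IsHomLift ((Obj.forget f).map (pullHom f x g)) (pullHom f x g))⟩
  · intro y x φ
    refine { toIsHomLift := inferInstance, universal_property' := ?_ }
    intro z g ψ hψ
    have hb : g ≫ φ.base = ψ.base :=
      IsHomLift.eq_of_isHomLift (Obj.forget f) (g ≫ (Obj.forget f).map φ) ψ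
    obtain ⟨t, ht1, ht2⟩ : ∃ t : z.XT ⟶ y.XT, t ≫ φ.top = ψ.top ∧ t ≫ y.q = z.q ≫ g.left := by
      have hw : ψ.top ≫ x.q = (z.q ≫ g.left) ≫ φ.base.left := by
        rw [ψ.w_q, ← hb, Category.assoc]; rfl
      exact ⟨(Obj.Hom.isPullback_top φ).lift ψ.top (z.q ≫ g.left) hw,
        (Obj.Hom.isPullback_top φ).lift_fst _ _ _, (Obj.Hom.isPullback_top φ).lift_snd _ _ _⟩
    have wp : t ≫ y.p = z.p := by
      rw [← φ.w_p, ← Category.assoc, ht1, ψ.w_p]
    obtain ⟨b, tt, wp', wq', c', cart'⟩ := ψ
    change g ≫ φ.base = b at hb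
    change t ≫ φ.top = tt at ht1
    subst hb
    subst ht1
    obtain ⟨χ, hχb, hχt, hχ⟩ := existsUnique_factor φ g t wp ht2 wp' wq' c' cart'
    refine ⟨χ, ⟨?_, hχ⟩, ?_⟩
    · rw [← hχb]
      exact inferInstanceAs ((Obj.forget f).IsHomLift ((Obj.forget f).map χ) χ)
    · rintro χ' ⟨hχ'1, hχ'2⟩
      have hb' : χ'.base = g := (IsHomLift.eq_of_isHomLift (Obj.forget f) g χ').symm
      have htop : χ'.top = t := by
        apply (Obj.Hom.isPullback_top φ).hom_ext
        · have := congrArg Obj.Hom.top hχ'2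
          exact this
        · exact χ'.w_q.trans ((congrArg (fun b => z.q ≫ Over.Hom.left b) hb').trans ht2.symm)
      replace hχ'2 : χ' ≫ φ = χ ≫ φ := hχ'2.trans hχ.symm
      obtain ⟨b1, t1, wp1, wq1, c1, cart1⟩ := χ'
      obtain ⟨b2, t2, wp2, wq2, c2, cart2⟩ := χ
      change b1 = g at hb'
      change t1 = t at htop
      change b2 = g at hχb
      change t2 = t at hχt
      subst hb' htop
      subst hχb
      subst hχt
      have hc : c1 = c2 := by
        apply factor_unique φ.cart
        have h := hχ'2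
        injection h with _ _ h3
      subst hc
      rfl

end Fam

end Groth.Agent.Lib.Helper66.ModStFib
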