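import Groth.Agent.Lib.Helper66.OpenCoverSetoid
import Groth.Agent.Lib.Helper66.SmBoot10
import Groth.Agent.Lib.Helper66.AlgStImmFacts
import Groth.Agent.Lib.Helper66.AlgStBridgeRep
import Groth.Agent.Lib.Helper65.BasedPost
import Groth.Agent.Lib.Helper65.StkBasic
import Groth.Agent.Lib.Helper65.StPoints2
import Groth.Agent.Lib.Helper54.EtaleOverField

/-!
# Helper66: an algebraic stack covered by open substacks which are schemes is a scheme
-/

set_option autoImplicit false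
set_option backward.isDefEq.respectTransparency false
set_option backward.isDefEq.respectTransparency.types false

universe w u

open CategoryTheory CategoryTheory.Functor CategoryTheory.Limits AlgebraicGeometry

namespace Groth.Agent.Lib.Helper66.OpenCoverScheme

open FibCat Groth.Agent.Lib.Helper31 Groth.Agent.Lib.Helper65 AlgSp
open Groth.Agent.Lib.Helper66.RepWithPDet

variable {S : Scheme.{u}} {𝒳 : AlgSt.Cat S}

/-- An algebraic space all of whose points lie in the schematic locus is (the sheaf of) a scheme. -/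
theorem exists_iso_yon_of_schematicLocus_eq_univ {X : Sp S} (hX : IsAlgSpace X)
    (h : Groth.Agent.H53.ZarGlue.schematicLocus X = Set.univ) :
    ∃ Y : Over S, Nonempty ((yon S).obj Y ≅ X) := by
  obtain ⟨Y, ⟨e⟩⟩ := Groth.Agent.H53.ZarGlue.exists_iso_yon_openSub_schematicLocus hX
  rw [h] at e
  have h1 : RepWith @IsOpenImmersion (Groth.Agent.Lib.Helper54.openSubι X Set.univ) :=
    Groth.Agent.Lib.Helper54.repWith_isOpenImmersion_openSubι X _ isOpen_univ
  have h2 : RepWith @IsOpenImmersion (𝟙 X) := Groth.Agent.H52.repWith_of_isIso _ _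
  obtain ⟨e', -⟩ := Groth.Agent.Lib.Helper54.exists_iso_of_range_eq
    (Groth.Agent.Lib.Helper54.openSubι X Set.univ) (𝟙 X) h1 h2 (by
    rw [Groth.Agent.Lib.Helper54.range_points_map_openSubι]
    symm
    rw [Set.eq_univ_iff_forall]
    intro x
    exact ⟨x, by rw [Points.map_id]⟩)
  exact ⟨Y, ⟨e ≪≫ e'⟩⟩

theorem isRepresentable_of_open_cover (h𝒳 : AlgSt.IsAlgStack Scheme.fppfPrecoverage 𝒳) {κ : Type w}
    (Q : κ → 𝒳.obj → Prop) (hQ : ∀ i, AlgSt.IsOpenSubstack 𝒳 (Q i) Scheme.fppfPrecoverage)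
    (hcov : ⋃ i, Set.range (AlgSt.Points.map (AlgSt.subIncl 𝒳 (Q i))) = Set.univ)
    (hsch : ∀ i, FibCat.IsRepresentable (AlgSt.fullSub 𝒳 (Q i))) : FibCat.IsRepresentable 𝒳 := by
  -- each open substack is an algebraic space
  have hw : ∀ i, ∃ (U : Over S) (w : AlgSt.ofSp ((yon S).obj U) ⥤ᵇ AlgSt.fullSub 𝒳 (Q i)),
      IsEquivOver w := by
    intro i
    obtain ⟨U, G, hG⟩ := hsch i
    obtain ⟨G', hG', -, -⟩ := exists_inverse_equivOver G hG
    exact ⟨U, BasedFunctor.comp (AlgSt.toOverCat U) G',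
      isEquivOver_comp _ _ (toOverCat_isEquivOver U) hG'⟩
  have hset : ∀ i, FibCat.IsFibSetoid (AlgSt.fullSub 𝒳 (Q i)).p := by
    intro i
    obtain ⟨U, w, hw⟩ := hw i
    exact isFibSetoid_of_equivOver w hw (isFibSetoid_ofPsh _)
  obtain ⟨F, E, hE⟩ := Groth.Agent.Lib.Helper66.SmBoot.repByAlgSp_of_isAlgStack_of_isFibSetoid h𝒳
    (Groth.Agent.Lib.Helper66.OpenCoverSetoid.isFibSetoid_of_open_cover h𝒳 Q hQ hcov hset)
  obtain ⟨E', hE', ⟨i₁⟩, ⟨i₂⟩⟩ := exists_inverse_equivOver E hE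
  -- `F` is a scheme
  have hF : ∃ Y : Over S, Nonempty ((yon S).obj Y ≅ F.obj) := by
    apply exists_iso_yon_of_schematicLocus_eq_univ F.property
    rw [Set.eq_univ_iff_forall]
    intro x
    have hx' : AlgSt.Points.map E ((ptsEquiv F.obj).symm x) ∈
        ⋃ i, Set.range (AlgSt.Points.map (AlgSt.subIncl 𝒳 (Q i))) := by
      rw [hcov]; trivial
    obtain ⟨i, z, hz⟩ := Set.mem_iUnion.1 hx'
    obtain ⟨U, w, hw⟩ := hw i
    let y : AlgSt.ofSp ((yon S).obj U) ⥤ᵇ AlgSt.ofSp F.obj :=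
      BasedFunctor.comp (BasedFunctor.comp w (AlgSt.subIncl 𝒳 (Q i))) E'
    let a : (yon S).obj U ⟶ F.obj := ObjectProperty.homMk (pshMapOf y)
    have iso_y : y ≅ AlgSt.ofSpMap a := isoOfPshMap y
    have hy : AlgSt.RepByAlgSpWith (RepWith @IsOpenImmersion) y := by
      refine repByAlgSpWith_of_square _ (AlgSt.subIncl 𝒳 (Q i)) y w E hw hE ?_ (hQ i).2.2
      exact bWhiskerLeftIso (BasedFunctor.comp w (AlgSt.subIncl 𝒳 (Q i))) i₂
    have ha : AlgSt.RepByAlgSpWith (RepWith @IsOpenImmersion) (AlgSt.ofSpMap a) :=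
      repByAlgSpWith_of_iso _ iso_y.symm hy
    have ha1 : RepBySp a.hom := by
      apply repBySp_of_repByAlgSp1
      intro V z
      obtain ⟨G, e, he, -⟩ := ha V z
      exact ⟨G, e, he⟩
    have ha2 : RepBySpWith (RepWith @IsOpenImmersion) a.hom :=
      repBySpWith_of_repByAlgSpWith a.hom _ ha1 ha
    have ha3 : RepWith @IsOpenImmersion a := by
      refine Groth.Agent.Lib.Helper66.AlgStImmFacts.detected_repWith @IsOpenImmersion
        (V := ⟨(yon S).obj U, IsAlgSpace.yon_obj U⟩) (Z := F) a ?_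
      intro V ξ F' fst snd sq
      obtain ⟨hsh, hA, hP⟩ := ha2 ξ fst snd sq
      exact ⟨hsh, hA, hP, hA, IsAlgSpace.yon_obj V⟩
    refine ⟨U, a, ha3, ?_⟩
    obtain ⟨z', hz'⟩ := (points_map_bijective_of_isEquivOver w hw).2 z
    refine ⟨ptsEquiv _ z', ?_⟩
    rw [← ptsEquiv_map, ← points_map_congr iso_y, points_map_comp, points_map_comp, hz', hz,
      ← points_map_comp, points_map_congr i₁, points_map_id, Equiv.apply_symm_apply]
  obtain ⟨Y, ⟨φ⟩⟩ := hF
  -- conclude
  have h1 : IsEquivOver (AlgSt.ofSpMap φ.inv) :=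
    Groth.Agent.Lib.Helper66.AlgStBridgeRep.isEquivOver_ofSpMap_of_isIso φ.inv
  exact ⟨Y, BasedFunctor.comp E' (BasedFunctor.comp (AlgSt.ofSpMap φ.inv) (AlgSt.toOverCat Y)),
    isEquivOver_comp _ _ hE' (isEquivOver_comp _ _ h1 (toOverCat_isEquivOver Y))⟩

end Groth.Agent.Lib.Helper66.OpenCoverScheme
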