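import Groth.Agent.Lib.Helper65.SubStBij
import Groth.Agent.Lib.Helper65.SubStPts
import Groth.Agent.Lib.Helper65.StOpen
import Groth.Agent.Lib.Helper65.LocalEq
import Groth.Agent.Lib.Helper65.GerbeBasic
import Groth.Agent.Lib.Helper51.OpenImmDescent

/-!
# Helper66: an algebraic stack covered by open substacks fibred in setoids is fibred in setoids
-/

set_option autoImplicit false
set_option backward.isDefEq.respectTransparency false
set_option backward.isDefEq.respectTransparency.types false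

universe w v u

open CategoryTheory CategoryTheory.Functor CategoryTheory.Limits AlgebraicGeometry

namespace Groth.Agent.Lib.Helper66.OpenCoverSetoid

open FibCat Groth.Agent.Lib.Helper31 Groth.Agent.Lib.Helper65

section General

variable {C : Type u} [Category.{v} C] {𝒳 : BasedCategory.{v, w} C}

/-- A category fibred in groupoids all of whose automorphisms over identities are trivial is fibred in
setoids. -/
theorem isFibSetoid_of_aut_trivial (h𝒳 : IsFibGrpd 𝒳.p)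
    (h : ∀ (t : 𝒳.obj) (χ : t ⟶ t), 𝒳.p.IsHomLift (𝟙 (𝒳.p.obj t)) χ → χ = 𝟙 t) :
    IsFibSetoid 𝒳.p := by
  refine ⟨h𝒳, ?_⟩
  intro U a b
  constructor
  intro φ ψ
  have hφ : 𝒳.p.IsHomLift (𝟙 U) φ.1 := φ.2
  have hψ : 𝒳.p.IsHomLift (𝟙 U) ψ.1 := ψ.2
  have hiso : IsIso ψ.1 := isIso_of_isHomLift_id h𝒳 ψ.1 hψ
  have hinv : 𝒳.p.IsHomLift (𝟙 U) (inv ψ.1) := by
    have : 𝒳.p.IsHomLift (𝟙 U) (asIso ψ.1).hom := hψ
    exact inferInstanceAs (𝒳.p.IsHomLift (𝟙 U) (asIso ψ.1).inv)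
  have ha : 𝒳.p.obj a.1 = U := a.2
  have hχ : 𝒳.p.IsHomLift (𝟙 (𝒳.p.obj a.1)) (φ.1 ≫ inv ψ.1) := by
    have : 𝒳.p.IsHomLift (𝟙 U ≫ 𝟙 U) (φ.1 ≫ inv ψ.1) := inferInstance
    rw [Category.comp_id] at this
    exact isHomLift_id_of_eq 𝒳.p ha.symm _
  have e := h a.1 (φ.1 ≫ inv ψ.1) hχ
  apply Functor.Fiber.hom_ext
  calc φ.1 = (φ.1 ≫ inv ψ.1) ≫ ψ.1 := by simp
    _ = ψ.1 := by rw [e, Category.id_comp]

end General

variable {S : Scheme.{u}} {𝒳 : AlgSt.Cat S}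

/-- Automorphisms of an algebraic stack covered by open substacks with trivial automorphisms are trivial. -/
theorem aut_trivial_of_open_cover (h𝒳 : AlgSt.IsAlgStack Scheme.fppfPrecoverage 𝒳) {κ : Type w}
    (Q : κ → 𝒳.obj → Prop) (hQ : ∀ i, AlgSt.IsOpenSubstack 𝒳 (Q i) Scheme.fppfPrecoverage)
    (hcov : ⋃ i, Set.range (AlgSt.Points.map (AlgSt.subIncl 𝒳 (Q i))) = Set.univ)
    (haut : ∀ i (s : 𝒳.obj), Q i s → ∀ χ : s ⟶ s, 𝒳.p.IsHomLift (𝟙 (𝒳.p.obj s)) χ → χ = 𝟙 s)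
    (t : 𝒳.obj) (χ : t ⟶ t) (hχ : 𝒳.p.IsHomLift (𝟙 (𝒳.p.obj t)) χ) : χ = 𝟙 t := by
  have hg : IsFibGrpd 𝒳.p := h𝒳.isStack.1
  obtain ⟨U, hU⟩ : ∃ U : Over S, U = 𝒳.p.obj t := ⟨_, rfl⟩
  have hE : (evalAtId 𝒳 (𝒳.p.obj t)).IsEquivalence := evalAtId_isEquivalence_of_isFibGrpd hg _
  obtain ⟨Y, ⟨e₀⟩⟩ := Functor.EssSurj.mem_essImage (evalAtId 𝒳 (𝒳.p.obj t))
    (⟨t, rfl⟩ : 𝒳.p.Fiber (𝒳.p.obj t))
  let e : Y.obj (Over.mk (𝟙 (𝒳.p.obj t))) ≅ t :=
    (Functor.Fiber.fiberInclusion (p := 𝒳.p) (S := 𝒳.p.obj t)).mapIso e₀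
  have he : 𝒳.p.IsHomLift (𝟙 (𝒳.p.obj t)) e.hom := e₀.hom.2
  let T : κ → Set (AlgSt.Points 𝒳) := fun i => Set.range (AlgSt.Points.map (AlgSt.subIncl 𝒳 (Q i)))
  have hT : ∀ i, IsOpen (T i) := fun i => isOpen_range_subIncl h𝒳 (Q i) (hQ i)
  let O : κ → (𝒳.p.obj t).left.Opens := fun i =>
    ⟨AlgSt.Points.ofChart Y ⁻¹' T i, (continuous_ofChart hg h𝒳.atlas Y).isOpen_preimage _ (hT i)⟩
  -- the key: objects over a morphism landing in `O i` lie in `Q i`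
  have key : ∀ i ⦃V : Over S⦄ (f : V ⟶ 𝒳.p.obj t), Set.range f.left ⊆ (O i : Set _) →
      ∀ (s : 𝒳.obj) (ψ : s ⟶ t), 𝒳.p.IsHomLift f ψ → Q i s := by
    intro i V f hf s ψ hψ
    rw [prop_iff_ptsProp_range (Q i) h𝒳 (hQ i)]
    let a : Over (𝒳.p.obj t) := Over.mk f
    have h1 : 𝒳.p.IsHomLift f (Y.map (toId a) ≫ e.hom) := by
      have h2 : 𝒳.p.IsHomLift a.hom (Y.map (toId a)) := map_toId_isHomLift Y a
      have : 𝒳.p.IsHomLift (a.hom ≫ 𝟙 (𝒳.p.obj t)) (Y.map (toId a) ≫ e.hom) := inferInstance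
      rw [Category.comp_id] at this
      exact this
    obtain ⟨c, -, -⟩ := exists_comparison hg f (Y.map (toId a) ≫ e.hom) h1 ψ hψ
    refine ptsProp_of_hom _ c.hom ?_
    rw [ptsProp_obj_iff _ hg Y a]
    intro x
    exact hf ⟨x, rfl⟩
  -- the covering sieve
  let R : Sieve (𝒳.p.obj t) :=
    { arrows := fun V f => ∃ i, Set.range f.left ⊆ (O i : Set _)
      downward_closed := by
        rintro V W f ⟨i, hi⟩ g
        refine ⟨i, ?_⟩
        rintro _ ⟨x, rfl⟩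
        exact hi ⟨g.left x, by simp⟩ }
  have hR : R ∈ AlgSp.J S (𝒳.p.obj t) := by
    refine Groth.Agent.Lib.Helper51.mem_J_of_fppf_family
      (fun i => Over.mk ((O i).ι ≫ (𝒳.p.obj t).hom))
      (fun i => Over.homMk (O i).ι rfl) (fun i => ?_) (fun i => ?_) ?_ R ?_
    · change Flat (O i).ι
      infer_instance
    · change LocallyOfFinitePresentation (O i).ι
      infer_instance
    · intro x
      have hx : AlgSt.Points.ofChart Y x ∈ ⋃ i, T i := by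
        rw [hcov]; trivial
      obtain ⟨i, hi⟩ := Set.mem_iUnion.1 hx
      refine ⟨i, ?_⟩
      change x ∈ Set.range (O i).ι
      rw [Scheme.Opens.range_ι]
      exact hi
    · intro i
      refine ⟨i, ?_⟩
      change Set.range (O i).ι ⊆ _
      rw [Scheme.Opens.range_ι]
  have hfaith : (Stk.resSieve R 𝒳).Faithful := by
    have := h𝒳.isStack.2 R hR
    have h2 : (Stk.resSieve R 𝒳).IsEquivalence := this
    infer_instance
  refine eq_id_of_locally hg t R hfaith χ ?_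
  rintro V f ⟨i, hi⟩ s ψ hψ
  have hs : Q i s := key i f hi s ψ hψ
  have h1 : 𝒳.p.IsHomLift f (ψ ≫ χ) := by
    have : 𝒳.p.IsHomLift (f ≫ 𝟙 (𝒳.p.obj t)) (ψ ≫ χ) := inferInstance
    rw [Category.comp_id] at this
    exact this
  obtain ⟨c, hc, hc2⟩ := exists_comparison hg f ψ hψ (ψ ≫ χ) h1
  have hV : 𝒳.p.obj s = V := IsHomLift.domain_eq 𝒳.p f ψ
  have hc' : 𝒳.p.IsHomLift (𝟙 (𝒳.p.obj s)) c.hom := isHomLift_id_of_eq 𝒳.p hV.symm c.hom
  have e1 := haut i s hs c.hom hc'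
  rw [e1, Category.id_comp] at hc2
  exact hc2.symm

/-- An algebraic stack covered by open substacks which are fibred in setoids is fibred in setoids. -/
theorem isFibSetoid_of_open_cover (h𝒳 : AlgSt.IsAlgStack Scheme.fppfPrecoverage 𝒳) {κ : Type w}
    (Q : κ → 𝒳.obj → Prop) (hQ : ∀ i, AlgSt.IsOpenSubstack 𝒳 (Q i) Scheme.fppfPrecoverage)
    (hcov : ⋃ i, Set.range (AlgSt.Points.map (AlgSt.subIncl 𝒳 (Q i))) = Set.univ)
    (hset : ∀ i, IsFibSetoid (AlgSt.fullSub 𝒳 (Q i)).p) : IsFibSetoid 𝒳.p := by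
  refine isFibSetoid_of_aut_trivial h𝒳.isStack.1 ?_
  intro t χ hχ
  refine aut_trivial_of_open_cover h𝒳 Q hQ hcov ?_ t χ hχ
  intro i s hs χ' hχ'
  -- `χ'` is an automorphism of `⟨s, hs⟩` in the full subcategory, lying over the identity
  let s' : (AlgSt.fullSub 𝒳 (Q i)).obj := ⟨s, hs⟩
  let χ'' : s' ⟶ s' := ObjectProperty.homMk χ'
  have h1 : (AlgSt.fullSub 𝒳 (Q i)).p.IsHomLift (𝟙 ((AlgSt.fullSub 𝒳 (Q i)).p.obj s')) χ'' :=
    (fullSub_isHomLift_iff (Q i) _ χ'').2 hχ'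
  have h2 : (AlgSt.fullSub 𝒳 (Q i)).p.IsHomLift (𝟙 ((AlgSt.fullSub 𝒳 (Q i)).p.obj s')) (𝟙 s') :=
    IsHomLift.id rfl
  have := eq_of_isThin_fiber (U := (AlgSt.fullSub 𝒳 (Q i)).p.obj s') (hset i).2 χ'' (𝟙 s')
  exact congrArg (fun k => k.hom) this

end Groth.Agent.Lib.Helper66.OpenCoverSetoid
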