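import Groth.Agent.Lib.Helper66.DiagSurjLift

/-!
# Helper66: lifting an object through an open immersion of stacks which is surjective over a chart

* `exists_obj_iso_of_section`: a section of the projection `T ×_𝒴 𝒳 ⟶ T` gives an object of `𝒳` over `T`
  whose image is isomorphic to the given `T`-point of `𝒴`.
* `exists_section_of_isOpenImmersion`: an open immersion of an algebraic space into a scheme which is
  surjective on points has a section.
* `exists_obj_iso_of_isOpenImm`: if `f : 𝒳 ⟶ 𝒴` is an open immersion and every point of `T` lifts to `𝒳`, then the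
  `T`-point of `𝒴` lifts to `𝒳`.
-/

set_option autoImplicit false
set_option backward.isDefEq.respectTransparency false
set_option backward.isDefEq.respectTransparency.types false

universe u

open CategoryTheory CategoryTheory.Functor CategoryTheory.Limits Opposite AlgebraicGeometry

namespace Groth.Agent.Lib.Helper66.OpenImmSection

open FibCat Groth.Agent.Lib.Helper31 Groth.Agent.Lib.Helper65

variable {S : Scheme.{u}} {𝒳 𝒴 : AlgSt.Cat S}

/-- A section of the projection `T ×_𝒴 𝒳 ⟶ T` gives an object of `𝒳` lifting the `T`-point of `𝒴`. -/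
theorem exists_obj_iso_of_section (f : 𝒳 ⥤ᵇ 𝒴) {T : Over S} (Y : FibCat.overCat T ⥤ᵇ 𝒴)
    (G : AlgSp.Space S) (e : AlgSt.ofSp G.obj ⥤ᵇ fp Y f)
    (g : (AlgSp.yon S).obj T ⟶ G.obj)
    (hg : g ≫ AlgSt.spMapOfOver (BasedFunctor.comp e (fpFst Y f)) = 𝟙 _) :
    ∃ (x : 𝒳.obj) (φ : Y.obj (Over.mk (𝟙 T)) ≅ f.obj x), 𝒴.p.IsHomLift (𝟙 T) φ.hom := by
  let Ψ : FibCat.overCat T ⥤ᵇ fp Y f :=
    BasedFunctor.comp (AlgSt.ofOverCat T) (BasedFunctor.comp (AlgSt.ofSpMap g) e)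
  have hid : BasedFunctor.comp (BasedFunctor.comp (AlgSt.ofOverCat T) (AlgSt.ofSpMap g))
      (BasedFunctor.comp (AlgSt.ofSpMap
        (AlgSt.spMapOfOver (BasedFunctor.comp e (fpFst Y f))))
        (AlgSt.toOverCat T)) = BasedFunctor.id _ := by
    change BasedFunctor.comp (AlgSt.ofOverCat T) (BasedFunctor.comp (AlgSt.ofSpMap
      (g ≫ AlgSt.spMapOfOver (BasedFunctor.comp e (fpFst Y f))))
      (AlgSt.toOverCat T)) = _
    rw [hg]
    rfl
  let i : BasedFunctor.comp Ψ (fpFst Y f) ≅ BasedFunctor.id _ :=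
    bWhiskerLeftIso (BasedFunctor.comp (AlgSt.ofOverCat T) (AlgSt.ofSpMap g))
      (isoSpMapOfOver (BasedFunctor.comp e (fpFst Y f))) ≪≫ eqToIso hid
  let a₀ : Over T := Over.mk (𝟙 T)
  let α : a₀ ≅ (Ψ.obj a₀).obj.fst := (basedIsoToNatIso i).symm.app a₀
  refine ⟨(Ψ.obj a₀).obj.snd, Y.toFunctor.mapIso α ≪≫ (Ψ.obj a₀).obj.iso, ?_⟩
  have h1 : (FibCat.overCat T).p.IsHomLift (𝟙 T) α.hom :=
    i.inv.isHomLift (a := a₀) (rfl : (FibCat.overCat T).p.obj a₀ = T)
  have hb : (FibCat.overCat T).p.obj (Ψ.obj a₀).obj.fst = T :=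
    IsHomLift.codomain_eq (FibCat.overCat T).p (𝟙 T) α.hom
  have h2 : 𝒴.p.IsHomLift (𝟙 T) (Y.map α.hom) := inferInstance
  have h3 : 𝒴.p.IsHomLift (𝟙 ((FibCat.overCat T).p.obj (Ψ.obj a₀).obj.fst))
      (Ψ.obj a₀).obj.iso.hom := (Ψ.obj a₀).property
  have h3' : 𝒴.p.IsHomLift (𝟙 T) (Ψ.obj a₀).obj.iso.hom := by
    have key : ∀ (X : Over S) (_ : X = T), 𝒴.p.IsHomLift (𝟙 X) (Ψ.obj a₀).obj.iso.hom →
        𝒴.p.IsHomLift (𝟙 T) (Ψ.obj a₀).obj.iso.hom := by
      intro X hX h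
      subst hX
      exact h
    exact key _ hb h3
  have h4 : 𝒴.p.IsHomLift (𝟙 T ≫ 𝟙 T) (Y.map α.hom ≫ (Ψ.obj a₀).obj.iso.hom) := inferInstance
  rw [Category.comp_id] at h4
  exact h4

/-- An open immersion into a scheme which is surjective on points has a section. -/
theorem exists_section_of_isOpenImmersion {G : AlgSp.Sp S} {T : Over S} (q : G ⟶ (AlgSp.yon S).obj T)
    (hq : AlgSp.RepWith @IsOpenImmersion q) (hs : Function.Surjective (AlgSp.Points.map q)) :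
    ∃ g : (AlgSp.yon S).obj T ⟶ G, g ≫ q = 𝟙 _ := by
  have hrep := hq.rep
  have hsurj : AlgSp.RepWith @Surjective q :=
    Groth.Agent.H52.repWith_surjective_of_surjective_points q hrep hs
  have sq := hrep.isPullback (𝟙 ((AlgSp.yon S).obj T))
  have h1 : IsOpenImmersion (hrep.snd (𝟙 ((AlgSp.yon S).obj T))).left := hq.2 _ _ _ sq
  have h2 : Surjective (hrep.snd (𝟙 ((AlgSp.yon S).obj T))).left := hsurj.2 _ _ _ sq
  have h3 : IsIso (hrep.snd (𝟙 ((AlgSp.yon S).obj T))).left :=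
    (isIso_iff_isOpenImmersion_and_surjective _).2 ⟨h1, h2⟩
  have h4 : IsIso (hrep.snd (𝟙 ((AlgSp.yon S).obj T))) := by
    have : IsIso ((Over.forget S).map (hrep.snd (𝟙 ((AlgSp.yon S).obj T)))) := h3
    exact isIso_of_reflects_iso _ (Over.forget S)
  refine ⟨(AlgSp.yon S).map (inv (hrep.snd (𝟙 ((AlgSp.yon S).obj T)))) ≫
    hrep.fst (𝟙 ((AlgSp.yon S).obj T)), ?_⟩
  rw [Category.assoc, sq.w, Category.comp_id, ← Functor.map_comp, IsIso.inv_hom_id]
  exact (AlgSp.yon S).map_id T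

/-- If `f : 𝒳 ⟶ 𝒴` is an open immersion and the image in `|𝒴|` of every point of the scheme `T` under a `T`-point `Y`
of `𝒴` lies in the image of `|𝒳|`, then `Y` lifts to an object of `𝒳` over `T`. -/
theorem exists_obj_iso_of_isOpenImm (h𝒳 : IsFibGrpd 𝒳.p) (h𝒴 : IsFibGrpd 𝒴.p) (f : 𝒳 ⥤ᵇ 𝒴)
    (hf : AlgSt.RepByAlgSpWith (AlgSp.RepWith @IsOpenImmersion) f) (T : Over S)
    (Y : FibCat.overCat T ⥤ᵇ 𝒴)
    (hpt : ∀ t : T.left, AlgSt.Points.map Y (chartPt T t) ∈ Set.range (AlgSt.Points.map f)) :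
    ∃ (x : 𝒳.obj) (φ : Y.obj (Over.mk (𝟙 T)) ≅ f.obj x), 𝒴.p.IsHomLift (𝟙 T) φ.hom := by
  obtain ⟨G, e, he, hopen⟩ := hf T Y
  have hT : IsFibGrpd (FibCat.overCat T).p := isFibGrpd_overForget T
  have hfp : IsFibGrpd (fp Y f).p := isFibGrpd_fp Y f hT h𝒳 h𝒴
  let A : AlgSt.ofSp G.obj ⥤ᵇ FibCat.overCat T := BasedFunctor.comp e (fpFst Y f)
  have hs : Function.Surjective (AlgSp.Points.map (AlgSt.spMapOfOver A)) := by
    intro y
    obtain ⟨t, rfl⟩ := (AlgSp.Points.schemeEquiv T).surjective y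
    obtain ⟨x, hx⟩ := hpt t
    obtain ⟨w₁, hw₁, -⟩ := exists_points_fp h𝒳 h𝒴 hT f Y (chartPt T t) x hx.symm
    obtain ⟨w₂, rfl⟩ := (points_map_bijective_of_isEquivOver e he).2 w₁
    refine ⟨ptsEquiv G.obj w₂, ?_⟩
    rw [← ptsEquiv_map]
    have e1 : AlgSt.Points.map A w₂ = chartPt T t := by
      rw [← hw₁]
      exact points_map_comp e (fpFst Y f) w₂
    have e2 : AlgSt.Points.map (BasedFunctor.comp (AlgSt.ofSpMap (AlgSt.spMapOfOver A))
        (AlgSt.toOverCat T)) w₂ = AlgSt.Points.map A w₂ :=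
      (points_map_congr (isoSpMapOfOver A) w₂).symm
    rw [points_map_comp, e1] at e2
    have e3 := congrArg (AlgSt.Points.map (AlgSt.ofOverCat T)) e2
    rw [← points_map_comp] at e3
    have e4 : BasedFunctor.comp (AlgSt.toOverCat T) (AlgSt.ofOverCat T) = BasedFunctor.id _ := rfl
    rw [e4, points_map_id] at e3
    rw [e3, ptsEquiv_ofOverCat_chartPt]
    rfl
  obtain ⟨g, hg⟩ := exists_section_of_isOpenImmersion (AlgSt.spMapOfOver A) hopen hs
  exact exists_obj_iso_of_section f Y G e g hg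

end Groth.Agent.Lib.Helper66.OpenImmSection
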