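import Mathlib

/-!
# Projective dimension along a resolution by projectives (helper66)

For `φ : F → N` with `F` projective and `K ≃ ker φ`: `pd K < j → pd (range φ) < j+1` and
`pd (range φ) < j+2 → pd K < j+1`.
-/

set_option autoImplicit false
universe u

namespace Groth.Agent.Lib.Helper66.PdChain

open CategoryTheory

variable {R : Type u} [CommRing R]

section Step
variable {F N K : Type u} [AddCommGroup F] [Module R F] [Module.Projective R F]
  [AddCommGroup N] [Module R N] [AddCommGroup K] [Module R K]
  (φ : F →ₗ[R] N) (e : K ≃ₗ[R] LinearMap.ker φ)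

theorem shortExact_range : (φ.rangeRestrict).shortComplexKer.ShortExact :=
  LinearMap.shortExact_shortComplexKer φ.surjective_rangeRestrict

/-- the kernel term of the short exact sequence is `K` -/
noncomputable def isoX₁ : ModuleCat.of R K ≅ (φ.rangeRestrict).shortComplexKer.X₁ :=
  (e.trans (LinearEquiv.ofEq _ _ (LinearMap.ker_rangeRestrict φ).symm)).toModuleIso

instance projective_of : Projective (ModuleCat.of R F) :=
  (IsProjective.iff_projective F).mp inferInstance

include e in
theorem pdLT_range_succ (j : ℕ) (h : HasProjectiveDimensionLT (ModuleCat.of R K) j) :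
    HasProjectiveDimensionLT (ModuleCat.of R (LinearMap.range φ)) (j + 1) := by
  have h1 : HasProjectiveDimensionLT (φ.rangeRestrict).shortComplexKer.X₁ j :=
    hasProjectiveDimensionLT_of_iso (isoX₁ φ e) j
  have h2 : HasProjectiveDimensionLT (φ.rangeRestrict).shortComplexKer.X₂ (j + 1) := by
    change HasProjectiveDimensionLT (ModuleCat.of R F) (j + 1)
    exact hasProjectiveDimensionLT_of_ge _ 1 (j + 1) (by omega)
  exact (shortExact_range φ).hasProjectiveDimensionLT_X₃ j h1 h2

include e in
theorem pdLT_ker_of_range (j : ℕ)
    (h : HasProjectiveDimensionLT (ModuleCat.of R (LinearMap.range φ)) (j + 2)) :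
    HasProjectiveDimensionLT (ModuleCat.of R K) (j + 1) := by
  have h2 : HasProjectiveDimensionLT (φ.rangeRestrict).shortComplexKer.X₂ (j + 1) := by
    change HasProjectiveDimensionLT (ModuleCat.of R F) (j + 1)
    exact hasProjectiveDimensionLT_of_ge _ 1 (j + 1) (by omega)
  have h3 : HasProjectiveDimensionLT (φ.rangeRestrict).shortComplexKer.X₃ (j + 1 + 1) := h
  have h1 := (shortExact_range φ).hasProjectiveDimensionLT_X₁ (j + 1) h2 h3
  exact hasProjectiveDimensionLT_of_iso (isoX₁ φ e).symm (j + 1)

end Step

end Groth.Agent.Lib.Helper66.PdChain
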