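import Mathlib
import Groth.Prelude.Def_GrSyz
import Groth.Agent.Lib.Helper66.StdGr
import Groth.Agent.Lib.Helper66.PdChain

/-!
# Length of a minimal graded free resolution = projective dimension (helper66)
-/

set_option autoImplicit false
universe u

namespace Groth.Agent.Lib.Helper66.PdRes

open CategoryTheory Groth.Agent.Lib.Helper66.PdChain

variable {k : Type u} [Field k] {r : ℕ}

local notation "S" => MvPolynomial (Fin (r + 1)) k
local notation "𝒜" => GrSyz.stdGr k (Fin (r + 1))
local notation "𝔪" => HomogeneousIdeal.toIdeal (GrSyz.irrel (GrSyz.stdGr k (Fin (r + 1))))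

section Nak

/-- **Nakayama step.** If the range of `φ` is projective and `ker φ` is the image of a matrix with
entries in the irrelevant ideal, then `ker φ = ⊥`. -/
theorem ker_eq_bot_of_projective_range {a b : ℕ} {N : Type u} [AddCommGroup N] [Module S N]
    (φ : (Fin a → S) →ₗ[S] N) [Module.Projective S (LinearMap.range φ)]
    (D : Matrix (Fin a) (Fin b) S) (hD : ∀ i j, D i j ∈ 𝔪)
    (hex : LinearMap.ker φ = LinearMap.range (Matrix.mulVecLin D)) :
    LinearMap.ker φ = ⊥ := by
  classical
  obtain ⟨s, hs⟩ := Module.projective_lifting_property φ.rangeRestrict LinearMap.id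
    φ.surjective_rangeRestrict
  -- the projection onto the kernel
  let p : (Fin a → S) →ₗ[S] (Fin a → S) := LinearMap.id - s.comp φ.rangeRestrict
  have hpK : ∀ v, p v ∈ LinearMap.ker φ := by
    intro v
    rw [LinearMap.mem_ker]
    have h1 : φ.rangeRestrict (s (φ.rangeRestrict v)) = φ.rangeRestrict v :=
      LinearMap.congr_fun hs (φ.rangeRestrict v)
    have h2 : φ (s (φ.rangeRestrict v)) = φ v := congrArg Subtype.val h1
    simp only [p, LinearMap.sub_apply, LinearMap.id_apply, LinearMap.comp_apply, map_sub, h2,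
      sub_self]
  have hpid : ∀ v ∈ LinearMap.ker φ, p v = v := by
    intro v hv
    have h0 : φ.rangeRestrict v = 0 := Subtype.ext (LinearMap.mem_ker.mp hv)
    simp only [p, LinearMap.sub_apply, LinearMap.id_apply, LinearMap.comp_apply, h0, map_zero,
      sub_zero]
  have hle : LinearMap.ker φ ≤ 𝔪 • LinearMap.ker φ := by
    intro x hx
    have hxm : ∀ i, x i ∈ 𝔪 := by
      rw [hex] at hx
      obtain ⟨v, rfl⟩ := hx
      intro i
      rw [Matrix.mulVecLin_apply, Matrix.mulVec, dotProduct]
      exact sum_mem fun j _ => Ideal.mul_mem_right _ _ (hD i j)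
    rw [← hpid x hx]
    have hsum : x = ∑ i, x i • (Pi.single i (1 : S) : Fin a → S) := by
      funext j
      simp [Finset.sum_apply, Pi.single_apply]
    rw [hsum, map_sum]
    refine sum_mem fun i _ => ?_
    rw [map_smul]
    exact Submodule.smul_mem_smul (hxm i) (hpK _)
  obtain ⟨c, hc1, hc⟩ := Submodule.exists_sub_one_mem_and_smul_eq_zero_of_fg_of_le_smul 𝔪
    (LinearMap.ker φ) (IsNoetherian.noetherian _) hle
  have hc0 : c ≠ 0 := by
    intro h0
    rw [h0, zero_sub, neg_mem_iff] at hc1
    exact Groth.Agent.Lib.Helper66.one_notMem_irrel k (Fin (r + 1)) hc1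
  rw [eq_bot_iff]
  intro x hx
  rw [Submodule.mem_bot]
  funext i
  have := congrFun (hc x hx) i
  rw [Pi.smul_apply, smul_eq_mul, Pi.zero_apply] at this
  exact (mul_eq_zero.mp this).resolve_left hc0

/-- if everything is in the image of a matrix with entries in the irrelevant ideal, the module is
zero -/
theorem eq_zero_of_range_eq_top {a b : ℕ} (D : Matrix (Fin a) (Fin b) S)
    (hD : ∀ i j, D i j ∈ 𝔪) (hex : LinearMap.range (Matrix.mulVecLin D) = ⊤) : a = 0 := by
  classical
  by_contra ha
  have i : Fin a := ⟨0, Nat.pos_of_ne_zero ha⟩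
  have hmem : (Pi.single i (1 : S) : Fin a → S) ∈ LinearMap.range (Matrix.mulVecLin D) := by
    rw [hex]; trivial
  obtain ⟨v, hv⟩ := hmem
  have h1 := congrFun hv i
  rw [Matrix.mulVecLin_apply, Matrix.mulVec, dotProduct, Pi.single_eq_same] at h1
  apply Groth.Agent.Lib.Helper66.one_notMem_irrel k (Fin (r + 1))
  rw [← h1]
  exact sum_mem fun j _ => Ideal.mul_mem_right _ _ (hD i j)

end Nak

end Groth.Agent.Lib.Helper66.PdRes
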