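import Mathlib
import Groth.Prelude.Def_GrSyz
import Groth.Agent.Lib.Helper66.PdRes

/-!
# Length of a minimal graded free resolution = projective dimension, part 2 (helper66)
-/

set_option autoImplicit false
universe u

namespace Groth.Agent.Lib.Helper66.PdRes

open CategoryTheory CategoryTheory.Limits Groth.Agent.Lib.Helper66.PdChain

variable {k : Type u} [Field k] {r : ℕ}

local notation "S" => MvPolynomial (Fin (r + 1)) k
local notation "𝒜" => GrSyz.stdGr k (Fin (r + 1))
local notation "𝔫" => HomogeneousIdeal.toIdeal (GrSyz.irrel (GrSyz.stdGr k (Fin (r + 1))))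

variable {M : Type u} [AddCommGroup M] [Module k M] [Module (MvPolynomial (Fin (r + 1)) k) M]
  {ℳ : ℤ → Submodule k M} [DirectSum.Decomposition ℳ]
  [SetLike.GradedSMul (GrSyz.stdGr k (Fin (r + 1))) ℳ]
  (F : GrSyz.FreeRes (GrSyz.stdGr k (Fin (r + 1))) ℳ)

/-- the `i`-th syzygy (image of the `i`-th map of the augmented resolution) -/
noncomputable def Zmod : ℕ → ModuleCat.{u} S
  | 0 => ModuleCat.of S (LinearMap.range F.augLin)
  | i + 1 => ModuleCat.of S (LinearMap.range (F.dLin i))

theorem up (i j : ℕ) (h : HasProjectiveDimensionLT (Zmod F (i + 1)) j) :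
    HasProjectiveDimensionLT (Zmod F i) (j + 1) := by
  cases i with
  | zero =>
    exact pdLT_range_succ F.augLin (LinearEquiv.ofEq _ _ F.exact_zero.symm) j h
  | succ i =>
    exact pdLT_range_succ (F.dLin i) (LinearEquiv.ofEq _ _ (F.exact_succ i).symm) j h

theorem down (i j : ℕ) (h : HasProjectiveDimensionLT (Zmod F i) (j + 2)) :
    HasProjectiveDimensionLT (Zmod F (i + 1)) (j + 1) := by
  cases i with
  | zero =>
    exact pdLT_ker_of_range F.augLin (LinearEquiv.ofEq _ _ F.exact_zero.symm) j h
  | succ i =>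
    exact pdLT_ker_of_range (F.dLin i) (LinearEquiv.ofEq _ _ (F.exact_succ i).symm) j h

theorem chainUp (m : ℕ) : ∀ i, HasProjectiveDimensionLT (Zmod F (i + m)) 0 →
    HasProjectiveDimensionLT (Zmod F i) m := by
  induction m with
  | zero => intro i h; exact h
  | succ m ih =>
    intro i h
    have h1 : HasProjectiveDimensionLT (Zmod F (i + 1 + m)) 0 := by
      have : i + 1 + m = i + (m + 1) := by omega
      rw [this]; exact h
    exact up F i m (ih (i + 1) h1)

theorem chainDown (m : ℕ) : ∀ i, HasProjectiveDimensionLT (Zmod F i) (m + 1) →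
    HasProjectiveDimensionLT (Zmod F (i + m)) 1 := by
  induction m with
  | zero => intro i h; exact h
  | succ m ih =>
    intro i h
    have h1 := ih (i + 1) (down F i m h)
    have : i + 1 + m = i + (m + 1) := by omega
    rw [this] at h1; exact h1

/-- `M` is the zeroth syzygy -/
noncomputable def isoZero : ModuleCat.of S M ≅ Zmod F 0 :=
  (LinearEquiv.ofTop _ (LinearMap.range_eq_top.mpr F.aug_surjective)).symm.toModuleIso

theorem pdLE_iff (n : ℕ) :
    HasProjectiveDimensionLE (ModuleCat.of S M) n ↔ HasProjectiveDimensionLT (Zmod F 0) (n + 1) :=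
  ⟨fun _ => hasProjectiveDimensionLT_of_iso (isoZero F) (n + 1),
    fun _ => hasProjectiveDimensionLT_of_iso (isoZero F).symm (n + 1)⟩

theorem rk_succ_eq_zero_of_dLin_eq_zero (hF : F.IsMinimal 𝔫) (i : ℕ) (h : F.dLin i = 0) :
    F.rk (i + 1) = 0 := by
  apply eq_zero_of_range_eq_top (F.d (i + 1)) (hF (i + 1))
  have h' : Matrix.mulVecLin (F.d i) = 0 := h
  rw [← F.exact_succ i, h', LinearMap.ker_zero]

theorem rk_eq_zero_of_le (hF : F.IsMinimal 𝔫) (n : ℕ) (h : F.rk (n + 1) = 0) :
    ∀ i, n < i → F.rk i = 0 := by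
  intro i hi
  obtain ⟨j, rfl⟩ : ∃ j, i = n + 1 + j := ⟨i - (n + 1), by omega⟩
  clear hi
  induction j with
  | zero => exact h
  | succ j ih =>
    have hsub : Subsingleton (Fin (F.rk (n + 1 + j)) → S) := by
      rw [ih]; infer_instance
    have hz : F.dLin (n + 1 + j) = 0 := LinearMap.ext fun v => Subsingleton.elim _ _
    exact rk_succ_eq_zero_of_dLin_eq_zero F hF (n + 1 + j) hz

theorem hasLengthLE_iff (hF : F.IsMinimal 𝔫) (n : ℕ) :
    F.HasLengthLE n ↔ HasProjectiveDimensionLE (ModuleCat.of S M) n := by
  rw [pdLE_iff F n]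
  constructor
  · intro hlen
    have hrk : F.rk (n + 1) = 0 := hlen (n + 1) (by omega)
    have hsub : Subsingleton (Fin (F.rk (n + 1)) → S) := by
      rw [hrk]; infer_instance
    have hz : IsZero (Zmod F (n + 1)) := by
      have : Subsingleton (LinearMap.range (F.dLin n)) := by
        constructor
        rintro ⟨_, ⟨v, rfl⟩⟩ ⟨_, ⟨w, rfl⟩⟩
        rw [Subsingleton.elim v w]
      exact ModuleCat.isZero_of_subsingleton (ModuleCat.of _ (LinearMap.range (F.dLin n)))
    have h0 : HasProjectiveDimensionLT (Zmod F (0 + (n + 1))) 0 := by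
      rw [Nat.zero_add]
      exact hz.hasProjectiveDimensionLT_zero
    exact chainUp F (n + 1) 0 h0
  · intro hpd
    have h1 := chainDown F n 0 hpd
    rw [Nat.zero_add] at h1
    have hproj : Projective (Zmod F n) := projective_iff_hasProjectiveDimensionLT_one.mpr h1
    -- the matrix `d n` vanishes
    have hker : F.dLin n = 0 := by
      cases n with
      | zero =>
        have hP : Module.Projective S (LinearMap.range F.augLin) :=
          (IsProjective.iff_projective _).mpr hproj
        have h2 := ker_eq_bot_of_projective_range F.augLin (F.d 0) (hF 0) F.exact_zero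
        rw [F.exact_zero, LinearMap.range_eq_bot] at h2
        exact h2
      | succ n =>
        have hP : Module.Projective S (LinearMap.range (F.dLin n)) :=
          (IsProjective.iff_projective _).mpr hproj
        have h2 := ker_eq_bot_of_projective_range (F.dLin n) (F.d (n + 1)) (hF (n + 1))
          (F.exact_succ n)
        rw [F.exact_succ n, LinearMap.range_eq_bot] at h2
        exact h2
    exact rk_eq_zero_of_le F hF n (rk_succ_eq_zero_of_dLin_eq_zero F hF n hker)

end Groth.Agent.Lib.Helper66.PdRes
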