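import Groth.Agent.S10260
import Groth.Agent.S10322
import Groth.Agent.H52.QC
import Groth.Agent.H52.QS
import Groth.Agent.Lib.Helper66.AlgStBridgeQS
import Groth.Agent.Lib.Helper66.AlgStPFacts
import Mathlib.AlgebraicGeometry.ZariskisMainTheorem
import Mathlib.AlgebraicGeometry.QuasiAffine

/-!
# Helper66: an unramified, separated, quasi-compact morphism from an algebraic space to a scheme is quasi-affine
-/

set_option autoImplicit false
set_option linter.style.haveILetI false

universe u

open CategoryTheory CategoryTheory.Limits AlgebraicGeometry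

namespace Groth.Agent.Lib.Helper66.QuasiAffineDiag

open AlgSp Groth.Agent.Lib.Helper65

variable {S : Scheme.{u}}

/-- Zariski's main theorem: a quasi-finite separated morphism of schemes to an affine scheme has quasi-affine
source. -/
theorem isQuasiAffine_of_lqf_separated {W Z : Scheme.{u}} (j : W ⟶ Z) [IsAffine Z]
    [LocallyQuasiFinite j] [LocallyOfFiniteType j] [IsSeparated j] [QuasiCompact j] :
    W.IsQuasiAffine := by
  haveI : CompactSpace W := QuasiCompact.compactSpace_of_compactSpace j
  haveI : IsAffineHom j.fromNormalization := inferInstance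
  haveI : IsAffine j.normalization := isAffine_of_isAffineHom j.fromNormalization
  exact Scheme.IsQuasiAffine.of_isImmersion j.toNormalization

/-- A morphism from an algebraic space to a scheme which is unramified, separated and quasi-compact is
quasi-affine. -/
theorem isQuasiAffineMor_of_lqf_separated_qc {F : Sp S} (hF : IsAlgSpace F) {U : Over S}
    (f : F ⟶ (yon S).obj U)
    (h1 : LocP (@LocallyQuasiFinite ⊓ @LocallyOfFiniteType) f) (h2 : IsSeparatedMor f)
    (h3 : IsQuasiCompactMor f) : IsQuasiAffineMor f := by
  have hrep : Representable f :=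
    Groth.Agent.S10260.result (X := ⟨F, hF⟩) (Y := ⟨(yon S).obj U, IsAlgSpace.yon_obj U⟩)
      (ObjectProperty.homMk f) h1 h2
  intro Z hZ g
  obtain ⟨W, i, fst, sq⟩ := hrep g
  refine ⟨W, i, fst, sq, ?_⟩
  have hW : IsAlgSpace ((yon S).obj W) := IsAlgSpace.yon_obj W
  have hZs : IsAlgSpace ((yon S).obj Z) := IsAlgSpace.yon_obj Z
  have hUs : IsAlgSpace ((yon S).obj U) := IsAlgSpace.yon_obj U
  -- the base change has the three properties
  have k1 : LocP (@LocallyQuasiFinite ⊓ @LocallyOfFiniteType) ((yon S).map i) :=
    Groth.Agent.Lib.Helper66.AlgStPFacts.stableBC_locP _ Groth.Agent.Lib.Helper66.AlgStPFacts.listed_lqf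
      hF hUs hW hZs f g ((yon S).map i) fst sq h1
  have k2 : IsSeparatedMor ((yon S).map i) :=
    Groth.Agent.H52.repWith_diagonal_of_isPullback @IsClosedImmersion sq h2
  have k3 : IsQuasiCompactMor ((yon S).map i) :=
    Groth.Agent.Lib.Helper66.AlgStBridgeQS.stableBC_isQuasiCompactMor hF hUs hW hZs f g ((yon S).map i) fst sq h3
  -- scheme level
  obtain ⟨m1, m2⟩ := locP_yon_map k1
  haveI : LocallyQuasiFinite i.left := m1
  haveI : LocallyOfFiniteType i.left := m2
  haveI : IsSeparated i.left := (isSeparatedMor_yon_map_iff i).1 k2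
  haveI : IsAffine Z.left := hZ
  haveI : CompactSpace Z.left := inferInstance
  have hqcW : IsQuasiCompactSp ((yon S).obj W) :=
    k3 hZs (Groth.Agent.H52.isQuasiCompactSp_yon Z) (𝟙 _) (𝟙 _) ((yon S).map i)
      (IsPullback.of_horiz_isIso ⟨by simp⟩)
  haveI : CompactSpace W.left := Groth.Agent.H52.compactSpace_of_isQuasiCompactSp_yon W hqcW
  haveI : QuasiCompact i.left := (HasAffineProperty.iff_of_isAffine (P := @QuasiCompact)).2 inferInstance
  exact isQuasiAffine_of_lqf_separated i.left

end Groth.Agent.Lib.Helper66.QuasiAffineDiag
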