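import Groth.Agent.Lib.Helper66.QuotStGlue
import Groth.Agent.Lib.Helper65.SieveRefine

/-!
# Helper66: effectivity for `[X/G]`, part 1 — strict interface to a functor on a sieve

For `t : sieveCat R ⟶ [X/G]` over `(Sch/S)`: the total spaces `tP t b`, the projections `tπ t b` with values in the
domain of the arrow `b` (on the nose), the transition maps `ttop t k`, and their cartesian squares.
-/

set_option autoImplicit false
set_option backward.isDefEq.respectTransparency false
set_option backward.isDefEq.respectTransparency.types false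
set_option linter.unusedSimpArgs false
set_option linter.unusedVariables false

universe u

open CategoryTheory CategoryTheory.Limits MonoidalCategory CartesianMonoidalCategory MonObj GrpObj AlgebraicGeometry

namespace Groth.Agent.Lib.Helper66.QuotStEff

open AlgSt Groth.Agent.Lib.Helper66.QuotStBasic Groth.Agent.Lib.Helper66.QuotStFib
  Groth.Agent.Lib.Helper66.QuotStGlue

variable {S : Scheme.{u}} {K : Precoverage Scheme.{u}} {G : Over S} [GrpObj G] {X : Over S}
  {aX : AlgGrp.Action G X} {U : Over S} {R : Sieve U}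

/-- the object of the sieve category of an arrow of the sieve -/
abbrev bObj {Y : Over S} (f : Y ⟶ U) (hf : R f) : (Stk.sieveCat R).obj := ⟨Over.mk f, hf⟩

/-- the morphism of the sieve category of a commutative triangle -/
abbrev bHom {Y Y' : Over S} {f : Y ⟶ U} {f' : Y' ⟶ U} (hf : R f) (hf' : R f') (m : Y ⟶ Y') (w : m ≫ f' = f) :
    bObj f hf ⟶ bObj f' hf' :=
  ObjectProperty.homMk (Over.homMk (U := Over.mk f) (V := Over.mk f') m w)

theorem bHom_comp {Y Y' Y'' : Over S} {f : Y ⟶ U} {f' : Y' ⟶ U} {f'' : Y'' ⟶ U} (hf : R f) (hf' : R f')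
    (hf'' : R f'') (m : Y ⟶ Y') (w : m ≫ f' = f) (m' : Y' ⟶ Y'') (w' : m' ≫ f'' = f') :
    bHom hf hf' m w ≫ bHom hf' hf'' m' w' =
      bHom hf hf'' (m ≫ m') (by rw [Category.assoc, w', w]) := rfl

theorem bHom_id {Y : Over S} {f : Y ⟶ U} (hf : R f) : bHom hf hf (𝟙 Y) (Category.id_comp f) = 𝟙 _ := rfl

/-- the morphism from an arrow into an object of the sieve category -/
abbrev bTo (b : (Stk.sieveCat R).obj) {Y : Over S} {f : Y ⟶ U} (hf : R f) (m : Y ⟶ b.obj.left)
    (w : m ≫ b.obj.hom = f) : bObj f hf ⟶ b :=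
  ObjectProperty.homMk (Over.homMk (U := Over.mk f) (V := b.obj) m w)

section Obj

/-- the torsor structure over a base equal to a given one -/
theorem cart_aux (A : QuotObj K G aX) {Y : Over S} (e : A.base = Y) :
    IsPullback A.act.act (snd G A.P) (A.π ≫ eqToHom e) (A.π ≫ eqToHom e) := by
  subst e
  simpa using A.cart

theorem loc_aux (A : QuotObj K G aX) {Y : Over S} (e : A.base = Y) :
    NonAbH1.IsLocallyTrivialFor K (Over.mk (A.π ≫ eqToHom e).left : Over Y.left) := by
  subst e
  simpa using A.loc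

theorem hom_cart_aux {A B : QuotObj K G aX} (k : A ⟶ B) {Y Y' : Over S} (eA : A.base = Y) (eB : B.base = Y')
    (m : Y ⟶ Y') (hm : k.base = eqToHom eA ≫ m ≫ eqToHom eB.symm) :
    IsPullback k.top (A.π ≫ eqToHom eA) (B.π ≫ eqToHom eB) m := by
  subst eA eB
  have hm' : k.base = m := by simpa using hm
  subst hm'
  simpa using k.cart

end Obj

variable (t : Stk.sieveCat R ⥤ᵇ QuotSt K G aX)

theorem t_base (b : (Stk.sieveCat R).obj) : (t.obj b).base = b.obj.left := t.w_obj b

theorem t_map_base {b b' : (Stk.sieveCat R).obj} (k : b ⟶ b') :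
    (t.map k).base = eqToHom (t_base t b) ≫ k.hom.left ≫ eqToHom (t_base t b').symm :=
  Functor.congr_hom t.w k

/-- the total space of the torsor over an arrow of the sieve -/
abbrev tP (b : (Stk.sieveCat R).obj) : Over S := (t.obj b).P

/-- its projection, with values in the domain of the arrow -/
def tπ (b : (Stk.sieveCat R).obj) : tP t b ⟶ b.obj.left := (t.obj b).π ≫ eqToHom (t_base t b)

theorem tcart (b : (Stk.sieveCat R).obj) :
    IsPullback (t.obj b).act.act (snd G (tP t b)) (tπ t b) (tπ t b) :=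
  cart_aux (t.obj b) (t_base t b)

theorem tloc (b : (Stk.sieveCat R).obj) :
    NonAbH1.IsLocallyTrivialFor K (Over.mk (tπ t b).left : Over b.obj.left.left) :=
  loc_aux (t.obj b) (t_base t b)

/-- the transition map -/
abbrev ttop {b b' : (Stk.sieveCat R).obj} (k : b ⟶ b') : tP t b ⟶ tP t b' := (t.map k).top

theorem ttop_cart {b b' : (Stk.sieveCat R).obj} (k : b ⟶ b') :
    IsPullback (ttop t k) (tπ t b) (tπ t b') k.hom.left :=
  hom_cart_aux (t.map k) (t_base t b) (t_base t b') k.hom.left (t_map_base t k)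

theorem ttop_π {b b' : (Stk.sieveCat R).obj} (k : b ⟶ b') : ttop t k ≫ tπ t b' = tπ t b ≫ k.hom.left :=
  (ttop_cart t k).w

theorem ttop_eqv {b b' : (Stk.sieveCat R).obj} (k : b ⟶ b') :
    (t.obj b).act.act ≫ ttop t k = (G ◁ ttop t k) ≫ (t.obj b').act.act := (t.map k).eqv

theorem ttop_φ {b b' : (Stk.sieveCat R).obj} (k : b ⟶ b') : ttop t k ≫ (t.obj b').φ = (t.obj b).φ :=
  (t.map k).wφ

theorem ttop_id (b : (Stk.sieveCat R).obj) : ttop t (𝟙 b) = 𝟙 _ := by
  change (t.map (𝟙 b)).top = _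
  rw [t.map_id]
  rfl

theorem ttop_comp {b b' b'' : (Stk.sieveCat R).obj} (k : b ⟶ b') (k' : b' ⟶ b'') :
    ttop t (k ≫ k') = ttop t k ≫ ttop t k' := by
  change (t.map (k ≫ k')).top = _
  rw [t.map_comp]
  rfl

theorem tπ_act (b : (Stk.sieveCat R).obj) : (t.obj b).act.act ≫ tπ t b = snd G (tP t b) ≫ tπ t b :=
  (tcart t b).w

/-- the section of the pulled back torsor attached to a point of the torsor -/
noncomputable def secOf {b b' : (Stk.sieveCat R).obj} (k : b ⟶ b') (v : b.obj.left ⟶ tP t b')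
    (hv : v ≫ tπ t b' = k.hom.left) : b.obj.left ⟶ tP t b :=
  (ttop_cart t k).lift v (𝟙 _) (by rw [hv, Category.id_comp])

theorem secOf_top {b b' : (Stk.sieveCat R).obj} (k : b ⟶ b') (v : b.obj.left ⟶ tP t b')
    (hv : v ≫ tπ t b' = k.hom.left) : secOf t k v hv ≫ ttop t k = v :=
  (ttop_cart t k).lift_fst _ _ _

theorem secOf_π {b b' : (Stk.sieveCat R).obj} (k : b ⟶ b') (v : b.obj.left ⟶ tP t b')
    (hv : v ≫ tπ t b' = k.hom.left) : secOf t k v hv ≫ tπ t b = 𝟙 _ :=
  (ttop_cart t k).lift_snd _ _ _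

theorem secOf_unique {b b' : (Stk.sieveCat R).obj} (k : b ⟶ b') (v : b.obj.left ⟶ tP t b')
    (hv : v ≫ tπ t b' = k.hom.left) (s : b.obj.left ⟶ tP t b) (hs1 : s ≫ ttop t k = v)
    (hs2 : s ≫ tπ t b = 𝟙 _) : s = secOf t k v hv :=
  (ttop_cart t k).hom_ext (by rw [hs1, secOf_top]) (by rw [hs2, secOf_π])

end Groth.Agent.Lib.Helper66.QuotStEff
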