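import Groth.Agent.Lib.Helper66.QuotStEff1
import Groth.Prelude.Def_DescFam

/-!
# Helper66: effectivity for `[X/G]`, part 2 — the descent datum of a functor on a sieve

For `t : sieveCat R ⟶ [X/G]` and a family `h i : V i ⟶ U` of arrows of `R`: the transfer of points of the torsors
over the `V i` through the torsor over a common refinement, and the descent datum for schemes relative to the
family `(h i).left` it defines.
-/

set_option autoImplicit false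
set_option backward.isDefEq.respectTransparency false
set_option backward.isDefEq.respectTransparency.types false
set_option linter.unusedSimpArgs false
set_option linter.unusedVariables false

universe u

open CategoryTheory CategoryTheory.Limits MonoidalCategory CartesianMonoidalCategory MonObj GrpObj AlgebraicGeometry

namespace Groth.Agent.Lib.Helper66.QuotStEff

open AlgSt Groth.Agent.Lib.Helper66.QuotStBasic Groth.Agent.Lib.Helper66.QuotStFib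
  Groth.Agent.Lib.Helper66.QuotStGlue

variable {S : Scheme.{u}} {K : Precoverage Scheme.{u}} {G : Over S} [GrpObj G] {X : Over S}
  {aX : AlgGrp.Action G X} {U : Over S} {R : Sieve U} (t : Stk.sieveCat R ⥤ᵇ QuotSt K G aX)
  {I : Type u} {V : I → Over S} (h : ∀ i, V i ⟶ U) (hR : ∀ i, R (h i))

/-- the object of the sieve category of a member of the family -/
abbrev bI (i : I) : (Stk.sieveCat R).obj := bObj (h i) (hR i)

section Transfer

variable {h}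
variable {Y : Over S} {f : Y ⟶ U} (hf : R f) {i j l : I} (a₀ : Y ⟶ V i) (w₀ : a₀ ≫ h i = f)
  (a₁ : Y ⟶ V j) (w₁ : a₁ ≫ h j = f) (a₂ : Y ⟶ V l) (w₂ : a₂ ≫ h l = f)

/-- transfer of a point of the torsor over `V i` to the torsor over `V j` through the torsor over `Y` -/
noncomputable def transfer (v : Y ⟶ tP t (bI h hR i)) (hv : v ≫ tπ t (bI h hR i) = a₀) : Y ⟶ tP t (bI h hR j) :=
  secOf t (bHom hf (hR i) a₀ w₀) v hv ≫ ttop t (bHom hf (hR j) a₁ w₁)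

theorem transfer_π (v : Y ⟶ tP t (bI h hR i)) (hv : v ≫ tπ t (bI h hR i) = a₀) :
    transfer t hR hf a₀ w₀ a₁ w₁ v hv ≫ tπ t (bI h hR j) = a₁ := by
  unfold transfer
  rw [Category.assoc, ttop_π, ← Category.assoc, secOf_π]
  exact Category.id_comp a₁

theorem transfer_self (v : Y ⟶ tP t (bI h hR i)) (hv : v ≫ tπ t (bI h hR i) = a₀) :
    transfer t hR hf a₀ w₀ a₀ w₀ v hv = v :=
  secOf_top t (bHom hf (hR i) a₀ w₀) v hv

theorem secOf_transfer (v : Y ⟶ tP t (bI h hR i)) (hv : v ≫ tπ t (bI h hR i) = a₀) :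
    secOf t (bHom hf (hR j) a₁ w₁) (transfer t hR hf a₀ w₀ a₁ w₁ v hv) (transfer_π t hR hf a₀ w₀ a₁ w₁ v hv) =
      secOf t (bHom hf (hR i) a₀ w₀) v hv :=
  (secOf_unique t (bHom hf (hR j) a₁ w₁) (transfer t hR hf a₀ w₀ a₁ w₁ v hv)
    (transfer_π t hR hf a₀ w₀ a₁ w₁ v hv) (secOf t (bHom hf (hR i) a₀ w₀) v hv) rfl
    (secOf_π t (bHom hf (hR i) a₀ w₀) v hv)).symm

theorem transfer_transfer (v : Y ⟶ tP t (bI h hR i)) (hv : v ≫ tπ t (bI h hR i) = a₀) :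
    transfer t hR hf a₁ w₁ a₂ w₂ (transfer t hR hf a₀ w₀ a₁ w₁ v hv) (transfer_π t hR hf a₀ w₀ a₁ w₁ v hv) =
      transfer t hR hf a₀ w₀ a₂ w₂ v hv :=
  congrArg (fun s => s ≫ ttop t (bHom hf (hR l) a₂ w₂)) (secOf_transfer t hR hf a₀ w₀ a₁ w₁ v hv)

theorem transfer_congr {f' : Y ⟶ U} (e : f = f') (hf' : R f') (w₀' : a₀ ≫ h i = f') (w₁' : a₁ ≫ h j = f')
    (v : Y ⟶ tP t (bI h hR i)) (hv : v ≫ tπ t (bI h hR i) = a₀) :
    transfer t hR hf a₀ w₀ a₁ w₁ v hv = transfer t hR hf' a₀ w₀' a₁ w₁' v hv := by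
  subst e
  rfl

theorem secOf_nat {Y' : Over S} (g : Y' ⟶ Y) (hf' : R (g ≫ f))
    (v : Y ⟶ tP t (bI h hR i)) (hv : v ≫ tπ t (bI h hR i) = a₀) :
    secOf t (bHom hf' (hR i) (g ≫ a₀) (by rw [Category.assoc, w₀])) (g ≫ v)
        (by rw [Category.assoc, hv]; rfl) ≫ ttop t (bHom hf' hf g rfl) =
      g ≫ secOf t (bHom hf (hR i) a₀ w₀) v hv := by
  apply (ttop_cart t (bHom hf (hR i) a₀ w₀)).hom_ext
  · have e1 : ttop t (bHom hf' hf g rfl) ≫ ttop t (bHom hf (hR i) a₀ w₀) =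
        ttop t (bHom hf' (hR i) (g ≫ a₀) (by rw [Category.assoc, w₀])) := (ttop_comp t _ _).symm
    rw [Category.assoc, e1, secOf_top, Category.assoc, secOf_top]
  · rw [Category.assoc, ttop_π, ← Category.assoc, secOf_π, Category.assoc, secOf_π]
    exact (Category.id_comp g).trans (Category.comp_id g).symm

theorem transfer_nat {Y' : Over S} (g : Y' ⟶ Y) (hf' : R (g ≫ f))
    (v : Y ⟶ tP t (bI h hR i)) (hv : v ≫ tπ t (bI h hR i) = a₀) :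
    transfer t hR hf' (g ≫ a₀) (by rw [Category.assoc, w₀]) (g ≫ a₁) (by rw [Category.assoc, w₁]) (g ≫ v)
        (by rw [Category.assoc, hv]) =
      g ≫ transfer t hR hf a₀ w₀ a₁ w₁ v hv := by
  have e1 : ttop t (bHom hf' hf g rfl) ≫ ttop t (bHom hf (hR j) a₁ w₁) =
      ttop t (bHom hf' (hR j) (g ≫ a₁) (by rw [Category.assoc, w₁])) := (ttop_comp t _ _).symm
  unfold transfer
  rw [← e1, ← Category.assoc, secOf_nat t hR hf a₀ w₀ g hf' v hv, Category.assoc]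

end Transfer

section DD

open Desc

/-- the scheme over `V i` of the descent datum -/
abbrev ddObj (i : I) : Over (V i).left := Over.mk (tπ t (bI h hR i)).left

variable {h}

theorem hom_eq_of_comp_eq {T : Scheme.{u}} {i j : I} {x₀ : T ⟶ (V i).left} {x₁ : T ⟶ (V j).left}
    (hx : x₀ ≫ (h i).left = x₁ ≫ (h j).left) : x₁ ≫ (V j).hom = x₀ ≫ (V i).hom := by
  rw [← Over.w (h j), ← Over.w (h i), ← Category.assoc, ← Category.assoc, hx]

variable {T : Scheme.{u}} (p : T ⟶ S)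

/-- a point of `V i` as a morphism over `S` -/
abbrev ptOv {i : I} (x : T ⟶ (V i).left) (e : x ≫ (V i).hom = p) : Over.mk p ⟶ V i := Over.homMk x e

theorem ptOv_comp_eq {i j : I} {x₀ : T ⟶ (V i).left} {x₁ : T ⟶ (V j).left} (e₀ : x₀ ≫ (V i).hom = p)
    (e₁ : x₁ ≫ (V j).hom = p) (hx : x₀ ≫ (h i).left = x₁ ≫ (h j).left) :
    ptOv p x₁ e₁ ≫ h j = ptOv p x₀ e₀ ≫ h i :=
  Over.OverMorphism.ext hx.symm

/-- a lift of a point, as a morphism over `S` -/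
abbrev liftOv {i : I} {x : T ⟶ (V i).left} (e : x ≫ (V i).hom = p) (v : Lifts (ddObj t h hR i) x) :
    Over.mk p ⟶ tP t (bI h hR i) :=
  Over.homMk v.1 (by
    have h1 : v.1 ≫ (tπ t (bI h hR i)).left = x := v.2
    have h2 : (tπ t (bI h hR i)).left ≫ (V i).hom = (tP t (bI h hR i)).hom := Over.w (tπ t (bI h hR i))
    change v.1 ≫ (tP t (bI h hR i)).hom = p
    rw [← h2, ← Category.assoc, h1, e])

theorem liftOv_π {i : I} {x : T ⟶ (V i).left} (e : x ≫ (V i).hom = p) (v : Lifts (ddObj t h hR i) x) :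
    liftOv t hR p e v ≫ tπ t (bI h hR i) = ptOv p x e :=
  Over.OverMorphism.ext v.2

/-- the gluing map on points, for a fixed structure morphism of the test scheme -/
noncomputable def φp {i j : I} (x₀ : T ⟶ (V i).left) (e₀ : x₀ ≫ (V i).hom = p) (x₁ : T ⟶ (V j).left)
    (e₁ : x₁ ≫ (V j).hom = p) (hx : x₀ ≫ (h i).left = x₁ ≫ (h j).left) (v : Lifts (ddObj t h hR i) x₀) :
    Lifts (ddObj t h hR j) x₁ :=
  ⟨(transfer t hR (R.downward_closed (hR i) (ptOv p x₀ e₀)) (ptOv p x₀ e₀) rfl (ptOv p x₁ e₁)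
      (ptOv_comp_eq p e₀ e₁ hx) (liftOv t hR p e₀ v) (liftOv_π t hR p e₀ v)).left,
    congrArg (fun m => m.left) (transfer_π t hR (R.downward_closed (hR i) (ptOv p x₀ e₀)) (ptOv p x₀ e₀) rfl
      (ptOv p x₁ e₁) (ptOv_comp_eq p e₀ e₁ hx) (liftOv t hR p e₀ v) (liftOv_π t hR p e₀ v))⟩

theorem liftOv_φp {i j : I} (x₀ : T ⟶ (V i).left) (e₀ : x₀ ≫ (V i).hom = p) (x₁ : T ⟶ (V j).left)
    (e₁ : x₁ ≫ (V j).hom = p) (hx : x₀ ≫ (h i).left = x₁ ≫ (h j).left) (v : Lifts (ddObj t h hR i) x₀) :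
    liftOv t hR p e₁ (φp t hR p x₀ e₀ x₁ e₁ hx v) =
      transfer t hR (R.downward_closed (hR i) (ptOv p x₀ e₀)) (ptOv p x₀ e₀) rfl (ptOv p x₁ e₁)
        (ptOv_comp_eq p e₀ e₁ hx) (liftOv t hR p e₀ v) (liftOv_π t hR p e₀ v) :=
  Over.OverMorphism.ext rfl

theorem φp_self {i : I} (x : T ⟶ (V i).left) (e : x ≫ (V i).hom = p) (v : Lifts (ddObj t h hR i) x) :
    φp t hR p x e x e rfl v = v :=
  Subtype.ext (congrArg (fun m => m.left)
    (transfer_self t hR (R.downward_closed (hR i) (ptOv p x e)) (ptOv p x e) rfl (liftOv t hR p e v)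
      (liftOv_π t hR p e v)))

theorem transfer_congr_v {Y : Over S} {f : Y ⟶ U} (hf : R f) {i j : I} (a₀ : Y ⟶ V i) (w₀ : a₀ ≫ h i = f)
    (a₁ : Y ⟶ V j) (w₁ : a₁ ≫ h j = f) {v v' : Y ⟶ tP t (bI h hR i)} (e : v = v')
    (hv : v ≫ tπ t (bI h hR i) = a₀) (hv' : v' ≫ tπ t (bI h hR i) = a₀) :
    transfer t hR hf a₀ w₀ a₁ w₁ v hv = transfer t hR hf a₀ w₀ a₁ w₁ v' hv' := by
  subst e
  rfl

theorem φp_comp {i j l : I} (x₀ : T ⟶ (V i).left) (e₀ : x₀ ≫ (V i).hom = p) (x₁ : T ⟶ (V j).left)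
    (e₁ : x₁ ≫ (V j).hom = p) (x₂ : T ⟶ (V l).left) (e₂ : x₂ ≫ (V l).hom = p)
    (h₀₁ : x₀ ≫ (h i).left = x₁ ≫ (h j).left) (h₁₂ : x₁ ≫ (h j).left = x₂ ≫ (h l).left)
    (v : Lifts (ddObj t h hR i) x₀) :
    φp t hR p x₁ e₁ x₂ e₂ h₁₂ (φp t hR p x₀ e₀ x₁ e₁ h₀₁ v) = φp t hR p x₀ e₀ x₂ e₂ (h₀₁.trans h₁₂) v := by
  apply Subtype.ext
  change (transfer t hR _ (ptOv p x₁ e₁) rfl (ptOv p x₂ e₂) _ (liftOv t hR p e₁ (φp t hR p x₀ e₀ x₁ e₁ h₀₁ v))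
    _).left = (transfer t hR _ (ptOv p x₀ e₀) rfl (ptOv p x₂ e₂) _ (liftOv t hR p e₀ v) _).left
  congr 1
  have hf₀ := R.downward_closed (hR i) (ptOv p x₀ e₀)
  rw [← transfer_transfer t hR hf₀ (ptOv p x₀ e₀) rfl (ptOv p x₁ e₁) (ptOv_comp_eq p e₀ e₁ h₀₁)
    (ptOv p x₂ e₂) (ptOv_comp_eq p e₀ e₂ (h₀₁.trans h₁₂)) (liftOv t hR p e₀ v) (liftOv_π t hR p e₀ v)]
  rw [transfer_congr t hR (R.downward_closed (hR j) (ptOv p x₁ e₁)) (ptOv p x₁ e₁) rfl (ptOv p x₂ e₂)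
    (ptOv_comp_eq p e₁ e₂ h₁₂) (ptOv_comp_eq p e₀ e₁ h₀₁) hf₀ (ptOv_comp_eq p e₀ e₁ h₀₁)
    (ptOv_comp_eq p e₀ e₂ (h₀₁.trans h₁₂))]
  exact transfer_congr_v t hR hf₀ _ _ _ _ (liftOv_φp t hR p x₀ e₀ x₁ e₁ h₀₁ v) _ _

theorem φp_congr {p' : T ⟶ S} (ep : p = p') {i j : I} (x₀ : T ⟶ (V i).left) (e₀ : x₀ ≫ (V i).hom = p)
    (x₁ : T ⟶ (V j).left) (e₁ : x₁ ≫ (V j).hom = p) (e₀' : x₀ ≫ (V i).hom = p') (e₁' : x₁ ≫ (V j).hom = p')
    (hx : x₀ ≫ (h i).left = x₁ ≫ (h j).left) (v : Lifts (ddObj t h hR i) x₀) :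
    φp t hR p x₀ e₀ x₁ e₁ hx v = φp t hR p' x₀ e₀' x₁ e₁' hx v := by
  subst ep
  rfl

theorem transfer_congr_all {Y : Over S} {f f' : Y ⟶ U} (hf : R f) (hf' : R f') {i j : I} {a₀ a₀' : Y ⟶ V i}
    {a₁ a₁' : Y ⟶ V j} {v v' : Y ⟶ tP t (bI h hR i)} (ef : f = f') (e₀ : a₀ = a₀') (e₁ : a₁ = a₁') (ev : v = v')
    (w₀ : a₀ ≫ h i = f) (w₁ : a₁ ≫ h j = f) (hv : v ≫ tπ t (bI h hR i) = a₀)
    (w₀' : a₀' ≫ h i = f') (w₁' : a₁' ≫ h j = f') (hv' : v' ≫ tπ t (bI h hR i) = a₀') :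
    transfer t hR hf a₀ w₀ a₁ w₁ v hv = transfer t hR hf' a₀' w₀' a₁' w₁' v' hv' := by
  subst ef e₀ e₁ ev
  rfl

theorem φp_nat {T' : Scheme.{u}} (g : T' ⟶ T) {i j : I} (x₀ : T ⟶ (V i).left) (e₀ : x₀ ≫ (V i).hom = p)
    (x₁ : T ⟶ (V j).left) (e₁ : x₁ ≫ (V j).hom = p) (hx : x₀ ≫ (h i).left = x₁ ≫ (h j).left)
    (v : Lifts (ddObj t h hR i) x₀) (v' : Lifts (ddObj t h hR i) (g ≫ x₀)) (hv' : v'.1 = g ≫ v.1) :
    (φp t hR (g ≫ p) (g ≫ x₀) (by rw [Category.assoc, e₀]) (g ≫ x₁) (by rw [Category.assoc, e₁])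
      (by rw [Category.assoc, Category.assoc, hx]) v').1 = g ≫ (φp t hR p x₀ e₀ x₁ e₁ hx v).1 := by
  have hf₀ := R.downward_closed (hR i) (ptOv p x₀ e₀)
  let g' : Over.mk (g ≫ p) ⟶ Over.mk p := Over.homMk g rfl
  have key := transfer_nat t hR hf₀ (ptOv p x₀ e₀) rfl (ptOv p x₁ e₁) (ptOv_comp_eq p e₀ e₁ hx) g'
    (R.downward_closed hf₀ g') (liftOv t hR p e₀ v) (liftOv_π t hR p e₀ v)
  have e0' : g ≫ x₀ ≫ (V i).hom = g ≫ p := by rw [e₀]
  have e1' : g ≫ x₁ ≫ (V j).hom = g ≫ p := by rw [e₁]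
  have e0'' : (g ≫ x₀) ≫ (V i).hom = g ≫ p := by rw [Category.assoc, e₀]
  have e1'' : (g ≫ x₁) ≫ (V j).hom = g ≫ p := by rw [Category.assoc, e₁]
  have hx' : (g ≫ x₀) ≫ (h i).left = (g ≫ x₁) ≫ (h j).left := by rw [Category.assoc, Category.assoc, hx]
  have e1 : liftOv t hR (g ≫ p) e0'' v' = g' ≫ liftOv t hR p e₀ v := Over.OverMorphism.ext hv'
  have e2 : ptOv (g ≫ p) (g ≫ x₀) e0'' = g' ≫ ptOv p x₀ e₀ := Over.OverMorphism.ext rfl
  have e3 : ptOv (g ≫ p) (g ≫ x₁) e1'' = g' ≫ ptOv p x₁ e₁ := Over.OverMorphism.ext rfl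
  have e4 : ptOv (g ≫ p) (g ≫ x₀) e0'' ≫ h i = g' ≫ ptOv p x₀ e₀ ≫ h i := by
    rw [e2, Category.assoc]
  have main := transfer_congr_all t hR (R.downward_closed (hR i) (ptOv (g ≫ p) (g ≫ x₀) e0''))
    (R.downward_closed hf₀ g') e4 e2 e3 e1 rfl (ptOv_comp_eq (g ≫ p) e0'' e1'' hx')
    (liftOv_π t hR (g ≫ p) e0'' v') (by rw [Category.assoc]) (by rw [Category.assoc, ptOv_comp_eq p e₀ e₁ hx])
    (by rw [Category.assoc, liftOv_π])
  exact (congrArg (fun m => m.left) main).trans (congrArg (fun m => m.left) key)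

end DD

section DDFam

open Desc

/-- **The descent datum of a functor on a sieve relative to a family of arrows of the sieve.** -/
noncomputable def dd : SchDDFam (fun i => (h i).left) where
  obj i := ddObj t h hR i
  φ T i j x₀ x₁ hx :=
    { toFun := φp t hR (x₀ ≫ (V i).hom) x₀ rfl x₁ (hom_eq_of_comp_eq hx) hx
      invFun := φp t hR (x₀ ≫ (V i).hom) x₁ (hom_eq_of_comp_eq hx) x₀ rfl hx.symm
      left_inv := fun v => by rw [φp_comp, φp_self]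
      right_inv := fun v => by rw [φp_comp, φp_self] }
  φ_natural T T' g i j x₀ x₁ hx y₀ y₁ hy₀ hy₁ hy v v' hv' := by
    subst hy₀ hy₁
    have e := φp_nat t hR (x₀ ≫ (V i).hom) g x₀ rfl x₁ (hom_eq_of_comp_eq hx) hx v v' hv'
    refine Eq.trans ?_ e
    exact congrArg Subtype.val (φp_congr t hR _ (Category.assoc _ _ _) _ _ _ _ _ _ _ _)
  φ_self T i x v := φp_self t hR _ x rfl v
  φ_comp T i j k x₀ x₁ x₂ h₀₁ h₁₂ v := by
    have e := φp_comp t hR (x₀ ≫ (V i).hom) x₀ rfl x₁ (hom_eq_of_comp_eq h₀₁) x₂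
      (hom_eq_of_comp_eq (h₀₁.trans h₁₂)) h₀₁ h₁₂ v
    refine Eq.trans ?_ e
    exact φp_congr t hR _ (hom_eq_of_comp_eq h₀₁) _ _ _ _ _ _ _ _

variable {h}

/-- the gluing bijections of the descent datum are the transfers -/
theorem dd_φ_spec {Y : Over S} {f : Y ⟶ U} (hf : R f) {i j : I} (a₀ : Y ⟶ V i) (w₀ : a₀ ≫ h i = f)
    (a₁ : Y ⟶ V j) (w₁ : a₁ ≫ h j = f) (v : Y ⟶ tP t (bI h hR i)) (hv : v ≫ tπ t (bI h hR i) = a₀)
    (hx : a₀.left ≫ (h i).left = a₁.left ≫ (h j).left) :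
    ((dd t h hR).φ a₀.left a₁.left hx ⟨v.left, congrArg (fun m => m.left) hv⟩).1 =
      (transfer t hR hf a₀ w₀ a₁ w₁ v hv).left := by
  have e := φp_congr t hR (a₀.left ≫ (V i).hom) (Over.w a₀) a₀.left rfl a₁.left (hom_eq_of_comp_eq hx)
    (Over.w a₀) (Over.w a₁) hx ⟨v.left, congrArg (fun m => m.left) hv⟩
  refine (congrArg Subtype.val e).trans ?_
  have main := transfer_congr_all t hR (Y := Y)
    (R.downward_closed (hR i) (ptOv Y.hom a₀.left (Over.w a₀))) hf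
    (a₀ := ptOv Y.hom a₀.left (Over.w a₀)) (a₀' := a₀) (a₁ := ptOv Y.hom a₁.left (Over.w a₁)) (a₁' := a₁)
    (v := liftOv t hR Y.hom (Over.w a₀) ⟨v.left, congrArg (fun m => m.left) hv⟩) (v' := v)
    w₀ (Over.OverMorphism.ext rfl) (Over.OverMorphism.ext rfl) (Over.OverMorphism.ext rfl) rfl
    (ptOv_comp_eq Y.hom (Over.w a₀) (Over.w a₁) hx)
    (liftOv_π t hR Y.hom (Over.w a₀) ⟨v.left, congrArg (fun m => m.left) hv⟩) w₀ w₁ hv
  exact congrArg (fun m => m.left) main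

end DDFam

end Groth.Agent.Lib.Helper66.QuotStEff
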