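import Groth.Agent.Lib.Helper66.QuotStEff2

/-!
# Helper66: effectivity for `[X/G]`, part 3 — the glued total space and its cocone

Given a scheme `P₀` over `U` whose canonical descent datum is isomorphic to the descent datum of `t`: the cartesian
maps `cI i : P_i ⟶ P`, their independence of the factorisation, the cocone `cB b : P_b ⟶ P` over the whole sieve
(when every arrow of the sieve factors through a member of the family), sections, and the extension / gluing
principles for morphisms out of `Z ⊗ P`.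
-/

set_option autoImplicit false
set_option backward.isDefEq.respectTransparency false
set_option backward.isDefEq.respectTransparency.types false
set_option linter.unusedSimpArgs false
set_option linter.unusedVariables false

universe u

open CategoryTheory CategoryTheory.Limits MonoidalCategory CartesianMonoidalCategory MonObj GrpObj AlgebraicGeometry

namespace Groth.Agent.Lib.Helper66.QuotStEff

open AlgSt Desc Groth.Agent.Lib.Helper66.QuotStBasic Groth.Agent.Lib.Helper66.QuotStFib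
  Groth.Agent.Lib.Helper66.QuotStGlue

variable {S : Scheme.{u}} {K : Precoverage Scheme.{u}} {G : Over S} [GrpObj G] {X : Over S}
  {aX : AlgGrp.Action G X} {U : Over S} {R : Sieve U} (t : Stk.sieveCat R ⥤ᵇ QuotSt K G aX)
  {I : Type u} {V : I → Over S} {h : ∀ i, V i ⟶ U} (hR : ∀ i, R (h i))
  (P₀ : Over U.left) (ψ : (toDDFam (fun i => (h i).left)).obj P₀ ≅ dd t h hR)

/-- the glued total space, over `S` -/
abbrev PP : Over S := Over.mk (P₀.hom ≫ U.hom)

/-- its projection -/
abbrev πP : PP P₀ ⟶ U := Over.homMk P₀.hom rfl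

section CI

theorem ψ_hom_inv (i : I) : ψ.hom.hom i ≫ ψ.inv.hom i = 𝟙 _ :=
  congrFun (congrArg SchDDFam.Hom.hom ψ.hom_inv_id) i

theorem ψ_inv_hom (i : I) : ψ.inv.hom i ≫ ψ.hom.hom i = 𝟙 _ :=
  congrFun (congrArg SchDDFam.Hom.hom ψ.inv_hom_id) i

/-- the comparison isomorphism on underlying schemes -/
noncomputable def ψIso (i : I) : pullback (h i).left P₀.hom ≅ (tP t (bI h hR i)).left where
  hom := (ψ.hom.hom i).left
  inv := (ψ.inv.hom i).left
  hom_inv_id := congrArg (fun m => m.left) (ψ_hom_inv t hR P₀ ψ i)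
  inv_hom_id := congrArg (fun m => m.left) (ψ_inv_hom t hR P₀ ψ i)

theorem ψ_inv_fst (i : I) : (ψ.inv.hom i).left ≫ pullback.fst (h i).left P₀.hom = (tπ t (bI h hR i)).left :=
  Over.w (ψ.inv.hom i)

/-- the underlying morphism of the cocone map of a member of the family -/
noncomputable def cIleft (i : I) : (tP t (bI h hR i)).left ⟶ P₀.left :=
  (ψ.inv.hom i).left ≫ pullback.snd (h i).left P₀.hom

theorem cIleft_hom (i : I) : cIleft t hR P₀ ψ i ≫ P₀.hom = (tπ t (bI h hR i)).left ≫ (h i).left := by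
  unfold cIleft
  rw [Category.assoc, ← pullback.condition, ← Category.assoc, ψ_inv_fst]

/-- the cocone map of a member of the family -/
noncomputable def cI (i : I) : tP t (bI h hR i) ⟶ PP P₀ :=
  Over.homMk (cIleft t hR P₀ ψ i) (by
    have h2 : (tπ t (bI h hR i)).left ≫ (V i).hom = (tP t (bI h hR i)).hom := Over.w (tπ t (bI h hR i))
    change cIleft t hR P₀ ψ i ≫ P₀.hom ≫ U.hom = (tP t (bI h hR i)).hom
    rw [← Category.assoc, cIleft_hom, Category.assoc, Over.w (h i), h2])

theorem cI_π (i : I) : cI t hR P₀ ψ i ≫ πP P₀ = tπ t (bI h hR i) ≫ h i :=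
  Over.OverMorphism.ext (cIleft_hom t hR P₀ ψ i)

theorem cI_cart (i : I) : IsPullback (cI t hR P₀ ψ i) (tπ t (bI h hR i)) (πP P₀) (h i) := by
  refine IsPullback.of_map (Over.forget S) (cI_π t hR P₀ ψ i) ?_
  have base : IsPullback (pullback.snd (h i).left P₀.hom) (pullback.fst (h i).left P₀.hom) P₀.hom (h i).left :=
    (IsPullback.of_hasPullback (h i).left P₀.hom).flip
  refine base.of_iso (ψIso t hR P₀ ψ i) (Iso.refl _) (Iso.refl _) (Iso.refl _) ?_ ?_ ?_ ?_
  · change pullback.snd (h i).left P₀.hom ≫ 𝟙 _ = (ψ.hom.hom i).left ≫ (ψ.inv.hom i).left ≫ pullback.snd _ _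
    rw [Category.comp_id, ← Category.assoc]
    have e := congrArg (fun m => m.left) (ψ_hom_inv t hR P₀ ψ i)
    exact ((congrArg (fun m => m ≫ pullback.snd (h i).left P₀.hom) e).trans (Category.id_comp _)).symm
  · change pullback.fst (h i).left P₀.hom ≫ 𝟙 _ = (ψ.hom.hom i).left ≫ (tπ t (bI h hR i)).left
    rw [Category.comp_id]
    exact (Over.w (ψ.hom.hom i)).symm
  · exact (Category.comp_id _).trans (Category.id_comp _).symm
  · exact (Category.comp_id _).trans (Category.id_comp _).symm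

/-- **independence of the factorisation**, on points -/
theorem cI_indep {Y : Over S} {f : Y ⟶ U} (hf : R f) {i j : I} (a₀ : Y ⟶ V i) (w₀ : a₀ ≫ h i = f)
    (a₁ : Y ⟶ V j) (w₁ : a₁ ≫ h j = f) (v : Y ⟶ tP t (bI h hR i)) (hv : v ≫ tπ t (bI h hR i) = a₀) :
    v ≫ cI t hR P₀ ψ i = transfer t hR hf a₀ w₀ a₁ w₁ v hv ≫ cI t hR P₀ ψ j := by
  apply Over.OverMorphism.ext
  change v.left ≫ (ψ.inv.hom i).left ≫ pullback.snd _ _ =
    (transfer t hR hf a₀ w₀ a₁ w₁ v hv).left ≫ (ψ.inv.hom j).left ≫ pullback.snd _ _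
  have hx : a₀.left ≫ (h i).left = a₁.left ≫ (h j).left :=
    congrArg (fun m => m.left) (w₀.trans w₁.symm)
  let v₀ : Lifts ((dd t h hR).obj i) a₀.left := ⟨v.left, congrArg (fun m => m.left) hv⟩
  let w : Lifts (((toDDFam (fun i => (h i).left)).obj P₀).obj i) a₀.left :=
    ⟨v.left ≫ (ψ.inv.hom i).left, by
      change (v.left ≫ (ψ.inv.hom i).left) ≫ pullback.fst (h i).left P₀.hom = a₀.left
      rw [Category.assoc, ψ_inv_fst]
      exact congrArg (fun m => m.left) hv⟩
  have e := ψ.inv.comm a₀.left a₁.left hx v₀ w rfl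
  have e2 : (((toDDFam (fun i => (h i).left)).obj P₀).φ a₀.left a₁.left hx w).1 ≫
      pullback.snd (h j).left P₀.hom = w.1 ≫ pullback.snd (h i).left P₀.hom := by
    change (canMapFam (fun i => (h i).left) P₀ a₀.left a₁.left hx w).1 ≫ _ = _
    rw [canMapFam_val, pullback.lift_snd]
  rw [dd_φ_spec t hR hf a₀ w₀ a₁ w₁ v hv hx] at e
  rw [← Category.assoc, ← Category.assoc, ← e, e2]

end CI

section Cocone

variable (hgen : ∀ ⦃Y : Over S⦄ (f : Y ⟶ U), R f → ∃ (i : I) (g : Y ⟶ V i), g ≫ h i = f)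

/-- the chosen member of the family through which an arrow of the sieve factors -/
noncomputable def idx (b : (Stk.sieveCat R).obj) : I := (hgen b.obj.hom b.property).choose

/-- the chosen factorisation -/
noncomputable def fac (b : (Stk.sieveCat R).obj) : b.obj.left ⟶ V (idx hgen b) :=
  (hgen b.obj.hom b.property).choose_spec.choose

theorem fac_w (b : (Stk.sieveCat R).obj) : fac hgen b ≫ h (idx hgen b) = b.obj.hom :=
  (hgen b.obj.hom b.property).choose_spec.choose_spec

/-- the chosen morphism of the sieve category to a member of the family -/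
noncomputable def mB (b : (Stk.sieveCat R).obj) : b ⟶ bI h hR (idx hgen b) :=
  ObjectProperty.homMk (Over.homMk (U := b.obj) (V := Over.mk (h (idx hgen b))) (fac hgen b) (fac_w hgen b))

/-- the cocone map -/
noncomputable def cB (b : (Stk.sieveCat R).obj) : tP t b ⟶ PP P₀ :=
  ttop t (mB hR hgen b) ≫ cI t hR P₀ ψ (idx hgen b)

/-- the diagonal section of the torsor pulled back to itself -/
noncomputable def diagSec (b : (Stk.sieveCat R).obj) :
    tP t b ⟶ tP t (bObj (tπ t b ≫ b.obj.hom) (R.downward_closed b.property (tπ t b))) :=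
  secOf t (bTo b (R.downward_closed b.property (tπ t b)) (tπ t b) rfl) (𝟙 _) (Category.id_comp _)

theorem diagSec_top (b : (Stk.sieveCat R).obj) :
    diagSec t b ≫ ttop t (bTo b (R.downward_closed b.property (tπ t b)) (tπ t b) rfl) = 𝟙 _ :=
  secOf_top t _ _ _

theorem diagSec_π (b : (Stk.sieveCat R).obj) : diagSec t b ≫ tπ t _ = 𝟙 _ :=
  secOf_π t _ _ _

/-- the transfer of a transition map is a transition map -/
theorem transfer_ttop (b : (Stk.sieveCat R).obj) {i j : I} (k : b ⟶ bI h hR i) (k' : b ⟶ bI h hR j) :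
    transfer t hR (R.downward_closed b.property (tπ t b)) (tπ t b ≫ k.hom.left)
      (by rw [Category.assoc]; exact congrArg (fun m => tπ t b ≫ m) (Over.w k.hom))
      (tπ t b ≫ k'.hom.left)
      (by rw [Category.assoc]; exact congrArg (fun m => tπ t b ≫ m) (Over.w k'.hom))
      (ttop t k) (ttop_π t k) = ttop t k' := by
  have hf := R.downward_closed b.property (tπ t b)
  have w₀ : (tπ t b ≫ k.hom.left) ≫ h i = tπ t b ≫ b.obj.hom := by
    rw [Category.assoc]; exact congrArg (fun m => tπ t b ≫ m) (Over.w k.hom)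
  have w₁ : (tπ t b ≫ k'.hom.left) ≫ h j = tπ t b ≫ b.obj.hom := by
    rw [Category.assoc]; exact congrArg (fun m => tπ t b ≫ m) (Over.w k'.hom)
  have e₀ : bHom hf (hR i) (tπ t b ≫ k.hom.left) w₀ = bTo b hf (tπ t b) rfl ≫ k := rfl
  have e₁ : bHom hf (hR j) (tπ t b ≫ k'.hom.left) w₁ = bTo b hf (tπ t b) rfl ≫ k' := rfl
  have hs : secOf t (bHom hf (hR i) (tπ t b ≫ k.hom.left) w₀) (ttop t k) (ttop_π t k) = diagSec t b := by
    refine (secOf_unique t (bHom hf (hR i) (tπ t b ≫ k.hom.left) w₀) (ttop t k) (ttop_π t k) (diagSec t b) ?_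
      (diagSec_π t b)).symm
    rw [e₀, ttop_comp, ← Category.assoc, diagSec_top]
    exact Category.id_comp _
  change secOf t (bHom hf (hR i) (tπ t b ≫ k.hom.left) w₀) (ttop t k) (ttop_π t k) ≫
    ttop t (bHom hf (hR j) (tπ t b ≫ k'.hom.left) w₁) = ttop t k'
  rw [hs, e₁, ttop_comp, ← Category.assoc, diagSec_top]
  exact Category.id_comp _

/-- **independence of the factorisation** -/
theorem cI_eq (b : (Stk.sieveCat R).obj) {i j : I} (k : b ⟶ bI h hR i) (k' : b ⟶ bI h hR j) :
    ttop t k ≫ cI t hR P₀ ψ i = ttop t k' ≫ cI t hR P₀ ψ j := by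
  have e := cI_indep t hR P₀ ψ (R.downward_closed b.property (tπ t b)) (tπ t b ≫ k.hom.left)
    (by rw [Category.assoc]; exact congrArg (fun m => tπ t b ≫ m) (Over.w k.hom))
    (tπ t b ≫ k'.hom.left)
    (by rw [Category.assoc]; exact congrArg (fun m => tπ t b ≫ m) (Over.w k'.hom))
    (ttop t k) (ttop_π t k)
  rw [transfer_ttop] at e
  exact e

theorem cB_eq (b : (Stk.sieveCat R).obj) {i : I} (k : b ⟶ bI h hR i) :
    cB t hR P₀ ψ hgen b = ttop t k ≫ cI t hR P₀ ψ i :=
  cI_eq t hR P₀ ψ b (mB hR hgen b) k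

theorem cB_nat {b b' : (Stk.sieveCat R).obj} (k : b ⟶ b') :
    ttop t k ≫ cB t hR P₀ ψ hgen b' = cB t hR P₀ ψ hgen b := by
  rw [cB_eq t hR P₀ ψ hgen b (k ≫ mB hR hgen b'), ttop_comp, Category.assoc]
  rfl

theorem cB_bI (i : I) : cB t hR P₀ ψ hgen (bI h hR i) = cI t hR P₀ ψ i := by
  rw [cB_eq t hR P₀ ψ hgen (bI h hR i) (𝟙 _), ttop_id, Category.id_comp]

theorem cB_cart (b : (Stk.sieveCat R).obj) :
    IsPullback (cB t hR P₀ ψ hgen b) (tπ t b) (πP P₀) b.obj.hom := by
  have sq := (ttop_cart t (mB hR hgen b)).paste_horiz (cI_cart t hR P₀ ψ (idx hgen b))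
  have e : (mB hR hgen b).hom.left ≫ h (idx hgen b) = b.obj.hom := fac_w hgen b
  rw [e] at sq
  exact sq

theorem cB_π (b : (Stk.sieveCat R).obj) : cB t hR P₀ ψ hgen b ≫ πP P₀ = tπ t b ≫ b.obj.hom :=
  (cB_cart t hR P₀ ψ hgen b).w

end Cocone

end Groth.Agent.Lib.Helper66.QuotStEff
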