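import Groth.Agent.Lib.Helper66.QuotStEff3

/-!
# Helper66: effectivity for `[X/G]`, part 4 — sections of the glued space, extension and gluing of morphisms

For the glued total space `P` with its cartesian cocone `cB b : P_b ⟶ P`: a point of `P` over an arrow `f` of the
sieve is a section of `P_f`; morphisms out of `Z ⊗ P` are determined by, and glue from, their restrictions to the
`Z ⊗ P_b`.  Also: a commutative square of schemes over `S` is cartesian if liftings exist uniquely locally.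
-/

set_option autoImplicit false
set_option backward.isDefEq.respectTransparency false
set_option backward.isDefEq.respectTransparency.types false
set_option linter.unusedSimpArgs false
set_option linter.unusedVariables false

universe u

open CategoryTheory CategoryTheory.Limits MonoidalCategory CartesianMonoidalCategory MonObj GrpObj AlgebraicGeometry

namespace Groth.Agent.Lib.Helper66.QuotStEff

open AlgSt Desc Groth.Agent.Lib.Helper66.QuotStBasic Groth.Agent.Lib.Helper66.QuotStFib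
  Groth.Agent.Lib.Helper66.QuotStGlue

variable {S : Scheme.{u}} {K : Precoverage Scheme.{u}} {G : Over S} [GrpObj G] {X : Over S}
  {aX : AlgGrp.Action G X}

section Local

variable [(QuotSh.J K S).Subcanonical]

/-- a commutative square of schemes over `S` is cartesian if liftings exist uniquely locally -/
theorem isPullback_of_local {A B C D : Over S} {p₁ : A ⟶ B} {p₂ : A ⟶ C} {f : B ⟶ D} {g : C ⟶ D}
    (w : p₁ ≫ f = p₂ ≫ g)
    (H : ∀ ⦃T : Over S⦄ (a : T ⟶ B) (c : T ⟶ C), a ≫ f = c ≫ g → ∃ Sv : Sieve T, Sv ∈ QuotSh.J K S T ∧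
      ∀ ⦃Y : Over S⦄ (k : Y ⟶ T), Sv k → ∃ l : Y ⟶ A, (l ≫ p₁ = k ≫ a ∧ l ≫ p₂ = k ≫ c) ∧
        ∀ l' : Y ⟶ A, l' ≫ p₁ = k ≫ a → l' ≫ p₂ = k ≫ c → l' = l) :
    IsPullback p₁ p₂ f g := by
  have key : ∀ ⦃T : Over S⦄ (a : T ⟶ B) (c : T ⟶ C), a ≫ f = c ≫ g →
      ∃ ξ : T ⟶ A, ξ ≫ p₁ = a ∧ ξ ≫ p₂ = c ∧ ∀ m : T ⟶ A, m ≫ p₁ = a → m ≫ p₂ = c → m = ξ := by
    intro T a c hac
    obtain ⟨Sv, hSv, Hloc⟩ := H a c hac
    choose l hl hlu using Hloc
    obtain ⟨ξ, hξ⟩ := exists_glue_of_mem_J (K := K) hSv (fun Y k hk => l k hk) (by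
      intro Y Y' k hk m
      apply hlu
      · rw [Category.assoc, (hl k hk).1, Category.assoc]
      · rw [Category.assoc, (hl k hk).2, Category.assoc])
    refine ⟨ξ, ?_, ?_, ?_⟩
    · apply hom_ext_of_mem_J (K := K) hSv
      intro Y k hk
      rw [← Category.assoc, hξ k hk, (hl k hk).1]
    · apply hom_ext_of_mem_J (K := K) hSv
      intro Y k hk
      rw [← Category.assoc, hξ k hk, (hl k hk).2]
    · intro m hm1 hm2
      apply hom_ext_of_mem_J (K := K) hSv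
      intro Y k hk
      rw [hξ k hk]
      apply hlu
      · rw [Category.assoc, hm1]
      · rw [Category.assoc, hm2]
  refine ⟨⟨w⟩, ⟨PullbackCone.IsLimit.mk w (fun s => (key s.fst s.snd s.condition).choose)
    (fun s => (key s.fst s.snd s.condition).choose_spec.1)
    (fun s => (key s.fst s.snd s.condition).choose_spec.2.1)
    (fun s m h1 h2 => (key s.fst s.snd s.condition).choose_spec.2.2 m h1 h2)⟩⟩

end Local

variable {U : Over S} {R : Sieve U} (t : Stk.sieveCat R ⥤ᵇ QuotSt K G aX)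
  {I : Type u} {V : I → Over S} {h : ∀ i, V i ⟶ U} (hR : ∀ i, R (h i))
  (P₀ : Over U.left) (ψ : (toDDFam (fun i => (h i).left)).obj P₀ ≅ dd t h hR)
  (hgen : ∀ ⦃Y : Over S⦄ (f : Y ⟶ U), R f → ∃ (i : I) (g : Y ⟶ V i), g ≫ h i = f)

section Sections

/-- the section attached to a point of `P` lying over an arrow of the sieve -/
noncomputable def secP {Y : Over S} (p : Y ⟶ PP P₀) (f : Y ⟶ U) (hpf : p ≫ πP P₀ = f) (hf : R f) :
    Y ⟶ tP t (bObj f hf) :=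
  (cB_cart t hR P₀ ψ hgen (bObj f hf)).lift p (𝟙 Y) (by rw [hpf]; exact (Category.id_comp f).symm)

theorem secP_c {Y : Over S} (p : Y ⟶ PP P₀) (f : Y ⟶ U) (hpf : p ≫ πP P₀ = f) (hf : R f) :
    secP t hR P₀ ψ hgen p f hpf hf ≫ cB t hR P₀ ψ hgen (bObj f hf) = p :=
  (cB_cart t hR P₀ ψ hgen (bObj f hf)).lift_fst _ _ _

theorem secP_π {Y : Over S} (p : Y ⟶ PP P₀) (f : Y ⟶ U) (hpf : p ≫ πP P₀ = f) (hf : R f) :
    secP t hR P₀ ψ hgen p f hpf hf ≫ tπ t (bObj f hf) = 𝟙 Y :=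
  (cB_cart t hR P₀ ψ hgen (bObj f hf)).lift_snd _ _ _

theorem secP_nat {Y Y' : Over S} (m : Y' ⟶ Y) (p : Y ⟶ PP P₀) (f : Y ⟶ U) (hpf : p ≫ πP P₀ = f) (hf : R f) :
    secP t hR P₀ ψ hgen (m ≫ p) (m ≫ f) (by rw [Category.assoc, hpf]) (R.downward_closed hf m) ≫
        ttop t (bHom (R.downward_closed hf m) hf m rfl) =
      m ≫ secP t hR P₀ ψ hgen p f hpf hf := by
  apply (cB_cart t hR P₀ ψ hgen (bObj f hf)).hom_ext
  · rw [Category.assoc, cB_nat, secP_c, Category.assoc, secP_c]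
  · rw [Category.assoc, ttop_π, ← Category.assoc, secP_π, Category.assoc, secP_π]
    exact (Category.id_comp m).trans (Category.comp_id m).symm

theorem secP_cB (b : (Stk.sieveCat R).obj) {Y : Over S} (q : Y ⟶ tP t b)
    (hf : R (q ≫ tπ t b ≫ b.obj.hom)) :
    secP t hR P₀ ψ hgen (q ≫ cB t hR P₀ ψ hgen b) (q ≫ tπ t b ≫ b.obj.hom)
        (by rw [Category.assoc, cB_π]) hf ≫
      ttop t (bTo b hf (q ≫ tπ t b) (Category.assoc _ _ _)) = q := by
  apply (cB_cart t hR P₀ ψ hgen b).hom_ext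
  · rw [Category.assoc, cB_nat, secP_c]
  · rw [Category.assoc, ttop_π, ← Category.assoc, secP_π]
    exact Category.id_comp _

end Sections

section Ev

variable {Z W : Over S} (ξ : ∀ b : (Stk.sieveCat R).obj, Z ⊗ tP t b ⟶ W)

/-- evaluation of a family of morphisms out of the `Z ⊗ P_b` at a point of `Z ⊗ P` over an arrow of the sieve -/
noncomputable def ev {Y : Over S} (z : Y ⟶ Z) (p : Y ⟶ PP P₀) (f : Y ⟶ U) (hpf : p ≫ πP P₀ = f) (hf : R f) :
    Y ⟶ W :=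
  lift z (secP t hR P₀ ψ hgen p f hpf hf) ≫ ξ (bObj f hf)

theorem ev_congr {Y : Over S} {z z' : Y ⟶ Z} {p p' : Y ⟶ PP P₀} {f f' : Y ⟶ U} (ez : z = z') (ep : p = p')
    (ef : f = f') (hpf : p ≫ πP P₀ = f) (hf : R f) (hpf' : p' ≫ πP P₀ = f') (hf' : R f') :
    ev t hR P₀ ψ hgen ξ z p f hpf hf = ev t hR P₀ ψ hgen ξ z' p' f' hpf' hf' := by
  subst ez ep ef
  rfl

variable (hξ : ∀ {b b' : (Stk.sieveCat R).obj} (k : b ⟶ b'), (Z ◁ ttop t k) ≫ ξ b' = ξ b)

include hξ in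
theorem ev_nat {Y Y' : Over S} (m : Y' ⟶ Y) (z : Y ⟶ Z) (p : Y ⟶ PP P₀) (f : Y ⟶ U) (hpf : p ≫ πP P₀ = f)
    (hf : R f) :
    ev t hR P₀ ψ hgen ξ (m ≫ z) (m ≫ p) (m ≫ f) (by rw [Category.assoc, hpf]) (R.downward_closed hf m) =
      m ≫ ev t hR P₀ ψ hgen ξ z p f hpf hf := by
  unfold ev
  rw [← hξ (bHom (R.downward_closed hf m) hf m rfl), ← Category.assoc, lift_whiskerLeft, secP_nat,
    ← comp_lift, Category.assoc]

include hξ in
theorem ev_cB (b : (Stk.sieveCat R).obj) {Y : Over S} (z : Y ⟶ Z) (q : Y ⟶ tP t b)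
    (hf : R (q ≫ tπ t b ≫ b.obj.hom)) :
    ev t hR P₀ ψ hgen ξ z (q ≫ cB t hR P₀ ψ hgen b) (q ≫ tπ t b ≫ b.obj.hom)
        (by rw [Category.assoc, cB_π]) hf =
      lift z q ≫ ξ b := by
  unfold ev
  rw [← hξ (bTo b hf (q ≫ tπ t b) (Category.assoc _ _ _)),
    ← Category.assoc, lift_whiskerLeft, secP_cB]

variable [(QuotSh.J K S).Subcanonical] (hRJ : R ∈ QuotSh.J K S U)

include hRJ in
theorem pullback_mem (Z : Over S) : R.pullback (snd Z (PP P₀) ≫ πP P₀) ∈ QuotSh.J K S (Z ⊗ PP P₀) :=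
  (QuotSh.J K S).pullback_stable _ hRJ

include hξ hRJ in
/-- **gluing of morphisms out of `Z ⊗ P`** -/
theorem glue_P : ∃ Ξ : Z ⊗ PP P₀ ⟶ W, ∀ b : (Stk.sieveCat R).obj, (Z ◁ cB t hR P₀ ψ hgen b) ≫ Ξ = ξ b := by
  obtain ⟨Ξ, hΞ⟩ := exists_glue_of_mem_J (K := K) (pullback_mem P₀ hRJ Z)
    (fun Y k hk => ev t hR P₀ ψ hgen ξ (k ≫ fst Z (PP P₀)) (k ≫ snd Z (PP P₀)) (k ≫ snd Z (PP P₀) ≫ πP P₀)
      (Category.assoc _ _ _) hk) (by
    intro Y Y' k hk m
    rw [← ev_nat t hR P₀ ψ hgen ξ hξ m]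
    exact ev_congr t hR P₀ ψ hgen ξ (Category.assoc _ _ _).symm (Category.assoc _ _ _).symm
      (Category.assoc _ _ _).symm _ _ _ _)
  refine ⟨Ξ, fun b => ?_⟩
  have hk : (R.pullback (snd Z (PP P₀) ≫ πP P₀)) (Z ◁ cB t hR P₀ ψ hgen b) := by
    change R ((Z ◁ cB t hR P₀ ψ hgen b) ≫ snd Z (PP P₀) ≫ πP P₀)
    rw [← Category.assoc, whiskerLeft_snd, Category.assoc, cB_π, ← Category.assoc]
    exact R.downward_closed b.property _
  rw [hΞ _ hk]
  have hf' : R (snd Z (tP t b) ≫ tπ t b ≫ b.obj.hom) := by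
    rw [← Category.assoc]
    exact R.downward_closed b.property _
  have e := ev_cB t hR P₀ ψ hgen ξ hξ b (fst Z (tP t b)) (snd Z (tP t b)) hf'
  rw [lift_fst_snd, Category.id_comp] at e
  rw [← e]
  refine ev_congr t hR P₀ ψ hgen ξ (whiskerLeft_fst _ _) (whiskerLeft_snd _ _) ?_ _ _ _ _
  rw [← Category.assoc, whiskerLeft_snd, Category.assoc, cB_π]

include hRJ in
/-- **morphisms out of `Z ⊗ P` are determined by their restrictions to the `Z ⊗ P_b`** -/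
theorem ext_P {ξ₁ ξ₂ : Z ⊗ PP P₀ ⟶ W}
    (H : ∀ b : (Stk.sieveCat R).obj, (Z ◁ cB t hR P₀ ψ hgen b) ≫ ξ₁ = (Z ◁ cB t hR P₀ ψ hgen b) ≫ ξ₂) :
    ξ₁ = ξ₂ := by
  apply hom_ext_of_mem_J (K := K) (pullback_mem P₀ hRJ Z)
  intro Y k hk
  have hk' : R (k ≫ snd Z (PP P₀) ≫ πP P₀) := hk
  have e : k = lift (k ≫ fst Z (PP P₀)) (secP t hR P₀ ψ hgen (k ≫ snd Z (PP P₀)) _ (Category.assoc _ _ _) hk') ≫
      (Z ◁ cB t hR P₀ ψ hgen (bObj _ hk')) := by
    rw [lift_whiskerLeft, secP_c]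
    apply CartesianMonoidalCategory.hom_ext
    · rw [lift_fst]
    · rw [lift_snd]
  rw [e, Category.assoc, Category.assoc, H]

end Ev

end Groth.Agent.Lib.Helper66.QuotStEff
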