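import Groth.Agent.Lib.Helper66.QuotStEff4

/-!
# Helper66: effectivity for `[X/G]`, part 5 — the glued object of `[X/G]` and its cocone
-/

set_option autoImplicit false
set_option backward.isDefEq.respectTransparency false
set_option backward.isDefEq.respectTransparency.types false
set_option linter.unusedSimpArgs false
set_option linter.unusedVariables false

universe u

open CategoryTheory CategoryTheory.Limits MonoidalCategory CartesianMonoidalCategory MonObj GrpObj AlgebraicGeometry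

namespace Groth.Agent.Lib.Helper66.QuotStEff

open AlgSt Desc Groth.Agent.Lib.Helper66.QuotStBasic Groth.Agent.Lib.Helper66.QuotStFib
  Groth.Agent.Lib.Helper66.QuotStGlue

variable {S : Scheme.{u}} {K : Precoverage Scheme.{u}} {G : Over S} [GrpObj G] {X : Over S}
  {aX : AlgGrp.Action G X}
  {U : Over S} {R : Sieve U} (t : Stk.sieveCat R ⥤ᵇ QuotSt K G aX)
  {I : Type u} {V : I → Over S} {h : ∀ i, V i ⟶ U} (hR : ∀ i, R (h i))
  (P₀ : Over U.left) (ψ : (toDDFam (fun i => (h i).left)).obj P₀ ≅ dd t h hR)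
  (hgen : ∀ ⦃Y : Over S⦄ (f : Y ⟶ U), R f → ∃ (i : I) (g : Y ⟶ V i), g ≫ h i = f)
  [(QuotSh.J K S).Subcanonical] (hRJ : R ∈ QuotSh.J K S U)

section Act

include hRJ in
theorem exists_act : ∃ a : G ⊗ PP P₀ ⟶ PP P₀, ∀ b : (Stk.sieveCat R).obj,
    (G ◁ cB t hR P₀ ψ hgen b) ≫ a = (t.obj b).act.act ≫ cB t hR P₀ ψ hgen b :=
  glue_P t hR P₀ ψ hgen (fun b => (t.obj b).act.act ≫ cB t hR P₀ ψ hgen b) (fun {b b'} k => by
    rw [← Category.assoc, ← ttop_eqv, Category.assoc, cB_nat]) hRJ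

/-- the action on the glued total space -/
noncomputable def actP : G ⊗ PP P₀ ⟶ PP P₀ := (exists_act t hR P₀ ψ hgen hRJ).choose

theorem actP_spec (b : (Stk.sieveCat R).obj) :
    (G ◁ cB t hR P₀ ψ hgen b) ≫ actP t hR P₀ ψ hgen hRJ = (t.obj b).act.act ≫ cB t hR P₀ ψ hgen b :=
  (exists_act t hR P₀ ψ hgen hRJ).choose_spec b

theorem actP_one : (η[G] ▷ PP P₀) ≫ actP t hR P₀ ψ hgen hRJ = (λ_ (PP P₀)).hom := by
  apply ext_P t hR P₀ ψ hgen hRJ
  intro b
  rw [← Category.assoc, whisker_exchange, Category.assoc, actP_spec, ← Category.assoc, (t.obj b).act.one_act,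
    leftUnitor_naturality]

theorem actP_mul : (μ[G] ▷ PP P₀) ≫ actP t hR P₀ ψ hgen hRJ =
    (α_ G G (PP P₀)).hom ≫ (G ◁ actP t hR P₀ ψ hgen hRJ) ≫ actP t hR P₀ ψ hgen hRJ := by
  apply ext_P t hR P₀ ψ hgen hRJ
  intro b
  have hL : ((G ⊗ G) ◁ cB t hR P₀ ψ hgen b) ≫ (μ[G] ▷ PP P₀) ≫ actP t hR P₀ ψ hgen hRJ =
      (μ[G] ▷ tP t b) ≫ (t.obj b).act.act ≫ cB t hR P₀ ψ hgen b := by
    rw [← Category.assoc, whisker_exchange, Category.assoc, actP_spec]
  have hRt : ((G ⊗ G) ◁ cB t hR P₀ ψ hgen b) ≫ (α_ G G (PP P₀)).hom ≫ (G ◁ actP t hR P₀ ψ hgen hRJ) ≫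
      actP t hR P₀ ψ hgen hRJ =
      (α_ G G (tP t b)).hom ≫ (G ◁ (t.obj b).act.act) ≫ (t.obj b).act.act ≫ cB t hR P₀ ψ hgen b := by
    rw [← Category.assoc, associator_naturality_right, Category.assoc]
    congr 1
    rw [← Category.assoc, ← MonoidalCategory.whiskerLeft_comp, actP_spec, MonoidalCategory.whiskerLeft_comp,
      Category.assoc, actP_spec]
  rw [hL, hRt, ← Category.assoc, (t.obj b).act.mul_act]
  simp only [Category.assoc]

/-- the action on the glued total space, as an action -/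
noncomputable def actionP : AlgGrp.Action G (PP P₀) where
  act := actP t hR P₀ ψ hgen hRJ
  one_act := actP_one t hR P₀ ψ hgen hRJ
  mul_act := actP_mul t hR P₀ ψ hgen hRJ

theorem actP_π : actP t hR P₀ ψ hgen hRJ ≫ πP P₀ = snd G (PP P₀) ≫ πP P₀ := by
  apply ext_P t hR P₀ ψ hgen hRJ
  intro b
  rw [← Category.assoc, actP_spec, Category.assoc, cB_π, ← Category.assoc, tπ_act, ← Category.assoc,
    whiskerLeft_snd, Category.assoc, Category.assoc, cB_π]

end Act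

section Cart

/-- **the glued total space is a pseudo-torsor** -/
theorem cartP : IsPullback (actP t hR P₀ ψ hgen hRJ) (snd G (PP P₀)) (πP P₀) (πP P₀) := by
  apply isPullback_of_local (K := K) (actP_π t hR P₀ ψ hgen hRJ)
  intro T a c hac
  refine ⟨R.pullback (c ≫ πP P₀), (QuotSh.J K S).pullback_stable _ hRJ, ?_⟩
  intro Y k hk
  have hk' : R (k ≫ c ≫ πP P₀) := hk
  have hpa : (k ≫ a) ≫ πP P₀ = k ≫ c ≫ πP P₀ := by rw [Category.assoc, hac]
  have hpc : (k ≫ c) ≫ πP P₀ = k ≫ c ≫ πP P₀ := Category.assoc _ _ _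
  let qa := secP t hR P₀ ψ hgen (k ≫ a) _ hpa hk'
  let qc := secP t hR P₀ ψ hgen (k ≫ c) _ hpc hk'
  have hqa : qa ≫ cB t hR P₀ ψ hgen (bObj _ hk') = k ≫ a := secP_c t hR P₀ ψ hgen _ _ hpa hk'
  have hqc : qc ≫ cB t hR P₀ ψ hgen (bObj _ hk') = k ≫ c := secP_c t hR P₀ ψ hgen _ _ hpc hk'
  have hqaπ : qa ≫ tπ t (bObj _ hk') = 𝟙 Y := secP_π t hR P₀ ψ hgen _ _ hpa hk'
  have hqcπ : qc ≫ tπ t (bObj _ hk') = 𝟙 Y := secP_π t hR P₀ ψ hgen _ _ hpc hk'
  let l₀ : Y ⟶ G ⊗ tP t (bObj _ hk') := (tcart t (bObj _ hk')).lift qa qc (hqaπ.trans hqcπ.symm)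
  have hl₀a : l₀ ≫ (t.obj (bObj _ hk')).act.act = qa := (tcart t (bObj _ hk')).lift_fst _ _ _
  have hl₀c : l₀ ≫ snd G (tP t (bObj _ hk')) = qc := (tcart t (bObj _ hk')).lift_snd _ _ _
  refine ⟨l₀ ≫ (G ◁ cB t hR P₀ ψ hgen (bObj _ hk')), ⟨?_, ?_⟩, ?_⟩
  · rw [Category.assoc, actP_spec, ← Category.assoc, hl₀a, hqa]
  · rw [Category.assoc, whiskerLeft_snd, ← Category.assoc, hl₀c, hqc]
  · intro l' h1 h2
    let l'' : Y ⟶ G ⊗ tP t (bObj _ hk') := lift (l' ≫ fst G (PP P₀)) qc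
    have e' : l' = l'' ≫ (G ◁ cB t hR P₀ ψ hgen (bObj _ hk')) := by
      apply CartesianMonoidalCategory.hom_ext
      · rw [Category.assoc, whiskerLeft_fst, lift_fst]
      · rw [Category.assoc, whiskerLeft_snd, ← Category.assoc, lift_snd, hqc, h2]
    have e'' : l'' = l₀ := by
      apply (tcart t (bObj _ hk')).hom_ext
      · rw [hl₀a]
        apply (cB_cart t hR P₀ ψ hgen (bObj _ hk')).hom_ext
        · rw [Category.assoc, ← actP_spec t hR P₀ ψ hgen hRJ, ← Category.assoc, ← e', h1, hqa]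
        · have e1 : (l'' ≫ (t.obj (bObj _ hk')).act.act) ≫ tπ t (bObj _ hk') =
              (l'' ≫ snd G (tP t (bObj _ hk'))) ≫ tπ t (bObj _ hk') :=
            (Category.assoc _ _ _).trans ((congrArg (fun m => l'' ≫ m) (tπ_act t (bObj _ hk'))).trans
              (Category.assoc _ _ _).symm)
          have e2 : l'' ≫ snd G (tP t (bObj _ hk')) = qc := lift_snd _ _
          exact (e1.trans ((congrArg (fun m => m ≫ tπ t (bObj _ hk')) e2).trans hqcπ)).trans hqaπ.symm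
      · rw [hl₀c, lift_snd]
    rw [e', e'']

end Cart

section Loc

variable [K.IsStableUnderComposition]
  (hcovK : Presieve.ofArrows (fun i => (V i).left) (fun i => (h i).left) ∈ K U.left)

include t hR ψ hcovK in
theorem locP : NonAbH1.IsLocallyTrivialFor K (Over.mk (πP P₀).left : Over U.left) := by
  have H : ∀ i, ∃ (σ : Type (u + 1)) (Y : σ → Scheme.{u}) (g : ∀ j, Y j ⟶ (V i).left),
      Presieve.ofArrows Y g ∈ K (V i).left ∧
        ∀ j, ∃ s : Y j ⟶ (tP t (bI h hR i)).left, s ≫ (tπ t (bI h hR i)).left = g j := by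
    intro i
    obtain ⟨Ri, hRi, hsec⟩ := tloc t (bI h hR i)
    obtain ⟨σ, Y, g, rfl⟩ := Ri.exists_eq_ofArrows
    exact ⟨σ, Y, g, hRi, fun j => hsec (g j) ⟨j⟩⟩
  choose σ Y g hg hs using H
  refine ⟨_, Precoverage.comp_mem_coverings (J := K) (fun i => (h i).left) hcovK g hg, ?_⟩
  rintro S' f ⟨p⟩
  obtain ⟨s, hs'⟩ := hs p.1 p.2
  refine ⟨s ≫ cIleft t hR P₀ ψ p.1, ?_⟩
  change (s ≫ cIleft t hR P₀ ψ p.1) ≫ P₀.hom = g p.1 p.2 ≫ (h p.1).left
  rw [Category.assoc, cIleft_hom, ← Category.assoc, hs']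

end Loc

section Phi

include hRJ in
theorem exists_φ : ∃ φ : PP P₀ ⟶ X, ∀ b : (Stk.sieveCat R).obj,
    cB t hR P₀ ψ hgen b ≫ φ = (t.obj b).φ := by
  obtain ⟨Ξ, hΞ⟩ := glue_P t hR P₀ ψ hgen (Z := 𝟙_ (Over S))
    (fun b => (λ_ (tP t b)).hom ≫ (t.obj b).φ) (fun {b b'} k => by
      rw [← Category.assoc, leftUnitor_naturality, Category.assoc, ttop_φ]) hRJ
  refine ⟨(λ_ (PP P₀)).inv ≫ Ξ, fun b => ?_⟩
  rw [← Category.assoc, leftUnitor_inv_naturality, Category.assoc, hΞ, ← Category.assoc, Iso.inv_hom_id,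
    Category.id_comp]

/-- the equivariant map of the glued object -/
noncomputable def φP : PP P₀ ⟶ X := (exists_φ t hR P₀ ψ hgen hRJ).choose

theorem φP_spec (b : (Stk.sieveCat R).obj) :
    cB t hR P₀ ψ hgen b ≫ φP t hR P₀ ψ hgen hRJ = (t.obj b).φ :=
  (exists_φ t hR P₀ ψ hgen hRJ).choose_spec b

theorem φP_eqv : actP t hR P₀ ψ hgen hRJ ≫ φP t hR P₀ ψ hgen hRJ =
    (G ◁ φP t hR P₀ ψ hgen hRJ) ≫ aX.act := by
  apply ext_P t hR P₀ ψ hgen hRJ
  intro b
  rw [← Category.assoc, actP_spec, Category.assoc, φP_spec, (t.obj b).eqv, ← Category.assoc,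
    ← MonoidalCategory.whiskerLeft_comp, φP_spec]

end Phi

section Object

variable [K.IsStableUnderComposition]
  (hcovK : Presieve.ofArrows (fun i => (V i).left) (fun i => (h i).left) ∈ K U.left)

/-- **the glued object of `[X/G]`** -/
noncomputable def gluedObj : QuotObj K G aX where
  base := U
  P := PP P₀
  act := actionP t hR P₀ ψ hgen hRJ
  π := πP P₀
  cart := cartP t hR P₀ ψ hgen hRJ
  loc := locP t hR P₀ ψ hcovK
  φ := φP t hR P₀ ψ hgen hRJ
  eqv := φP_eqv t hR P₀ ψ hgen hRJ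

theorem cart_of_strict (A : QuotObj K G aX) {Y : Over S} (e : A.base = Y) {P' U' : Over S} {top : A.P ⟶ P'}
    {π' : P' ⟶ U'} {m : Y ⟶ U'} (sq : IsPullback top (A.π ≫ eqToHom e) π' m) :
    IsPullback top A.π π' (eqToHom e ≫ m) := by
  subst e
  simpa using sq

/-- the cocone from the descent datum to the glued object -/
noncomputable def coconeHom (b : (Stk.sieveCat R).obj) : t.obj b ⟶ gluedObj t hR P₀ ψ hgen hRJ hcovK where
  base := eqToHom (t_base t b) ≫ b.obj.hom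
  top := cB t hR P₀ ψ hgen b
  eqv := (actP_spec t hR P₀ ψ hgen hRJ b).symm
  cart := cart_of_strict (t.obj b) (t_base t b) (cB_cart t hR P₀ ψ hgen b)
  wφ := φP_spec t hR P₀ ψ hgen hRJ b

theorem coconeHom_isHomLift (b : (Stk.sieveCat R).obj) :
    (QuotSt K G aX).p.IsHomLift b.obj.hom (coconeHom t hR P₀ ψ hgen hRJ hcovK b) := by
  refine IsHomLift.of_fac _ _ _ (t_base t b) rfl ?_
  change b.obj.hom = eqToHom (t_base t b).symm ≫ (eqToHom (t_base t b) ≫ b.obj.hom) ≫ eqToHom rfl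
  simp

theorem coconeHom_nat {b b' : (Stk.sieveCat R).obj} (k : b ⟶ b') :
    t.map k ≫ coconeHom t hR P₀ ψ hgen hRJ hcovK b' = coconeHom t hR P₀ ψ hgen hRJ hcovK b := by
  apply QuotObj.hom_ext
  · change (t.map k).base ≫ eqToHom (t_base t b') ≫ b'.obj.hom = eqToHom (t_base t b) ≫ b.obj.hom
    rw [t_map_base]
    have e : k.hom.left ≫ b'.obj.hom = b.obj.hom := Over.w k.hom
    simp [e]
  · exact cB_nat t hR P₀ ψ hgen k

include hRJ hcovK P₀ ψ hgen in
/-- **the gluing datum of `StackCrit.isStackFor_of_crit`, from an effective descent datum** -/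
theorem hobj_of_iso : ∃ (x : (QuotSt K G aX).obj) (_ : (QuotSt K G aX).p.obj x = U)
    (c : ∀ b : (Stk.sieveCat R).obj, t.obj b ⟶ x),
    (∀ b : (Stk.sieveCat R).obj, (QuotSt K G aX).p.IsHomLift b.obj.hom (c b)) ∧
      ∀ {b b' : (Stk.sieveCat R).obj} (k : b ⟶ b'), t.map k ≫ c b' = c b :=
  ⟨gluedObj t hR P₀ ψ hgen hRJ hcovK, rfl, coconeHom t hR P₀ ψ hgen hRJ hcovK,
    coconeHom_isHomLift t hR P₀ ψ hgen hRJ hcovK, fun k => coconeHom_nat t hR P₀ ψ hgen hRJ hcovK k⟩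

end Object

end Groth.Agent.Lib.Helper66.QuotStEff
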