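import Groth.Agent.Lib.Helper66.QuotStEff5
import Groth.Agent.Lib.Helper66.QuotStDiag
import Groth.Agent.S7482
import Groth.Agent.H53.ZarGlueAff

/-!
# Helper66: `[X/G]` is a stack when torsor projections are affine

Effectivity of descent data for `[X/G]` (scheme torsors) through effectivity of descent for affine morphisms of schemes
(`S7482`), for a precoverage `K ≤ fpqc` stable under base change and composition in which covering sieves contain
`Type u`-indexed covering families.
-/

set_option autoImplicit false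
set_option backward.isDefEq.respectTransparency false
set_option backward.isDefEq.respectTransparency.types false
set_option linter.unusedSimpArgs false
set_option linter.unusedVariables false

universe u

open CategoryTheory CategoryTheory.Limits MonoidalCategory CartesianMonoidalCategory MonObj GrpObj AlgebraicGeometry

namespace Groth.Agent.Lib.Helper66.QuotStEff

open AlgSt Desc Groth.Agent.Lib.Helper66.QuotStBasic Groth.Agent.Lib.Helper66.QuotStFib
  Groth.Agent.Lib.Helper66.QuotStGlue

/-- an affine morphism is ind-quasi-affine -/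
theorem isIndQuasiAffineHom_of_isAffineHom {X Y : Scheme.{u}} (f : X ⟶ Y) [IsAffineHom f] :
    MoreMor.IsIndQuasiAffineHom f := by
  intro V hV U' hU'
  have h1 : IsAffine (f ⁻¹ᵁ V : Scheme.{u}) := hV.preimage f
  have h2 : CompactSpace (U' : Scheme.{u}) := isCompact_iff_compactSpace.mp hU'
  exact Scheme.IsQuasiAffine.of_isImmersion U'.ι

variable {S : Scheme.{u}} {K : Precoverage Scheme.{u}} {G : Over S} [GrpObj G] {X : Over S}
  {aX : AlgGrp.Action G X}

theorem isAffineHom_tπ (haff : ∀ A : QuotObj K G aX, IsAffineHom A.π.left) {U : Over S} {R : Sieve U}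
    (t : Stk.sieveCat R ⥤ᵇ QuotSt K G aX) (b : (Stk.sieveCat R).obj) : IsAffineHom (tπ t b).left := by
  have key : ∀ (A : QuotObj K G aX) (Y : Over S) (e : A.base = Y), IsAffineHom (A.π ≫ eqToHom e).left := by
    intro A Y e
    subst e
    simpa using haff A
  exact key _ _ _

section Main

variable [K.IsStableUnderBaseChange] [K.IsStableUnderComposition] [(QuotSh.J K S).Subcanonical]
  (hKq : K ≤ Scheme.fpqcPrecoverage) (haff : ∀ A : QuotObj K G aX, IsAffineHom A.π.left)

include hKq haff in
/-- **the stack condition for the sieve generated by a covering family** -/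
theorem isStackFor_generate {U : Over S} {I : Type u} (V : I → Over S) (h : ∀ i, V i ⟶ U)
    (hcovK : Presieve.ofArrows (fun i => (V i).left) (fun i => (h i).left) ∈ K U.left) :
    Stk.IsStackFor (Sieve.generate (Presieve.ofArrows V h)) (QuotSt K G aX) := by
  have hRJ : Sieve.generate (Presieve.ofArrows V h) ∈ QuotSh.J K S U := by
    rw [GrothendieckTopology.mem_over_iff]
    refine GrothendieckTopology.superset_covering _ ?_ (Precoverage.generate_mem_toGrothendieck hcovK)
    rintro Y g ⟨Y', m, f', ⟨i⟩, rfl⟩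
    rw [Sieve.overEquiv_iff]
    refine ⟨V i, (Over.homMk m (by simp) : Over.mk ((m ≫ (h i).left) ≫ U.hom) ⟶ V i), h i, ⟨i⟩, ?_⟩
    exact Over.OverMorphism.ext rfl
  apply StackCrit.isStackFor_of_crit isFibGrpd_quotSt homSep_quotSt homGlue_quotSt _ hRJ
  intro t
  have hR : ∀ i, (Sieve.generate (Presieve.ofArrows V h)) (h i) := fun i =>
    Sieve.le_generate _ _ _ (Presieve.ofArrows.mk i)
  have hgen : ∀ ⦃Y : Over S⦄ (f : Y ⟶ U), (Sieve.generate (Presieve.ofArrows V h)) f →
      ∃ (i : I) (g : Y ⟶ V i), g ≫ h i = f := by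
    rintro Y f ⟨Y', m, f', ⟨i⟩, rfl⟩
    exact ⟨i, m, rfl⟩
  have hD : ∀ i, MoreMor.IsIndQuasiAffineHom ((dd t h hR).obj i).hom := fun i => by
    have := isAffineHom_tπ haff t (bI h hR i)
    exact isIndQuasiAffineHom_of_isAffineHom (tπ t (bI h hR i)).left
  obtain ⟨P₀, ⟨ψ⟩⟩ := Groth.Agent.S7482.result (fun i => (h i).left) (hKq _ hcovK) (dd t h hR) hD
  exact hobj_of_iso t hR P₀ ψ hgen hRJ hcovK

end Main

section Stack

variable [K.IsStableUnderBaseChange] [K.IsStableUnderComposition] [(QuotSh.J K S).Subcanonical]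
  (hKq : K ≤ Scheme.fpqcPrecoverage) (haff : ∀ A : QuotObj K G aX, IsAffineHom A.π.left)
  (hfam : ∀ ⦃U : Over S⦄ ⦃R : Sieve U⦄, R ∈ QuotSh.J K S U →
    ∃ (I : Type u) (V : I → Over S) (h : ∀ i, V i ⟶ U), (∀ i, R (h i)) ∧
      Presieve.ofArrows (fun i => (V i).left) (fun i => (h i).left) ∈ K U.left)

theorem generate_mem_J {U : Over S} {I : Type u} (V : I → Over S) (h : ∀ i, V i ⟶ U)
    (hcovK : Presieve.ofArrows (fun i => (V i).left) (fun i => (h i).left) ∈ K U.left) :
    Sieve.generate (Presieve.ofArrows V h) ∈ QuotSh.J K S U := by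
  rw [GrothendieckTopology.mem_over_iff]
  refine GrothendieckTopology.superset_covering _ ?_ (Precoverage.generate_mem_toGrothendieck hcovK)
  rintro Y g ⟨Y', m, f', ⟨i⟩, rfl⟩
  rw [Sieve.overEquiv_iff]
  refine ⟨V i, (Over.homMk m (by simp) : Over.mk ((m ≫ (h i).left) ≫ U.hom) ⟶ V i), h i, ⟨i⟩, ?_⟩
  exact Over.OverMorphism.ext rfl

include hKq haff hfam in
/-- **`[X/G]` is a stack** (torsor projections affine, covering sieves contain small covering families) -/
theorem isStack_quotSt_of_affine : Stk.IsStack (QuotSh.J K S) (QuotSt K G aX) := by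
  refine ⟨isFibGrpd_quotSt, fun U R hR => ?_⟩
  obtain ⟨I, V, h, hRh, hcov⟩ := hfam hR
  have hle : Sieve.generate (Presieve.ofArrows V h) ≤ R := by
    rw [Sieve.generate_le_iff]
    rintro Y f ⟨i⟩
    exact hRh i
  have hgJ := generate_mem_J (K := K) V h hcov
  exact Groth.Agent.Lib.Helper65.SieveRefine.isStackFor_of_le hle isFibGrpd_quotSt
    (isStackFor_generate hKq haff V h hcov)
    (fun V' f hf => (isPrestack_quotSt (K := K) (G := G) (aX := aX)).2 _
      ((QuotSh.J K S).pullback_stable f hgJ))

end Stack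

section Concrete

theorem isAffineHom_π_of_le (hK : K ≤ Scheme.fppfPrecoverage) (hG : IsAffineHom G.hom) (A : QuotObj K G aX) :
    IsAffineHom A.π.left :=
  (AlgSp.repWith_yon_map_iff @IsAffineHom A.π).1
    (Groth.Agent.H53.ZarGlue.repWith_isAffineHom_of_isAffineMor
      (Groth.Agent.Lib.Helper66.QuotStDiag.isAffineMor_yon_map_π_of_le hK hG A))

/-- covering sieves of the topology of a precoverage of schemes given by a morphism property contain small covering
families -/
theorem exists_family_of_mem_J (P : MorphismProperty Scheme.{u}) [P.IsMultiplicative] [P.IsStableUnderBaseChange]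
    {U : Over S} {R : Sieve U}
    (hR : R ∈ QuotSh.J (Scheme.precoverage P) S U) :
    ∃ (I : Type u) (V : I → Over S) (h : ∀ i, V i ⟶ U), (∀ i, R (h i)) ∧
      Presieve.ofArrows (fun i => (V i).left) (fun i => (h i).left) ∈ Scheme.precoverage P U.left := by
  rw [GrothendieckTopology.mem_over_iff] at hR
  obtain ⟨𝒰, h𝒰⟩ := (Scheme.mem_grothendieckTopology_iff (P := P)).1 hR
  refine ⟨𝒰.I₀, fun i => Over.mk (𝒰.f i ≫ U.hom), fun i => Over.homMk (𝒰.f i) rfl, fun i => ?_, 𝒰.mem₀⟩
  have h1 := h𝒰 _ _ (Presieve.ofArrows.mk i)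
  rw [Sieve.overEquiv_iff] at h1
  exact h1

end Concrete

end Groth.Agent.Lib.Helper66.QuotStEff
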