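import Groth.Agent.Lib.Helper66.QuotStEff6

/-!
# Helper66: the étale quotient stack `[X/G]` of a smooth affine group scheme is an algebraic stack
-/

set_option autoImplicit false
set_option backward.isDefEq.respectTransparency false
set_option backward.isDefEq.respectTransparency.types false
set_option linter.unusedSimpArgs false
set_option linter.unusedVariables false
set_option linter.style.haveILetI false

universe u

open CategoryTheory CategoryTheory.Limits MonoidalCategory CartesianMonoidalCategory MonObj GrpObj AlgebraicGeometry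

namespace Groth.Agent.Lib.Helper66.QuotStEff

open AlgSt FibCat Groth.Agent.Lib.Helper31 Groth.Agent.Lib.Helper65
open Groth.Agent.Lib.Helper66.QuotStBasic Groth.Agent.Lib.Helper66.QuotStRep Groth.Agent.Lib.Helper66.QuotStProp
open Groth.Agent.Lib.Helper66.QuotStFib Groth.Agent.Lib.Helper66.QuotStGlue
open Groth.Agent.Lib.Helper66.StackCmp Groth.Agent.Lib.Helper66.ProdSliceFst
open Groth.Agent.Lib.Helper66.AlgStDiagCover Groth.Agent.Lib.Helper66.QuotStDiag

variable {S : Scheme.{u}} {G : Over S} [GrpObj G] {X : Over S} {aX : AlgGrp.Action G X}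

instance etalePrecoverage_isStableUnderComposition : (Scheme.etalePrecoverage.{u}).IsStableUnderComposition :=
  inferInstanceAs ((Scheme.precoverage @Etale).IsStableUnderComposition)

/-- the étale quotient stack `[X/G]` is a stack, for `G ⟶ S` affine -/
theorem isStack_quotSt_etale (hGa : IsAffineHom G.hom) :
    Stk.IsStack (QuotSh.J Scheme.etalePrecoverage S) (AlgSt.QuotSt Scheme.etalePrecoverage G aX) := by
  have hK : Scheme.etalePrecoverage ≤ Scheme.fppfPrecoverage := BigSite.etalePrecoverage_le_fppfPrecoverage
  exact isStack_quotSt_of_affine (K := Scheme.etalePrecoverage)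
    (hK.trans Scheme.fppfPrecoverage_le_fpqcPrecoverage)
    (fun A => isAffineHom_π_of_le hK hGa A)
    (fun U R hR => exists_family_of_mem_J (@Etale : MorphismProperty Scheme.{u}) hR)

/-- **the étale quotient stack `[X/G]` is an algebraic stack**, for `G ⟶ S` smooth and affine -/
theorem isAlgStack_quotSt_etale (hGs : Smooth G.hom) (hGa : IsAffineHom G.hom) :
    AlgSt.IsAlgStack Scheme.etalePrecoverage (AlgSt.QuotSt Scheme.etalePrecoverage G aX) := by
  have hK : Scheme.etalePrecoverage ≤ Scheme.fppfPrecoverage := BigSite.etalePrecoverage_le_fppfPrecoverage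
  have hpre : Stk.IsPrestack (QuotSh.J Scheme.etalePrecoverage S) (QuotSt Scheme.etalePrecoverage G aX) :=
    isPrestack_quotSt
  have hsm : AlgSt.RepByAlgSpWith (AlgSp.LocP @Smooth) (qF Scheme.etalePrecoverage G aX) :=
    repByAlgSpWith_locP_qF hK @Smooth listed_smooth isLocalOnBase_fppf_locP_smooth hGs
  have hsurj : AlgSt.RepByAlgSpWith AlgSp.IsSurjectiveMor (qF Scheme.etalePrecoverage G aX) :=
    repByAlgSpWith_isSurjectiveMor_qF hK
  refine ⟨isStack_quotSt_etale hGa, ?_, ⟨X, qF Scheme.etalePrecoverage G aX, hsm, hsurj⟩⟩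
  exact repByAlgSp1_diag_of_all (fun T x =>
    repByAlgSp1_of_smooth_cover_of_isPrestack (isFibGrpd_overForget X) hpre (repByAlgSp_overCat X)
      (qF Scheme.etalePrecoverage G aX) hsm hsurj T x)

end Groth.Agent.Lib.Helper66.QuotStEff
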