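import Groth.Agent.Lib.Helper66.QuotStCart
import Groth.Agent.Lib.Helper31.FibCat

/-!
# Helper66: `[X/G]` is fibred in groupoids over `(Sch/S)`

Pullback objects of `AlgSt.QuotObj K G aX` along morphisms of the base (for a precoverage `K` stable under
base change), and strong cartesianness of every morphism.
-/

set_option autoImplicit false
set_option backward.isDefEq.respectTransparency false
set_option backward.isDefEq.respectTransparency.types false
set_option linter.unusedSimpArgs false
set_option linter.unusedVariables false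

universe u

open CategoryTheory CategoryTheory.Limits MonoidalCategory CartesianMonoidalCategory MonObj GrpObj AlgebraicGeometry

namespace Groth.Agent.Lib.Helper66.QuotStFib

open AlgSt Groth.Agent.Lib.Helper66.QuotStBasic

variable {S : Scheme.{u}} {K : Precoverage Scheme.{u}} {G : Over S} [GrpObj G] {X : Over S}
  {aX : AlgGrp.Action G X}

section Pb

variable (A : QuotObj K G aX) {V P' : Over S} {f : V ⟶ A.base} {p₁ : P' ⟶ A.P} {p₂ : P' ⟶ V}
  (sq : IsPullback p₁ p₂ A.π f)

include sq in
theorem pbAct_aux : ((G ◁ p₁) ≫ A.act.act) ≫ A.π = (snd G P' ≫ p₂) ≫ f := by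
  rw [Category.assoc, A.cart.w, ← Category.assoc, whiskerLeft_snd, Category.assoc, sq.w, Category.assoc]

/-- the action on a pullback of the torsor -/
noncomputable def pbActMor : G ⊗ P' ⟶ P' :=
  sq.lift ((G ◁ p₁) ≫ A.act.act) (snd G P' ≫ p₂) (pbAct_aux A sq)

@[reassoc]
theorem pbActMor_fst : pbActMor A sq ≫ p₁ = (G ◁ p₁) ≫ A.act.act := sq.lift_fst _ _ _

@[reassoc]
theorem pbActMor_snd : pbActMor A sq ≫ p₂ = snd G P' ≫ p₂ := sq.lift_snd _ _ _

/-- the action on a pullback of the torsor -/
noncomputable def pbAct : AlgGrp.Action G P' where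
  act := pbActMor A sq
  one_act := by
    apply sq.hom_ext
    · rw [Category.assoc, pbActMor_fst, ← Category.assoc, ← whisker_exchange, Category.assoc, A.act.one_act,
        leftUnitor_naturality]
    · rw [Category.assoc, pbActMor_snd, ← Category.assoc, whiskerRight_snd, leftUnitor_hom]
  mul_act := by
    apply sq.hom_ext
    · rw [Category.assoc, pbActMor_fst, ← Category.assoc, ← whisker_exchange, Category.assoc, A.act.mul_act]
      simp only [Category.assoc]
      rw [pbActMor_fst, ← MonoidalCategory.whiskerLeft_comp_assoc, pbActMor_fst,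
        MonoidalCategory.whiskerLeft_comp, Category.assoc, associator_naturality_right_assoc]
    · simp only [Category.assoc]
      rw [pbActMor_snd, whiskerRight_snd_assoc, whiskerLeft_snd_assoc, pbActMor_snd,
        associator_hom_snd_snd_assoc]

@[simp] theorem pbAct_act : (pbAct A sq).act = pbActMor A sq := rfl

theorem pb_cart : IsPullback (pbActMor A sq) (snd G P') p₂ p₂ := by
  have outer : IsPullback ((G ◁ p₁) ≫ A.act.act) (snd G P') A.π (p₁ ≫ A.π) :=
    (isPullback_whiskerLeft (G := G) p₁).paste_horiz A.cart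
  have outer' : IsPullback (pbActMor A sq ≫ p₁) (snd G P') A.π (p₂ ≫ f) := by
    rw [pbActMor_fst, ← sq.w]
    exact outer
  exact IsPullback.of_right outer' (pbActMor_snd A sq) sq

include sq in
theorem pb_loc [K.IsStableUnderBaseChange] :
    NonAbH1.IsLocallyTrivialFor K (Over.mk p₂.left : Over V.left) := by
  obtain ⟨R, hR, hsec⟩ := A.loc
  have sq' : IsPullback p₁.left p₂.left A.π.left f.left := sq.map (Over.forget S)
  refine ⟨R.pullbackArrows f.left, Precoverage.pullbackArrows_mem f.left hR, ?_⟩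
  rintro S' g ⟨Z, h, hh⟩
  obtain ⟨s, hs⟩ := hsec h hh
  have hs' : s ≫ A.π.left = h := hs
  refine ⟨sq'.lift (pullback.fst h f.left ≫ s) (pullback.snd h f.left) ?_, ?_⟩
  · rw [Category.assoc, hs', pullback.condition]
  · exact sq'.lift_snd _ _ _

/-- the pullback of an object of `[X/G]` along a morphism to its base, on a given fibre product -/
noncomputable def pbObj [K.IsStableUnderBaseChange] : QuotObj K G aX where
  base := V
  P := P'
  act := pbAct A sq
  π := p₂
  cart := pb_cart A sq
  loc := pb_loc A sq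
  φ := p₁ ≫ A.φ
  eqv := by
    change pbActMor A sq ≫ p₁ ≫ A.φ = (G ◁ (p₁ ≫ A.φ)) ≫ aX.act
    rw [pbActMor_fst_assoc, A.eqv, MonoidalCategory.whiskerLeft_comp, Category.assoc]

/-- the projection from the pullback -/
noncomputable def pbHom [K.IsStableUnderBaseChange] : pbObj A sq ⟶ A where
  base := f
  top := p₁
  eqv := pbActMor_fst A sq
  cart := sq
  wφ := rfl

end Pb

section Cart

/-- factorisation through a morphism of `[X/G]` (every morphism is strongly cartesian) -/
noncomputable def factor {A B Z : QuotObj K G aX} (φ : B ⟶ A) (ψ : Z ⟶ A) (g : Z.base ⟶ B.base)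
    (hg : g ≫ φ.base = ψ.base) : Z ⟶ B where
  base := g
  top := φ.cart.lift ψ.top (Z.π ≫ g) (by rw [Category.assoc, hg, ψ.cart.w])
  eqv := by
    apply φ.cart.hom_ext
    · rw [Category.assoc, φ.cart.lift_fst, ψ.eqv, Category.assoc, φ.eqv,
        ← MonoidalCategory.whiskerLeft_comp_assoc, φ.cart.lift_fst]
    · rw [Category.assoc, φ.cart.lift_snd, Category.assoc, B.cart.w, whiskerLeft_snd_assoc,
        φ.cart.lift_snd, ← Category.assoc, Z.cart.w, Category.assoc]
  cart := by
    have h1 : IsPullback (φ.cart.lift ψ.top (Z.π ≫ g) (by rw [Category.assoc, hg, ψ.cart.w]) ≫ φ.top)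
        Z.π A.π (g ≫ φ.base) := by
      rw [φ.cart.lift_fst, hg]
      exact ψ.cart
    exact IsPullback.of_right h1 (φ.cart.lift_snd _ _ _) φ.cart
  wφ := by rw [← φ.wφ, ← Category.assoc, φ.cart.lift_fst, ψ.wφ]

@[simp] theorem factor_base {A B Z : QuotObj K G aX} (φ : B ⟶ A) (ψ : Z ⟶ A) (g : Z.base ⟶ B.base)
    (hg : g ≫ φ.base = ψ.base) : (factor φ ψ g hg).base = g := rfl

theorem factor_comp {A B Z : QuotObj K G aX} (φ : B ⟶ A) (ψ : Z ⟶ A) (g : Z.base ⟶ B.base)
    (hg : g ≫ φ.base = ψ.base) : factor φ ψ g hg ≫ φ = ψ := by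
  apply QuotObj.hom_ext
  · exact hg
  · exact φ.cart.lift_fst _ _ _

theorem factor_unique {A B Z : QuotObj K G aX} (φ : B ⟶ A) (ψ : Z ⟶ A) (g : Z.base ⟶ B.base)
    (hg : g ≫ φ.base = ψ.base) (χ : Z ⟶ B) (h1 : χ.base = g) (h2 : χ ≫ φ = ψ) : χ = factor φ ψ g hg := by
  apply QuotObj.hom_ext
  · exact h1
  · apply φ.cart.hom_ext
    · rw [show (factor φ ψ g hg).top ≫ φ.top = ψ.top from φ.cart.lift_fst _ _ _]
      exact congrArg QuotObj.Hom.top h2
    · rw [show (factor φ ψ g hg).top ≫ B.π = Z.π ≫ g from φ.cart.lift_snd _ _ _, χ.cart.w, h1]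

end Cart

/-- **`[X/G]` is fibred in groupoids over `(Sch/S)`** (for `K` stable under base change). -/
theorem isFibGrpd_quotSt [K.IsStableUnderBaseChange] : FibCat.IsFibGrpd (QuotSt K G aX).p := by
  refine ⟨?_, ?_⟩
  · intro A V f
    have sq : IsPullback (pullback.fst A.π f) (pullback.snd A.π f) A.π f := IsPullback.of_hasPullback _ _
    exact ⟨pbObj A sq, pbHom A sq,
      inferInstanceAs ((QuotObj.forget K G aX).IsHomLift ((QuotObj.forget K G aX).map (pbHom A sq)) (pbHom A sq))⟩
  · intro B A φ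
    refine { toIsHomLift := inferInstance, universal_property' := ?_ }
    intro Z g ψ hψ
    have e1 : g ≫ φ.base = ψ.base :=
      IsHomLift.eq_of_isHomLift (QuotObj.forget K G aX) (g ≫ (QuotObj.forget K G aX).map φ) ψ
    obtain ⟨g', hg'⟩ : ∃ g' : Z.base ⟶ B.base, g' = g := ⟨g, rfl⟩
    have e1' : g' ≫ φ.base = ψ.base := by rw [hg']; exact e1
    refine ⟨factor φ ψ g' e1', ⟨?_, factor_comp φ ψ g' e1'⟩, ?_⟩
    · rw [← hg']
      exact inferInstanceAs ((QuotObj.forget K G aX).IsHomLift
        ((QuotObj.forget K G aX).map (factor φ ψ g' e1')) (factor φ ψ g' e1'))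
    · rintro χ' ⟨hχ'1, hχ'2⟩
      have : g = χ'.base := IsHomLift.eq_of_isHomLift (QuotObj.forget K G aX) g χ'
      exact factor_unique φ ψ g' e1' χ' (this.symm.trans hg'.symm) hχ'2

end Groth.Agent.Lib.Helper66.QuotStFib
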