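import Groth.Agent.Lib.Helper66.QuotStCart

/-!
# The fibre categories of `[X/G]` (`AlgSt.QuotSt`) over a fixed base `T`

For a base `T`, `G(T) = (T ⟶ G)` acts on `X(T) = (T ⟶ X)`; the full subcategory of the fibre of `[X/G]` over `T` on the
trivial torsors is the action groupoid:

* `ptAct` : the action `g • x = g · x`;
* `trivFib T x` : the trivial object of the fibre attached to `x`;
* `trivFib_iso_iff` : `trivFib T x ≅ trivFib T y` iff `x` and `y` lie in one orbit;
* `autEquivStab` : `Aut (trivFib T x) ≃ stabilizer of x`;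
* `nonempty_iso_trivFib_of_section` : an object with a section of its torsor is isomorphic in the fibre to a trivial one.
-/

set_option autoImplicit false
set_option backward.isDefEq.respectTransparency false
set_option backward.isDefEq.respectTransparency.types false
set_option linter.unusedSimpArgs false
set_option linter.unusedVariables false
set_option linter.style.haveILetI false

universe u

open CategoryTheory CategoryTheory.Limits MonoidalCategory CartesianMonoidalCategory MonObj GrpObj AlgebraicGeometry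

namespace Groth.Agent.Lib.Helper66.QuotStFibre

open AlgSt Groth.Agent.Lib.Helper66.QuotStBasic

variable {S : Scheme.{u}} {K : Precoverage Scheme.{u}} [K.HasIsos] {G : Over S} [GrpObj G] {X : Over S}
  (aX : AlgGrp.Action G X)

/-- The action of the group `G(T)` on the set `X(T)`. -/
noncomputable def ptAct (T : Over S) : MulAction (T ⟶ G) (T ⟶ X) where
  smul g x := lift g x ≫ aX.act
  one_smul x := act_one_pt aX x
  mul_smul g h x := act_mul_pt aX g h x

theorem ptAct_smul_def (T : Over S) (g : T ⟶ G) (x : T ⟶ X) :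
    (ptAct aX T).smul g x = lift g x ≫ aX.act := rfl

variable (K) in
/-- The trivial object of the fibre over `T` attached to a `T`-point of `X`. -/
noncomputable def trivFib (T : Over S) (x : T ⟶ X) : (QuotSt K G aX).p.Fiber T :=
  ⟨trivObj (K := K) (aX := aX) T x, rfl⟩

variable {aX}

/-- The base of a morphism of the fibre between trivial objects is the identity. -/
theorem fib_hom_base {T : Over S} {x y : T ⟶ X} (φ : trivFib K aX T x ⟶ trivFib K aX T y) :
    φ.1.base = 𝟙 T := by
  have := φ.2
  have h := IsHomLift.fac' (QuotSt K G aX).p (𝟙 T) φ.1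
  change φ.1.base = eqToHom (rfl : T = T) ≫ 𝟙 T ≫ eqToHom (rfl : T = T) at h
  simpa using h

/-- The morphism of the fibre between trivial objects given by a point of `G`. -/
noncomputable def fibMor {T : Over S} (g : T ⟶ G) (x y : T ⟶ X) (hg : lift g y ≫ aX.act = x) :
    trivFib K aX T x ⟶ trivFib K aX T y :=
  ⟨trivMor (K := K) (𝟙 T) g x y (by rw [Category.id_comp]; exact hg), by
    have : (QuotSt K G aX).p.IsHomLift
        ((QuotSt K G aX).p.map (trivMor (K := K) (aX := aX) (𝟙 T) g x y (by rw [Category.id_comp]; exact hg)))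
        (trivMor (K := K) (aX := aX) (𝟙 T) g x y (by rw [Category.id_comp]; exact hg)) := inferInstance
    exact this⟩

theorem fibMor_top {T : Over S} (g : T ⟶ G) (x y : T ⟶ X) (hg : lift g y ≫ aX.act = x) :
    (fibMor (K := K) g x y hg).1.top = rightMulMap (𝟙 T) g := rfl

theorem fib_hom_ext {T : Over S} {x y : T ⟶ X} {φ ψ : trivFib K aX T x ⟶ trivFib K aX T y}
    (h : φ.1.top = ψ.1.top) : φ = ψ := by
  apply Subtype.ext
  apply QuotObj.hom_ext
  · rw [fib_hom_base φ, fib_hom_base ψ]
  · exact h

/-- Every morphism of the fibre between trivial objects comes from a unique point of `G`. -/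
theorem exists_eq_fibMor {T : Over S} {x y : T ⟶ X} (φ : trivFib K aX T x ⟶ trivFib K aX T y) :
    ∃ (g : T ⟶ G) (hg : lift g y ≫ aX.act = x), φ = fibMor g x y hg := by
  obtain ⟨g, hg, htop⟩ := exists_eq_rightMulMap (K := K) (aX := aX) x y φ.1
  rw [fib_hom_base φ] at hg htop
  rw [Category.id_comp] at hg
  refine ⟨g, hg, fib_hom_ext ?_⟩
  rw [fibMor_top]
  exact htop

theorem fibMor_comp {T : Over S} (g h : T ⟶ G) (x y z : T ⟶ X) (hg : lift g y ≫ aX.act = x)
    (hh : lift h z ≫ aX.act = y) :
    fibMor (K := K) g x y hg ≫ fibMor h y z hh =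
      fibMor (g * h) x z (by rw [act_mul_pt, hh, hg]) := by
  apply fib_hom_ext
  change rightMulMap (𝟙 T) g ≫ rightMulMap (𝟙 T) h = rightMulMap (𝟙 T) (g * h)
  rw [rightMulMap_comp, Category.id_comp, Category.id_comp]

theorem fibMor_one {T : Over S} (x : T ⟶ X) :
    fibMor (K := K) (1 : T ⟶ G) x x (act_one_pt aX x) = 𝟙 (trivFib K aX T x) := by
  apply fib_hom_ext
  change rightMulMap (𝟙 T) (1 : T ⟶ G) = 𝟙 _
  rw [rightMulMap_id_one]

theorem fibMor_injective {T : Over S} {g h : T ⟶ G} {x y : T ⟶ X} {hg : lift g y ≫ aX.act = x}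
    {hh : lift h y ≫ aX.act = x} (e : fibMor (K := K) g x y hg = fibMor h x y hh) : g = h := by
  have h1 : (fibMor (K := K) g x y hg).1.top = (fibMor (K := K) h x y hh).1.top := by rw [e]
  rw [fibMor_top, fibMor_top] at h1
  exact rightMulMap_injective _ h1

/-- The isomorphism of the fibre between trivial objects given by a point of `G`. -/
noncomputable def fibIso {T : Over S} (g : T ⟶ G) (x y : T ⟶ X) (hg : lift g y ≫ aX.act = x) :
    trivFib K aX T x ≅ trivFib K aX T y where
  hom := fibMor g x y hg
  inv := fibMor g⁻¹ y x (by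
    have h := act_mul_pt aX g⁻¹ g y
    rw [hg, inv_mul_cancel, act_one_pt] at h
    exact h.symm)
  hom_inv_id := by
    rw [fibMor_comp]
    have h1 : ∀ (k : T ⟶ G) (hk : k = 1) (hk' : lift k x ≫ aX.act = x),
        fibMor (K := K) k x x hk' = 𝟙 (trivFib K aX T x) := by
      intro k hk hk'
      subst hk
      exact fibMor_one x
    exact h1 _ (mul_inv_cancel g) _
  inv_hom_id := by
    rw [fibMor_comp]
    have h1 : ∀ (k : T ⟶ G) (hk : k = 1) (hk' : lift k y ≫ aX.act = y),
        fibMor (K := K) k y y hk' = 𝟙 (trivFib K aX T y) := by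
      intro k hk hk'
      subst hk
      exact fibMor_one y
    exact h1 _ (inv_mul_cancel g) _

/-- Trivial objects are isomorphic in the fibre iff the points lie in one orbit. -/
theorem trivFib_iso_iff {T : Over S} (x y : T ⟶ X) :
    Nonempty (trivFib K aX T x ≅ trivFib K aX T y) ↔ ∃ g : T ⟶ G, lift g y ≫ aX.act = x := by
  constructor
  · rintro ⟨e⟩
    obtain ⟨g, hg, -⟩ := exists_eq_fibMor e.hom
    exact ⟨g, hg⟩
  · rintro ⟨g, hg⟩
    exact ⟨fibIso g x y hg⟩

/-- The automorphisms of a trivial object of the fibre are the points of `G` fixing the point of `X`. -/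
noncomputable def autEquivStab {T : Over S} (x : T ⟶ X) :
    Aut (trivFib K aX T x) ≃ {g : T ⟶ G // lift g x ≫ aX.act = x} := by
  refine Equiv.ofBijective
    (fun e => ⟨(exists_eq_fibMor e.hom).choose, (exists_eq_fibMor e.hom).choose_spec.choose⟩) ⟨?_, ?_⟩
  · intro e e' h
    have h1 := (exists_eq_fibMor e.hom).choose_spec.choose_spec
    have h2 := (exists_eq_fibMor e'.hom).choose_spec.choose_spec
    have h3 : (exists_eq_fibMor e.hom).choose = (exists_eq_fibMor e'.hom).choose :=
      congrArg Subtype.val h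
    apply Iso.ext
    rw [h1, h2]
    congr 1
  · rintro ⟨g, hg⟩
    refine ⟨fibIso g x x hg, ?_⟩
    apply Subtype.ext
    have h1 := (exists_eq_fibMor (fibIso (K := K) g x x hg).hom).choose_spec.choose_spec
    exact (fibMor_injective (hg := hg) h1).symm

theorem card_aut_trivFib {T : Over S} (x : T ⟶ X) :
    Nat.card (Aut (trivFib K aX T x)) = Nat.card {g : T ⟶ G // lift g x ≫ aX.act = x} :=
  Nat.card_congr (autEquivStab x)

/-- An object of `[X/G]` whose torsor has a section is isomorphic, in its fibre, to a trivial object. -/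
theorem nonempty_iso_trivFib_of_section (A : QuotObj K G aX) (s : A.base ⟶ A.P) (hs : s ≫ A.π = 𝟙 A.base) :
    Nonempty (trivFib K aX A.base (s ≫ A.φ) ≅ (⟨A, rfl⟩ : (QuotSt K G aX).p.Fiber A.base)) := by
  let h : trivObj (K := K) (aX := aX) A.base (s ≫ A.φ) ⟶ A := trivHom A s
  have hb : h.base = 𝟙 A.base := hs
  haveI : IsIso h.base := by rw [hb]; exact IsIso.id A.base
  haveI : IsIso h := isIso_of_isIso_base h
  have hl : (QuotSt K G aX).p.IsHomLift (𝟙 A.base) h := by
    have : (QuotSt K G aX).p.IsHomLift ((QuotSt K G aX).p.map h) h := inferInstance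
    have e : (QuotSt K G aX).p.map h = 𝟙 A.base := hb
    rw [e] at this
    exact this
  have hl' : (QuotSt K G aX).p.IsHomLift (𝟙 A.base) (inv h) := inferInstance
  exact ⟨{ hom := ⟨h, hl⟩
           inv := ⟨inv h, hl'⟩
           hom_inv_id := Subtype.ext (IsIso.hom_inv_id h)
           inv_hom_id := Subtype.ext (IsIso.inv_hom_id h) }⟩

/-- An object of the fibre over `T` whose torsor has a section is isomorphic to a trivial object. -/
theorem exists_iso_trivFib_of_section {T : Over S} (A : QuotObj K G aX) (hA : A.base = T) (s : A.base ⟶ A.P)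
    (hs : s ≫ A.π = 𝟙 A.base) :
    ∃ x : T ⟶ X, Nonempty (trivFib K aX T x ≅ (⟨A, hA⟩ : (QuotSt K G aX).p.Fiber T)) := by
  subst hA
  exact ⟨_, nonempty_iso_trivFib_of_section A s hs⟩

end Groth.Agent.Lib.Helper66.QuotStFibre
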