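import Groth.Agent.Lib.Helper66.QuotStFibre
import Mathlib.AlgebraicGeometry.AlgClosed.Basic

/-!
# Objects of `[X/G]` over a base on which etale coverings split

* `exists_section_of_etale_split` : if every non-empty etale scheme over the (non-empty) base has a section, every object of `[X/G]`
  (torsors locally trivial for the etale topology) over the base has a section of its torsor.
* `exists_section_of_lft` : non-empty schemes locally of finite type over an algebraically closed field have rational points.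
* `fiber_classification` : sections, isomorphism classes and orbits for the fibre over such a base.
-/

set_option autoImplicit false
set_option backward.isDefEq.respectTransparency false
set_option backward.isDefEq.respectTransparency.types false
set_option linter.unusedSimpArgs false
set_option linter.unusedVariables false
set_option linter.style.haveILetI false

universe u

open CategoryTheory CategoryTheory.Limits MonoidalCategory CartesianMonoidalCategory MonObj GrpObj AlgebraicGeometry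

namespace Groth.Agent.Lib.Helper66.QuotStFibreSec

open AlgSt Groth.Agent.Lib.Helper66.QuotStBasic Groth.Agent.Lib.Helper66.QuotStFibre

/-- A nonempty scheme locally of finite type over an algebraically closed field has a rational point. -/
theorem exists_section_of_lft {k : Type u} [Field k] [IsAlgClosed k] {W : Scheme.{u}}
    (h : W ⟶ Spec (CommRingCat.of k)) [LocallyOfFiniteType h] (hW : Nonempty W) :
    ∃ σ : Spec (CommRingCat.of k) ⟶ W, σ ≫ h = 𝟙 _ := by
  have hJ : JacobsonSpace W := LocallyOfFiniteType.jacobsonSpace h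
  have hne : (closedPoints W).Nonempty := by
    by_contra hcon
    rw [Set.not_nonempty_iff_eq_empty] at hcon
    have h1 := closure_closedPoints (X := W)
    rw [hcon, closure_empty] at h1
    obtain ⟨w⟩ := hW
    exact (h1 ▸ Set.mem_univ w : w ∈ (∅ : Set W))
  obtain ⟨x, hx⟩ := hne
  exact ⟨pointOfClosedPoint h x hx, pointOfClosedPoint_comp h x hx⟩

variable {S : Scheme.{u}} {G : Over S} [GrpObj G] {X : Over S} {aX : AlgGrp.Action G X}

theorem exists_section_of_etale_split (A : QuotObj Scheme.etalePrecoverage G aX) (hne : Nonempty ↥A.base.left)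
    (hsplit : ∀ (U : Scheme.{u}) (f : U ⟶ A.base.left), Etale f → Nonempty ↥U → ∃ σ : A.base.left ⟶ U, σ ≫ f = 𝟙 _) :
    ∃ t : A.base ⟶ A.P, t ≫ A.π = 𝟙 A.base := by
  obtain ⟨R, hR, hsec⟩ := A.loc
  obtain ⟨x⟩ := hne
  obtain ⟨Y, f, hRf, y, hy⟩ := (Presieve.mem_comap_jointlySurjectivePrecoverage_iff _).1 hR.1 x
  have hf : Etale f := hR.2 hRf
  obtain ⟨σ, hσ⟩ := hsplit Y f hf ⟨y⟩
  obtain ⟨s, hs⟩ := hsec f hRf
  have hs' : s ≫ A.π.left = f := hs
  have hw : (σ ≫ s) ≫ A.P.hom = A.base.hom := by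
    rw [← Over.w A.π, Category.assoc, reassoc_of% hs', reassoc_of% hσ]
  refine ⟨Over.homMk (σ ≫ s) hw, ?_⟩
  apply Over.OverMorphism.ext
  change (σ ≫ s) ≫ A.π.left = 𝟙 _
  rw [Category.assoc, hs', hσ]

/-- The classification of the fibre of `[X/G]` over a base `T` on which etale coverings split. -/
theorem fiber_classification (T : Over S) (hne : Nonempty ↥T.left)
    (hsplit : ∀ (U : Scheme.{u}) (f : U ⟶ T.left), Etale f → Nonempty ↥U → ∃ σ : T.left ⟶ U, σ ≫ f = 𝟙 _) :
    (∀ A : (AlgSt.QuotObj.forget Scheme.etalePrecoverage G aX).Fiber T,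
        ∃ t : T ⟶ A.1.P, t ≫ A.1.π = eqToHom A.2.symm) ∧
    (∀ (A B : (AlgSt.QuotObj.forget Scheme.etalePrecoverage G aX).Fiber T)
        (tA : T ⟶ A.1.P) (tB : T ⟶ B.1.P),
        tA ≫ A.1.π = eqToHom A.2.symm → tB ≫ B.1.π = eqToHom B.2.symm →
        (Nonempty (A ≅ B) ↔
          ∃ g : T ⟶ G, lift g (tA ≫ A.1.φ) ≫ aX.act = tB ≫ B.1.φ)) ∧
    (∀ x : T ⟶ X,
        ∃ (A : (AlgSt.QuotObj.forget Scheme.etalePrecoverage G aX).Fiber T) (t : T ⟶ A.1.P),
          t ≫ A.1.π = eqToHom A.2.symm ∧ t ≫ A.1.φ = x) := by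
  have key : ∀ (A : QuotObj Scheme.etalePrecoverage G aX) (hA : A.base = T) (t : T ⟶ A.P)
      (ht : t ≫ A.π = eqToHom hA.symm),
      Nonempty (trivFib Scheme.etalePrecoverage aX T (t ≫ A.φ) ≅
        (⟨A, hA⟩ : (QuotSt Scheme.etalePrecoverage G aX).p.Fiber T)) := by
    intro A hA t ht
    subst hA
    exact nonempty_iso_trivFib_of_section A t (by simpa using ht)
  refine ⟨?_, ?_, ?_⟩
  · rintro ⟨A, hA⟩
    change A.base = T at hA
    subst hA
    obtain ⟨t, ht⟩ := exists_section_of_etale_split A hne hsplit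
    exact ⟨t, by simpa using ht⟩
  · rintro ⟨A, hA⟩ ⟨B, hB⟩ tA tB htA htB
    obtain ⟨eA⟩ := key A hA tA htA
    obtain ⟨eB⟩ := key B hB tB htB
    constructor
    · rintro ⟨e⟩
      have e' : trivFib Scheme.etalePrecoverage aX T (tA ≫ A.φ) ≅
          trivFib Scheme.etalePrecoverage aX T (tB ≫ B.φ) := eA ≪≫ e ≪≫ eB.symm
      obtain ⟨g, hg⟩ := (trivFib_iso_iff _ _).1 ⟨e'⟩
      refine ⟨g⁻¹, ?_⟩
      have h := act_mul_pt aX g⁻¹ g (tB ≫ B.φ)
      rw [hg, inv_mul_cancel, act_one_pt] at h
      exact h.symm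
    · rintro ⟨g, hg⟩
      have h := act_mul_pt aX g⁻¹ g (tA ≫ A.φ)
      rw [hg, inv_mul_cancel, act_one_pt] at h
      obtain ⟨e'⟩ := (trivFib_iso_iff (K := Scheme.etalePrecoverage) (aX := aX) (tA ≫ A.φ) (tB ≫ B.φ)).2
        ⟨g⁻¹, h.symm⟩
      exact ⟨eA.symm ≪≫ e' ≪≫ eB⟩
  · intro x
    refine ⟨trivFib Scheme.etalePrecoverage aX T x, lift (1 : T ⟶ G) (𝟙 T), ?_, ?_⟩
    · change lift (1 : T ⟶ G) (𝟙 T) ≫ snd G T = eqToHom rfl
      rw [lift_snd, eqToHom_refl]
    · change lift (1 : T ⟶ G) (𝟙 T) ≫ (G ◁ x) ≫ aX.act = x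
      have h2 : lift (1 : T ⟶ G) (𝟙 T) ≫ (G ◁ x) = lift (1 : T ⟶ G) x := by
        apply CartesianMonoidalCategory.hom_ext
        · simp only [Category.assoc, lift_fst, whiskerLeft_fst]
        · simp only [Category.assoc, lift_snd, whiskerLeft_snd, lift_snd_assoc, Category.id_comp]
      rw [← Category.assoc, h2, act_one_pt]

end Groth.Agent.Lib.Helper66.QuotStFibreSec
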