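import Groth.Agent.Lib.Helper66.QuotStProp
import Groth.Agent.Lib.Helper66.QuotStFibre
import Groth.Agent.S3935

/-!
# Torsors of `[X/G]` over a finite field, `G` connected: every torsor is trivial

* `locallyOfFiniteType_π_of_section` : the torsor projection of an object of `[X/G]` is locally of finite type as soon as the torsor
  has a section over an fpqc covering morphism of the base (`G ⟶ S` locally of finite type).
* `exists_section_finite_field` : over `Spec F`, `F` a finite field, `G` smooth affine connected: every object of `[X/G]` over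
  `Spec F` has a section (Lang's theorem, `S3935`).
-/

set_option autoImplicit false
set_option backward.isDefEq.respectTransparency false
set_option backward.isDefEq.respectTransparency.types false
set_option linter.unusedSimpArgs false
set_option linter.unusedVariables false
set_option linter.style.haveILetI false

universe u

open CategoryTheory CategoryTheory.Limits MonoidalCategory CartesianMonoidalCategory MonObj GrpObj AlgebraicGeometry

namespace Groth.Agent.Lib.Helper66.QuotStFinField

open AlgSt Groth.Agent.Lib.Helper66.QuotStBasic Groth.Agent.Lib.Helper66.QuotStProp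

section General

variable {S : Scheme.{u}} {K : Precoverage Scheme.{u}} {G : Over S} [GrpObj G] {X : Over S}
  {aX : AlgGrp.Action G X}

theorem locallyOfFiniteType_π_of_section (A : QuotObj K G aX) [LocallyOfFiniteType G.hom]
    {T : Over S} (s : T ⟶ A.P) (hfl : Flat (s ≫ A.π).left) (hsu : Surjective (s ≫ A.π).left)
    (hqc : QuasiCompact (s ≫ A.π).left) : LocallyOfFiniteType A.π.left := by
  have sq : IsPullback ((G ◁ s) ≫ A.act.act) (snd G T) A.π (s ≫ A.π) :=
    (isPullback_whiskerLeft s).paste_horiz A.cart
  have sq' := (sq.map (Over.forget S)).flip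
  have h1 : LocallyOfFiniteType (snd G T).left :=
    snd_left_prop @LocallyOfFiniteType (inferInstanceAs (LocallyOfFiniteType G.hom)) T
  exact MorphismProperty.of_isPullback_of_descendsAlong (P := @LocallyOfFiniteType)
    (Q := @Surjective ⊓ @Flat ⊓ @QuasiCompact) sq' ⟨⟨hsu, hfl⟩, hqc⟩ h1

end General

theorem exists_section_finite_field {F : Type u} [Field F] [Finite F]
    {G X : Over (Spec (CommRingCat.of F))} [GrpObj G] {aX : AlgGrp.Action G X}
    [Smooth G.hom] [IsAffineHom G.hom] [ConnectedSpace ↥G.left]
    (A : QuotObj Scheme.fppfPrecoverage G aX) (hA : A.base = Over.mk (𝟙 (Spec (CommRingCat.of F)))) :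
    ∃ s : A.base ⟶ A.P, s ≫ A.π = 𝟙 A.base := by
  have hterm : ∀ {Y : Over (Spec (CommRingCat.of F))} (a b : Y ⟶ A.base), a = b := by
    rw [hA]
    intro Y a b
    exact Over.mkIdTerminal.hom_ext a b
  haveI hiso : IsIso A.base.hom := by
    rw [hA]
    exact IsIso.id _
  have hsub : ∀ b b' : ↥A.base.left, b = b' := by
    intro b b'
    have hinj : Function.Injective A.base.hom.base := (asIso A.base.hom).hom.homeomorph.injective
    exact hinj (Subsingleton.elim _ _)
  haveI : IsAffine A.base.left := IsAffine.of_isIso A.base.hom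
  haveI : IsAffine G.left := isAffine_of_isAffineHom G.hom
  obtain ⟨J, V, h, s, hs, h1, h2, h3⟩ := exists_sections A
  let b : ↥A.base.left := (inv A.base.hom).base default
  obtain ⟨i, v, hv⟩ := h3 b
  let 𝒰 := (V i).left.affineCover
  let W : Scheme.{u} := 𝒰.X (𝒰.idx v)
  let jW : W ⟶ (V i).left := 𝒰.f (𝒰.idx v)
  obtain ⟨w, hw⟩ : ∃ w : ↥W, jW.base w = v := 𝒰.covers v
  let T : Over (Spec (CommRingCat.of F)) := Over.mk (jW ≫ (V i).hom)
  let j : T ⟶ V i := Over.homMk jW rfl
  have hjs : (j ≫ s i) ≫ A.π = j ≫ h i := by rw [Category.assoc, hs i]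
  have hleft : ((j ≫ s i) ≫ A.π).left = jW ≫ (h i).left := by rw [hjs]; rfl
  haveI : IsAffine W := inferInstanceAs (IsAffine (𝒰.X (𝒰.idx v)))
  have hfl : Flat ((j ≫ s i) ≫ A.π).left := by
    rw [hleft]
    haveI := h1 i
    infer_instance
  have hsu : Surjective ((j ≫ s i) ≫ A.π).left := ⟨fun b' => ⟨w, hsub _ _⟩⟩
  have hqc : QuasiCompact ((j ≫ s i) ≫ A.π).left := by
    rw [hleft]
    haveI : IsAffineHom (jW ≫ (h i).left) := isAffineHom_of_isAffine _
    infer_instance
  haveI hlftπ : LocallyOfFiniteType A.π.left := locallyOfFiniteType_π_of_section A (j ≫ s i) hfl hsu hqc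
  haveI : LocallyOfFiniteType A.P.hom := by
    rw [← Over.w A.π]
    infer_instance
  haveI : Nonempty ↥A.P.left := ⟨(j ≫ s i).left.base w⟩
  have hX : IsIso (lift A.act.act (snd G A.P)) := by
    refine ⟨⟨A.cart.lift (fst A.P A.P) (snd A.P A.P) (hterm _ _), ?_, ?_⟩⟩
    · apply A.cart.hom_ext
      · rw [Category.assoc, IsPullback.lift_fst, lift_fst, Category.id_comp]
      · rw [Category.assoc, IsPullback.lift_snd, lift_snd, Category.id_comp]
    · apply CartesianMonoidalCategory.hom_ext
      · rw [Category.assoc, lift_fst, IsPullback.lift_fst, Category.id_comp]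
      · rw [Category.assoc, lift_snd, IsPullback.lift_snd, Category.id_comp]
  obtain ⟨σ⟩ := Groth.Agent.S3935.result F G A.P A.act hX
  have hA' : A.base = 𝟙_ (Over (Spec (CommRingCat.of F))) := hA
  exact ⟨eqToHom hA' ≫ σ, hterm _ _⟩

end Groth.Agent.Lib.Helper66.QuotStFinField
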