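import Groth.Prelude.Def_AlgSt
import Groth.Agent.Lib.Helper65.SieveRefine
import Groth.Agent.Lib.Helper65.GerbeBasic
import Groth.Agent.Lib.Helper90.LiftSqComp

/-!
# Helper66: a concrete criterion for the stack conditions `Stk.IsPrestackFor`, `Stk.IsStackFor`

For a category `𝒳` fibred in groupoids over a site `(C, J)`:

* `HomSep J 𝒳`: morphisms over an identity which agree locally agree;
* `HomGlue J 𝒳`: compatible local families of morphisms over an identity glue;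

imply that `Stk.resSieve R 𝒳` is faithful resp. full for every covering sieve `R`; and if moreover a functor
`t : sieveCat R ⟶ 𝒳` has a "colimit" (an object `x` over `U` with compatible morphisms `t b ⟶ x` over the
arrows of the sieve), then `t` is in the essential image of `Stk.resSieve R 𝒳`.
-/

set_option autoImplicit false
set_option backward.isDefEq.respectTransparency false
set_option backward.isDefEq.respectTransparency.types false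

universe v₂ u₂ v u

open CategoryTheory CategoryTheory.Functor

namespace Groth.Agent.Lib.Helper66.StackCrit

open FibCat Groth.Agent.Lib.Helper31 Groth.Agent.Lib.Helper65 Groth.Agent.Lib.Helper65.GlueHom
open Groth.Agent.Lib.Helper90.LiftSqComp

variable {C : Type u} [Category.{v} C] (J : GrothendieckTopology C) (𝒳 : BasedCategory.{v₂, u₂} C)

/-- morphisms over an identity which agree locally (for `J`) agree -/
def HomSep : Prop :=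
  ∀ ⦃V : C⦄ (R : Sieve V), R ∈ J V → ∀ ⦃x y : 𝒳.obj⦄ (φ φ' : x ⟶ y),
    𝒳.p.IsHomLift (𝟙 V) φ → 𝒳.p.IsHomLift (𝟙 V) φ' →
    (∀ ⦃W : C⦄ (g : W ⟶ V), R g → ∀ (s : 𝒳.obj) (ψ : s ⟶ x), 𝒳.p.IsHomLift g ψ → ψ ≫ φ = ψ ≫ φ') →
    φ = φ'

/-- compatible local families of morphisms over an identity glue -/
def HomGlue : Prop :=
  ∀ ⦃V : C⦄ (R : Sieve V), R ∈ J V → ∀ ⦃x y : 𝒳.obj⦄, 𝒳.p.obj x = V → 𝒳.p.obj y = V →
    ∀ (k : ∀ ⦃W : C⦄ (g : W ⟶ V), R g → ∀ (s : 𝒳.obj) (ψ : s ⟶ x), 𝒳.p.IsHomLift g ψ → (s ⟶ y)),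
    (∀ ⦃W : C⦄ (g : W ⟶ V) (hg : R g) (s : 𝒳.obj) (ψ : s ⟶ x) (hψ : 𝒳.p.IsHomLift g ψ),
      𝒳.p.IsHomLift g (k g hg s ψ hψ)) →
    (∀ ⦃W W' : C⦄ (g : W ⟶ V) (hg : R g) (l : W' ⟶ W) (s : 𝒳.obj) (ψ : s ⟶ x)
      (hψ : 𝒳.p.IsHomLift g ψ) (s' : 𝒳.obj) (m : s' ⟶ s) (_ : 𝒳.p.IsHomLift l m)
      (hmψ : 𝒳.p.IsHomLift (l ≫ g) (m ≫ ψ)),
      k (l ≫ g) (R.downward_closed hg l) s' (m ≫ ψ) hmψ = m ≫ k g hg s ψ hψ) →
    ∃ κ : x ⟶ y, 𝒳.p.IsHomLift (𝟙 V) κ ∧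
      ∀ ⦃W : C⦄ (g : W ⟶ V) (hg : R g) (s : 𝒳.obj) (ψ : s ⟶ x) (hψ : 𝒳.p.IsHomLift g ψ),
        ψ ≫ κ = k g hg s ψ hψ

variable {J 𝒳}

theorem over_map_isHomLift {U : C} (Y : overCat U ⥤ᵇ 𝒳) {a' a : Over U} (m : a' ⟶ a) :
    𝒳.p.IsHomLift m.left (Y.map m) := by
  have : (overCat U).p.IsHomLift m.left m :=
    inferInstanceAs ((Over.forget U).IsHomLift ((Over.forget U).map m) m)
  exact BasedFunctor.preserves_isHomLift Y m.left m

/-- **Faithfulness of restriction to a covering sieve from local separation.** -/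
theorem resSieve_faithful (h𝒳 : IsFibGrpd 𝒳.p) (hsep : HomSep J 𝒳) {U : C} (R : Sieve U) (hR : R ∈ J U) :
    (Stk.resSieve R 𝒳).Faithful where
  map_injective := by
    intro Y Y' α α' h
    apply hom_ext'
    intro a
    have hRa : R.pullback a.hom ∈ J a.left := J.pullback_stable a.hom hR
    refine hsep (R.pullback a.hom) hRa (app α a) (app α' a) (α.isHomLift' a) (α'.isHomLift' a) ?_
    intro W g hg s ψ hψ
    let a' : Over U := Over.mk (g ≫ a.hom)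
    let m : a' ⟶ a := Over.homMk g rfl
    have hm : 𝒳.p.IsHomLift g (Y.map m) := over_map_isHomLift Y m
    obtain ⟨ι, hι, hιψ⟩ := exists_comparison h𝒳 g (Y.map m) hm ψ hψ
    have hb : app α a' = app α' a' := app_congr h (⟨a', hg⟩ : (Stk.sieveCat R).obj)
    rw [← hιψ, Category.assoc, Category.assoc, app_naturality α m, app_naturality α' m, hb]

section Full

variable (h𝒳 : IsFibGrpd 𝒳.p) {U : C} {R : Sieve U} {Y Y' : overCat U ⥤ᵇ 𝒳}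
  (β : (Stk.resSieve R 𝒳).obj Y ⟶ (Stk.resSieve R 𝒳).obj Y')

/-- the object of the sieve attached to an arrow into an object of the slice -/
abbrev sObj (a : Over U) {W : C} (g : W ⟶ a.left) (hg : R (g ≫ a.hom)) : (Stk.sieveCat R).obj :=
  ⟨Over.mk (g ≫ a.hom), hg⟩

/-- its morphism to the object of the slice -/
abbrev sHom (a : Over U) {W : C} (g : W ⟶ a.left) : Over.mk (g ≫ a.hom) ⟶ a := Over.homMk g rfl

theorem app_isHomLift (b : (Stk.sieveCat R).obj) : 𝒳.p.IsHomLift (𝟙 b.obj.left) (app β b) :=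
  β.isHomLift' b

theorem app_nat {b b' : (Stk.sieveCat R).obj} (e : b ⟶ b') :
    Y.map e.hom ≫ app β b' = app β b ≫ Y'.map e.hom :=
  app_naturality β e

/-- chosen comparison morphism -/
noncomputable def cmpχ (Y : overCat U ⥤ᵇ 𝒳) (a : Over U) {W : C} (g : W ⟶ a.left) (s : 𝒳.obj) (ψ : s ⟶ Y.obj a)
    (hψ : 𝒳.p.IsHomLift g ψ) : s ⟶ Y.obj (Over.mk (g ≫ a.hom)) :=
  (exists_comparison h𝒳 g (Y.map (sHom a g)) (over_map_isHomLift Y (sHom a g)) ψ hψ).choose.hom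

theorem cmpχ_isHomLift (a : Over U) {W : C} (g : W ⟶ a.left) (s : 𝒳.obj) (ψ : s ⟶ Y.obj a)
    (hψ : 𝒳.p.IsHomLift g ψ) : 𝒳.p.IsHomLift (𝟙 W) (cmpχ h𝒳 Y a g s ψ hψ) :=
  (exists_comparison h𝒳 g (Y.map (sHom a g)) (over_map_isHomLift Y (sHom a g)) ψ hψ).choose_spec.1

theorem cmpχ_fac (a : Over U) {W : C} (g : W ⟶ a.left) (s : 𝒳.obj) (ψ : s ⟶ Y.obj a)
    (hψ : 𝒳.p.IsHomLift g ψ) : cmpχ h𝒳 Y a g s ψ hψ ≫ Y.map (sHom a g) = ψ :=
  (exists_comparison h𝒳 g (Y.map (sHom a g)) (over_map_isHomLift Y (sHom a g)) ψ hψ).choose_spec.2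

/-- the local candidate for the glued morphism -/
noncomputable def loc (a : Over U) {W : C} (g : W ⟶ a.left) (hg : R (g ≫ a.hom)) (s : 𝒳.obj)
    (ψ : s ⟶ Y.obj a) (hψ : 𝒳.p.IsHomLift g ψ) : s ⟶ Y'.obj a :=
  cmpχ h𝒳 Y a g s ψ hψ ≫ app β (sObj a g hg) ≫ Y'.map (sHom a g)

theorem loc_isHomLift (a : Over U) {W : C} (g : W ⟶ a.left) (hg : R (g ≫ a.hom)) (s : 𝒳.obj)
    (ψ : s ⟶ Y.obj a) (hψ : 𝒳.p.IsHomLift g ψ) : 𝒳.p.IsHomLift g (loc h𝒳 β a g hg s ψ hψ) := by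
  unfold loc
  refine isHomLift_comp_id_left 𝒳.p g _ _ (cmpχ_isHomLift h𝒳 a g s ψ hψ) ?_
  exact isHomLift_comp_id_left 𝒳.p g _ _ (app_isHomLift β (sObj a g hg)) (over_map_isHomLift Y' (sHom a g))

theorem loc_congr (a : Over U) {W : C} (g : W ⟶ a.left) (hg : R (g ≫ a.hom)) (s : 𝒳.obj)
    {ψ ψ' : s ⟶ Y.obj a} (h : ψ = ψ') (hψ : 𝒳.p.IsHomLift g ψ) (hψ' : 𝒳.p.IsHomLift g ψ') :
    loc h𝒳 β a g hg s ψ hψ = loc h𝒳 β a g hg s ψ' hψ' := by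
  subst h
  rfl

/-- the local candidate, computed on any factorisation through an object of the sieve -/
theorem loc_eq (a : Over U) (b : (Stk.sieveCat R).obj) (m : b.obj ⟶ a) {W' : C} (l : W' ⟶ b.obj.left)
    (g : W' ⟶ a.left) (hgl : g = l ≫ m.left) (hg : R (g ≫ a.hom)) (s' : 𝒳.obj) (χ : s' ⟶ Y.obj b.obj)
    (hχ : 𝒳.p.IsHomLift l χ) (hψ : 𝒳.p.IsHomLift g (χ ≫ Y.map m)) :
    loc h𝒳 β a g hg s' (χ ≫ Y.map m) hψ = χ ≫ app β b ≫ Y'.map m := by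
  subst hgl
  have hw : l ≫ b.obj.hom = (l ≫ m.left) ≫ a.hom := by rw [Category.assoc, Over.w m]
  let n' : Over.mk ((l ≫ m.left) ≫ a.hom) ⟶ b.obj := Over.homMk l hw
  let n : sObj a (l ≫ m.left) hg ⟶ b := ObjectProperty.homMk n'
  have hn : n' ≫ m = sHom a (l ≫ m.left) := by
    apply Over.OverMorphism.ext
    rfl
  have h1 : 𝒳.p.IsHomLift (𝟙 W') (cmpχ h𝒳 Y a (l ≫ m.left) s' (χ ≫ Y.map m) hψ) := cmpχ_isHomLift h𝒳 _ _ _ _ _
  have h2 : 𝒳.p.IsHomLift l (Y.map n') := over_map_isHomLift Y n'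
  have h3 : 𝒳.p.IsHomLift l (cmpχ h𝒳 Y a (l ≫ m.left) s' (χ ≫ Y.map m) hψ ≫ Y.map n') :=
    isHomLift_comp_id_left 𝒳.p l _ _ h1 h2
  have h4 : 𝒳.p.IsHomLift m.left (Y.map m) := over_map_isHomLift Y m
  have e1 : cmpχ h𝒳 Y a (l ≫ m.left) s' (χ ≫ Y.map m) hψ ≫ Y.map n' = χ := by
    apply FibTop.factor_ext 𝒳.p h𝒳 m.left l (Y.map m)
    rw [Category.assoc, ← Y.map_comp, hn]
    exact cmpχ_fac h𝒳 a (l ≫ m.left) s' (χ ≫ Y.map m) hψ
  have e2 := app_nat β n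
  change Y.map n' ≫ app β b = app β (sObj a (l ≫ m.left) hg) ≫ Y'.map n' at e2
  have hY' : Y'.map (sHom a (l ≫ m.left)) = Y'.map n' ≫ Y'.map m := by
    rw [← Y'.map_comp, hn]
  have e3 : app β (sObj a (l ≫ m.left) hg) ≫ Y'.map n' ≫ Y'.map m = Y.map n' ≫ app β b ≫ Y'.map m := by
    rw [← Category.assoc (app β (sObj a (l ≫ m.left) hg)) (Y'.map n') (Y'.map m), ← e2]
    exact Category.assoc _ _ _
  unfold loc
  rw [hY', e3, ← Category.assoc (cmpχ h𝒳 Y a (l ≫ m.left) s' (χ ≫ Y.map m) hψ) (Y.map n') _, e1]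

end Full

/-- **Fullness of restriction to a covering sieve from local separation and gluing.** -/
theorem resSieve_full (h𝒳 : IsFibGrpd 𝒳.p) (hsep : HomSep J 𝒳) (hglue : HomGlue J 𝒳) {U : C} (R : Sieve U)
    (hR : R ∈ J U) : (Stk.resSieve R 𝒳).Full where
  map_surjective := by
    intro Y Y' β
    have hex : ∀ a : Over U, ∃ κ : Y.obj a ⟶ Y'.obj a, 𝒳.p.IsHomLift (𝟙 a.left) κ ∧
        ∀ ⦃W : C⦄ (g : W ⟶ a.left) (hg : R (g ≫ a.hom)) (s : 𝒳.obj) (ψ : s ⟶ Y.obj a)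
          (hψ : 𝒳.p.IsHomLift g ψ), ψ ≫ κ = loc h𝒳 β a g hg s ψ hψ := by
      intro a
      have hRa : R.pullback a.hom ∈ J a.left := J.pullback_stable a.hom hR
      refine hglue (R.pullback a.hom) hRa (Y.w_obj a) (Y'.w_obj a)
        (fun W g hg s ψ hψ => loc h𝒳 β a g hg s ψ hψ)
        (fun W g hg s ψ hψ => loc_isHomLift h𝒳 β a g hg s ψ hψ) ?_
      intro W W' g hg l s ψ hψ s' m' hm' hmψ
      change loc h𝒳 β a (l ≫ g) _ s' (m' ≫ ψ) hmψ = m' ≫ loc h𝒳 β a g hg s ψ hψ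
      have hχ := cmpχ_isHomLift h𝒳 a g s ψ hψ
      have hfac := cmpχ_fac h𝒳 a g s ψ hψ
      have hmχ : 𝒳.p.IsHomLift l (m' ≫ cmpχ h𝒳 Y a g s ψ hψ) :=
        isHomLift_comp_id_right 𝒳.p l _ _ hm' hχ
      have e : m' ≫ ψ = (m' ≫ cmpχ h𝒳 Y a g s ψ hψ) ≫ Y.map (sHom a g) := by
        rw [Category.assoc, hfac]
      have hψ' : 𝒳.p.IsHomLift (l ≫ g) ((m' ≫ cmpχ h𝒳 Y a g s ψ hψ) ≫ Y.map (sHom a g)) := by
        rw [← e]; exact hmψ
      rw [loc_congr h𝒳 β a (l ≫ g) _ s' e hmψ hψ',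
        loc_eq h𝒳 β a (sObj a g hg) (sHom a g) l (l ≫ g) rfl _ s' _ hmχ hψ']
      unfold loc
      simp only [Category.assoc]
    choose κ hκ1 hκ2 using hex
    have hfaith : ∀ ⦃V : C⦄ (f : V ⟶ U), (Stk.resSieve (R.pullback f) 𝒳).Faithful := fun V f =>
      resSieve_faithful h𝒳 hsep (R.pullback f) (J.pullback_stable f hR)
    have hnat : ∀ {a₁ a₂ : Over U} (k₀ : a₁ ⟶ a₂), Y.map k₀ ≫ κ a₂ = κ a₁ ≫ Y'.map k₀ := by
      intro a₁ a₂ k₀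
      have i1 : 𝒳.p.IsHomLift k₀.left (Y.map k₀) := over_map_isHomLift Y k₀
      have i2 : 𝒳.p.IsHomLift k₀.left (Y'.map k₀) := over_map_isHomLift Y' k₀
      apply hom_ext_of_locally' h𝒳 (Y.w_obj a₁) (R.pullback a₁.hom) (hfaith a₁.hom) k₀.left _ _
        (isHomLift_comp_id_right 𝒳.p k₀.left _ _ i1 (hκ1 a₂))
        (isHomLift_comp_id_left 𝒳.p k₀.left _ _ (hκ1 a₁) i2)
      intro W g hg s ψ hψ
      have hg' : R (g ≫ a₁.hom) := hg
      have hg2 : R ((g ≫ k₀.left) ≫ a₂.hom) := by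
        rw [Category.assoc, Over.w k₀]; exact hg'
      have hχ := cmpχ_isHomLift h𝒳 a₁ g s ψ hψ
      have hfac := cmpχ_fac h𝒳 a₁ g s ψ hψ
      have i3 : 𝒳.p.IsHomLift (g ≫ k₀.left) (ψ ≫ Y.map k₀) := inferInstance
      rw [← Category.assoc, hκ2 a₂ (g ≫ k₀.left) hg2 s (ψ ≫ Y.map k₀) i3, ← Category.assoc,
        hκ2 a₁ g hg' s ψ hψ]
      -- rewrite `ψ ≫ Y.map k₀` through the object of the sieve over `a₁`
      have e : ψ ≫ Y.map k₀ = cmpχ h𝒳 Y a₁ g s ψ hψ ≫ Y.map (sHom a₁ g ≫ k₀) := by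
        rw [Y.map_comp, ← Category.assoc, hfac]
      have hψ' : 𝒳.p.IsHomLift (g ≫ k₀.left) (cmpχ h𝒳 Y a₁ g s ψ hψ ≫ Y.map (sHom a₁ g ≫ k₀)) := by
        rw [← e]; exact i3
      have hl : g ≫ k₀.left = 𝟙 W ≫ (sHom a₁ g ≫ k₀).left := by
        rw [Category.id_comp]; rfl
      rw [loc_congr h𝒳 β a₂ (g ≫ k₀.left) hg2 s e i3 hψ',
        loc_eq h𝒳 β a₂ (sObj a₁ g hg') (sHom a₁ g ≫ k₀) (𝟙 W) (g ≫ k₀.left) hl hg2 s _ hχ hψ']
      unfold loc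
      rw [Y'.map_comp]
      simp only [Category.assoc]
    refine ⟨{ toNatTrans := { app := κ, naturality := fun {a₁ a₂} k₀ => hnat k₀ }
              isHomLift' := hκ1 }, ?_⟩
    apply hom_ext'
    intro b
    change κ b.obj = app β b
    -- evaluate on the identity arrow
    have hb : R (𝟙 b.obj.left ≫ b.obj.hom) := by rw [Category.id_comp]; exact b.property
    have i1 : 𝒳.p.IsHomLift (𝟙 b.obj.left) (𝟙 (Y.obj b.obj)) := by
      have := Y.w_obj b.obj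
      exact IsHomLift.id this
    have h := hκ2 b.obj (𝟙 b.obj.left) hb (Y.obj b.obj) (𝟙 _) i1
    rw [Category.id_comp] at h
    rw [h]
    have e : (𝟙 (Y.obj b.obj) : Y.obj b.obj ⟶ Y.obj b.obj) = 𝟙 (Y.obj b.obj) ≫ Y.map (𝟙 b.obj) := by
      rw [Y.map_id, Category.id_comp]
    have hψ' : 𝒳.p.IsHomLift (𝟙 b.obj.left) (𝟙 (Y.obj b.obj) ≫ Y.map (𝟙 b.obj)) := by
      rw [← e]; exact i1
    have hl : 𝟙 b.obj.left = 𝟙 b.obj.left ≫ (𝟙 b.obj : b.obj ⟶ b.obj).left := by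
      rw [Category.id_comp]; rfl
    have hid : Y'.map (𝟙 b.obj : b.obj ⟶ b.obj) = 𝟙 (Y'.obj b.obj) := Y'.toFunctor.map_id b.obj
    rw [loc_congr h𝒳 β b.obj (𝟙 b.obj.left) hb _ e i1 hψ',
      loc_eq h𝒳 β b.obj b (𝟙 b.obj) (𝟙 b.obj.left) (𝟙 b.obj.left) hl hb _ (𝟙 _) i1 hψ',
      Category.id_comp]
    exact (congrArg (fun t => app β b ≫ t) hid).trans (Category.comp_id _)

/-- **Essential image of restriction to a sieve**: a functor on the sieve which has a cocone to an object over `U`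
is, up to isomorphism, the restriction of a functor on the slice. -/
theorem mem_essImage_of_cocone (h𝒳 : IsFibGrpd 𝒳.p) {U : C} (R : Sieve U) (t : Stk.sieveCat R ⥤ᵇ 𝒳)
    (x : 𝒳.obj) (hx : 𝒳.p.obj x = U) (c : ∀ b : (Stk.sieveCat R).obj, t.obj b ⟶ x)
    (hc : ∀ b : (Stk.sieveCat R).obj, 𝒳.p.IsHomLift b.obj.hom (c b))
    (hnat : ∀ {b b' : (Stk.sieveCat R).obj} (k : b ⟶ b'), t.map k ≫ c b' = c b) :
    (Stk.resSieve R 𝒳).essImage t := by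
  subst hx
  obtain ⟨Y, ι, hι, -⟩ := exists_section h𝒳 x
  have hψ : ∀ b : (Stk.sieveCat R).obj, 𝒳.p.IsHomLift b.obj.hom (Y.map (toId b.obj) ≫ ι.hom) := fun b =>
    isHomLift_comp_id_right 𝒳.p b.obj.hom _ _ (map_toId_isHomLift Y b.obj) hι
  have hθ : ∀ b : (Stk.sieveCat R).obj, ∃ θ : Y.obj b.obj ≅ t.obj b,
      𝒳.p.IsHomLift (𝟙 b.obj.left) θ.hom ∧ θ.hom ≫ c b = Y.map (toId b.obj) ≫ ι.hom := fun b =>
    exists_comparison h𝒳 b.obj.hom (c b) (hc b) _ (hψ b)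
  choose θ hθ1 hθ2 using hθ
  have hθnat : ∀ {b b' : (Stk.sieveCat R).obj} (k : b ⟶ b'),
      Y.map k.hom ≫ (θ b').hom = (θ b).hom ≫ t.map k := by
    intro b b' k
    have i0 : 𝒳.p.IsHomLift k.hom.left (Y.map k.hom) := over_map_isHomLift Y k.hom
    have i1 : 𝒳.p.IsHomLift k.hom.left (t.map k) := SieveRefine.map_isHomLift t k
    have i2 : 𝒳.p.IsHomLift k.hom.left (Y.map k.hom ≫ (θ b').hom) :=
      isHomLift_comp_id_right 𝒳.p k.hom.left _ _ i0 (hθ1 b')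
    have i3 : 𝒳.p.IsHomLift k.hom.left ((θ b).hom ≫ t.map k) :=
      isHomLift_comp_id_left 𝒳.p k.hom.left _ _ (hθ1 b) i1
    have i4 := hc b'
    apply FibTop.factor_ext 𝒳.p h𝒳 b'.obj.hom k.hom.left (c b')
    have e : k.hom ≫ toId b'.obj = toId b.obj := by
      apply Over.OverMorphism.ext
      exact Over.w k.hom
    rw [Category.assoc, hθ2 b', Category.assoc, hnat k, hθ2 b, ← Category.assoc, ← Y.map_comp, e]
  refine ⟨Y, ⟨BasedNatIso.mkNatIso (NatIso.ofComponents (fun b => θ b) (fun {b b'} k => hθnat k)) ?_⟩⟩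
  intro b
  exact hθ1 b

/-- **The stack condition for a covering sieve from the concrete gluing conditions.** -/
theorem isStackFor_of_crit (h𝒳 : IsFibGrpd 𝒳.p) (hsep : HomSep J 𝒳) (hglue : HomGlue J 𝒳) {U : C} (R : Sieve U)
    (hR : R ∈ J U)
    (hobj : ∀ t : Stk.sieveCat R ⥤ᵇ 𝒳, ∃ (x : 𝒳.obj) (_ : 𝒳.p.obj x = U)
      (c : ∀ b : (Stk.sieveCat R).obj, t.obj b ⟶ x),
      (∀ b : (Stk.sieveCat R).obj, 𝒳.p.IsHomLift b.obj.hom (c b)) ∧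
        ∀ {b b' : (Stk.sieveCat R).obj} (k : b ⟶ b'), t.map k ≫ c b' = c b) :
    Stk.IsStackFor R 𝒳 := by
  have h1 := resSieve_faithful h𝒳 hsep R hR
  have h2 := resSieve_full h𝒳 hsep hglue R hR
  have h3 : (Stk.resSieve R 𝒳).EssSurj := ⟨fun t => by
    obtain ⟨x, hx, c, hc, hnat⟩ := hobj t
    exact mem_essImage_of_cocone h𝒳 R t x hx c hc hnat⟩
  exact { }

theorem isPrestackFor_of_crit (h𝒳 : IsFibGrpd 𝒳.p) (hsep : HomSep J 𝒳) (hglue : HomGlue J 𝒳) {U : C}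
    (R : Sieve U) (hR : R ∈ J U) : Stk.IsPrestackFor R 𝒳 :=
  ⟨resSieve_full h𝒳 hsep hglue R hR, resSieve_faithful h𝒳 hsep R hR⟩

theorem isPrestack_of_crit (h𝒳 : IsFibGrpd 𝒳.p) (hsep : HomSep J 𝒳) (hglue : HomGlue J 𝒳) :
    Stk.IsPrestack J 𝒳 :=
  ⟨h𝒳, fun _ R hR => isPrestackFor_of_crit h𝒳 hsep hglue R hR⟩

end Groth.Agent.Lib.Helper66.StackCrit
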