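import Groth.Agent.Lib.Helper66.QuotStFib
import Groth.Agent.Lib.Helper66.QuotStUniv
import Groth.Agent.Lib.Helper66.StackCrit
import Groth.Prelude.Def_CGrpSh

/-!
# Helper66: gluing of morphisms of `[X/G]`

For a subcanonical topology `QuotSh.J K S`: morphisms of schemes over `S` glue along covering sieves; an
equivariant morphism of torsors over a morphism of the bases is cartesian; and morphisms of `[X/G]` over an
identity are separated and glue (`StackCrit.HomSep`, `StackCrit.HomGlue`).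
-/

set_option autoImplicit false
set_option backward.isDefEq.respectTransparency false
set_option backward.isDefEq.respectTransparency.types false
set_option linter.unusedSimpArgs false
set_option linter.unusedVariables false

universe u

open CategoryTheory CategoryTheory.Limits MonoidalCategory CartesianMonoidalCategory MonObj GrpObj AlgebraicGeometry

namespace Groth.Agent.Lib.Helper66.QuotStGlue

open AlgSt Groth.Agent.Lib.Helper66.QuotStBasic Groth.Agent.Lib.Helper66.QuotStFib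

variable {S : Scheme.{u}} {K : Precoverage Scheme.{u}} {G : Over S} [GrpObj G] {X : Over S}
  {aX : AlgGrp.Action G X}

section Sheaf

variable [(QuotSh.J K S).Subcanonical]

/-- morphisms of schemes over `S` which agree on a covering sieve agree -/
theorem hom_ext_of_mem_J {T Z : Over S} {Sv : Sieve T} (hSv : Sv ∈ QuotSh.J K S T) {ξ₁ ξ₂ : T ⟶ Z}
    (h : ∀ ⦃Y : Over S⦄ (k : Y ⟶ T), Sv k → k ≫ ξ₁ = k ≫ ξ₂) : ξ₁ = ξ₂ := by
  have hZ : Presieve.IsSheaf (QuotSh.J K S) (yoneda.obj Z) :=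
    GrothendieckTopology.Subcanonical.isSheaf_of_isRepresentable (yoneda.obj Z)
  exact (hZ Sv hSv).isSeparatedFor.ext (fun Y k hk => h k hk)

/-- morphisms of schemes over `S` glue along a covering sieve -/
theorem exists_glue_of_mem_J {T Z : Over S} {Sv : Sieve T} (hSv : Sv ∈ QuotSh.J K S T)
    (x : ∀ ⦃Y : Over S⦄ (k : Y ⟶ T), Sv k → (Y ⟶ Z))
    (hx : ∀ ⦃Y Y' : Over S⦄ (k : Y ⟶ T) (hk : Sv k) (m : Y' ⟶ Y),
      m ≫ x k hk = x (m ≫ k) (Sv.downward_closed hk m)) :
    ∃ ξ : T ⟶ Z, ∀ ⦃Y : Over S⦄ (k : Y ⟶ T) (hk : Sv k), k ≫ ξ = x k hk := by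
  have hZ : Presieve.IsSheaf (QuotSh.J K S) (yoneda.obj Z) :=
    GrothendieckTopology.Subcanonical.isSheaf_of_isRepresentable (yoneda.obj Z)
  let fam : Presieve.FamilyOfElements (yoneda.obj Z) (Sv : Presieve T) := fun Y k hk => x k hk
  have hfam : fam.Compatible := by
    rw [Presieve.compatible_iff_sieveCompatible]
    intro Y Y' k m hk
    exact (hx k hk m).symm
  obtain ⟨ξ, hξ, -⟩ := hZ Sv hSv fam hfam
  exact ⟨ξ, fun Y k hk => hξ k hk⟩

end Sheaf

/-- The sieve of maps to the base of `A` which lift to its torsor is covering. -/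
theorem liftSieve_mem (A : QuotObj K G aX) :
    Groth.Agent.Lib.Helper66.QuotStUniv.liftSieve A ∈ QuotSh.J K S A.base := by
  obtain ⟨R, hR, hsec⟩ := A.loc
  change _ ∈ (K.toGrothendieck).over S A.base
  rw [GrothendieckTopology.mem_over_iff]
  refine K.toGrothendieck.superset_covering ?_ (Precoverage.generate_mem_toGrothendieck hR)
  rintro W g ⟨Z, k, f, hf, rfl⟩
  rw [Sieve.overEquiv_iff]
  obtain ⟨s, hs⟩ := hsec f hf
  have hs' : s ≫ A.π.left = f := hs
  have hw : (k ≫ s) ≫ A.P.hom = (k ≫ f) ≫ A.base.hom := by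
    rw [← hs', Category.assoc, Category.assoc, Category.assoc, Over.w A.π]
  refine ⟨Over.homMk (k ≫ s) hw, ?_⟩
  apply Over.OverMorphism.ext
  change (k ≫ s) ≫ A.π.left = k ≫ f
  rw [Category.assoc, hs']

section Torsor

/-- two points of a torsor over the same point of the base differ by a unique point of the group: existence -/
theorem exists_transl (A : QuotObj K G aX) {T : Over S} (p p' : T ⟶ A.P) (h : p ≫ A.π = p' ≫ A.π) :
    ∃ gg : T ⟶ G, lift gg p' ≫ A.act.act = p := by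
  refine ⟨A.cart.lift p p' h ≫ fst G A.P, ?_⟩
  have e : lift (A.cart.lift p p' h ≫ fst G A.P) p' = A.cart.lift p p' h := by
    apply CartesianMonoidalCategory.hom_ext
    · rw [lift_fst]
    · rw [lift_snd]; exact (A.cart.lift_snd p p' h).symm
  rw [e]
  exact A.cart.lift_fst p p' h

/-- two points of a torsor over the same point of the base differ by a unique point of the group: uniqueness -/
theorem transl_unique (A : QuotObj K G aX) {T : Over S} (p' : T ⟶ A.P) (gg gg' : T ⟶ G)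
    (h : lift gg p' ≫ A.act.act = lift gg' p' ≫ A.act.act) : gg = gg' := by
  have e : lift gg p' = lift gg' p' := by
    apply A.cart.hom_ext
    · exact h
    · rw [lift_snd, lift_snd]
  have := congrArg (fun t => t ≫ fst G A.P) e
  simpa using this

/-- the action on points is compatible with an equivariant morphism -/
theorem lift_act_comp {Y Y' : Over S} (a : AlgGrp.Action G Y) (a' : AlgGrp.Action G Y') (top : Y ⟶ Y')
    (heq : a.act ≫ top = (G ◁ top) ≫ a'.act) {T : Over S} (gg : T ⟶ G) (p : T ⟶ Y) :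
    (lift gg p ≫ a.act) ≫ top = lift gg (p ≫ top) ≫ a'.act := by
  rw [Category.assoc, heq, ← Category.assoc]
  congr 1
  apply CartesianMonoidalCategory.hom_ext
  · rw [Category.assoc, whiskerLeft_fst, lift_fst, lift_fst]
  · rw [Category.assoc, whiskerLeft_snd, lift_snd_assoc, lift_snd]

/-- the structure map of a torsor is invariant, on points -/
theorem lift_act_π (A : QuotObj K G aX) {T : Over S} (gg : T ⟶ G) (p : T ⟶ A.P) :
    (lift gg p ≫ A.act.act) ≫ A.π = p ≫ A.π := by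
  rw [Category.assoc, A.cart.w, ← Category.assoc, lift_snd]

variable [(QuotSh.J K S).Subcanonical]

/-- **An equivariant morphism of torsors over a morphism of the bases is cartesian.** -/
theorem isPullback_of_equivariant (A B : QuotObj K G aX) (b : A.base ⟶ B.base) (top : A.P ⟶ B.P)
    (heq : A.act.act ≫ top = (G ◁ top) ≫ B.act.act) (hw : top ≫ B.π = A.π ≫ b) :
    IsPullback top A.π B.π b := by
  -- uniqueness of lifts
  have huniq : ∀ {T : Over S} (p p' : T ⟶ A.P), p ≫ top = p' ≫ top → p ≫ A.π = p' ≫ A.π → p = p' := by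
    intro T p p' h1 h2
    obtain ⟨gg, hgg⟩ := exists_transl A p p' h2
    have e1 : lift gg (p' ≫ top) ≫ B.act.act = lift (1 : T ⟶ G) (p' ≫ top) ≫ B.act.act := by
      rw [← lift_act_comp A.act B.act top heq, hgg, h1, act_one_pt]
    have e2 : gg = 1 := transl_unique B (p' ≫ top) gg 1 e1
    rw [← hgg, e2, act_one_pt]
  -- existence of lifts
  have hex : ∀ {T : Over S} (q : T ⟶ B.P) (a : T ⟶ A.base), q ≫ B.π = a ≫ b →
      ∃ p : T ⟶ A.P, p ≫ top = q ∧ p ≫ A.π = a := by
    intro T q a hqa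
    let Sv : Sieve T := (Groth.Agent.Lib.Helper66.QuotStUniv.liftSieve A).pullback a
    have hSv : Sv ∈ QuotSh.J K S T := (QuotSh.J K S).pullback_stable a (liftSieve_mem A)
    -- local lifts
    have hloc : ∀ ⦃Y : Over S⦄ (k : Y ⟶ T), Sv k → ∃ p : Y ⟶ A.P, p ≫ top = k ≫ q ∧ p ≫ A.π = k ≫ a := by
      rintro Y k ⟨σ, hσ⟩
      have h1 : (k ≫ q) ≫ B.π = (σ ≫ top) ≫ B.π := by
        rw [Category.assoc, hqa, Category.assoc, hw, ← Category.assoc σ, hσ, Category.assoc]
      obtain ⟨gg, hgg⟩ := exists_transl B (k ≫ q) (σ ≫ top) h1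
      refine ⟨lift gg σ ≫ A.act.act, ?_, ?_⟩
      · rw [lift_act_comp A.act B.act top heq, hgg]
      · rw [lift_act_π, hσ]
    choose pl hpl1 hpl2 using hloc
    obtain ⟨p, hp⟩ := exists_glue_of_mem_J (K := K) hSv pl (by
      intro Y Y' k hk m
      apply huniq
      · rw [Category.assoc, hpl1 k hk, hpl1 (m ≫ k) _, Category.assoc]
      · rw [Category.assoc, hpl2 k hk, hpl2 (m ≫ k) _, Category.assoc])
    refine ⟨p, ?_, ?_⟩
    · apply hom_ext_of_mem_J (K := K) hSv
      intro Y k hk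
      rw [← Category.assoc, hp k hk, hpl1 k hk]
    · apply hom_ext_of_mem_J (K := K) hSv
      intro Y k hk
      rw [← Category.assoc, hp k hk, hpl2 k hk]
  refine ⟨⟨hw⟩, ⟨PullbackCone.IsLimit.mk _ (fun s => (hex s.fst s.snd s.condition).choose)
    (fun s => (hex s.fst s.snd s.condition).choose_spec.1)
    (fun s => (hex s.fst s.snd s.condition).choose_spec.2) ?_⟩⟩
  intro s m h1 h2
  apply huniq
  · rw [h1, (hex s.fst s.snd s.condition).choose_spec.1]
  · rw [h2, (hex s.fst s.snd s.condition).choose_spec.2]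

end Torsor

section Sep

variable [K.IsStableUnderBaseChange] [(QuotSh.J K S).Subcanonical]

theorem pbHom_isHomLift (x : QuotObj K G aX) {W : Over S} (g : W ⟶ x.base) {P' : Over S} {p₁ : P' ⟶ x.P}
    {p₂ : P' ⟶ W} (sq : IsPullback p₁ p₂ x.π g) : (QuotSt K G aX).p.IsHomLift g (pbHom x sq) :=
  inferInstanceAs ((QuotObj.forget K G aX).IsHomLift ((QuotObj.forget K G aX).map (pbHom x sq)) (pbHom x sq))

theorem hom_isHomLift_base {s x : QuotObj K G aX} (ψ : s ⟶ x) :
    (QuotSt K G aX).p.IsHomLift ψ.base ψ :=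
  inferInstanceAs ((QuotObj.forget K G aX).IsHomLift ((QuotObj.forget K G aX).map ψ) ψ)

/-- **Morphisms of `[X/G]` over an identity are determined locally.** -/
theorem homSep_quotSt : StackCrit.HomSep (QuotSh.J K S) (QuotSt K G aX) := by
  intro V R hR x y φ φ' hφ hφ' hloc
  have hx : x.base = V := IsHomLift.domain_eq (QuotSt K G aX).p (𝟙 V) φ
  subst hx
  apply QuotObj.hom_ext
  · have e1 := IsHomLift.fac' (QuotSt K G aX).p (𝟙 x.base) φ
    have e2 := IsHomLift.fac' (QuotSt K G aX).p (𝟙 x.base) φ'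
    exact e1.trans e2.symm
  · apply hom_ext_of_mem_J (K := K) ((QuotSh.J K S).pullback_stable x.π hR)
    intro Y k hk
    have hk' : R (k ≫ x.π) := hk
    have sq : IsPullback (pullback.fst x.π (k ≫ x.π)) (pullback.snd x.π (k ≫ x.π)) x.π (k ≫ x.π) :=
      IsPullback.of_hasPullback _ _
    have h := hloc (k ≫ x.π) hk' (pbObj x sq) (pbHom x sq) (pbHom_isHomLift x _ sq)
    have htop : pullback.fst x.π (k ≫ x.π) ≫ φ.top = pullback.fst x.π (k ≫ x.π) ≫ φ'.top :=
      congrArg QuotObj.Hom.top h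
    have e : k = pullback.lift k (𝟙 Y) (by rw [Category.id_comp]) ≫ pullback.fst x.π (k ≫ x.π) :=
      (pullback.lift_fst _ _ _).symm
    rw [e, Category.assoc, Category.assoc, htop]

end Sep

section Glue

variable [K.IsStableUnderBaseChange] [(QuotSh.J K S).Subcanonical]

/-- the canonical pullback square -/
theorem sqOf (x : QuotObj K G aX) {W : Over S} (g : W ⟶ x.base) :
    IsPullback (pullback.fst x.π g) (pullback.snd x.π g) x.π g := IsPullback.of_hasPullback _ _

/-- the canonical pullback of an object of `[X/G]` -/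
noncomputable abbrev cObj (x : QuotObj K G aX) {W : Over S} (g : W ⟶ x.base) : QuotObj K G aX :=
  pbObj x (sqOf x g)

/-- its projection -/
noncomputable abbrev cHom (x : QuotObj K G aX) {W : Over S} (g : W ⟶ x.base) : cObj x g ⟶ x :=
  pbHom x (sqOf x g)

theorem cHom_isHomLift (x : QuotObj K G aX) {W : Over S} (g : W ⟶ x.base) :
    (QuotSt K G aX).p.IsHomLift g (cHom x g) := pbHom_isHomLift x g (sqOf x g)

/-- the comparison between canonical pullbacks -/
noncomputable abbrev cMap (x : QuotObj K G aX) {W W' : Over S} (g : W ⟶ x.base) (g' : W' ⟶ x.base)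
    (l : W' ⟶ W) (hl : l ≫ g = g') : cObj x g' ⟶ cObj x g :=
  factor (cHom x g) (cHom x g') l hl

theorem cMap_isHomLift (x : QuotObj K G aX) {W W' : Over S} (g : W ⟶ x.base) (g' : W' ⟶ x.base)
    (l : W' ⟶ W) (hl : l ≫ g = g') : (QuotSt K G aX).p.IsHomLift l (cMap x g g' l hl) :=
  hom_isHomLift_base (factor (cHom x g) (cHom x g') l hl)

theorem cMap_comp (x : QuotObj K G aX) {W W' : Over S} (g : W ⟶ x.base) (g' : W' ⟶ x.base)
    (l : W' ⟶ W) (hl : l ≫ g = g') : cMap x g g' l hl ≫ cHom x g = cHom x g' :=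
  factor_comp _ _ _ _

/-- the comparison between canonical pullbacks, on total spaces -/
noncomputable def cMapTop (x : QuotObj K G aX) {W W' : Over S} (g : W ⟶ x.base) (g' : W' ⟶ x.base)
    (l : W' ⟶ W) (hl : l ≫ g = g') : pullback x.π g' ⟶ pullback x.π g :=
  (cMap x g g' l hl).top

@[reassoc]
theorem cMapTop_fst (x : QuotObj K G aX) {W W' : Over S} (g : W ⟶ x.base) (g' : W' ⟶ x.base)
    (l : W' ⟶ W) (hl : l ≫ g = g') :
    cMapTop x g g' l hl ≫ pullback.fst x.π g = pullback.fst x.π g' :=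
  congrArg QuotObj.Hom.top (cMap_comp x g g' l hl)

@[reassoc]
theorem cMapTop_snd (x : QuotObj K G aX) {W W' : Over S} (g : W ⟶ x.base) (g' : W' ⟶ x.base)
    (l : W' ⟶ W) (hl : l ≫ g = g') :
    cMapTop x g g' l hl ≫ pullback.snd x.π g = pullback.snd x.π g' ≫ l :=
  (cMap x g g' l hl).cart.w

/-- the section of the canonical pullback attached to a point of the torsor -/
noncomputable def sec (x : QuotObj K G aX) {Y : Over S} (q : Y ⟶ x.P) : Y ⟶ pullback x.π (q ≫ x.π) :=
  pullback.lift q (𝟙 Y) (by rw [Category.id_comp])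

@[reassoc (attr := simp)]
theorem sec_fst (x : QuotObj K G aX) {Y : Over S} (q : Y ⟶ x.P) : sec x q ≫ pullback.fst x.π (q ≫ x.π) = q :=
  pullback.lift_fst _ _ _

@[reassoc (attr := simp)]
theorem sec_snd (x : QuotObj K G aX) {Y : Over S} (q : Y ⟶ x.P) : sec x q ≫ pullback.snd x.π (q ≫ x.π) = 𝟙 Y :=
  pullback.lift_snd _ _ _

/-- the action on the canonical pullback -/
noncomputable def cAct (x : QuotObj K G aX) {W : Over S} (g : W ⟶ x.base) :
    G ⊗ pullback x.π g ⟶ pullback x.π g :=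
  pbActMor x (sqOf x g)

theorem cAct_fst (x : QuotObj K G aX) {W : Over S} (g : W ⟶ x.base) :
    cAct x g ≫ pullback.fst x.π g = (G ◁ pullback.fst x.π g) ≫ x.act.act := pbActMor_fst x (sqOf x g)

theorem cAct_snd (x : QuotObj K G aX) {W : Over S} (g : W ⟶ x.base) :
    cAct x g ≫ pullback.snd x.π g = snd G _ ≫ pullback.snd x.π g := pbActMor_snd x (sqOf x g)

section Data

variable {x y : QuotObj K G aX} (hy : y.base = x.base) {R : Sieve x.base}
  (k : ∀ ⦃W : Over S⦄ (g : W ⟶ x.base), R g → ∀ (s : QuotObj K G aX) (ψ : s ⟶ x),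
    (QuotSt K G aX).p.IsHomLift g ψ → (s ⟶ y))
  (hk : ∀ ⦃W : Over S⦄ (g : W ⟶ x.base) (hg : R g) (s : QuotObj K G aX) (ψ : s ⟶ x)
    (hψ : (QuotSt K G aX).p.IsHomLift g ψ), (QuotSt K G aX).p.IsHomLift g (k g hg s ψ hψ))
  (knat : ∀ ⦃W W' : Over S⦄ (g : W ⟶ x.base) (hg : R g) (g' : W' ⟶ x.base) (hg' : R g') (l : W' ⟶ W)
      (hl : l ≫ g = g') (s : QuotObj K G aX) (ψ : s ⟶ x) (hψ : (QuotSt K G aX).p.IsHomLift g ψ)
      (s' : QuotObj K G aX) (ψ' : s' ⟶ x) (hψ' : (QuotSt K G aX).p.IsHomLift g' ψ') (m : s' ⟶ s)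
      (hm : (QuotSt K G aX).p.IsHomLift l m) (hmψ : m ≫ ψ = ψ'),
      k g' hg' s' ψ' hψ' = m ≫ k g hg s ψ hψ)

/-- the canonical local morphisms -/
noncomputable def kc {W : Over S} (g : W ⟶ x.base) (hg : R g) : cObj x g ⟶ y :=
  k g hg (cObj x g) (cHom x g) (cHom_isHomLift x g)

/-- the canonical local morphisms, on total spaces -/
noncomputable def kcTop {W : Over S} (g : W ⟶ x.base) (hg : R g) : pullback x.π g ⟶ y.P :=
  (kc k g hg).top

include knat in
theorem kc_nat {W W' : Over S} (g : W ⟶ x.base) (hg : R g) (g' : W' ⟶ x.base) (hg' : R g') (l : W' ⟶ W)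
    (hl : l ≫ g = g') : kc k g' hg' = cMap x g g' l hl ≫ kc k g hg :=
  knat g hg g' hg' l hl _ _ _ _ _ _ _ (cMap_isHomLift x g g' l hl) (cMap_comp x g g' l hl)

include knat in
theorem kcTop_nat {W W' : Over S} (g : W ⟶ x.base) (hg : R g) (g' : W' ⟶ x.base) (hg' : R g') (l : W' ⟶ W)
    (hl : l ≫ g = g') : kcTop k g' hg' = cMapTop x g g' l hl ≫ kcTop k g hg :=
  congrArg QuotObj.Hom.top (kc_nat k knat g hg g' hg' l hl)

include hk in
theorem kc_base {W : Over S} (g : W ⟶ x.base) (hg : R g) : (kc k g hg).base = g ≫ eqToHom hy.symm := by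
  haveI : (QuotSt K G aX).p.IsHomLift g (kc k g hg) := hk g hg (cObj x g) (cHom x g) (cHom_isHomLift x g)
  have h1 := IsHomLift.fac' (QuotSt K G aX).p g (kc k g hg)
  have h2 : (QuotSt K G aX).p.map (kc k g hg) = (kc k g hg).base := rfl
  rw [← h2, h1]
  simp

theorem kcTop_eqv {W : Over S} (g : W ⟶ x.base) (hg : R g) :
    cAct x g ≫ kcTop k g hg = (G ◁ kcTop k g hg) ≫ y.act.act := (kc k g hg).eqv

include hk in
theorem kcTop_π {W : Over S} (g : W ⟶ x.base) (hg : R g) :
    kcTop k g hg ≫ y.π = pullback.snd x.π g ≫ g ≫ eqToHom hy.symm := by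
  rw [← kc_base hy k hk g hg]
  exact (kc k g hg).cart.w

theorem kcTop_φ {W : Over S} (g : W ⟶ x.base) (hg : R g) :
    kcTop k g hg ≫ y.φ = pullback.fst x.π g ≫ x.φ := (kc k g hg).wφ

/-- the local pieces of the glued morphism of torsors -/
noncomputable def mq {Y : Over S} (q : Y ⟶ x.P) (hq : R (q ≫ x.π)) : Y ⟶ y.P :=
  sec x q ≫ kcTop k (q ≫ x.π) hq

theorem mq_eq {Y : Over S} (q : Y ⟶ x.P) (hq : R (q ≫ x.π)) (g : Y ⟶ x.base) (hg : R g)
    (σ : Y ⟶ pullback x.π g) (h1 : σ ≫ pullback.fst x.π g = q) (h2 : σ ≫ pullback.snd x.π g = 𝟙 Y) :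
    mq k q hq = σ ≫ kcTop k g hg := by
  have hqg : q ≫ x.π = g := by
    rw [← h1, Category.assoc, pullback.condition, ← Category.assoc, h2, Category.id_comp]
  subst hqg
  have : σ = sec x q := by
    apply pullback.hom_ext
    · rw [h1, sec_fst]
    · rw [h2, sec_snd]
  rw [this]
  rfl

include knat in
theorem mq_nat {Y Y' : Over S} (q : Y ⟶ x.P) (hq : R (q ≫ x.π)) (r : Y' ⟶ Y) (hq' : R ((r ≫ q) ≫ x.π)) :
    r ≫ mq k q hq = mq k (r ≫ q) hq' := by
  have hl : r ≫ (q ≫ x.π) = (r ≫ q) ≫ x.π := (Category.assoc _ _ _).symm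
  have e' := kcTop_nat k knat (q ≫ x.π) hq ((r ≫ q) ≫ x.π) hq' r hl
  have e'' : sec x (r ≫ q) ≫ cMapTop x (q ≫ x.π) ((r ≫ q) ≫ x.π) r hl = r ≫ sec x q := by
    apply pullback.hom_ext
    · rw [Category.assoc, cMapTop_fst, sec_fst, Category.assoc, sec_fst]
    · rw [Category.assoc, cMapTop_snd, sec_snd_assoc, Category.assoc, sec_snd, Category.comp_id]
  unfold mq
  rw [e', reassoc_of% e'']

end Data

section Data2

variable {x y : QuotObj K G aX} (hy : y.base = x.base) {R : Sieve x.base}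
  (k : ∀ ⦃W : Over S⦄ (g : W ⟶ x.base), R g → ∀ (s : QuotObj K G aX) (ψ : s ⟶ x),
    (QuotSt K G aX).p.IsHomLift g ψ → (s ⟶ y))
  (hk : ∀ ⦃W : Over S⦄ (g : W ⟶ x.base) (hg : R g) (s : QuotObj K G aX) (ψ : s ⟶ x)
    (hψ : (QuotSt K G aX).p.IsHomLift g ψ), (QuotSt K G aX).p.IsHomLift g (k g hg s ψ hψ))
  (knat : ∀ ⦃W W' : Over S⦄ (g : W ⟶ x.base) (hg : R g) (g' : W' ⟶ x.base) (hg' : R g') (l : W' ⟶ W)
      (hl : l ≫ g = g') (s : QuotObj K G aX) (ψ : s ⟶ x) (hψ : (QuotSt K G aX).p.IsHomLift g ψ)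
      (s' : QuotObj K G aX) (ψ' : s' ⟶ x) (hψ' : (QuotSt K G aX).p.IsHomLift g' ψ') (m : s' ⟶ s)
      (hm : (QuotSt K G aX).p.IsHomLift l m) (hmψ : m ≫ ψ = ψ'),
      k g' hg' s' ψ' hψ' = m ≫ k g hg s ψ hψ)
  (hR : R ∈ QuotSh.J K S x.base)

include knat hR in
theorem exists_top : ∃ top : x.P ⟶ y.P,
    ∀ ⦃Y : Over S⦄ (q : Y ⟶ x.P) (hq : R (q ≫ x.π)), q ≫ top = mq k q hq := by
  have hRx : R.pullback x.π ∈ QuotSh.J K S x.P := (QuotSh.J K S).pullback_stable x.π hR
  obtain ⟨top, htop⟩ := exists_glue_of_mem_J (K := K) hRx (fun Y q hq => mq k q hq)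
    (fun Y Y' q hq r => mq_nat k knat q hq r _)
  exact ⟨top, fun Y q hq => htop q hq⟩

variable (top : x.P ⟶ y.P) (htop : ∀ ⦃Y : Over S⦄ (q : Y ⟶ x.P) (hq : R (q ≫ x.π)), q ≫ top = mq k q hq)

include knat htop in
theorem top_fst {W : Over S} (g : W ⟶ x.base) (hg : R g) : pullback.fst x.π g ≫ top = kcTop k g hg := by
  have hq : R (pullback.fst x.π g ≫ x.π) := by
    rw [pullback.condition]; exact R.downward_closed hg _
  have hsg : R (pullback.snd x.π g ≫ g) := R.downward_closed hg _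
  rw [htop _ hq, mq_eq k (pullback.fst x.π g) hq (pullback.snd x.π g ≫ g) hsg
      (pullback.lift (pullback.fst x.π g) (𝟙 _) (by rw [Category.id_comp, pullback.condition]))
      (pullback.lift_fst _ _ _) (pullback.lift_snd _ _ _),
    kcTop_nat k knat g hg (pullback.snd x.π g ≫ g) hsg (pullback.snd x.π g) rfl, ← Category.assoc]
  have : pullback.lift (pullback.fst x.π g) (𝟙 _) (by rw [Category.id_comp, pullback.condition]) ≫
      cMapTop x g (pullback.snd x.π g ≫ g) (pullback.snd x.π g) rfl = 𝟙 _ := by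
    apply pullback.hom_ext
    · rw [Category.assoc, cMapTop_fst, pullback.lift_fst, Category.id_comp]
    · rw [Category.assoc, cMapTop_snd, ← Category.assoc, pullback.lift_snd, Category.id_comp]
  rw [this, Category.id_comp]

include htop hR in
theorem top_eqv : x.act.act ≫ top = (G ◁ top) ≫ y.act.act := by
  have hRx : R.pullback x.π ∈ QuotSh.J K S x.P := (QuotSh.J K S).pullback_stable x.π hR
  apply hom_ext_of_mem_J (K := K) ((QuotSh.J K S).pullback_stable (snd G x.P) hRx)
  intro Y w hw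
  have hw' : R ((w ≫ snd G x.P) ≫ x.π) := hw
  obtain ⟨gg, q, rfl⟩ : ∃ (gg : Y ⟶ G) (q : Y ⟶ x.P), w = lift gg q :=
    ⟨w ≫ fst G x.P, w ≫ snd G x.P, by
      apply CartesianMonoidalCategory.hom_ext
      · rw [lift_fst]
      · rw [lift_snd]⟩
  rw [lift_snd] at hw'
  have hq' : R ((lift gg q ≫ x.act.act) ≫ x.π) := by
    rw [lift_act_π]; exact hw'
  have h1 : (lift gg (sec x q) ≫ cAct x (q ≫ x.π)) ≫ pullback.fst x.π (q ≫ x.π) = lift gg q ≫ x.act.act := by
    rw [Category.assoc, cAct_fst, ← Category.assoc, lift_whiskerLeft, sec_fst]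
  have h2 : (lift gg (sec x q) ≫ cAct x (q ≫ x.π)) ≫ pullback.snd x.π (q ≫ x.π) = 𝟙 Y := by
    rw [Category.assoc, cAct_snd, ← Category.assoc, lift_snd, sec_snd]
  rw [← Category.assoc, htop _ hq', mq_eq k _ hq' (q ≫ x.π) hw' _ h1 h2, Category.assoc, kcTop_eqv,
    ← Category.assoc, lift_whiskerLeft, ← Category.assoc, lift_whiskerLeft, htop q hw']
  rfl

include hk htop hR in
theorem top_π : top ≫ y.π = x.π ≫ eqToHom hy.symm := by
  have hRx : R.pullback x.π ∈ QuotSh.J K S x.P := (QuotSh.J K S).pullback_stable x.π hR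
  apply hom_ext_of_mem_J (K := K) hRx
  intro Y q hq
  have hq' : R (q ≫ x.π) := hq
  rw [← Category.assoc, htop q hq']
  unfold mq
  rw [Category.assoc, kcTop_π hy k hk, sec_snd_assoc, Category.assoc]

include htop hR in
theorem top_φ : top ≫ y.φ = x.φ := by
  have hRx : R.pullback x.π ∈ QuotSh.J K S x.P := (QuotSh.J K S).pullback_stable x.π hR
  apply hom_ext_of_mem_J (K := K) hRx
  intro Y q hq
  have hq' : R (q ≫ x.π) := hq
  rw [← Category.assoc, htop q hq']
  unfold mq
  rw [Category.assoc, kcTop_φ, sec_fst_assoc]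

/-- the glued morphism -/
noncomputable def glued : x ⟶ y where
  base := eqToHom hy.symm
  top := top
  eqv := top_eqv k hR top htop
  cart := isPullback_of_equivariant x y (eqToHom hy.symm) top (top_eqv k hR top htop)
    (top_π hy k hk hR top htop)
  wφ := top_φ k hR top htop

theorem glued_isHomLift : (QuotSt K G aX).p.IsHomLift (𝟙 x.base) (glued hy k hk hR top htop) := by
  apply IsHomLift.of_fac' (QuotSt K G aX).p (𝟙 x.base) (glued hy k hk hR top htop) rfl hy
  change eqToHom hy.symm = _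
  simp

include knat in
theorem glued_spec {W : Over S} (g : W ⟶ x.base) (hg : R g) (s : QuotObj K G aX) (ψ : s ⟶ x)
    (hψ : (QuotSt K G aX).p.IsHomLift g ψ) : ψ ≫ glued hy k hk hR top htop = k g hg s ψ hψ := by
  have hs : s.base = W := IsHomLift.domain_eq (QuotSt K G aX).p g ψ
  subst hs
  have hbase : ψ.base = g := by
    have h1 := IsHomLift.fac' (QuotSt K G aX).p g ψ
    have h2 : (QuotSt K G aX).p.map ψ = ψ.base := rfl
    rw [← h2, h1]
    simp
  have e1 : (𝟙 s.base) ≫ (cHom x g).base = ψ.base := by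
    rw [Category.id_comp, hbase]; rfl
  let m : s ⟶ cObj x g := factor (cHom x g) ψ (𝟙 s.base) e1
  have hm : (QuotSt K G aX).p.IsHomLift (𝟙 s.base) m := hom_isHomLift_base m
  have hmψ : m ≫ cHom x g = ψ := factor_comp _ _ _ _
  have e2 : k g hg s ψ hψ = m ≫ kc k g hg :=
    knat g hg g hg (𝟙 s.base) (Category.id_comp g) _ _ (cHom_isHomLift x g) s ψ hψ m hm hmψ
  rw [e2]
  have e3 : cHom x g ≫ glued hy k hk hR top htop = kc k g hg := by
    apply QuotObj.hom_ext
    · rw [kc_base hy k hk]; rfl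
    · exact top_fst k knat top htop g hg
  rw [← e3, ← Category.assoc, hmψ]

end Data2

/-- **Compatible local families of morphisms of `[X/G]` over an identity glue.** -/
theorem homGlue_quotSt : StackCrit.HomGlue (QuotSh.J K S) (QuotSt K G aX) := by
  intro V R hR x y hx hy k hk hcompat
  have hx' : x.base = V := hx
  subst hx'
  have hy' : y.base = x.base := hy
  have knat : ∀ ⦃W W' : Over S⦄ (g : W ⟶ x.base) (hg : R g) (g' : W' ⟶ x.base) (hg' : R g') (l : W' ⟶ W)
      (hl : l ≫ g = g') (s : QuotObj K G aX) (ψ : s ⟶ x) (hψ : (QuotSt K G aX).p.IsHomLift g ψ)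
      (s' : QuotObj K G aX) (ψ' : s' ⟶ x) (hψ' : (QuotSt K G aX).p.IsHomLift g' ψ') (m : s' ⟶ s)
      (hm : (QuotSt K G aX).p.IsHomLift l m) (hmψ : m ≫ ψ = ψ'),
      k g' hg' s' ψ' hψ' = m ≫ k g hg s ψ hψ := by
    intro W W' g hg g' hg' l hl s ψ hψ s' ψ' hψ' m hm hmψ
    subst hl
    subst hmψ
    exact hcompat g hg l s ψ hψ s' m hm hψ'
  obtain ⟨top, htop⟩ := exists_top k knat hR
  exact ⟨glued hy' k hk hR top htop, glued_isHomLift hy' k hk hR top htop,
    fun W g hg s ψ hψ => glued_spec hy' k hk knat hR top htop g hg s ψ hψ⟩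

/-- **`[X/G]` is a prestack** for a subcanonical topology stable under base change. -/
theorem isPrestack_quotSt : Stk.IsPrestack (QuotSh.J K S) (QuotSt K G aX) :=
  StackCrit.isPrestack_of_crit isFibGrpd_quotSt homSep_quotSt homGlue_quotSt

end Glue

end Groth.Agent.Lib.Helper66.QuotStGlue
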