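import Groth.Agent.Lib.Helper66.QuotStBasic

/-!
# Point-form action laws and morphisms between trivial objects of `[X/G]`
-/

set_option autoImplicit false
set_option backward.isDefEq.respectTransparency false
set_option backward.isDefEq.respectTransparency.types false
set_option linter.unusedSimpArgs false
set_option linter.unusedVariables false

universe u

open CategoryTheory CategoryTheory.Limits MonoidalCategory CartesianMonoidalCategory MonObj GrpObj AlgebraicGeometry

namespace Groth.Agent.Lib.Helper66.QuotStBasic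

open AlgSt

variable {S : Scheme.{u}} {K : Precoverage Scheme.{u}} {G : Over S} [GrpObj G] {X : Over S}
  {aX : AlgGrp.Action G X}

/-- `(p q) · y = p · (q · y)` on `T`-points. -/
theorem act_mul_pt {T Y : Over S} (a : AlgGrp.Action G Y) (p q : T ⟶ G) (y : T ⟶ Y) :
    lift (p * q) y ≫ a.act = lift p (lift q y ≫ a.act) ≫ a.act := by
  have h1 : lift (p * q) y = lift (lift p q) y ≫ (μ[G] ▷ Y) := by
    apply CartesianMonoidalCategory.hom_ext
    · simp only [Hom.mul_def, Category.assoc, lift_fst, lift_snd, whiskerRight_fst, whiskerRight_snd,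
        lift_fst_assoc, lift_snd_assoc]
    · simp only [Hom.mul_def, Category.assoc, lift_fst, lift_snd, whiskerRight_fst, whiskerRight_snd,
        lift_fst_assoc, lift_snd_assoc]
  have h2 : lift (lift p q) y ≫ (α_ G G Y).hom ≫ (G ◁ a.act) = lift p (lift q y ≫ a.act) := by
    apply CartesianMonoidalCategory.hom_ext
    · simp only [Category.assoc, lift_fst, lift_snd, whiskerLeft_fst, whiskerLeft_snd, associator_hom_fst,
        lift_fst_assoc, lift_snd_assoc]
    · simp only [Category.assoc, lift_fst, lift_snd, whiskerLeft_fst, whiskerLeft_snd,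
        lift_fst_assoc, lift_snd_assoc]
      rw [← Category.assoc (α_ G G Y).hom, ← Category.assoc (lift (lift p q) y)]
      congr 1
      apply CartesianMonoidalCategory.hom_ext
      · simp only [Category.assoc, lift_fst, lift_snd, associator_hom_snd_fst, lift_fst_assoc, lift_snd_assoc]
      · simp only [Category.assoc, lift_fst, lift_snd, associator_hom_snd_snd, lift_fst_assoc, lift_snd_assoc]
  rw [h1, Category.assoc, a.mul_act, ← h2]
  simp only [Category.assoc]

/-- `1 · y = y` on `T`-points. -/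
theorem act_one_pt {T Y : Over S} (a : AlgGrp.Action G Y) (y : T ⟶ Y) :
    lift (1 : T ⟶ G) y ≫ a.act = y := by
  have h1 : lift (1 : T ⟶ G) y = lift (toUnit T) y ≫ (η[G] ▷ Y) := by
    apply CartesianMonoidalCategory.hom_ext
    · simp only [Hom.one_def, Category.assoc, lift_fst, whiskerRight_fst, lift_fst_assoc]
    · simp only [Category.assoc, lift_snd, whiskerRight_snd]
  rw [h1, Category.assoc, a.one_act, leftUnitor_hom, lift_snd]

/-- `(k, t) ↦ (k g(t), f(t))`. -/
noncomputable def rightMulMap {T T' : Over S} (f : T ⟶ T') (g : T ⟶ G) : G ⊗ T ⟶ G ⊗ T' :=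
  lift (fst G T * (snd G T ≫ g)) (snd G T ≫ f)

theorem rightMulMap_eqv {T T' : Over S} (f : T ⟶ T') (g : T ⟶ G) :
    (leftMul G T).act ≫ rightMulMap f g = (G ◁ rightMulMap f g) ≫ (leftMul G T').act := by
  apply CartesianMonoidalCategory.hom_ext
  · simp only [leftMul, rightMulMap, Category.assoc, lift_fst, lift_snd, lift_fst_assoc, lift_snd_assoc,
      comp_lift, comp_mul, whiskerLeft_fst, whiskerLeft_snd, whiskerLeft_fst_assoc, whiskerLeft_snd_assoc]
    rw [_root_.mul_assoc]
  · simp only [leftMul, rightMulMap, Category.assoc, lift_fst, lift_snd, lift_fst_assoc, lift_snd_assoc,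
      comp_lift, comp_mul, whiskerLeft_fst, whiskerLeft_snd, whiskerLeft_fst_assoc, whiskerLeft_snd_assoc]

theorem rightMulMap_comp {T T' T'' : Over S} (f : T ⟶ T') (g : T ⟶ G) (f' : T' ⟶ T'') (g' : T' ⟶ G) :
    rightMulMap f g ≫ rightMulMap f' g' = rightMulMap (f ≫ f') (g * (f ≫ g')) := by
  apply CartesianMonoidalCategory.hom_ext
  · simp only [rightMulMap, Category.assoc, lift_fst, lift_snd, lift_fst_assoc, lift_snd_assoc,
      comp_lift, comp_mul]
    rw [_root_.mul_assoc]
  · simp only [rightMulMap, Category.assoc, lift_fst, lift_snd, lift_fst_assoc, lift_snd_assoc,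
      comp_lift, comp_mul]

theorem rightMulMap_id_one (T : Over S) : rightMulMap (𝟙 T) (1 : T ⟶ G) = 𝟙 (G ⊗ T) := by
  apply CartesianMonoidalCategory.hom_ext
  · simp only [rightMulMap, lift_fst, Category.id_comp, comp_one, _root_.mul_one]
  · simp only [rightMulMap, lift_snd, Category.id_comp, Category.comp_id]

theorem rightMulMap_one {T T' : Over S} (f : T ⟶ T') : rightMulMap f (1 : T ⟶ G) = G ◁ f := by
  apply CartesianMonoidalCategory.hom_ext
  · simp only [rightMulMap, lift_fst, comp_one, _root_.mul_one, whiskerLeft_fst]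
  · simp only [rightMulMap, lift_snd, whiskerLeft_snd]

theorem rightMulMap_snd {T T' : Over S} (f : T ⟶ T') (g : T ⟶ G) :
    rightMulMap f g ≫ snd G T' = snd G T ≫ f := lift_snd _ _

theorem isIso_rightMulMap_id {T : Over S} (g : T ⟶ G) : IsIso (rightMulMap (𝟙 T) g) := by
  refine ⟨⟨rightMulMap (𝟙 T) g⁻¹, ?_, ?_⟩⟩
  · rw [rightMulMap_comp, Category.id_comp, Category.id_comp, _root_.mul_inv_cancel, rightMulMap_id_one]
  · rw [rightMulMap_comp, Category.id_comp, Category.id_comp, _root_.inv_mul_cancel, rightMulMap_id_one]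

theorem rightMulMap_cart {T T' : Over S} (f : T ⟶ T') (g : T ⟶ G) :
    IsPullback (rightMulMap f g) (snd G T) (snd G T') f := by
  have h1 : rightMulMap f g = rightMulMap (𝟙 T) g ≫ (G ◁ f) := by
    rw [← rightMulMap_one, rightMulMap_comp, Category.id_comp, Category.id_comp, _root_.mul_one]
  have := isIso_rightMulMap_id g
  have h2 : IsPullback (rightMulMap (𝟙 T) g) (snd G T) (snd G T) (𝟙 T) :=
    IsPullback.of_horiz_isIso ⟨by rw [rightMulMap_snd]⟩
  have h3 := h2.paste_horiz (isPullback_whiskerLeft (G := G) f)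
  rw [h1]
  simpa using h3

theorem rightMulMap_wφ {T T' : Over S} (f : T ⟶ T') (g : T ⟶ G) (x : T ⟶ X) (x' : T' ⟶ X)
    (hg : lift g (f ≫ x') ≫ aX.act = x) :
    rightMulMap f g ≫ (G ◁ x') ≫ aX.act = (G ◁ x) ≫ aX.act := by
  have h1 : rightMulMap f g ≫ (G ◁ x') = lift (fst G T * (snd G T ≫ g)) (snd G T ≫ f ≫ x') := by
    apply CartesianMonoidalCategory.hom_ext
    · simp only [rightMulMap, Category.assoc, lift_fst, lift_snd, whiskerLeft_fst, lift_fst_assoc]
    · simp only [rightMulMap, Category.assoc, lift_fst, lift_snd, whiskerLeft_snd, lift_snd_assoc]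
  have h2 : (G ◁ x) = lift (fst G T) (lift (snd G T ≫ g) (snd G T ≫ f ≫ x') ≫ aX.act) := by
    apply CartesianMonoidalCategory.hom_ext
    · simp only [lift_fst, whiskerLeft_fst]
    · simp only [lift_snd, whiskerLeft_snd]
      rw [← hg, ← Category.assoc, comp_lift]
  rw [← Category.assoc, h1, act_mul_pt, ← h2]

variable [K.HasIsos]

/-- The morphism of trivial objects over `f` given by right multiplication by `g`. -/
noncomputable def trivMor {T T' : Over S} (f : T ⟶ T') (g : T ⟶ G) (x : T ⟶ X) (x' : T' ⟶ X)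
    (hg : lift g (f ≫ x') ≫ aX.act = x) :
    trivObj (K := K) (aX := aX) T x ⟶ trivObj (K := K) (aX := aX) T' x' where
  base := f
  top := rightMulMap f g
  eqv := rightMulMap_eqv f g
  cart := rightMulMap_cart f g
  wφ := rightMulMap_wφ f g x x' hg

omit [K.HasIsos] in
/-- Raw form: an equivariant map `G ×_S T ⟶ G ×_S T'` over `b` compatible with the maps to `X` is right
multiplication by a point of `G`. -/
theorem exists_eq_rightMulMap_raw {T T' : Over S} (x : T ⟶ X) (x' : T' ⟶ X) (b : T ⟶ T')
    (top : G ⊗ T ⟶ G ⊗ T')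
    (heqv : (leftMul G T).act ≫ top = (G ◁ top) ≫ (leftMul G T').act)
    (hw : top ≫ snd G T' = snd G T ≫ b)
    (hφ : top ≫ (G ◁ x') ≫ aX.act = (G ◁ x) ≫ aX.act) :
    ∃ g : T ⟶ G, lift g (b ≫ x') ≫ aX.act = x ∧ top = rightMulMap b g := by
  let e : T ⟶ G ⊗ T := lift (1 : T ⟶ G) (𝟙 T)
  refine ⟨e ≫ top ≫ fst G T', ?_, ?_⟩
  · have h1 : e ≫ top ≫ (G ◁ x') = lift (e ≫ top ≫ fst G T') (b ≫ x') := by
      apply CartesianMonoidalCategory.hom_ext
      · simp only [Category.assoc, lift_fst, whiskerLeft_fst]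
      · simp only [Category.assoc, lift_snd, whiskerLeft_snd]
        rw [reassoc_of% hw]
        simp only [e, lift_snd_assoc, Category.id_comp]
    have h2 : e ≫ (G ◁ x) = lift (1 : T ⟶ G) x := by
      apply CartesianMonoidalCategory.hom_ext
      · simp only [e, Category.assoc, lift_fst, whiskerLeft_fst]
      · simp only [e, Category.assoc, lift_snd, whiskerLeft_snd, lift_snd_assoc, Category.id_comp]
    calc lift (e ≫ top ≫ fst G T') (b ≫ x') ≫ aX.act
        = (e ≫ top ≫ (G ◁ x')) ≫ aX.act := by rw [h1]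
      _ = e ≫ top ≫ (G ◁ x') ≫ aX.act := by simp only [Category.assoc]
      _ = e ≫ (G ◁ x) ≫ aX.act := by rw [hφ]
      _ = (e ≫ (G ◁ x)) ≫ aX.act := by simp only [Category.assoc]
      _ = x := by rw [h2, act_one_pt]
  · have hm : (G ◁ e) ≫ (leftMul G T).act = 𝟙 (G ⊗ T) := by
      apply CartesianMonoidalCategory.hom_ext
      · simp only [leftMul, e, Category.assoc, lift_fst, lift_snd, comp_mul, whiskerLeft_fst,
          whiskerLeft_snd_assoc, lift_fst_assoc, Category.id_comp, comp_one, _root_.mul_one]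
      · simp only [leftMul, e, Category.assoc, lift_fst, lift_snd, whiskerLeft_snd_assoc,
          lift_snd_assoc, Category.id_comp, Category.comp_id]
    have h4 : top = (G ◁ e) ≫ (G ◁ top) ≫ (leftMul G T').act := by
      rw [← heqv, reassoc_of% hm]
    apply CartesianMonoidalCategory.hom_ext
    · have h5 : (G ◁ e) ≫ (G ◁ top) ≫ (leftMul G T').act ≫ fst G T' =
          fst G T * (snd G T ≫ e ≫ top ≫ fst G T') := by
        simp only [leftMul, Category.assoc, lift_fst, lift_snd, comp_mul, whiskerLeft_fst,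
          whiskerLeft_fst_assoc, whiskerLeft_snd_assoc, lift_fst_assoc]
      have h6 : top ≫ fst G T' = (G ◁ e) ≫ (G ◁ top) ≫ (leftMul G T').act ≫ fst G T' := by
        conv_lhs => rw [h4]
        simp only [Category.assoc]
      calc top ≫ fst G T' = fst G T * (snd G T ≫ e ≫ top ≫ fst G T') := h6.trans h5
        _ = rightMulMap b (e ≫ top ≫ fst G T') ≫ fst G T' := (lift_fst _ _).symm
    · rw [rightMulMap_snd, hw]

/-- Every morphism between trivial objects is right multiplication by a point of `G`. -/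
theorem exists_eq_rightMulMap {T T' : Over S} (x : T ⟶ X) (x' : T' ⟶ X)
    (h : trivObj (K := K) (aX := aX) T x ⟶ trivObj (K := K) (aX := aX) T' x') :
    ∃ g : T ⟶ G, lift g (h.base ≫ x') ≫ aX.act = x ∧ h.top = rightMulMap h.base g :=
  exists_eq_rightMulMap_raw x x' h.base h.top h.eqv h.cart.w h.wφ

end Groth.Agent.Lib.Helper66.QuotStBasic
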