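import Groth.Agent.Lib.Helper66.MassFormula
import Groth.Agent.Lib.Helper66.QuotStFinField
import Groth.Agent.Lib.Helper67.ZetaPts

/-!
# The mass formula for `[X/G]` over a finite field, `G` smooth affine connected

`∑_{ξ ∈ [X/G](F)/≅} 1/#Aut(ξ) = #X(F)/#G(F)`.
-/

set_option autoImplicit false
set_option backward.isDefEq.respectTransparency false
set_option backward.isDefEq.respectTransparency.types false
set_option linter.unusedSimpArgs false
set_option linter.unusedVariables false
set_option linter.style.haveILetI false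

universe u

open CategoryTheory CategoryTheory.Limits MonoidalCategory CartesianMonoidalCategory MonObj GrpObj AlgebraicGeometry

namespace Groth.Agent.Lib.Helper66.QuotStMass

open AlgSt Groth.Agent.Lib.Helper66.QuotStBasic Groth.Agent.Lib.Helper66.QuotStFibre

theorem finite_pts {F : Type u} [Field F] [Finite F] (X : Over (Spec (CommRingCat.of F)))
    [LocallyOfFiniteType X.hom] [QuasiCompact X.hom] :
    Finite (Over.mk (𝟙 (Spec (CommRingCat.of F))) ⟶ X) := by
  haveI : Finite (Spec (CommRingCat.of F) ⟶ X.left) :=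
    Groth.Agent.Lib.Helper67.finite_points_finField X.hom F
  exact Finite.of_injective (β := (Spec (CommRingCat.of F) ⟶ X.left)) (fun f => f.left)
    (fun f g h => Over.OverMorphism.ext h)

theorem mass_quotSt_finite_field {F : Type u} [Field F] [Finite F]
    (X G : Over (Spec (CommRingCat.of F))) [GrpObj G] (aX : AlgGrp.Action G X)
    [Smooth X.hom] [QuasiCompact X.hom] [Smooth G.hom] [IsAffineHom G.hom] [ConnectedSpace ↥G.left] :
    Finite (Quotient (isIsomorphicSetoid ((AlgSt.QuotSt Scheme.fppfPrecoverage G aX).p.Fiber (Over.mk (𝟙 (Spec (CommRingCat.of F))))))) ∧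
      (∀ ξ : ((AlgSt.QuotSt Scheme.fppfPrecoverage G aX).p.Fiber (Over.mk (𝟙 (Spec (CommRingCat.of F))))), Finite (Aut ξ)) ∧
      ∑ᶠ c : Quotient (isIsomorphicSetoid ((AlgSt.QuotSt Scheme.fppfPrecoverage G aX).p.Fiber (Over.mk (𝟙 (Spec (CommRingCat.of F)))))), ((Nat.card (Aut c.out) : ℚ))⁻¹ =
        (Nat.card (Over.mk (𝟙 (Spec (CommRingCat.of F))) ⟶ X) : ℚ) /
          (Nat.card (Over.mk (𝟙 (Spec (CommRingCat.of F))) ⟶ G) : ℚ) := by
  classical
  haveI hXfin : Finite (Over.mk (𝟙 (Spec (CommRingCat.of F))) ⟶ X) := finite_pts X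
  haveI hGfin : Finite (Over.mk (𝟙 (Spec (CommRingCat.of F))) ⟶ G) := finite_pts G
  letI : MulAction (Over.mk (𝟙 (Spec (CommRingCat.of F))) ⟶ G) (Over.mk (𝟙 (Spec (CommRingCat.of F))) ⟶ X) :=
    ptAct aX _
  -- every object of the fibre is trivial
  have htriv : ∀ ξ : ((AlgSt.QuotSt Scheme.fppfPrecoverage G aX).p.Fiber (Over.mk (𝟙 (Spec (CommRingCat.of F))))),
      ∃ x : Over.mk (𝟙 (Spec (CommRingCat.of F))) ⟶ X,
        Nonempty (trivFib Scheme.fppfPrecoverage aX _ x ≅ ξ) := by
    rintro ⟨A, hA⟩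
    obtain ⟨s, hs⟩ := Groth.Agent.Lib.Helper66.QuotStFinField.exists_section_finite_field A hA
    exact exists_iso_trivFib_of_section A hA s hs
  have key := Groth.Agent.Lib.Helper66.MassFormula.mass_formula
    (Γ := (Over.mk (𝟙 (Spec (CommRingCat.of F))) ⟶ G)) (Ξ := (Over.mk (𝟙 (Spec (CommRingCat.of F))) ⟶ X))
    (Q := Quotient (isIsomorphicSetoid ((AlgSt.QuotSt Scheme.fppfPrecoverage G aX).p.Fiber (Over.mk (𝟙 (Spec (CommRingCat.of F)))))))
    (fun x => ⟦trivFib Scheme.fppfPrecoverage aX _ x⟧)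
    (by
      intro c
      induction c using Quotient.inductionOn with
      | _ ξ =>
        obtain ⟨x, ⟨e⟩⟩ := htriv ξ
        exact ⟨x, Quotient.sound ⟨e⟩⟩)
    (by
      intro x y
      rw [Quotient.eq]
      exact Iff.trans Iff.rfl (trivFib_iso_iff (K := Scheme.fppfPrecoverage) (aX := aX) x y))
    (fun c => Nat.card (Aut c.out))
    (by
      intro x
      have h1 : Nonempty ((Quotient.out (⟦trivFib Scheme.fppfPrecoverage aX _ x⟧ :
          Quotient (isIsomorphicSetoid ((AlgSt.QuotSt Scheme.fppfPrecoverage G aX).p.Fiber (Over.mk (𝟙 (Spec (CommRingCat.of F)))))))) ≅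
          trivFib Scheme.fppfPrecoverage aX _ x) :=
        Quotient.mk_out (s := isIsomorphicSetoid _) _
      obtain ⟨e⟩ := h1
      rw [Nat.card_congr e.conjAut.toEquiv, card_aut_trivFib]
      rfl)
  refine ⟨key.1, ?_, key.2⟩
  intro ξ
  obtain ⟨x, ⟨e⟩⟩ := htriv ξ
  have : Finite (Aut (trivFib Scheme.fppfPrecoverage aX _ x)) :=
    Finite.of_equiv _ (autEquivStab x).symm
  exact Finite.of_equiv _ e.conjAut.toEquiv

end Groth.Agent.Lib.Helper66.QuotStMass
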