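import Groth.Agent.Lib.Helper66.QuotStCart

/-!
# Representability of `X ⟶ [X/G]`: the fibre product `T ×_{[X/G]} X` is the torsor
-/

set_option autoImplicit false
set_option backward.isDefEq.respectTransparency false
set_option backward.isDefEq.respectTransparency.types false
set_option linter.unusedSimpArgs false
set_option linter.unusedVariables false

universe u

open CategoryTheory CategoryTheory.Limits MonoidalCategory CartesianMonoidalCategory MonObj GrpObj AlgebraicGeometry

namespace Groth.Agent.Lib.Helper66.QuotStRep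

open AlgSt Groth.Agent.Lib.Helper66.QuotStBasic

variable {S : Scheme.{u}} {K : Precoverage Scheme.{u}} [K.HasIsos] {G : Over S} [GrpObj G] {X : Over S}
  {aX : AlgGrp.Action G X}

/-- `trivHom` with the map to `X` prescribed up to equality. -/
noncomputable def trivHom' (A : QuotObj K G aX) {T : Over S} (s : T ⟶ A.P) (x : T ⟶ X) (hx : s ≫ A.φ = x) :
    trivObj (K := K) (aX := aX) T x ⟶ A where
  base := s ≫ A.π
  top := (G ◁ s) ≫ A.act.act
  eqv := leftMul_act_comp A.act s
  cart := (isPullback_whiskerLeft s).paste_horiz A.cart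
  wφ := by
    subst hx
    exact (trivHom A s).wφ

variable {U : Over S} (y : FibCat.overCat U ⥤ᵇ QuotSt K G aX)

theorem y_base (a : Over U) : (y.obj a).base = a.left := y.w_obj a

theorem y_map_base {a' a : Over U} (k : a' ⟶ a) :
    (y.map k).base = eqToHom (y_base y a') ≫ k.left ≫ eqToHom (y_base y a).symm :=
  Functor.congr_hom y.w k

/-- The map to the terminal object of `Over U`. -/
def toTerm (a : Over U) : a ⟶ Over.mk (𝟙 U) := Over.homMk a.hom (by simp)

/-- The object over `U` itself. -/
noncomputable abbrev topObj : QuotObj K G aX := y.obj (Over.mk (𝟙 U))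

theorem topObj_base : (topObj y).base = U := y_base y (Over.mk (𝟙 U))

/-- The canonical morphism to the top object. -/
noncomputable abbrev toTop (a : Over U) : y.obj a ⟶ topObj y := y.map (toTerm a)

theorem toTop_base (a : Over U) :
    (toTop y a).base = eqToHom (y_base y a) ≫ a.hom ≫ eqToHom (topObj_base y).symm :=
  y_map_base y (toTerm a)

theorem map_toTop {a' a : Over U} (k : a' ⟶ a) : y.map k ≫ toTop y a = toTop y a' := by
  rw [toTop, toTop, ← y.map_comp]
  congr 1
  apply Over.OverMorphism.ext
  change k.left ≫ a.hom = a'.hom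
  exact Over.w k

/-- `s : a.left ⟶ P` lies over the structure map of `a`. -/
def Compat (a : Over U) (s : a.left ⟶ (topObj y).P) : Prop :=
  s ≫ (topObj y).π ≫ eqToHom (topObj_base y) = a.hom

theorem Compat.eq {a : Over U} {s : a.left ⟶ (topObj y).P} (hs : Compat y a s) :
    s ≫ (topObj y).π = eqToHom (y_base y a).symm ≫ (toTop y a).base := by
  rw [toTop_base, ← hs]
  simp

/-- The section of the torsor of `y a` induced by `s`. -/
noncomputable def sec (a : Over U) (s : a.left ⟶ (topObj y).P) (hs : Compat y a s) : a.left ⟶ (y.obj a).P :=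
  (toTop y a).cart.lift s (eqToHom (y_base y a).symm) hs.eq

theorem sec_top (a : Over U) (s : a.left ⟶ (topObj y).P) (hs : Compat y a s) :
    sec y a s hs ≫ (toTop y a).top = s := (toTop y a).cart.lift_fst _ _ _

theorem sec_π (a : Over U) (s : a.left ⟶ (topObj y).P) (hs : Compat y a s) :
    sec y a s hs ≫ (y.obj a).π = eqToHom (y_base y a).symm := (toTop y a).cart.lift_snd _ _ _

theorem sec_unique (a : Over U) (s : a.left ⟶ (topObj y).P) (hs : Compat y a s) (σ' : a.left ⟶ (y.obj a).P)
    (h1 : σ' ≫ (toTop y a).top = s) (h2 : σ' ≫ (y.obj a).π = eqToHom (y_base y a).symm) :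
    σ' = sec y a s hs := by
  apply (toTop y a).cart.hom_ext
  · rw [h1, sec_top]
  · rw [h2, sec_π]

theorem sec_φ (a : Over U) (s : a.left ⟶ (topObj y).P) (hs : Compat y a s) :
    sec y a s hs ≫ (y.obj a).φ = s ≫ (topObj y).φ := by
  rw [← (toTop y a).wφ, ← Category.assoc, sec_top]

/-- The trivialisation of `y a` induced by `s`. -/
noncomputable def triv (a : Over U) (s : a.left ⟶ (topObj y).P) (hs : Compat y a s) :
    trivObj (K := K) (aX := aX) a.left (s ≫ (topObj y).φ) ⟶ y.obj a :=
  trivHom' (y.obj a) (sec y a s hs) _ (sec_φ y a s hs)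

theorem triv_base (a : Over U) (s : a.left ⟶ (topObj y).P) (hs : Compat y a s) :
    (triv y a s hs).base = eqToHom (y_base y a).symm := sec_π y a s hs

theorem triv_top (a : Over U) (s : a.left ⟶ (topObj y).P) (hs : Compat y a s) :
    (triv y a s hs).top = (G ◁ sec y a s hs) ≫ (y.obj a).act.act := rfl

instance (a : Over U) (s : a.left ⟶ (topObj y).P) (hs : Compat y a s) : IsIso (triv y a s hs) := by
  have : IsIso (triv y a s hs).base := by rw [triv_base]; infer_instance
  exact isIso_of_isIso_base _

theorem triv_isHomLift (a : Over U) (s : a.left ⟶ (topObj y).P) (hs : Compat y a s) :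
    (QuotSt K G aX).p.IsHomLift (𝟙 a.left) (triv y a s hs) := by
  apply IsHomLift.of_fac' (QuotSt K G aX).p (𝟙 a.left) (triv y a s hs) rfl (y_base y a)
  change (triv y a s hs).base = _
  rw [triv_base]
  simp

theorem sec_naturality {a' a : Over U} (k : a' ⟶ a) (s : a.left ⟶ (topObj y).P) (hs : Compat y a s)
    (s' : a'.left ⟶ (topObj y).P) (hs' : Compat y a' s') (hk : k.left ≫ s = s') :
    sec y a' s' hs' ≫ (y.map k).top = k.left ≫ sec y a s hs := by
  apply (toTop y a).cart.hom_ext
  · have h1 : (y.map k).top ≫ (toTop y a).top = (toTop y a').top :=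
      congrArg (fun m => m.top) (map_toTop y k)
    rw [Category.assoc, h1, sec_top, Category.assoc, sec_top, hk]
  · have h2 : (y.map k).top ≫ (y.obj a).π = (y.obj a').π ≫ (y.map k).base := (y.map k).cart.w
    rw [Category.assoc, h2, ← Category.assoc, sec_π, Category.assoc, sec_π, y_map_base]
    simp

theorem triv_naturality {a' a : Over U} (k : a' ⟶ a) (s : a.left ⟶ (topObj y).P) (hs : Compat y a s)
    (s' : a'.left ⟶ (topObj y).P) (hs' : Compat y a' s') (hk : k.left ≫ s = s')
    (v : trivObj (K := K) (aX := aX) a'.left (s' ≫ (topObj y).φ) ⟶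
      trivObj (K := K) (aX := aX) a.left (s ≫ (topObj y).φ))
    (hvb : v.base = k.left) (hvt : v.top = G ◁ k.left) :
    triv y a' s' hs' ≫ y.map k = v ≫ triv y a s hs := by
  apply QuotObj.hom_ext
  · change (triv y a' s' hs').base ≫ (y.map k).base = v.base ≫ (triv y a s hs).base
    rw [triv_base, triv_base, y_map_base, hvb]
    simp
  · change (triv y a' s' hs').top ≫ (y.map k).top = v.top ≫ (triv y a s hs).top
    have h1 : (y.obj a').act.act ≫ (y.map k).top = (G ◁ (y.map k).top) ≫ (y.obj a).act.act := (y.map k).eqv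
    rw [triv_top, triv_top, hvt, Category.assoc, h1, ← Category.assoc, ← MonoidalCategory.whiskerLeft_comp,
      sec_naturality y k s hs s' hs' hk, ← Category.assoc, ← MonoidalCategory.whiskerLeft_comp]

section Functor

open Groth.Agent.Lib.Helper65

variable (K G aX) in
/-- `X ⟶ [X/G]` on the slice category. -/
noncomputable abbrev qF : FibCat.overCat X ⥤ᵇ QuotSt K G aX :=
  BasedFunctor.comp (ofOverCat X) (quotMap K G aX)

/-- The structure map of the torsor over `U`. -/
noncomputable abbrev topπ : (topObj y).P ⟶ U := (topObj y).π ≫ eqToHom (topObj_base y)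

/-- The object of `Over U` attached to a point of the torsor. -/
noncomputable abbrev aOf (w : (ofSch (topObj y).P).obj) : Over U := Over.mk (w.sec.down ≫ topπ y)

/-- The object of `Over X` attached to a point of the torsor. -/
noncomputable abbrev bOf (w : (ofSch (topObj y).P).obj) : Over X := Over.mk (w.sec.down ≫ (topObj y).φ)

theorem compat_aOf (w : (ofSch (topObj y).P).obj) : Compat y (aOf y w) w.sec.down := rfl

/-- The trivialisation attached to a point of the torsor. -/
noncomputable abbrev trivOf (w : (ofSch (topObj y).P).obj) : (qF K G aX).obj (bOf y w) ⟶ y.obj (aOf y w) :=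
  triv y (aOf y w) w.sec.down (compat_aOf y w)

/-- The object of the fibre product attached to a point of the torsor. -/
noncomputable def repObj (w : (ofSch (topObj y).P).obj) : (FibCat.fp y (qF K G aX)).obj :=
  ⟨{ fst := aOf y w
     snd := bOf y w
     iso := (asIso (trivOf y w)).symm },
    by
      change (QuotSt K G aX).p.IsHomLift (𝟙 w.base) (asIso (trivOf y w)).inv
      have : (QuotSt K G aX).p.IsHomLift (𝟙 w.base) (asIso (trivOf y w)).hom :=
        triv_isHomLift y (aOf y w) w.sec.down (compat_aOf y w)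
      exact IsHomLift.lift_id_inv (QuotSt K G aX).p w.base (asIso (trivOf y w))⟩

theorem repObj_iso_hom (w : (ofSch (topObj y).P).obj) : (repObj y w).obj.iso.hom = inv (trivOf y w) := rfl

/-- The morphism of `Over U` attached to a morphism of points. -/
noncomputable def aMap {w' w : (ofSch (topObj y).P).obj} (τ : w' ⟶ w) : aOf y w' ⟶ aOf y w :=
  Over.homMk τ.hom (by
    have hτ : τ.hom ≫ w.sec.down = w'.sec.down := congrArg ULift.down τ.map_sec
    change τ.hom ≫ w.sec.down ≫ topπ y = w'.sec.down ≫ topπ y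
    rw [← Category.assoc, hτ])

/-- The morphism of `Over X` attached to a morphism of points. -/
noncomputable def bMap {w' w : (ofSch (topObj y).P).obj} (τ : w' ⟶ w) : bOf y w' ⟶ bOf y w :=
  Over.homMk τ.hom (by
    have hτ : τ.hom ≫ w.sec.down = w'.sec.down := congrArg ULift.down τ.map_sec
    change τ.hom ≫ w.sec.down ≫ (topObj y).φ = w'.sec.down ≫ (topObj y).φ
    rw [← Category.assoc, hτ])

theorem rep_square {w' w : (ofSch (topObj y).P).obj} (τ : w' ⟶ w) :
    y.map (aMap y τ) ≫ (repObj y w).obj.iso.hom = (repObj y w').obj.iso.hom ≫ (qF K G aX).map (bMap y τ) := by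
  have hτ : τ.hom ≫ w.sec.down = w'.sec.down := congrArg ULift.down τ.map_sec
  rw [repObj_iso_hom, repObj_iso_hom, IsIso.comp_inv_eq, Category.assoc, IsIso.eq_inv_comp]
  exact triv_naturality y (aMap y τ) w.sec.down (compat_aOf y w) w'.sec.down (compat_aOf y w') hτ
    ((qF K G aX).map (bMap y τ)) rfl rfl

/-- The functor from the torsor to the fibre product. -/
noncomputable def repF : ofSch (topObj y).P ⥤ᵇ FibCat.fp y (qF K G aX) where
  toFunctor :=
    { obj := repObj y
      map := fun {w' w} τ => fpHomMk (aMap y τ) (bMap y τ) (rep_square y τ)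
      map_id := fun w => by
        apply fp_hom_ext
        · apply Over.OverMorphism.ext; rfl
        · apply Over.OverMorphism.ext; rfl
      map_comp := fun τ τ' => by
        apply fp_hom_ext
        · apply Over.OverMorphism.ext; rfl
        · apply Over.OverMorphism.ext; rfl }
  w := rfl

omit [K.HasIsos] in
theorem unit_whisker_act {T Y : Over S} (a : AlgGrp.Action G Y) (σ : T ⟶ Y) :
    lift (1 : T ⟶ G) (𝟙 T) ≫ (G ◁ σ) ≫ a.act = σ := by
  have h2 : lift (1 : T ⟶ G) (𝟙 T) ≫ (G ◁ σ) = lift (1 : T ⟶ G) σ := by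
    apply CartesianMonoidalCategory.hom_ext
    · simp only [Category.assoc, lift_fst, whiskerLeft_fst]
    · simp only [Category.assoc, lift_snd, whiskerLeft_snd, lift_snd_assoc, Category.id_comp]
  rw [← Category.assoc, h2, act_one_pt]

omit [K.HasIsos] in
theorem whisker_unit_leftMul (T : Over S) :
    (G ◁ lift (1 : T ⟶ G) (𝟙 T)) ≫ (leftMul G T).act = 𝟙 (G ⊗ T) := by
  apply CartesianMonoidalCategory.hom_ext
  · simp only [leftMul, Category.assoc, lift_fst, lift_snd, comp_mul, whiskerLeft_fst,
      whiskerLeft_snd_assoc, lift_fst_assoc, Category.id_comp, comp_one, _root_.mul_one]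
  · simp only [leftMul, Category.assoc, lift_fst, lift_snd, whiskerLeft_snd_assoc,
      lift_snd_assoc, Category.id_comp, Category.comp_id]

instance repF_faithful : (repF y).toFunctor.Faithful where
  map_injective := by
    intro w' w τ τ' h
    apply Stk.EltObj.hom_ext
    have h1 := congrArg (fun m => m.hom.fst.left) h
    exact h1

instance repF_full : (repF y).toFunctor.Full where
  map_surjective := by
    intro w' w m
    have hw := fp_hom_w m
    obtain ⟨u, hu⟩ : ∃ u : aOf y w' ⟶ aOf y w, u = m.hom.fst := ⟨_, rfl⟩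
    obtain ⟨v, hv⟩ : ∃ v : bOf y w' ⟶ bOf y w, v = m.hom.snd := ⟨_, rfl⟩
    have hw' : trivOf y w' ≫ y.map u = (qF K G aX).map v ≫ trivOf y w := by
      have h1 : y.map u ≫ inv (trivOf y w) = inv (trivOf y w') ≫ (qF K G aX).map v := by
        rw [hu, hv]; exact hw
      rw [← IsIso.eq_inv_comp, ← Category.assoc, ← h1, Category.assoc, IsIso.inv_hom_id, Category.comp_id]
    have hb := congrArg (fun k => k.base) hw'
    have ht := congrArg (fun k => k.top) hw'
    have hb' : eqToHom (y_base y (aOf y w')).symm ≫ (y.map u).base =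
        v.left ≫ eqToHom (y_base y (aOf y w)).symm := by
      have e1 : (trivOf y w').base = eqToHom (y_base y (aOf y w')).symm := triv_base y _ _ _
      have e2 : (trivOf y w).base = eqToHom (y_base y (aOf y w)).symm := triv_base y _ _ _
      rw [← e1, ← e2]
      exact hb
    rw [y_map_base] at hb'
    have huv : u.left = v.left := by
      simp only [eqToHom_trans_assoc, eqToHom_refl, Category.id_comp] at hb'
      exact (cancel_mono _).1 hb'
    have ht' : ((G ◁ sec y (aOf y w') w'.sec.down (compat_aOf y w')) ≫ (y.obj (aOf y w')).act.act) ≫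
        (y.map u).top = (G ◁ v.left) ≫ (G ◁ sec y (aOf y w) w.sec.down (compat_aOf y w)) ≫
          (y.obj (aOf y w)).act.act := ht
    have h3 : sec y (aOf y w') w'.sec.down (compat_aOf y w') ≫ (y.map u).top =
        v.left ≫ sec y (aOf y w) w.sec.down (compat_aOf y w) := by
      have h4 := congrArg (fun k => lift (1 : w'.base ⟶ G) (𝟙 w'.base) ≫ k) ht'
      simp only [] at h4
      rw [← MonoidalCategory.whiskerLeft_comp_assoc, unit_whisker_act, Category.assoc,
        ← Category.assoc (lift (1 : w'.base ⟶ G) (𝟙 w'.base)), ← Category.assoc, Category.assoc (lift _ _),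
        unit_whisker_act] at h4
      exact h4
    have h5 := congrArg (fun k => k ≫ (toTop y (aOf y w)).top) h3
    simp only [Category.assoc] at h5
    have h6 : (y.map u).top ≫ (toTop y (aOf y w)).top = (toTop y (aOf y w')).top :=
      congrArg (fun k => k.top) (map_toTop y u)
    rw [h6, sec_top, sec_top] at h5
    refine ⟨⟨u.left, congrArg ULift.up (by rw [huv]; exact h5.symm)⟩, ?_⟩
    apply fp_hom_ext
    · apply Over.OverMorphism.ext
      exact congrArg (fun k => k.left) hu
    · apply Over.OverMorphism.ext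
      exact huv.trans (congrArg (fun k => k.left) hv)

theorem ess_core (a : Over U) (b : Over X) (jh : y.obj a ⟶ trivObj (K := K) (aX := aX) b.left b.hom)
    (ji : trivObj (K := K) (aX := aX) b.left b.hom ⟶ y.obj a) (hji : ji ≫ jh = 𝟙 _) (hij : jh ≫ ji = 𝟙 _)
    (hY : (QuotSt K G aX).p.IsHomLift (𝟙 a.left) jh) :
    ∃ (W : (ofSch (topObj y).P).obj) (α₁ : aOf y W ≅ a) (α₂ : bOf y W ≅ b),
      (FibCat.overCat U).p.IsHomLift (𝟙 a.left) α₁.hom ∧
      trivOf y W ≫ y.map α₁.hom ≫ jh = (qF K G aX).map α₂.hom := by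
  have hab : b.left = a.left := IsHomLift.codomain_eq (QuotSt K G aX).p (𝟙 a.left) jh
  have hbase : jh.base = eqToHom ((y_base y a).trans hab.symm) := by
    have h0 : jh.base = eqToHom (y_base y a) ≫ 𝟙 a.left ≫ eqToHom hab.symm :=
      IsHomLift.fac' (QuotSt K G aX).p (𝟙 a.left) jh
    rw [h0]
    simp
  have hinvbase : ji.base = eqToHom (hab.trans (y_base y a).symm) := by
    have h1 : ji.base ≫ jh.base = 𝟙 _ := congrArg (fun k => k.base) hji
    rw [hbase] at h1
    have h2 := congrArg (fun k => k ≫ eqToHom (hab.trans (y_base y a).symm)) h1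
    simp only [Category.assoc, eqToHom_trans, eqToHom_refl, Category.comp_id, Category.id_comp] at h2
    exact h2
  obtain ⟨jt, hjt⟩ : ∃ jt : (y.obj a).P ⟶ G ⊗ b.left, jt = jh.top := ⟨_, rfl⟩
  obtain ⟨it, hit⟩ : ∃ it : G ⊗ b.left ⟶ (y.obj a).P, it = ji.top := ⟨_, rfl⟩
  -- the section of the torsor of `y a` given by the unit section of the trivial torsor
  let σ₀ : a.left ⟶ (y.obj a).P := eqToHom hab.symm ≫ lift (1 : b.left ⟶ G) (𝟙 b.left) ≫ it
  have hσπ : σ₀ ≫ (y.obj a).π = eqToHom (y_base y a).symm := by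
    have h1 : it ≫ (y.obj a).π = snd G b.left ≫ ji.base := by rw [hit]; exact ji.cart.w
    simp only [σ₀, Category.assoc, h1, lift_snd_assoc, Category.id_comp, hinvbase, eqToHom_trans]
  let s : a.left ⟶ (topObj y).P := σ₀ ≫ (toTop y a).top
  have hs : Compat y a s := by
    have h1 : (toTop y a).top ≫ (topObj y).π = (y.obj a).π ≫ (toTop y a).base := (toTop y a).cart.w
    change (σ₀ ≫ (toTop y a).top) ≫ (topObj y).π ≫ eqToHom (topObj_base y) = a.hom
    rw [Category.assoc, reassoc_of% h1, reassoc_of% hσπ, toTop_base]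
    simp
  have hsec : sec y a s hs = σ₀ := (sec_unique y a s hs σ₀ rfl hσπ).symm
  have hsφ : s ≫ (topObj y).φ = eqToHom hab.symm ≫ b.hom := by
    have h1 : it ≫ (y.obj a).φ = (G ◁ b.hom) ≫ aX.act := by rw [hit]; exact ji.wφ
    change (σ₀ ≫ (toTop y a).top) ≫ (topObj y).φ = _
    rw [Category.assoc, (toTop y a).wφ]
    simp only [σ₀, Category.assoc, h1, unit_whisker_act]
  let W : (ofSch (topObj y).P).obj := ⟨a.left, ⟨s⟩⟩
  let α₁ : aOf y W ≅ a := Over.isoMk (Iso.refl a.left) (by
    change 𝟙 a.left ≫ a.hom = s ≫ topπ y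
    rw [Category.id_comp]
    exact hs.symm)
  let α₂ : bOf y W ≅ b := Over.isoMk (eqToIso hab.symm) (by
    change eqToHom hab.symm ≫ b.hom = s ≫ (topObj y).φ
    exact hsφ.symm)
  refine ⟨W, α₁, α₂, ?_, ?_⟩
  · have : (FibCat.overCat U).p.IsHomLift ((FibCat.overCat U).p.map α₁.hom) α₁.hom := inferInstance
    exact this
  · have h1 := triv_naturality y α₁.hom s hs s (compat_aOf y W) (Category.id_comp s)
      (𝟙 (trivObj (K := K) (aX := aX) a.left (s ≫ (topObj y).φ))) rfl
      (MonoidalCategory.whiskerLeft_id G a.left).symm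
    rw [Category.id_comp] at h1
    have h1' : trivOf y W ≫ y.map α₁.hom = triv y a s hs := h1
    rw [← Category.assoc, h1']
    apply QuotObj.hom_ext
    · change (triv y a s hs).base ≫ jh.base = eqToHom hab.symm
      rw [triv_base, hbase]
      simp
    · change (triv y a s hs).top ≫ jh.top = G ◁ eqToHom hab.symm
      have h2 : (y.obj a).act.act ≫ jt = (G ◁ jt) ≫ (leftMul G b.left).act := by rw [hjt]; exact jh.eqv
      have h3 : it ≫ jt = 𝟙 _ := by rw [hit, hjt]; exact congrArg (fun k => k.top) hji
      have e1 : (triv y a s hs).top = (G ◁ σ₀) ≫ (y.obj a).act.act := by rw [triv_top, hsec]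
      have e2 : ((G ◁ σ₀) ≫ (y.obj a).act.act) ≫ jt = (G ◁ (σ₀ ≫ jt)) ≫ (leftMul G b.left).act := by
        rw [Category.assoc, h2, ← Category.assoc, ← MonoidalCategory.whiskerLeft_comp]
      have e3 : σ₀ ≫ jt = eqToHom hab.symm ≫ lift (1 : b.left ⟶ G) (𝟙 b.left) := by
        simp only [σ₀, Category.assoc, h3, Category.comp_id]
      rw [← hjt, e1, e2, e3, MonoidalCategory.whiskerLeft_comp]
      exact (Category.assoc _ _ _).trans (by rw [whisker_unit_leftMul, Category.comp_id])

theorem repF_essSurjOver : EssSurjOver (repF y) := by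
  apply essSurjOver_fp_of
  intro Y
  obtain ⟨W, α₁, α₂, h1, h2⟩ := ess_core y Y.obj.fst Y.obj.snd Y.obj.iso.hom Y.obj.iso.inv
    Y.obj.iso.inv_hom_id Y.obj.iso.hom_inv_id Y.property
  refine ⟨W, α₁, α₂, h1, ?_⟩
  change y.map α₁.hom ≫ Y.obj.iso.hom = inv (trivOf y W) ≫ (qF K G aX).map α₂.hom
  rw [IsIso.eq_inv_comp]
  exact h2

theorem repF_isEquivOver : FibCat.IsEquivOver (repF y) :=
  isEquivOver_of_ff_ess (repF y) (repF_essSurjOver y)

end Functor

end Groth.Agent.Lib.Helper66.QuotStRep
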