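import Groth.Agent.Lib.Helper66.DiagSurjLift
import Groth.Agent.Lib.Helper66.AlgStLocQLft
import Groth.Agent.Lib.Helper65.RepSp

/-!
# Helper66: algebraic stacks covered by the spectrum of a field (towards residual gerbes)
-/

set_option autoImplicit false
set_option backward.isDefEq.respectTransparency false
set_option backward.isDefEq.respectTransparency.types false

universe u

open CategoryTheory CategoryTheory.Functor CategoryTheory.Limits Opposite AlgebraicGeometry

namespace Groth.Agent.Lib.Helper66.ResGerbe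

open FibCat Groth.Agent.Lib.Helper31 Groth.Agent.Lib.Helper65 Groth.Agent.Lib.Helper66
  Groth.Agent.Lib.Helper66.AlgStLocQSq Groth.Agent.Lib.Helper65.LocQFlat

variable {S : Scheme.{u}} {𝒳 𝒴 𝒵 : AlgSt.Cat S}

/-- Any morphism to the spectrum of a field is flat. -/
theorem flat_to_field {k : Type u} [Field k] {U : Scheme.{u}} (h : U ⟶ Spec (CommRingCat.of k)) :
    Flat h := by
  have : Subsingleton ↥(Spec (CommRingCat.of k)) := inferInstanceAs (Subsingleton (PrimeSpectrum k))
  infer_instance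

theorem listed_flat : Groth.Agent.Lib.Helper66.AlgStPFacts.Listed (@Flat : MorphismProperty Scheme.{u}) :=
  Or.inr (Or.inr (Or.inl rfl))

theorem locP_flat_yon_map {U V : Over S} (k : U ⟶ V) (hk : Flat k.left) :
    AlgSp.LocP @Flat ((AlgSp.yon S).map k) :=
  (Groth.Agent.H52.isEtLocal_of_list _ listed_flat).locP_of_repWith' _
    ((AlgSp.repWith_yon_map_iff @Flat k).2 hk)

/-- The points of the slice over the spectrum of a field form a singleton. -/
theorem subsingleton_points_field {k : Type u} [Field k] (a : Spec (CommRingCat.of k) ⟶ S) :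
    Subsingleton (AlgSt.Points (FibCat.overCat (Over.mk a))) := by
  have : Subsingleton ↥(Over.mk a).left := inferInstanceAs (Subsingleton (PrimeSpectrum k))
  exact (chartPt_bijective (Over.mk a)).2.subsingleton

/-- Every morphism from an algebraic stack to the spectrum of a field is flat. -/
theorem locQ_flat_to_field (h𝒳 : AlgSt.IsAlgStack Scheme.fppfPrecoverage 𝒳) {k : Type u} [Field k]
    (a : Spec (CommRingCat.of k) ⟶ S) (f : 𝒳 ⥤ᵇ FibCat.overCat (Over.mk a)) :
    AlgSt.LocQ (AlgSp.LocP @Flat) f := by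
  obtain ⟨U, c, hc1, hc2⟩ := h𝒳.atlas
  obtain ⟨h₁, -, ⟨i₁⟩⟩ := Groth.Agent.Lib.Helper65.exists_iso_overMap (BasedFunctor.comp c f)
  have hfl : Flat h₁.left := flat_to_field (h₁.left : U.left ⟶ Spec (CommRingCat.of k))
  exact ⟨U, Over.mk a, c, BasedFunctor.id _, h₁, i₁, hc1, hc2, repByAlgSpWith_smooth_id _,
    locP_flat_yon_map h₁ hfl⟩

/-- If an algebraic stack receives a surjective flat morphism from the spectrum of a field, every
morphism from the spectrum of a field to it is surjective and flat. -/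
theorem surjective_flat_fieldPt (h𝒵 : AlgSt.IsAlgStack Scheme.fppfPrecoverage 𝒵)
    {k : Type u} [Field k] (a : Spec (CommRingCat.of k) ⟶ S)
    (z : FibCat.overCat (Over.mk a) ⥤ᵇ 𝒵)
    (hzs : AlgSt.RepByAlgSpWith AlgSp.IsSurjectiveMor z) (hzf : AlgSt.RepByAlgSpWith (AlgSp.LocP @Flat) z)
    {k' : Type u} [Field k'] (a' : Spec (CommRingCat.of k') ⟶ S)
    (z' : FibCat.overCat (Over.mk a') ⥤ᵇ 𝒵) :
    AlgSt.RepByAlgSpWith AlgSp.IsSurjectiveMor z' ∧ AlgSt.RepByAlgSpWith (AlgSp.LocP @Flat) z' := by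
  have hW := isAlgStack_overCat (Over.mk a)
  have hW' := isAlgStack_overCat (Over.mk a')
  have hz1 : AlgSt.RepByAlgSp1 z' := repByAlgSp1_of_diag h𝒵.diag _ z'
  have hzsurj : AlgSt.IsSurjective z :=
    isSurjective_of_repByAlgSpWith (isFibGrpd_overForget _) h𝒵.isStack.1 z hzs
  have hsub := subsingleton_points_field a
  constructor
  · apply repByAlgSpWith_isSurjectiveMor_of_isSurjective (isFibGrpd_overForget _) h𝒵.isStack.1 z' hz1
    intro p
    let t₀ : ↥(Over.mk a').left := IsLocalRing.closedPoint k'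
    obtain ⟨q, hq⟩ := hzsurj p
    obtain ⟨q', hq'⟩ := hzsurj (AlgSt.Points.map z' (chartPt (Over.mk a') t₀))
    refine ⟨chartPt (Over.mk a') t₀, ?_⟩
    rw [← hq', ← hq, Subsingleton.elim q q']
  · have hPF : AlgSp.IsSmoothLocalST (AlgSp.LocP (S := S) @Flat) := isSmoothLocalST_locP_flat
    have hz₁ : AlgSt.LocQ (AlgSp.LocP @Flat) z :=
      locQ_of_repByAlgSpWith' _ (Groth.Agent.Lib.Helper66.AlgStPFacts.stableBC_locP _ listed_flat)
        (fun X Y Z a b ha hb => Groth.Agent.Lib.Helper54.locP_precomp_isEtaleMor ha hb)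
        (isFibGrpd_overForget _) h𝒵.isStack.1 h𝒵.atlas z hzf
    have h𝒬 : AlgSt.IsAlgStack Scheme.fppfPrecoverage (fp z z') :=
      Groth.Agent.S12763.result h𝒵.isStack h𝒵.diag hW hW' z z'
    have h2 : AlgSt.LocQ (AlgSp.LocP @Flat) (fpFst z z') := locQ_flat_to_field h𝒬 a _
    have h3 : AlgSt.LocQ (AlgSp.LocP @Flat) z' := locQ_flat_of_fpFst hW' h𝒵 hW z' z hz₁ hzsurj h2
    exact repByAlgSpWith_of_locQ _ hPF
      (Groth.Agent.Lib.Helper66.AlgStPFacts.stableBC_locP _ listed_flat) isLocalOnBase_fppf_locP_flat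
      (isFibGrpd_overForget _) h𝒵.isStack.1 z' hz1 h3

end Groth.Agent.Lib.Helper66.ResGerbe
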