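import Groth.Agent.Lib.Helper66.ResGerbe2
import Groth.Agent.Lib.Helper54.Reduced
import Groth.Agent.Lib.Helper54.GenericPt
import Groth.Agent.Lib.Helper54.Noetherian
import Groth.Agent.S12999

/-!
# Helper66: reduced one-point algebraic stacks and field points
-/

set_option autoImplicit false
set_option backward.isDefEq.respectTransparency false
set_option backward.isDefEq.respectTransparency.types false

universe u

open CategoryTheory CategoryTheory.Functor CategoryTheory.Limits Opposite AlgebraicGeometry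

namespace Groth.Agent.Lib.Helper66.ResGerbe

open FibCat Groth.Agent.Lib.Helper31 Groth.Agent.Lib.Helper65 Groth.Agent.Lib.Helper66
  Groth.Agent.Lib.Helper66.AlgStLocQSq Groth.Agent.Lib.Helper65.LocQFlat

variable {S : Scheme.{u}} {𝒳 𝒴 𝒵 : AlgSt.Cat S}

/-- A stack covered by a flat surjective morphism from the spectrum of a field is reduced. -/
theorem reduced_of_fieldPt (h𝒵 : AlgSt.IsAlgStack Scheme.fppfPrecoverage 𝒵)
    {k : Type u} [Field k] (a : Spec (CommRingCat.of k) ⟶ S)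
    (z : FibCat.overCat (Over.mk a) ⥤ᵇ 𝒵)
    (hzs : AlgSt.RepByAlgSpWith AlgSp.IsSurjectiveMor z) (hzf : AlgSt.RepByAlgSpWith (AlgSp.LocP @Flat) z) :
    AlgSt.SmoothLocally (fun T => IsReduced T) 𝒵 := by
  intro U x hx
  obtain ⟨V, g, r, hgf, -, hgs, hrs, -⟩ := exists_chart_pair @Flat listed_flat h𝒵 (Over.mk a) z hzs hzf hzf U x hx
  have h1 : Smooth (r.left : V.left ⟶ Spec (CommRingCat.of k)) := hrs
  have h0 : IsReduced (Spec (CommRingCat.of k)) := inferInstance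
  have h2 : IsReduced V.left :=
    @Groth.Agent.Lib.Helper54.isReduced_of_smooth_scheme _ _
      (r.left : V.left ⟶ Spec (CommRingCat.of k)) h1 h0
  exact Groth.Agent.Lib.Helper54.isReduced_of_flat_of_surjective g.left

/-- A stack covered by a flat, locally finitely presented, surjective morphism from the spectrum of a field
is locally Noetherian. -/
theorem noeth_of_fieldPt (h𝒵 : AlgSt.IsAlgStack Scheme.fppfPrecoverage 𝒵)
    {k : Type u} [Field k] (a : Spec (CommRingCat.of k) ⟶ S)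
    (z : FibCat.overCat (Over.mk a) ⥤ᵇ 𝒵)
    (hzs : AlgSt.RepByAlgSpWith AlgSp.IsSurjectiveMor z) (hzf : AlgSt.RepByAlgSpWith (AlgSp.LocP @Flat) z)
    (hzp : AlgSt.RepByAlgSpWith (AlgSp.LocP @LocallyOfFinitePresentation) z) :
    AlgSt.SmoothLocally (fun T => IsLocallyNoetherian T) 𝒵 := by
  intro U x hx
  obtain ⟨V, g, r, hgf, hgp, hgs, hrs, -⟩ := exists_chart_pair @LocallyOfFinitePresentation
    (Or.inr (Or.inl rfl)) h𝒵 (Over.mk a) z hzs hzf hzp U x hx
  have h1 : Smooth (r.left : V.left ⟶ Spec (CommRingCat.of k)) := hrs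
  have h0 : IsLocallyNoetherian (Spec (CommRingCat.of k)) := inferInstance
  have h1' : LocallyOfFiniteType (r.left : V.left ⟶ Spec (CommRingCat.of k)) := inferInstance
  have h2 : IsLocallyNoetherian V.left :=
    @LocallyOfFiniteType.isLocallyNoetherian _ _
      (r.left : V.left ⟶ Spec (CommRingCat.of k)) h1' h0
  exact Groth.Agent.Lib.Helper54.isLocallyNoetherian_of_fppf g.left

/-- A stack covered by a surjective morphism from the spectrum of a field has exactly one point. -/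
theorem singleton_of_fieldPt (h𝒵 : AlgSt.IsAlgStack Scheme.fppfPrecoverage 𝒵)
    {k : Type u} [Field k] (a : Spec (CommRingCat.of k) ⟶ S)
    (z : FibCat.overCat (Over.mk a) ⥤ᵇ 𝒵)
    (hzs : AlgSt.RepByAlgSpWith AlgSp.IsSurjectiveMor z) :
    Nonempty (AlgSt.Points 𝒵) ∧ Subsingleton (AlgSt.Points 𝒵) := by
  have hzsurj : AlgSt.IsSurjective z :=
    isSurjective_of_repByAlgSpWith (isFibGrpd_overForget _) h𝒵.isStack.1 z hzs
  have hsub := subsingleton_points_field a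
  let t₀ : ↥(Over.mk a).left := IsLocalRing.closedPoint k
  refine ⟨⟨AlgSt.Points.map z (chartPt (Over.mk a) t₀)⟩, ⟨fun p q => ?_⟩⟩
  obtain ⟨p', rfl⟩ := hzsurj p
  obtain ⟨q', rfl⟩ := hzsurj q
  rw [Subsingleton.elim p' q']

/-- A morphism from a nonempty scheme to a one-point stack is surjective. -/
theorem surjective_of_singleton (h𝒵 : AlgSt.IsAlgStack Scheme.fppfPrecoverage 𝒵)
    (hsub : Subsingleton (AlgSt.Points 𝒵)) (W : Over S) (t : ↥W.left) (z : FibCat.overCat W ⥤ᵇ 𝒵) :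
    AlgSt.RepByAlgSpWith AlgSp.IsSurjectiveMor z := by
  apply repByAlgSpWith_isSurjectiveMor_of_isSurjective (isFibGrpd_overForget _) h𝒵.isStack.1 z
    (repByAlgSp1_of_diag h𝒵.diag _ z)
  intro p
  exact ⟨chartPt W t, Subsingleton.elim _ _⟩

/-- The atlas of a stack with a point is nonempty. -/
theorem atlas_nonempty (h𝒵 : AlgSt.IsAlgStack Scheme.fppfPrecoverage 𝒵) (hne : Nonempty (AlgSt.Points 𝒵))
    (W : Over S) (w : FibCat.overCat W ⥤ᵇ 𝒵) (hw2 : AlgSt.RepByAlgSpWith AlgSp.IsSurjectiveMor w) :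
    Nonempty ↥W.left := by
  obtain ⟨p⟩ := hne
  obtain ⟨q, -⟩ := isSurjective_of_repByAlgSpWith (isFibGrpd_overForget _) h𝒵.isStack.1 w hw2 p
  obtain ⟨t, -⟩ := (chartPt_bijective W).2 q
  exact ⟨t⟩

theorem listed_lft : Groth.Agent.Lib.Helper66.AlgStPFacts.Listed
    (@LocallyOfFiniteType : MorphismProperty Scheme.{u}) := Or.inl rfl

theorem listed_lfp : Groth.Agent.Lib.Helper66.AlgStPFacts.Listed
    (@LocallyOfFinitePresentation : MorphismProperty Scheme.{u}) := Or.inr (Or.inl rfl)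

/-- (1) ⟹ (2): a reduced one-point stack receives a surjective flat morphism from the spectrum of a field. -/
theorem exists_flat_fieldPt_of_reduced (h𝒵 : AlgSt.IsAlgStack Scheme.fppfPrecoverage 𝒵)
    (hred : AlgSt.SmoothLocally (fun T => IsReduced T) 𝒵) (hne : Nonempty (AlgSt.Points 𝒵))
    (hsub : Subsingleton (AlgSt.Points 𝒵)) :
    ∃ (k : Type u) (_ : Field k) (a : Spec (CommRingCat.of k) ⟶ S)
      (z : FibCat.overCat (Over.mk a) ⥤ᵇ 𝒵), AlgSt.RepByAlgSpWith AlgSp.IsSurjectiveMor z ∧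
        AlgSt.RepByAlgSpWith (AlgSp.LocP @Flat) z := by
  obtain ⟨W, w, hw1, hw2⟩ := h𝒵.atlas
  have hWred : IsReduced W.left := hred W w hw1
  obtain ⟨x₀⟩ := atlas_nonempty h𝒵 hne W w hw2
  obtain ⟨η, -, hη⟩ := Groth.Agent.Lib.Helper54.exists_isField_stalk W.left x₀
  have hfl : Flat (W.left.fromSpecResidueField η) :=
    Groth.Agent.Lib.Helper54.flat_fromSpecResidueField_of_isField W.left η hη
  let h : Over.mk (W.left.fromSpecResidueField η ≫ W.hom) ⟶ W :=
    Over.homMk (W.left.fromSpecResidueField η) rfl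
  refine ⟨↥(W.left.residueField η), inferInstance, W.left.fromSpecResidueField η ≫ W.hom,
    BasedFunctor.comp (AlgSt.overMap h) w, ?_, ?_⟩
  · exact surjective_of_singleton h𝒵 hsub _ (IsLocalRing.closedPoint _) _
  · exact repByAlgSpWith_overMap_comp_of_smoothLocal _ isSmoothLocalST_locP_flat
      (Groth.Agent.Lib.Helper66.AlgStPFacts.stableBC_locP _ listed_flat) isLocalOnBase_fppf_locP_flat h
      (locP_flat_yon_map h hfl) w hw1

/-- (2) ⟹ (3): then it also receives a locally of finite type, surjective, flat one. -/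
theorem exists_lft_fieldPt (h𝒵 : AlgSt.IsAlgStack Scheme.fppfPrecoverage 𝒵)
    {k : Type u} [Field k] (a : Spec (CommRingCat.of k) ⟶ S)
    (z : FibCat.overCat (Over.mk a) ⥤ᵇ 𝒵)
    (hzs : AlgSt.RepByAlgSpWith AlgSp.IsSurjectiveMor z) (hzf : AlgSt.RepByAlgSpWith (AlgSp.LocP @Flat) z) :
    ∃ (k' : Type u) (_ : Field k') (a' : Spec (CommRingCat.of k') ⟶ S)
      (z' : FibCat.overCat (Over.mk a') ⥤ᵇ 𝒵), AlgSt.RepByAlgSpWith (AlgSp.LocP @LocallyOfFiniteType) z' ∧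
        AlgSt.RepByAlgSpWith AlgSp.IsSurjectiveMor z' ∧ AlgSt.RepByAlgSpWith (AlgSp.LocP @Flat) z' := by
  obtain ⟨W, w, hw1, hw2⟩ := h𝒵.atlas
  obtain ⟨x₀⟩ := atlas_nonempty h𝒵 (singleton_of_fieldPt h𝒵 a z hzs).1 W w hw2
  let 𝒰 := W.left.affineCover
  obtain ⟨v₀, -⟩ := 𝒰.covers x₀
  obtain ⟨v, -, hv⟩ := IsClosed.exists_closed_singleton (X := ↥(𝒰.X (𝒰.idx x₀))) isClosed_univ ⟨v₀, trivial⟩
  have hci : IsClosedImmersion ((𝒰.X (𝒰.idx x₀)).fromSpecResidueField v) :=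
    isClosed_singleton_iff_isClosedImmersion.1 hv
  have hlft : LocallyOfFiniteType ((𝒰.X (𝒰.idx x₀)).fromSpecResidueField v ≫ 𝒰.f (𝒰.idx x₀)) :=
    inferInstance
  let h : Over.mk (((𝒰.X (𝒰.idx x₀)).fromSpecResidueField v ≫ 𝒰.f (𝒰.idx x₀)) ≫ W.hom) ⟶ W :=
    Over.homMk ((𝒰.X (𝒰.idx x₀)).fromSpecResidueField v ≫ 𝒰.f (𝒰.idx x₀)) rfl
  have h3 := surjective_flat_fieldPt h𝒵 a z hzs hzf
    (k' := ↥((𝒰.X (𝒰.idx x₀)).residueField v))
    (((𝒰.X (𝒰.idx x₀)).fromSpecResidueField v ≫ 𝒰.f (𝒰.idx x₀)) ≫ W.hom)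
    (BasedFunctor.comp (AlgSt.overMap h) w)
  refine ⟨↥((𝒰.X (𝒰.idx x₀)).residueField v), inferInstance,
    ((𝒰.X (𝒰.idx x₀)).fromSpecResidueField v ≫ 𝒰.f (𝒰.idx x₀)) ≫ W.hom,
    BasedFunctor.comp (AlgSt.overMap h) w, ?_, h3.1, h3.2⟩
  exact repByAlgSpWith_overMap_comp_of_smoothLocal _
    Groth.Agent.Lib.Helper66.AlgSpSmLocalLft.isSmoothLocalST_locP_lft
    (Groth.Agent.Lib.Helper66.AlgStPFacts.stableBC_locP _ listed_lft) isLocalOnBase_fppf_locP_lft h
    (Groth.Agent.Lib.Helper66.LocQFppfDesc.locP_lft_yon_map h hlft) w hw1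

/-- Over a locally Noetherian stack, a representable morphism locally of finite type is locally of finite
presentation. -/
theorem repByAlgSpWith_lfp_of_lft_of_noeth (h𝒳 : AlgSt.IsAlgStack Scheme.fppfPrecoverage 𝒳)
    (h𝒵 : AlgSt.IsAlgStack Scheme.fppfPrecoverage 𝒵)
    (hN : AlgSt.SmoothLocally (fun T => IsLocallyNoetherian T) 𝒵) (f : 𝒳 ⥤ᵇ 𝒵)
    (hf : AlgSt.RepByAlgSpWith (AlgSp.LocP @LocallyOfFiniteType) f) :
    AlgSt.RepByAlgSpWith (AlgSp.LocP @LocallyOfFinitePresentation) f := by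
  have h1 : AlgSt.LocQ (AlgSp.LocP @LocallyOfFiniteType) f :=
    locQ_of_repByAlgSpWith' _ (Groth.Agent.Lib.Helper66.AlgStPFacts.stableBC_locP _ listed_lft)
      (fun X Y Z a b ha hb => Groth.Agent.Lib.Helper54.locP_precomp_isEtaleMor ha hb)
      h𝒳.isStack.1 h𝒵.isStack.1 h𝒵.atlas f hf
  have h2 := Groth.Agent.S12999.result S 𝒳 𝒵 h𝒳 h𝒵 f hN h1
  exact repByAlgSpWith_of_locQ _ Groth.Agent.Lib.Helper66.AlgSpSmLocalLft.isSmoothLocalST_locP_lfp
    (Groth.Agent.Lib.Helper66.AlgStPFacts.stableBC_locP _ listed_lfp) isLocalOnBase_fppf_locP_lfp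
    h𝒳.isStack.1 h𝒵.isStack.1 f (repByAlgSp1_of_repByAlgSpWith hf) h2

end Groth.Agent.Lib.Helper66.ResGerbe
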