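import Groth.Agent.Lib.Helper66.ClosedSubSt
import Groth.Agent.Lib.Helper66.ResGerbe3
import Groth.Agent.Lib.Helper65.SubStImm
import Groth.Agent.Lib.Helper65.MonoFull
import Groth.Agent.H52.MonoField

/-!
# Helper66: monomorphisms into one-point stacks dominated by a field
-/

set_option autoImplicit false
set_option backward.isDefEq.respectTransparency false
set_option backward.isDefEq.respectTransparency.types false

universe u

open CategoryTheory CategoryTheory.Functor CategoryTheory.Limits Opposite AlgebraicGeometry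

namespace Groth.Agent.Lib.Helper66.ResGerbe

open FibCat Groth.Agent.Lib.Helper31 Groth.Agent.Lib.Helper65 Groth.Agent.Lib.Helper66.ClosedSubSt

variable {S : Scheme.{u}} {𝒳 𝒴 : AlgSt.Cat S}

/-- A section of the base change of `f` along a chart `z` exhibits the tautological object of the chart
as lying in the essential image of `f`. -/
theorem essImage_of_section {W : Over S} (z : FibCat.overCat W ⥤ᵇ 𝒳) (f : 𝒴 ⥤ᵇ 𝒳) (G : AlgSp.Sp S)
    (e : AlgSt.ofSp G ⥤ᵇ fp z f) (g : (AlgSp.yon S).obj W ⟶ G)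
    (hs : g ≫ AlgSt.spMapOfOver (BasedFunctor.comp e (fpFst z f)) = 𝟙 _) :
    essImage f (z.obj (Over.mk (𝟙 W))) := by
  let Ψ : FibCat.overCat W ⥤ᵇ fp z f :=
    BasedFunctor.comp (AlgSt.ofOverCat W) (BasedFunctor.comp (AlgSt.ofSpMap g) e)
  have hid : BasedFunctor.comp (BasedFunctor.comp (AlgSt.ofOverCat W) (AlgSt.ofSpMap g))
      (BasedFunctor.comp (AlgSt.ofSpMap
        (AlgSt.spMapOfOver (BasedFunctor.comp e (fpFst z f))))
        (AlgSt.toOverCat W)) = BasedFunctor.id _ := by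
    change BasedFunctor.comp (AlgSt.ofOverCat W) (BasedFunctor.comp (AlgSt.ofSpMap
      (g ≫ AlgSt.spMapOfOver (BasedFunctor.comp e (fpFst z f))))
      (AlgSt.toOverCat W)) = _
    rw [hs]
    rfl
  let i : BasedFunctor.comp Ψ (fpFst z f) ≅ BasedFunctor.id _ :=
    bWhiskerLeftIso (BasedFunctor.comp (AlgSt.ofOverCat W) (AlgSt.ofSpMap g))
      (isoSpMapOfOver (BasedFunctor.comp e (fpFst z f))) ≪≫ eqToIso hid
  let a₀ : Over W := Over.mk (𝟙 W)
  exact ⟨(Ψ.obj a₀).obj.snd,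
    ⟨((Ψ.obj a₀).obj.iso).symm ≪≫ z.toFunctor.mapIso ((basedIsoToNatIso i).app a₀)⟩⟩

/-- A monomorphism from a nonempty algebraic stack to an algebraic stack dominated (flat, locally finitely
presented, surjective) by the spectrum of a field is an equivalence. -/
theorem isEquivOver_of_isMono_of_fieldPt (h𝒴 : AlgSt.IsAlgStack Scheme.fppfPrecoverage 𝒴)
    (h𝒳 : AlgSt.IsAlgStack Scheme.fppfPrecoverage 𝒳) (f : 𝒴 ⥤ᵇ 𝒳) (hf : AlgSt.IsMono f)
    {k : Type u} [Field k] (a : Spec (CommRingCat.of k) ⟶ S)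
    (z : FibCat.overCat (Over.mk a) ⥤ᵇ 𝒳)
    (hzp : AlgSt.RepByAlgSpWith (AlgSp.LocP @LocallyOfFinitePresentation) z)
    (hzs : AlgSt.RepByAlgSpWith AlgSp.IsSurjectiveMor z)
    (hzf : AlgSt.RepByAlgSpWith (AlgSp.LocP @Flat) z) (hne : Nonempty (AlgSt.Points 𝒴)) :
    FibCat.IsEquivOver f := by
  obtain ⟨hfull, hfaith⟩ := full_faithful_of_isMono h𝒴.isStack.1 h𝒳.isStack.1 f hf
  have hQi : ObjectProperty.IsClosedUnderIsomorphisms (essImage f) := essImage_isClosedUnderIsomorphisms f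
  have hequiv : IsEquivOver (toEssImage f) := toEssImage_isEquivOver h𝒴.isStack.1 h𝒳.isStack.1 f
  have hsubfib : IsFibGrpd (AlgSt.fullSub 𝒳 (essImage f)).p :=
    isFibGrpd_of_equivOver (toEssImage f) hequiv h𝒴.isStack.1
  have hpull : ∀ ⦃y' y : 𝒳.obj⦄ (_ : y' ⟶ y), essImage f y → essImage f y' := fun _ _ φ h =>
    prop_of_hom_of_isFibGrpd_fullSub (essImage f) h𝒳.isStack.1 hQi hsubfib φ h
  obtain ⟨-, hsub⟩ := singleton_of_fieldPt h𝒳 a z hzs
  have hus : AlgSt.IsSurjective z :=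
    isSurjective_of_repByAlgSpWith (isFibGrpd_overForget _) h𝒳.isStack.1 z hzs
  -- step 1: the tautological object of the chart
  have hQW : essImage f (z.obj (Over.mk (𝟙 (Over.mk a)))) := by
    obtain ⟨G, e, he, hm⟩ := hf (Over.mk a) z
    have hm' : Mono (AlgSt.spMapOfOver (BasedFunctor.comp e (fpFst z f))) := hm
    obtain ⟨x'⟩ := hne
    let t₀ : ↥(Over.mk a).left := IsLocalRing.closedPoint k
    obtain ⟨w₁, -, -⟩ := exists_points_fp h𝒴.isStack.1 h𝒳.isStack.1
      (isFibGrpd_overForget (Over.mk a)) f z (chartPt (Over.mk a) t₀) x' (Subsingleton.elim _ _)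
    obtain ⟨w₂, -⟩ := (points_map_bijective_of_isEquivOver e he).2 w₁
    have hiso : IsIso (AlgSt.spMapOfOver (BasedFunctor.comp e (fpFst z f))) :=
      Groth.Agent.H52.isIso_of_mono_to_field a G.property _ ⟨ptsEquiv G.obj w₂⟩
    exact essImage_of_section z f G.obj e (inv (AlgSt.spMapOfOver (BasedFunctor.comp e (fpFst z f))))
      (IsIso.inv_hom_id _)
  have hQc : ∀ c : Over (Over.mk a), essImage f (z.obj c) := fun c =>
    hpull (z.map (Over.homMk c.hom (Category.comp_id _) : c ⟶ Over.mk (𝟙 (Over.mk a)))) hQW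
  -- step 2: a general object, fppf locally
  have hall : ∀ y₀ : 𝒳.obj, essImage f y₀ := by
    intro y₀
    obtain ⟨Y, ⟨ey⟩⟩ := exists_functor_of_obj h𝒳.isStack.1 y₀
    obtain ⟨V, g, x', ⟨i⟩, hfl, hfp, hpts⟩ :=
      Groth.Agent.Lib.Helper65.FppfLift.exists_chart_lift h𝒳.isStack.1 (isFibGrpd_overForget (Over.mk a))
        z hzf hzp (𝒳.p.obj y₀) Y
    have hgs : Surjective g.left := by
      refine ⟨fun t => ?_⟩
      obtain ⟨z', hz'⟩ : ∃ z' : AlgSt.Points (FibCat.overCat (𝒳.p.obj y₀)),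
          (AlgSp.Points.schemeHomeo (𝒳.p.obj y₀)).symm (overPts (𝒳.p.obj y₀) z') = t := by
        obtain ⟨z', hz'⟩ := (overPts_bijective (𝒳.p.obj y₀)).2 (AlgSp.Points.schemeHomeo (𝒳.p.obj y₀) t)
        exact ⟨z', by rw [hz']; simp⟩
      obtain ⟨r, hr⟩ := hus (AlgSt.Points.map Y z')
      obtain ⟨v, hv⟩ := hpts z' ⟨r, hr.symm⟩
      exact ⟨v, hv.trans hz'⟩
    let R : Sieve (𝒳.p.obj y₀) := Sieve.generate (Presieve.singleton g)
    have hR : R ∈ AlgSp.J S (𝒳.p.obj y₀) :=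
      Groth.Agent.Lib.Helper51.mem_J_of_fppf g R ⟨V, 𝟙 V, g, Presieve.singleton_self g, Category.id_comp g⟩
    have hQV : essImage f (Y.obj ((AlgSt.overMap g).obj (Over.mk (𝟙 V)))) :=
      hQi.of_iso ((basedIsoToNatIso i).app (Over.mk (𝟙 V))) (hQc _)
    have hallb : ∀ b : (Stk.sieveCat R).obj, essImage f (Y.obj b.obj) := by
      intro b
      obtain ⟨W, h, k', hk, hcomp⟩ := b.property
      cases hk
      let m : b.obj ⟶ (AlgSt.overMap g).obj (Over.mk (𝟙 V)) :=
        Over.homMk h (by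
          change h ≫ (𝟙 V ≫ g) = b.obj.hom
          rw [Category.id_comp]
          exact hcomp)
      exact hpull (Y.map m) hQV
    have hfin : essImage f (Y.obj (Over.mk (𝟙 (𝒳.p.obj y₀)))) :=
      prop_of_sieve (essImage f) hQi R (h𝒳.isStack.2 R hR)
        (isStackFor_of_equivOver R (toEssImage f) hequiv (h𝒴.isStack.2 R hR)) Y hallb _
    exact hQi.of_iso ey hfin
  -- step 3: essential surjectivity over the base
  apply isEquivOver_of_ff_ess f
  intro y
  obtain ⟨x, ε, hε⟩ := toEssImage_essSurjOver h𝒴.isStack.1 h𝒳.isStack.1 f ⟨y, hall y⟩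
  refine ⟨x, (ObjectProperty.ι (essImage f)).mapIso ε, ?_⟩
  exact (fullSub_isHomLift_iff (essImage f) (𝟙 _) ε.hom).1 hε

end Groth.Agent.Lib.Helper66.ResGerbe
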