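import Groth.Agent.Lib.Helper66.ResGerbe4
import Groth.Agent.Lib.Helper66.MonoOfFull
import Groth.Prelude.Def_StGerb

/-!
# Helper66: field-valued points in the class of `x` factor through the residual gerbe
-/

set_option autoImplicit false
set_option backward.isDefEq.respectTransparency false
set_option backward.isDefEq.respectTransparency.types false

universe u

open CategoryTheory CategoryTheory.Functor CategoryTheory.Limits Opposite AlgebraicGeometry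

namespace Groth.Agent.Lib.Helper66.ResGerbe

open FibCat Groth.Agent.Lib.Helper31 Groth.Agent.Lib.Helper65 Groth.Agent.Lib.Helper66.ClosedSubSt

variable {S : Scheme.{u}} {𝒳 𝒴 : AlgSt.Cat S}

instance subIncl_full (Q : 𝒳.obj → Prop) : (AlgSt.subIncl 𝒳 Q).toFunctor.Full :=
  inferInstanceAs (ObjectProperty.ι Q).Full

instance subIncl_faithful (Q : 𝒳.obj → Prop) : (AlgSt.subIncl 𝒳 Q).toFunctor.Faithful :=
  inferInstanceAs (ObjectProperty.ι Q).Faithful

theorem essImage_subIncl_iff (Q : 𝒳.obj → Prop) (hQi : ObjectProperty.IsClosedUnderIsomorphisms Q)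
    (y : 𝒳.obj) : essImage (AlgSt.subIncl 𝒳 Q) y ↔ Q y := by
  constructor
  · rintro ⟨z, ⟨e⟩⟩
    exact hQi.of_iso e z.property
  · intro h
    exact ⟨⟨y, h⟩, ⟨Iso.refl _⟩⟩

/-- All objects of a field-valued point in the class of `x` lie in the residual gerbe at `x`. -/
theorem prop_of_fieldPt (h𝒳 : AlgSt.IsAlgStack Scheme.fppfPrecoverage 𝒳) (x : AlgSt.Points 𝒳)
    (Q : 𝒳.obj → Prop) (hQ : Gerb.IsResGerbe Scheme.fppfPrecoverage 𝒳 x Q)
    {K : Type u} [Field K] (a : Spec (CommRingCat.of K) ⟶ S)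
    (p : FibCat.overCat (Over.mk a) ⥤ᵇ 𝒳)
    (hp : ∀ t : ↥(Over.mk a).left, AlgSt.Points.ofChart p t = x) (c : Over (Over.mk a)) :
    Q (p.obj c) := by
  obtain ⟨hQi, h𝒵, -, -, ⟨z₀⟩, -, hzx⟩ := hQ
  have hmono : AlgSt.IsMono (AlgSt.subIncl 𝒳 Q) :=
    Groth.Agent.Lib.Helper66.MonoOfFull.isMono_of_full_faithful h𝒵 h𝒳 (AlgSt.subIncl 𝒳 Q)
  have hpull : ∀ ⦃y' y : 𝒳.obj⦄ (_ : y' ⟶ y), Q y → Q y' := fun _ _ φ h =>
    prop_of_hom_of_isFibGrpd_fullSub Q h𝒳.isStack.1 hQi h𝒵.isStack.1 φ h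
  have hQW : Q (p.obj (Over.mk (𝟙 (Over.mk a)))) := by
    rw [← essImage_subIncl_iff Q hQi]
    obtain ⟨G, e, he, hm⟩ := hmono (Over.mk a) p
    have hm' : Mono (AlgSt.spMapOfOver (BasedFunctor.comp e (fpFst p (AlgSt.subIncl 𝒳 Q)))) := hm
    let t₀ : ↥(Over.mk a).left := IsLocalRing.closedPoint K
    obtain ⟨w₁, -, -⟩ := exists_points_fp h𝒵.isStack.1 h𝒳.isStack.1
      (isFibGrpd_overForget (Over.mk a)) (AlgSt.subIncl 𝒳 Q) p (chartPt (Over.mk a) t₀) z₀
      ((ofChart_eq p t₀).symm.trans ((hp t₀).trans (hzx z₀).symm))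
    obtain ⟨w₂, -⟩ := (points_map_bijective_of_isEquivOver e he).2 w₁
    have hiso : IsIso (AlgSt.spMapOfOver (BasedFunctor.comp e (fpFst p (AlgSt.subIncl 𝒳 Q)))) :=
      Groth.Agent.H52.isIso_of_mono_to_field a G.property _ ⟨ptsEquiv G.obj w₂⟩
    exact essImage_of_section p (AlgSt.subIncl 𝒳 Q) G.obj e
      (inv (AlgSt.spMapOfOver (BasedFunctor.comp e (fpFst p (AlgSt.subIncl 𝒳 Q)))))
      (IsIso.inv_hom_id _)
  exact hpull (p.map (Over.homMk c.hom (Category.comp_id _) : c ⟶ Over.mk (𝟙 (Over.mk a)))) hQW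

end Groth.Agent.Lib.Helper66.ResGerbe
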