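import Mathlib
import Groth.Agent.Lib.Helper24.SmoothLocusField
import Groth.Agent.Lib.Helper24.UnramifiedLocus
import Groth.Agent.Lib.Helper14.SmoothFlatDescent
import Groth.Agent.Lib.Helper14.SmoothFibre

/-!
# Helper66, smooth bootstrap 1: being étale in a neighbourhood of a point, base change and flat descent
-/

set_option autoImplicit false

universe u

open CategoryTheory CategoryTheory.Limits AlgebraicGeometry

namespace Groth.Agent.Lib.Helper66.SmBoot

variable {X Y : Scheme.{u}}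

/-- `f` is étale on an open neighbourhood of `x`. -/
def EtaleAt (f : X ⟶ Y) (x : X) : Prop := ∃ N : X.Opens, x ∈ N ∧ Etale (N.ι ≫ f)

theorem etaleAt_iff (f : X ⟶ Y) [LocallyOfFinitePresentation f] (x : X) :
    EtaleAt f x ↔ x ∈ f.smoothLocus ∧ (f.stalkMap x).hom.FormallyUnramified := by
  constructor
  · rintro ⟨N, hxN, hN⟩
    refine ⟨Groth.Agent.Lib.Helper24.le_smoothLocus_of_smooth f N inferInstance hxN, ?_⟩
    exact (Groth.Agent.Lib.Helper24.formallyUnramified_ι_comp_iff f N).mp inferInstance x hxN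
  · rintro ⟨h1, h2⟩
    refine ⟨f.smoothLocus ⊓ Groth.Agent.Lib.Helper24.unramifiedLocus f, ⟨h1, h2⟩, ?_⟩
    have hsm : Smooth ((f.smoothLocus ⊓ Groth.Agent.Lib.Helper24.unramifiedLocus f).ι ≫ f) :=
      Groth.Agent.Lib.Helper24.smooth_ι_comp_of_le_smoothLocus f _ inf_le_left
    have hun : FormallyUnramified
        ((f.smoothLocus ⊓ Groth.Agent.Lib.Helper24.unramifiedLocus f).ι ≫ f) :=
      (Groth.Agent.Lib.Helper24.formallyUnramified_ι_comp_iff f _).mpr fun y hy => hy.2
    exact Etale.of_formallyUnramified_of_flat _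

theorem isOpen_setOf_etaleAt (f : X ⟶ Y) : IsOpen {x | EtaleAt f x} := by
  rw [isOpen_iff_forall_mem_open]
  rintro x ⟨N, hxN, hN⟩
  exact ⟨N, fun y hy => ⟨N, hy, hN⟩, N.2, hxN⟩

/-- The étale locus as an open. -/
def etaleLocus (f : X ⟶ Y) : X.Opens := ⟨{x | EtaleAt f x}, isOpen_setOf_etaleAt f⟩

theorem mem_etaleLocus (f : X ⟶ Y) (x : X) : x ∈ etaleLocus f ↔ EtaleAt f x := Iff.rfl

theorem etale_ι_comp_of_le_etaleLocus (f : X ⟶ Y) [LocallyOfFinitePresentation f] (N : X.Opens)
    (h : N ≤ etaleLocus f) : Etale (N.ι ≫ f) := by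
  have hsm : Smooth (N.ι ≫ f) :=
    Groth.Agent.Lib.Helper24.smooth_ι_comp_of_le_smoothLocus f N
      (fun x hx => ((etaleAt_iff f x).1 (h hx)).1)
  have hun : FormallyUnramified (N.ι ≫ f) :=
    (Groth.Agent.Lib.Helper24.formallyUnramified_ι_comp_iff f N).mpr
      fun x hx => ((etaleAt_iff f x).1 (h hx)).2
  exact Etale.of_formallyUnramified_of_flat _

theorem etaleAt_of_etale (f : X ⟶ Y) [Etale f] (x : X) : EtaleAt f x :=
  ⟨⊤, trivial, inferInstance⟩

/-- Being étale near a point is stable under base change. -/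
theorem etaleAt_of_isPullback {P X S S' : Scheme.{u}} {g' : P ⟶ X} {f' : P ⟶ S'} {f : X ⟶ S}
    {g : S' ⟶ S} (H : IsPullback g' f' f g) (x' : P) (hx : EtaleAt f (g' x')) : EtaleAt f' x' := by
  obtain ⟨N, hxN, hN⟩ := hx
  refine ⟨g' ⁻¹ᵁ N, hxN, ?_⟩
  have h1 := (isPullback_morphismRestrict g' N).paste_vert H
  exact MorphismProperty.of_isPullback (P := @Etale) h1 hN

/-- Being étale near a point descends along flat base change. -/
theorem etaleAt_fst_of_isPullback {P X S S' : Scheme.{u}} {g' : P ⟶ X} {f' : P ⟶ S'} {f : X ⟶ S}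
    {g : S' ⟶ S} (H : IsPullback g' f' f g) [LocallyOfFinitePresentation f] [Flat g] (x' : P)
    (hx' : EtaleAt f' x') : EtaleAt f (g' x') := by
  have : LocallyOfFinitePresentation f' := MorphismProperty.of_isPullback H inferInstance
  rw [etaleAt_iff] at hx' ⊢
  refine ⟨Groth.Agent.Lib.Helper14.mem_smoothLocus_fst_of_isPullback H x'
    (Flat.stalkMap g (f' x')) hx'.1, ?_⟩
  exact (Groth.Agent.Lib.Helper24.formallyUnramified_stalkMap_iff_of_isPullback H x').mp hx'.2

end Groth.Agent.Lib.Helper66.SmBoot
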