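import Groth.Agent.Lib.Helper66.SmBoot1
import Groth.Agent.H52.Descent

/-!
# Helper66, smooth bootstrap 2: the étale locus of `U ×_G X ⟶ U` is saturated over `X`
-/

set_option autoImplicit false

universe u

open CategoryTheory CategoryTheory.Limits AlgebraicGeometry

namespace Groth.Agent.Lib.Helper66.SmBoot

open AlgSp

variable {S : Scheme.{u}} {G : Sp S} {U X R₀ RX : Over S}

/-- Let `p : h_U ⟶ G` have the representable kernel pair `R₀ ⇉ U` with `t₀` flat, and let `x : h_X ⟶ G` have
the representable pullback `RX = U ×_G X`.  Then the locus of `RX` where `RX ⟶ U` is étale is a union of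
fibres of `RX ⟶ X`. -/
theorem etaleAt_of_same_image (p : (yon S).obj U ⟶ G) (x : (yon S).obj X ⟶ G)
    (s₀ t₀ : R₀ ⟶ U) (sq₀ : IsPullback ((yon S).map s₀) ((yon S).map t₀) p p)
    (sX : RX ⟶ U) (tX : RX ⟶ X) (sqX : IsPullback ((yon S).map sX) ((yon S).map tX) p x)
    [Flat t₀.left] [LocallyOfFinitePresentation sX.left]
    (z z' : RX.left) (h : tX.left z = tX.left z') (hz : EtaleAt sX.left z) : EtaleAt sX.left z' := by
  -- the scheme of triples
  let π₁ : pullback t₀ sX ⟶ R₀ := pullback.fst t₀ sX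
  let π₂ : pullback t₀ sX ⟶ RX := pullback.snd t₀ sX
  have sqP : IsPullback π₁ π₂ t₀ sX := IsPullback.of_hasPullback t₀ sX
  have sqP' : IsPullback ((yon S).map π₁) ((yon S).map π₂) ((yon S).map t₀) ((yon S).map sX) :=
    sqP.map (yon S)
  -- the composition map
  have hw : ((yon S).map π₁ ≫ (yon S).map s₀) ≫ p = ((yon S).map π₂ ≫ (yon S).map tX) ≫ x := by
    rw [Category.assoc, sq₀.w, ← Category.assoc, sqP'.w, Category.assoc, sqX.w, Category.assoc]
  let comp' : (yon S).obj (pullback t₀ sX) ⟶ (yon S).obj RX := sqX.lift _ _ hw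
  have hc1' : comp' ≫ (yon S).map sX = (yon S).map π₁ ≫ (yon S).map s₀ := sqX.lift_fst _ _ hw
  have hc2' : comp' ≫ (yon S).map tX = (yon S).map π₂ ≫ (yon S).map tX := sqX.lift_snd _ _ hw
  obtain ⟨comp, hcomp⟩ := (yon S).map_surjective comp'
  rw [← hcomp] at hc1' hc2'
  -- first square: `π₁` is the base change of `sX` along `s₀`
  have sq1' : IsPullback ((yon S).map comp) ((yon S).map π₁) ((yon S).map sX) ((yon S).map s₀) := by
    have hout : IsPullback ((yon S).map π₂ ≫ (yon S).map tX) ((yon S).map π₁) x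
        ((yon S).map t₀ ≫ p) := sqP'.flip.paste_horiz sqX.flip
    rw [← hc2', ← sq₀.w] at hout
    exact IsPullback.of_right hout hc1' sqX.flip
  -- third square: pairs with the same image in `X`
  have sq3' : IsPullback ((yon S).map comp) ((yon S).map π₂) ((yon S).map tX) ((yon S).map tX) := by
    have hout : IsPullback ((yon S).map π₁ ≫ (yon S).map s₀) ((yon S).map π₂) p
        ((yon S).map sX ≫ p) := sqP'.paste_horiz sq₀
    rw [← hc1', sqX.w] at hout
    exact IsPullback.of_right hout hc2' sqX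
  have sq1 : IsPullback comp.left π₁.left sX.left s₀.left :=
    Groth.Agent.H52.isPullback_left_of_isPullback_yon sq1'
  have sq3 : IsPullback comp.left π₂.left tX.left tX.left :=
    Groth.Agent.H52.isPullback_left_of_isPullback_yon sq3'
  have sq2 : IsPullback π₂.left π₁.left sX.left t₀.left := (sqP.map (Over.forget S)).flip
  obtain ⟨ζ, hζ1, hζ2⟩ := AlgebraicGeometry.Scheme.exists_preimage_of_isPullback sq3 z z' h
  have h1 : EtaleAt π₁.left ζ := etaleAt_of_isPullback sq1 ζ (by rw [hζ1]; exact hz)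
  have h2 := etaleAt_fst_of_isPullback sq2 ζ h1
  rwa [hζ2] at h2

end Groth.Agent.Lib.Helper66.SmBoot
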