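import Mathlib
import Groth.Agent.Lib.Helper7.SmoothSlice

/-!
# Helper66, smooth bootstrap 3: étale charts with coordinates pulled back along a second map
-/

set_option autoImplicit false

universe u

open TensorProduct KaehlerDifferential MvPolynomial

namespace Groth.Agent.Lib.Helper66.SmBoot

variable {A B : Type u} [CommRing A] [CommRing B] [Algebra A B]

/-- If the structure map `A → B` and a second map `τ : A → B` are jointly epimorphic, then the differentials of
the elements `τ a` span `Ω[B/A]`. -/
theorem span_D_range_of_jointly_epi (τ : A →+* B)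
    (hepi : ∀ (D : Type u) [CommRing D] (φ ψ : B →+* D),
      φ.comp (algebraMap A B) = ψ.comp (algebraMap A B) → φ.comp τ = ψ.comp τ → φ = ψ) :
    Submodule.span B (Set.range fun a : A => D A B (τ a)) = ⊤ := by
  classical
  set N : Submodule B Ω[B⁄A] := Submodule.span B (Set.range fun a : A => D A B (τ a)) with hN
  let C : Subalgebra A B := Algebra.adjoin A (Set.range τ)
  -- `B` is formally unramified over `C`
  have hunr : Algebra.FormallyUnramified C B := by
    rw [Algebra.FormallyUnramified.iff_comp_injective]
    intro E _ _ I _ f₁ f₂ _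
    have h1 : f₁.toRingHom.comp (algebraMap A B) = f₂.toRingHom.comp (algebraMap A B) := by
      ext a
      have e : algebraMap A B a = algebraMap C B (algebraMap A C a) := rfl
      simp only [RingHom.comp_apply, AlgHom.toRingHom_eq_coe, RingHom.coe_coe, e, AlgHom.commutes]
    have h2 : f₁.toRingHom.comp τ = f₂.toRingHom.comp τ := by
      ext a
      have e : τ a = algebraMap C B ⟨τ a, Algebra.subset_adjoin ⟨a, rfl⟩⟩ := rfl
      simp only [RingHom.comp_apply, AlgHom.toRingHom_eq_coe, RingHom.coe_coe]
      rw [e, AlgHom.commutes, AlgHom.commutes]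
    have h3 := hepi E f₁.toRingHom f₂.toRingHom h1 h2
    ext b
    exact RingHom.congr_fun h3 b
  have hsub : Subsingleton Ω[B⁄C] := inferInstance
  -- differentials of elements of `C` lie in `N`
  have hC : ∀ c : B, c ∈ C → D A B c ∈ N := by
    intro c hc
    induction hc using Algebra.adjoin_induction with
    | mem x hx =>
      obtain ⟨a, rfl⟩ := hx
      exact Submodule.subset_span ⟨a, rfl⟩
    | algebraMap r =>
      rw [Derivation.map_algebraMap]
      exact N.zero_mem
    | add x y _ _ hx hy =>
      rw [map_add]
      exact N.add_mem hx hy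
    | mul x y _ _ hx hy =>
      rw [Derivation.leibniz]
      exact N.add_mem (N.smul_mem _ hy) (N.smul_mem _ hx)
  rw [eq_top_iff]
  rintro ω -
  have hker : ω ∈ LinearMap.ker (KaehlerDifferential.map A C B B) := by
    rw [LinearMap.mem_ker]
    exact Subsingleton.elim _ _
  rw [← KaehlerDifferential.range_mapBaseChange] at hker
  obtain ⟨x, rfl⟩ := hker
  induction x using TensorProduct.induction_on with
  | zero => rw [map_zero]; exact N.zero_mem
  | add x y hx hy => rw [map_add]; exact N.add_mem hx hy
  | tmul b y =>
    rw [KaehlerDifferential.mapBaseChange_tmul]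
    apply N.smul_mem
    have hy : y ∈ Submodule.span C (Set.range (D A C)) := by
      rw [KaehlerDifferential.span_range_derivation]; trivial
    induction hy using Submodule.span_induction with
    | mem z hz =>
      obtain ⟨c, rfl⟩ := hz
      rw [KaehlerDifferential.map_D]
      exact hC _ c.2
    | zero => rw [map_zero]; exact N.zero_mem
    | add z w _ _ hz hw => rw [map_add]; exact N.add_mem hz hw
    | smul c z _ hz =>
      rw [map_smul]
      have : c • KaehlerDifferential.map A A C B z = (c : B) • KaehlerDifferential.map A A C B z := rfl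
      rw [this]
      exact N.smul_mem _ hz

/-- The residual version of the spanning statement. -/
theorem span_residue_tmul_D_range_of_jointly_epi (τ : A →+* B)
    (hepi : ∀ (D : Type u) [CommRing D] (φ ψ : B →+* D),
      φ.comp (algebraMap A B) = ψ.comp (algebraMap A B) → φ.comp τ = ψ.comp τ → φ = ψ)
    (m : Ideal B) [m.IsPrime] :
    Submodule.span m.ResidueField
      ((fun r : B => (1 : m.ResidueField) ⊗ₜ[B] D A B r) '' (Set.range τ)) = ⊤ := by
  have h0 := span_D_range_of_jointly_epi τ hepi
  rw [eq_top_iff]
  rintro z -
  induction z using TensorProduct.induction_on with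
  | zero => exact Submodule.zero_mem _
  | add x y hx hy => exact Submodule.add_mem _ hx hy
  | tmul c ω =>
    have hω : ω ∈ Submodule.span B (Set.range fun a : A => D A B (τ a)) := by rw [h0]; trivial
    induction hω using Submodule.span_induction with
    | mem w hw =>
      obtain ⟨a, rfl⟩ := hw
      have : c ⊗ₜ[B] D A B (τ a) = c • ((1 : m.ResidueField) ⊗ₜ[B] D A B (τ a)) := by
        rw [TensorProduct.smul_tmul', smul_eq_mul, mul_one]
      rw [this]
      exact Submodule.smul_mem _ _ (Submodule.subset_span ⟨τ a, ⟨a, rfl⟩, rfl⟩)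
    | zero => rw [TensorProduct.tmul_zero]; exact Submodule.zero_mem _
    | add w w' _ _ hw hw' => rw [TensorProduct.tmul_add]; exact Submodule.add_mem _ hw hw'
    | smul b w _ hw =>
      rw [TensorProduct.tmul_smul]
      have : b • (c ⊗ₜ[B] w) = (algebraMap B m.ResidueField b) • (c ⊗ₜ[B] w) := by
        rw [algebraMap_smul]
      rw [this]
      exact Submodule.smul_mem _ _ hw

/-- **Étale charts for a smooth algebra with coordinates in the image of a second map**. -/
theorem exists_chart_of_jointly_epi [Algebra.Smooth A B] (τ : A →+* B)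
    (hepi : ∀ (D : Type u) [CommRing D] (φ ψ : B →+* D),
      φ.comp (algebraMap A B) = ψ.comp (algebraMap A B) → φ.comp τ = ψ.comp τ → φ = ψ)
    (m : Ideal B) [m.IsPrime] :
    ∃ (d : ℕ) (f : Fin d → A) (g : B), g ∉ m ∧
      ∃ φ : MvPolynomial (Fin d) A →ₐ[A] Localization.Away g, φ.toRingHom.Etale ∧
        ∀ i, φ (X i) = algebraMap B (Localization.Away g) (τ (f i)) := by
  obtain ⟨d, y, g, hy, hg, φ, hφ, hφX⟩ :=
    Groth.Agent.Lib.Helper7.SmoothSlice.exists_chart A B m (Set.range τ)
      (span_residue_tmul_D_range_of_jointly_epi τ hepi m)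
  choose f hf using hy
  exact ⟨d, f, g, hg, φ, hφ, fun i => by rw [hφX, hf]⟩

end Groth.Agent.Lib.Helper66.SmBoot
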