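import Groth.Agent.Lib.Helper66.SmBoot2
import Groth.Agent.Lib.Helper51.SpPullbackPts

/-!
# Helper66, smooth bootstrap 4: the product chart `h_{U × A} ⟶ F × h_A` and decorated saturation
-/

set_option autoImplicit false

universe u

open CategoryTheory CategoryTheory.Limits AlgebraicGeometry

namespace Groth.Agent.Lib.Helper66.SmBoot

open AlgSp

variable {S : Scheme.{u}} {F : Sp S} {U X R₀ RX A : Over S}

/-- The chart `h_{U × A} ⟶ F × h_A` induced by a chart `h_U ⟶ F`. -/
noncomputable def prodChart (p : (yon S).obj U ⟶ F) (A : Over S) :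
    (yon S).obj (U ⨯ A) ⟶ F ⨯ (yon S).obj A :=
  prod.lift ((yon S).map prod.fst ≫ p) ((yon S).map prod.snd)

/-- The map `h_X ⟶ F × h_A` with components `x` and `h_f`. -/
noncomputable def prodPt (x : (yon S).obj X ⟶ F) (f : X ⟶ A) :
    (yon S).obj X ⟶ F ⨯ (yon S).obj A :=
  prod.lift x ((yon S).map f)

/-- In a category with binary products, `W × A` is the pullback of `U × A ⟶ U` along `W ⟶ U`. -/
theorem isPullback_prod_map_fst {C : Type*} [Category C] [HasBinaryProducts C] {W V : C} (t : W ⟶ V)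
    (A : C) : IsPullback (prod.map t (𝟙 A)) prod.fst prod.fst t := by
  refine ⟨⟨by simp⟩, ⟨PullbackCone.IsLimit.mk _ (fun s => prod.lift s.snd (s.fst ≫ prod.snd))
    ?_ ?_ ?_⟩⟩
  · intro s
    apply Limits.prod.hom_ext
    · rw [Category.assoc, prod.map_fst, prod.lift_fst_assoc]
      exact s.condition.symm
    · rw [Category.assoc, prod.map_snd, Category.comp_id, prod.lift_snd]
  · intro s
    exact prod.lift_fst _ _
  · intro s m h1 h2
    apply Limits.prod.hom_ext
    · simp only [prod.lift_fst]; exact h2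
    · simp only [prod.lift_snd, ← h1, Category.assoc, prod.map_snd, Category.comp_id]

theorem isPullback_prodChart_prodPt (p : (yon S).obj U ⟶ F) (x : (yon S).obj X ⟶ F)
    (sX : RX ⟶ U) (tX : RX ⟶ X) (sqX : IsPullback ((yon S).map sX) ((yon S).map tX) p x)
    (f : X ⟶ A) :
    IsPullback ((yon S).map (prod.lift sX (tX ≫ f))) ((yon S).map tX) (prodChart p A)
      (prodPt x f) := by
  refine Groth.Agent.Lib.Helper51.isPullback_yon_of_points _ _ _ _ ?_ ?_
  · apply Limits.prod.hom_ext
    · simp only [prodChart, prodPt, Category.assoc, prod.lift_fst]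
      rw [← Category.assoc, ← Functor.map_comp, prod.lift_fst]
      exact sqX.w
    · simp only [prodChart, prodPt, Category.assoc, prod.lift_snd]
      rw [← Functor.map_comp, prod.lift_snd, Functor.map_comp]
  · intro W b c hbc
    have h1 : (yon S).map (b ≫ prod.fst) ≫ p = (yon S).map c ≫ x := by
      have := congrArg (· ≫ prod.fst) hbc
      simpa only [prodChart, prodPt, Category.assoc, prod.lift_fst, ← Functor.map_comp_assoc]
        using this
    have h2 : b ≫ prod.snd = c ≫ f := by
      apply (yon S).map_injective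
      have := congrArg (· ≫ prod.snd) hbc
      simpa only [prodChart, prodPt, Category.assoc, prod.lift_snd, ← Functor.map_comp] using this
    obtain ⟨d, hd⟩ := (yon S).map_surjective (sqX.lift _ _ h1)
    have hd1 : d ≫ sX = b ≫ prod.fst := by
      apply (yon S).map_injective
      rw [Functor.map_comp, hd, sqX.lift_fst]
    have hd2 : d ≫ tX = c := by
      apply (yon S).map_injective
      rw [Functor.map_comp, hd, sqX.lift_snd]
    refine ⟨d, ⟨?_, hd2⟩, ?_⟩
    · apply Limits.prod.hom_ext
      · simp only [Category.assoc, prod.lift_fst]; exact hd1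
      · simp only [Category.assoc, prod.lift_snd]
        rw [← Category.assoc, hd2, h2]
    · rintro d' ⟨hd1', hd2'⟩
      apply (yon S).map_injective
      apply sqX.hom_ext
      · rw [← Functor.map_comp, ← Functor.map_comp, hd1]
        have := congrArg (· ≫ prod.fst) hd1'
        simp only [Category.assoc, prod.lift_fst] at this
        rw [this]
      · rw [← Functor.map_comp, ← Functor.map_comp, hd2, hd2']

theorem isPullback_prodChart_self (p : (yon S).obj U ⟶ F) (s₀ t₀ : R₀ ⟶ U)
    (sq₀ : IsPullback ((yon S).map s₀) ((yon S).map t₀) p p) (A : Over S) :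
    IsPullback ((yon S).map (prod.map s₀ (𝟙 A))) ((yon S).map (prod.map t₀ (𝟙 A)))
      (prodChart p A) (prodChart p A) := by
  have h1 : IsPullback ((yon S).map (prod.map t₀ (𝟙 A))) ((yon S).map (prod.fst : R₀ ⨯ A ⟶ R₀))
      ((yon S).map (prod.fst : U ⨯ A ⟶ U)) ((yon S).map t₀) :=
    (isPullback_prod_map_fst t₀ A).map (yon S)
  have h2 : IsPullback ((yon S).map (prod.fst : R₀ ⨯ A ⟶ R₀) ≫ (yon S).map s₀)
      ((yon S).map (prod.map t₀ (𝟙 A))) p ((yon S).map (prod.fst : U ⨯ A ⟶ U) ≫ p) :=
    h1.flip.paste_horiz sq₀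
  rw [← Functor.map_comp] at h2
  have h3 := isPullback_prodChart_prodPt p _ _ _ h2 (prod.snd : U ⨯ A ⟶ A)
  have e : prod.lift ((prod.fst : R₀ ⨯ A ⟶ R₀) ≫ s₀) (prod.map t₀ (𝟙 A) ≫ prod.snd) =
      prod.map s₀ (𝟙 A) := by
    apply Limits.prod.hom_ext
    · rw [prod.lift_fst, prod.map_fst]
    · rw [prod.lift_snd, prod.map_snd, prod.map_snd]
  rw [e] at h3
  exact h3

/-- Decorated saturation: the locus where `(sX, f ∘ tX) : U ×_F X ⟶ U × A` is étale is a union of
fibres of `U ×_F X ⟶ X`. -/
theorem etaleAt_prod_of_same_image (p : (yon S).obj U ⟶ F) (x : (yon S).obj X ⟶ F)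
    (s₀ t₀ : R₀ ⟶ U) (sq₀ : IsPullback ((yon S).map s₀) ((yon S).map t₀) p p)
    (sX : RX ⟶ U) (tX : RX ⟶ X) (sqX : IsPullback ((yon S).map sX) ((yon S).map tX) p x)
    (f : X ⟶ A) [Flat t₀.left] [LocallyOfFinitePresentation (prod.lift sX (tX ≫ f)).left]
    (z z' : RX.left) (h : tX.left z = tX.left z')
    (hz : EtaleAt (prod.lift sX (tX ≫ f)).left z) : EtaleAt (prod.lift sX (tX ≫ f)).left z' := by
  have hfl : Flat (prod.map t₀ (𝟙 A)).left := by
    have sq := (isPullback_prod_map_fst t₀ A).map (Over.forget S)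
    exact MorphismProperty.of_isPullback (P := @Flat) sq.flip (inferInstance : Flat t₀.left)
  exact etaleAt_of_same_image (prodChart p A) (prodPt x f) (prod.map s₀ (𝟙 A))
    (prod.map t₀ (𝟙 A)) (isPullback_prodChart_self p s₀ t₀ sq₀ A) (prod.lift sX (tX ≫ f)) tX
    (isPullback_prodChart_prodPt p x sX tX sqX f) z z' h hz

end Groth.Agent.Lib.Helper66.SmBoot
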