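import Groth.Agent.Lib.Helper66.SmBoot3
import Groth.Agent.Lib.Helper66.SmBoot4

/-!
# Helper66, smooth bootstrap 5a: preparations for the existence of étale charts
-/

set_option autoImplicit false

universe u

open CategoryTheory CategoryTheory.Limits AlgebraicGeometry MvPolynomial

namespace Groth.Agent.Lib.Helper66.SmBoot

open AlgSp

/-- If `k ≫ f` is étale for an open immersion `k`, then `f` is étale at the points in the range of `k`. -/
theorem etaleAt_of_isOpenImmersion_comp {Y X Z : Scheme.{u}} (k : Y ⟶ X) [IsOpenImmersion k]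
    (f : X ⟶ Z) (h : Etale (k ≫ f)) (y : Y) : EtaleAt f (k y) := by
  refine ⟨k.opensRange, ⟨y, rfl⟩, ?_⟩
  rw [← k.isoOpensRange_inv_comp, Category.assoc]
  infer_instance

/-- If `f` is étale at all points in the range of the open immersion `k`, then `k ≫ f` is étale. -/
theorem etale_comp_of_forall_etaleAt {Y X Z : Scheme.{u}} (k : Y ⟶ X) [IsOpenImmersion k]
    (f : X ⟶ Z) [LocallyOfFinitePresentation f] (h : ∀ y : Y, EtaleAt f (k y)) : Etale (k ≫ f) := by
  have h1 : Etale (k.opensRange.ι ≫ f) := by
    apply etale_ι_comp_of_le_etaleLocus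
    rintro _ ⟨y, rfl⟩
    exact h y
  rw [← k.isoOpensRange_hom_ι, Category.assoc]
  infer_instance

variable {S : Scheme.{u}}

/-- The underlying scheme of a product in `Over S` is the fibre product over `S`. -/
theorem isPullback_prod_left (U A : Over S) :
    IsPullback (prod.fst : U ⨯ A ⟶ U).left (prod.snd : U ⨯ A ⟶ A).left U.hom A.hom := by
  refine IsPullback.of_iso_pullback ⟨?_⟩ (Over.prodLeftIsoPullback U A) ?_ ?_
  · rw [Over.w, Over.w]
  · exact Over.prodLeftIsoPullback_hom_fst U A
  · exact Over.prodLeftIsoPullback_hom_snd U A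

/-- Étale charts indexed by a type in the universe `u`. -/
theorem exists_chart_of_jointly_epi' {A B : Type u} [CommRing A] [CommRing B] [Algebra A B]
    [Algebra.Smooth A B] (τ : A →+* B)
    (hepi : ∀ (D : Type u) [CommRing D] (φ ψ : B →+* D),
      φ.comp (algebraMap A B) = ψ.comp (algebraMap A B) → φ.comp τ = ψ.comp τ → φ = ψ)
    (m : Ideal B) [m.IsPrime] :
    ∃ (n : Type u) (_ : Finite n) (f : n → A) (g : B), g ∉ m ∧
      ∃ φ : MvPolynomial n A →ₐ[A] Localization.Away g, φ.toRingHom.Etale ∧
        ∀ i, φ (X i) = algebraMap B (Localization.Away g) (τ (f i)) := by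
  obtain ⟨d, f, g, hg, φ, hφ, hφX⟩ := exists_chart_of_jointly_epi τ hepi m
  refine ⟨ULift.{u} (Fin d), inferInstance, fun i => f i.down, g, hg,
    φ.comp (renameEquiv A Equiv.ulift).toAlgHom, ?_, ?_⟩
  · exact RingHom.Etale.stableUnderComposition _ _
      (RingHom.Etale.of_bijective (renameEquiv A Equiv.ulift).bijective) hφ
  · intro i
    have e : (renameEquiv A Equiv.ulift) (X i : MvPolynomial (ULift.{u} (Fin d)) A) = X i.down := by
      rw [renameEquiv_apply, rename_X]; rfl
    change φ ((renameEquiv A Equiv.ulift) (X i)) = _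
    rw [e]
    exact hφX i.down

end Groth.Agent.Lib.Helper66.SmBoot
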