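import Groth.Agent.Lib.Helper66.SmBoot5a

/-!
# Helper66, smooth bootstrap 5b: existence of étale charts `U ×_F V ⟶ U × 𝔸ⁿ`
-/

set_option autoImplicit false

universe u

open CategoryTheory CategoryTheory.Limits AlgebraicGeometry MvPolynomial

namespace Groth.Agent.Lib.Helper66.SmBoot

open AlgSp

variable {S : Scheme.{u}}

/-- Affine space over `S` as an object of `Over S`. -/
noncomputable def affOver (S : Scheme.{u}) (n : Type u) : Over S := Over.mk (𝔸(n; S) ↘ S)

/-- The morphism to affine space over `S` given by a vector of global functions. -/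
noncomputable def vecHom {n : Type u} (V : Over S) (v : n → Γ(V.left, ⊤)) : V ⟶ affOver S n :=
  Over.homMk (AffineSpace.homOfVector V.hom v) (AffineSpace.homOfVector_over _ _)

variable {F : Sp S} {U RX : Over S}

/-- Two maps into `U ×_F X` agreeing after both projections are equal (scheme level). -/
theorem hom_ext_of_isPullback_yon {X : Over S} (p : (yon S).obj U ⟶ F) (x : (yon S).obj X ⟶ F)
    (sX : RX ⟶ U) (tX : RX ⟶ X) (sqX : IsPullback ((yon S).map sX) ((yon S).map tX) p x)
    {T : Scheme.{u}} (a b : T ⟶ RX.left) (h1 : a ≫ sX.left = b ≫ sX.left)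
    (h2 : a ≫ tX.left = b ≫ tX.left) : a = b := by
  have hb : b ≫ RX.hom = a ≫ RX.hom := by
    rw [← Over.w sX, ← Category.assoc, ← h1, Category.assoc]
  let aO : Over.mk (a ≫ RX.hom) ⟶ RX := Over.homMk a rfl
  let bO : Over.mk (a ≫ RX.hom) ⟶ RX := Over.homMk b hb
  have h : aO = bO := by
    apply (yon S).map_injective
    apply sqX.hom_ext
    · rw [← Functor.map_comp, ← Functor.map_comp]
      congr 1
      exact Over.OverMorphism.ext h1
    · rw [← Functor.map_comp, ← Functor.map_comp]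
      congr 1
      exact Over.OverMorphism.ext h2
  exact congrArg (fun k => k.left) h

/-- **Existence of étale charts.**  Let `V ⊆ U` be an affine open, `RX = U ×_F V` with `sX : RX ⟶ U` smooth.
Near every point `z₀` of `RX` lying over `V` there are finitely many functions `v` on `V` such that
`(sX, v ∘ tX) : RX ⟶ U × 𝔸ⁿ` is étale at `z₀`. -/
theorem exists_etaleAt_chart (p : (yon S).obj U ⟶ F) {V : U.left.Opens} (hV : IsAffineOpen V)
    (sX : RX ⟶ U) (tX : RX ⟶ Over.mk (hV.fromSpec ≫ U.hom))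
    (sqX : IsPullback ((yon S).map sX) ((yon S).map tX) p
      ((yon S).map (Over.homMk hV.fromSpec rfl : Over.mk (hV.fromSpec ≫ U.hom) ⟶ U) ≫ p))
    [Smooth sX.left] (z₀ : RX.left) (hz₀ : sX.left z₀ ∈ V) :
    ∃ (n : Type u) (_ : Finite n) (v : n → Γ((Over.mk (hV.fromSpec ≫ U.hom)).left, ⊤)),
      EtaleAt (prod.lift sX (tX ≫ vecHom _ v)).left z₀ := by
  classical
  -- an affine neighbourhood of `z₀` mapping into `V`
  obtain ⟨_, ⟨N, hN, rfl⟩, hzN, hNV : N ≤ sX.left ⁻¹ᵁ V⟩ :=
    RX.left.isBasis_affineOpens.exists_subset_of_mem_open hz₀ (sX.left ⁻¹ᵁ V).2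
  let σ : Γ(U.left, V) ⟶ Γ(RX.left, N) := sX.left.appLE V N hNV
  have hσ : σ.hom.Smooth := Smooth.smooth_appLE sX.left hV hN hNV
  have hσSpec : Spec.map σ ≫ hV.fromSpec = hN.fromSpec ≫ sX.left :=
    IsAffineOpen.SpecMap_appLE_fromSpec sX.left hV hN hNV
  let τ : Γ(U.left, V) ⟶ Γ(RX.left, N) := Spec.preimage (hN.fromSpec ≫ tX.left)
  have hτSpec : Spec.map τ = hN.fromSpec ≫ tX.left := Spec.map_preimage _
  algebraize [σ.hom]
  have hepi : ∀ (D : Type u) [CommRing D] (φ ψ : Γ(RX.left, N) →+* D),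
      φ.comp (algebraMap Γ(U.left, V) Γ(RX.left, N)) = ψ.comp (algebraMap Γ(U.left, V) Γ(RX.left, N)) →
      φ.comp τ.hom = ψ.comp τ.hom → φ = ψ := by
    intro D _ φ ψ h1 h2
    have h1' : σ ≫ CommRingCat.ofHom φ = σ ≫ CommRingCat.ofHom ψ := by
      ext a; exact congr($h1 a)
    have h2' : τ ≫ CommRingCat.ofHom φ = τ ≫ CommRingCat.ofHom ψ := by
      ext a; exact congr($h2 a)
    have key : Spec.map (CommRingCat.ofHom φ) ≫ hN.fromSpec =
        Spec.map (CommRingCat.ofHom ψ) ≫ hN.fromSpec := by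
      apply hom_ext_of_isPullback_yon p _ sX tX sqX
      · rw [Category.assoc, Category.assoc, ← hσSpec, ← Category.assoc, ← Category.assoc,
          ← Spec.map_comp, ← Spec.map_comp, h1']
      · rw [Category.assoc, Category.assoc, ← hτSpec, ← Spec.map_comp, ← Spec.map_comp, h2']
    have h3 := Spec.map_injective ((cancel_mono hN.fromSpec).1 key)
    exact congrArg CommRingCat.Hom.hom h3
  let m : Ideal Γ(RX.left, N) := (hN.primeIdealOf ⟨z₀, hzN⟩).asIdeal
  obtain ⟨n, hn, f, g, hg, φ, hφ, hφX⟩ := exists_chart_of_jointly_epi' τ.hom hepi m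
  refine ⟨n, hn, fun i => (Scheme.ΓSpecIso Γ(U.left, V)).inv (f i), ?_⟩
  -- the open immersion `D(g) ⟶ RX`
  let loc : Γ(RX.left, N) ⟶ CommRingCat.of (Localization.Away g) :=
    CommRingCat.ofHom (algebraMap Γ(RX.left, N) (Localization.Away g))
  obtain ⟨k, hkdef⟩ : ∃ k : Spec (CommRingCat.of (Localization.Away g)) ⟶ RX.left,
      k = Spec.map loc ≫ hN.fromSpec := ⟨_, rfl⟩
  have hk : IsOpenImmersion k := by rw [hkdef]; infer_instance
  obtain ⟨y, hy⟩ : ∃ y, k y = z₀ := by
    have hmem : hN.primeIdealOf ⟨z₀, hzN⟩ ∈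
        Set.range (PrimeSpectrum.comap (algebraMap Γ(RX.left, N) (Localization.Away g))) := by
      rw [PrimeSpectrum.localization_away_comap_range (Localization.Away g) g]
      exact hg
    obtain ⟨y, hy⟩ := hmem
    refine ⟨y, ?_⟩
    have h1 : Spec.map loc y = hN.primeIdealOf ⟨z₀, hzN⟩ := hy
    rw [hkdef, Scheme.Hom.comp_apply, h1, hN.fromSpec_primeIdealOf ⟨z₀, hzN⟩]
  rw [← hy]
  apply etaleAt_of_isOpenImmersion_comp k
  -- the chart target
  let A : CommRingCat := Γ(U.left, V)
  let Vo : Over S := Over.mk (hV.fromSpec ≫ U.hom)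
  let v : n → Γ(Vo.left, ⊤) := fun i => (Scheme.ΓSpecIso A).inv (f i)
  have sqP := isPullback_prod_left U (affOver S n)
  have hθw : ((AffineSpace.SpecIso n A).inv ≫ (𝔸(n; Spec A) ↘ Spec A) ≫ hV.fromSpec) ≫ U.hom =
      ((AffineSpace.SpecIso n A).inv ≫ AffineSpace.map n (hV.fromSpec ≫ U.hom)) ≫
        (affOver S n).hom := by
    simp only [affOver, Over.mk_hom, Category.assoc, AffineSpace.map_over]
  obtain ⟨θ, hθdef⟩ : ∃ θ : Spec (CommRingCat.of (MvPolynomial n A)) ⟶ (U ⨯ affOver S n).left,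
      θ = sqP.lift _ _ hθw := ⟨_, rfl⟩
  have hθ1 : θ ≫ (prod.fst : U ⨯ affOver S n ⟶ U).left =
      (AffineSpace.SpecIso n A).inv ≫ (𝔸(n; Spec A) ↘ Spec A) ≫ hV.fromSpec := by
    rw [hθdef]; exact sqP.lift_fst _ _ hθw
  have hθ2 : θ ≫ (prod.snd : U ⨯ affOver S n ⟶ affOver S n).left =
      (AffineSpace.SpecIso n A).inv ≫ AffineSpace.map n (hV.fromSpec ≫ U.hom) := by
    rw [hθdef]; exact sqP.lift_snd _ _ hθw
  have sqθ : IsPullback θ ((AffineSpace.SpecIso n A).inv ≫ 𝔸(n; Spec A) ↘ Spec A)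
      (prod.fst : U ⨯ affOver S n ⟶ U).left hV.fromSpec := by
    refine IsPullback.of_right ?_ (by rw [hθ1, Category.assoc]) sqP.flip
    rw [hθ2]
    have h1 : IsPullback (AffineSpace.SpecIso n A).inv
        ((AffineSpace.SpecIso n A).inv ≫ 𝔸(n; Spec A) ↘ Spec A) (𝔸(n; Spec A) ↘ Spec A) (𝟙 _) :=
      IsPullback.of_horiz_isIso ⟨by rw [Category.comp_id]⟩
    have h2 := h1.paste_horiz (AffineSpace.isPullback_map (n := n) (hV.fromSpec ≫ U.hom))
    rw [Category.id_comp] at h2
    exact h2
  have hθo : IsOpenImmersion θ :=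
    MorphismProperty.of_isPullback (P := @IsOpenImmersion) sqθ.flip inferInstance
  have hΦ1 : (prod.lift sX (tX ≫ vecHom Vo v)).left ≫ (prod.fst : U ⨯ affOver S n ⟶ U).left =
      sX.left := by
    rw [← Over.comp_left, prod.lift_fst]
  have hΦ2 : (prod.lift sX (tX ≫ vecHom Vo v)).left ≫
      (prod.snd : U ⨯ affOver S n ⟶ affOver S n).left = tX.left ≫ (vecHom Vo v).left := by
    rw [← Over.comp_left, prod.lift_snd, Over.comp_left]
  let φc : CommRingCat.of (MvPolynomial n A) ⟶ CommRingCat.of (Localization.Away g) :=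
    CommRingCat.ofHom φ.toRingHom
  have hφet : Etale (Spec.map φc) := HasRingHomProperty.Spec_iff.mpr hφ
  have hC : CommRingCat.ofHom (MvPolynomial.C : A →+* MvPolynomial n A) ≫ φc = σ ≫ loc := by
    ext a
    change φ (MvPolynomial.C a) = algebraMap Γ(RX.left, N) (Localization.Away g) (σ.hom a)
    rw [← MvPolynomial.algebraMap_eq, φ.commutes]
    exact IsScalarTower.algebraMap_apply Γ(U.left, V) Γ(RX.left, N) (Localization.Away g) a
  have heq : k ≫ (prod.lift sX (tX ≫ vecHom Vo v)).left = Spec.map φc ≫ θ := by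
    apply sqP.hom_ext
    · calc (k ≫ (prod.lift sX (tX ≫ vecHom Vo v)).left) ≫ (prod.fst : U ⨯ affOver S n ⟶ U).left
          = k ≫ sX.left := by rw [Category.assoc, hΦ1]
        _ = Spec.map loc ≫ Spec.map σ ≫ hV.fromSpec := by
            rw [hσSpec, hkdef, Category.assoc]
        _ = Spec.map (CommRingCat.ofHom (MvPolynomial.C : A →+* MvPolynomial n A) ≫ φc) ≫
              hV.fromSpec := by rw [hC, Spec.map_comp, Category.assoc]
        _ = (Spec.map φc ≫ θ) ≫ (prod.fst : U ⨯ affOver S n ⟶ U).left := by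
            rw [Category.assoc, hθ1, AffineSpace.SpecIso_inv_over_assoc, Spec.map_comp,
              Category.assoc]
    · have e1 : (k ≫ (prod.lift sX (tX ≫ vecHom Vo v)).left) ≫
          (prod.snd : U ⨯ affOver S n ⟶ affOver S n).left =
          Spec.map (τ ≫ loc) ≫ AffineSpace.homOfVector Vo.hom v := by
        rw [Category.assoc, hΦ2, Spec.map_comp, hτSpec, hkdef]
        simp only [Category.assoc]
        rfl
      have e2 : (Spec.map φc ≫ θ) ≫ (prod.snd : U ⨯ affOver S n ⟶ affOver S n).left =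
          Spec.map φc ≫ (AffineSpace.SpecIso n A).inv ≫
            AffineSpace.map n (hV.fromSpec ≫ U.hom) := by
        rw [Category.assoc, hθ2]
        rfl
      rw [e1, e2]
      have hnat : ∀ {R R' : CommRingCat.{u}} (ψ : R ⟶ R') (r : R),
          (Spec.map ψ).appTop ((Scheme.ΓSpecIso R).inv r) = (Scheme.ΓSpecIso R').inv (ψ r) := by
        intro R R' ψ r
        have := congr($(Scheme.ΓSpecIso_inv_naturality ψ) r)
        simpa only [CommRingCat.comp_apply] using this.symm
      apply AffineSpace.hom_ext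
      · rw [Category.assoc, AffineSpace.homOfVector_over, Category.assoc, Category.assoc,
          AffineSpace.map_over, AffineSpace.SpecIso_inv_over_assoc, ← Category.assoc (Spec.map φc),
          ← Spec.map_comp, hC, Spec.map_comp, Spec.map_comp, hτSpec]
        simp only [Category.assoc]
        rw [← Category.assoc (Spec.map σ), hσSpec]
        simp only [Category.assoc]
        congr 2
        rw [Over.w sX]
        exact Over.w tX
      · intro i
        rw [Scheme.Hom.comp_appTop, Scheme.Hom.comp_appTop, Scheme.Hom.comp_appTop,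
          CommRingCat.comp_apply, CommRingCat.comp_apply, CommRingCat.comp_apply,
          AffineSpace.homOfVector_appTop_coord, AffineSpace.map_appTop_coord,
          AffineSpace.SpecIso_inv_appTop_coord, hnat, hnat]
        congr 1
        exact (hφX i).symm
  rw [heq]
  infer_instance

end Groth.Agent.Lib.Helper66.SmBoot
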