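import Mathlib

/-!
# Helper66, smooth bootstrap 6a: openness on fibres of a base change
-/

set_option autoImplicit false

universe u

open CategoryTheory CategoryTheory.Limits AlgebraicGeometry

namespace Groth.Agent.Lib.Helper66.SmBoot

/-- Let `XU = X ×_S U`.  Given an open `Ω ⊆ XU` and a point `ω₀ ∈ Ω` over `u ∈ U`, there is an open
neighbourhood `O` of the image of `ω₀` in `X` all of whose points over the image of `u` in `S` lift to
points of `Ω` over `u`. -/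
theorem exists_open_of_fibre {XU X U₀ S₀ : Scheme.{u}} {pr : XU ⟶ X} {q : XU ⟶ U₀} {π : X ⟶ S₀}
    {g : U₀ ⟶ S₀} (H : IsPullback pr q π g) (Ω : XU.Opens) (ω₀ : XU) (hω₀ : ω₀ ∈ Ω) :
    ∃ O : X.Opens, pr ω₀ ∈ O ∧
      ∀ x ∈ O, π x = g (q ω₀) → ∃ ω ∈ Ω, q ω = q ω₀ ∧ pr ω = x := by
  set u₀ := q ω₀ with hu₀
  have sq := isPullback_fiberToSpecResidueField_of_isPullback H u₀
  set ρ : q.fiber u₀ ⟶ π.fiber (g u₀) :=
    pullback.map _ _ _ _ pr (Spec.map (g.residueFieldMap u₀)) g H.w.symm (by simp) with hρ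
  have hρb : ρ ≫ π.fiberι (g u₀) = q.fiberι u₀ ≫ pr := by
    rw [hρ]
    exact pullback.lift_fst _ _ _
  have huo : UniversallyOpen (Spec.map (g.residueFieldMap u₀)) := inferInstance
  have hρo : UniversallyOpen ρ :=
    MorphismProperty.of_isPullback (P := @UniversallyOpen) sq.flip huo
  have hW : IsOpen (ρ '' ((q.fiberι u₀) ⁻¹' (Ω : Set XU))) :=
    ρ.isOpenMap _ (Ω.2.preimage (q.fiberι u₀).continuous)
  obtain ⟨O, hO, hOW⟩ := (π.fiberι (g u₀)).isEmbedding.isInducing.isOpen_iff.mp hW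
  have hpt : ∀ w : q.fiber u₀, pr (q.fiberι u₀ w) = π.fiberι (g u₀) (ρ w) := by
    intro w
    rw [← Scheme.Hom.comp_apply, ← Scheme.Hom.comp_apply, hρb]
  refine ⟨⟨O, hO⟩, ?_, ?_⟩
  · obtain ⟨w₀, hw₀⟩ : ω₀ ∈ Set.range (q.fiberι u₀) := by
      rw [q.range_fiberι]; rfl
    have h1 : ρ w₀ ∈ (π.fiberι (g u₀)) ⁻¹' O := by
      rw [hOW]
      exact ⟨w₀, by rw [Set.mem_preimage, hw₀]; exact hω₀, rfl⟩
    change pr ω₀ ∈ O
    rw [← hw₀, hpt]
    exact h1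
  · intro x hx hπx
    obtain ⟨x', hx'⟩ : x ∈ Set.range (π.fiberι (g u₀)) := by
      rw [π.range_fiberι]; exact hπx
    have h1 : x' ∈ (π.fiberι (g u₀)) ⁻¹' O := by
      rw [Set.mem_preimage, hx']; exact hx
    rw [hOW] at h1
    obtain ⟨w, hw, rfl⟩ := h1
    refine ⟨q.fiberι u₀ w, hw, ?_, ?_⟩
    · have : q.fiberι u₀ w ∈ Set.range (q.fiberι u₀) := ⟨w, rfl⟩
      rw [q.range_fiberι] at this
      exact this
    · rw [hpt, hx']

end Groth.Agent.Lib.Helper66.SmBoot
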