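import Groth.Agent.Lib.Helper66.SmBoot5a
import Groth.Agent.Lib.Helper66.SmBoot6a
import Groth.Agent.H52.SmoothSection

/-!
# Helper66, smooth bootstrap 6b: slicing an étale chart `U ×_F X ⟶ U × A` by a quasi-section of `A ⟶ S`
-/

set_option autoImplicit false

universe u

open CategoryTheory CategoryTheory.Limits AlgebraicGeometry

namespace Groth.Agent.Lib.Helper66.SmBoot

open AlgSp

variable {S : Scheme.{u}}

/-- The pullback square expressing `U ×_F (X ×_A S') = (U ×_F X) ×_{U × A} (U × S')`. -/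
theorem isPullback_slice {U X RX A S' : Over S} (sX : RX ⟶ U) (tX : RX ⟶ X) (f : X ⟶ A)
    (c : S' ⟶ A) :
    IsPullback
      (prod.lift (pullback.fst tX (pullback.fst f c) ≫ sX)
        (pullback.snd tX (pullback.fst f c) ≫ pullback.snd f c))
      (pullback.fst tX (pullback.fst f c))
      (prod.map (𝟙 U) c) (prod.lift sX (tX ≫ f)) := by
  refine ⟨⟨?_⟩, ⟨PullbackCone.IsLimit.mk _
    (fun s => pullback.lift s.snd (pullback.lift (s.snd ≫ tX) (s.fst ≫ prod.snd) ?_) ?_)
    ?_ ?_ ?_⟩⟩
  · apply Limits.prod.hom_ext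
    · rw [Category.assoc, prod.map_fst, Category.comp_id, prod.lift_fst, Category.assoc,
        prod.lift_fst]
    · simp only [Category.assoc, prod.map_snd, prod.lift_snd, prod.lift_snd_assoc]
      rw [← pullback.condition, pullback.condition_assoc]
  · have h := congrArg (· ≫ prod.snd) s.condition
    simp only [Category.assoc, prod.map_snd, prod.lift_snd] at h
    rw [Category.assoc, Category.assoc, h]
  · rw [pullback.lift_fst]
  · intro s
    apply Limits.prod.hom_ext
    · have h := congrArg (· ≫ prod.fst) s.condition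
      simp only [Category.assoc, prod.map_fst, Category.comp_id, prod.lift_fst] at h
      rw [Category.assoc, prod.lift_fst, pullback.lift_fst_assoc, h]
    · simp only [Category.assoc, prod.lift_snd, pullback.lift_snd_assoc, pullback.lift_snd]
  · intro s
    rw [pullback.lift_fst]
  · intro s m h1 h2
    apply pullback.hom_ext
    · rw [pullback.lift_fst]; exact h2
    · rw [pullback.lift_snd]
      apply pullback.hom_ext
      · rw [pullback.lift_fst, Category.assoc, ← pullback.condition, ← Category.assoc, h2]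
      · rw [pullback.lift_snd, ← h1, Category.assoc, Category.assoc, prod.lift_snd]

/-- **Slices.**  If `(sX, f ∘ tX) : RX ⟶ U × A` is étale with `A` smooth over `S`, then through every point
`r₀` of `RX` there is a "slice" `W ⟶ X` such that `RX ×_X W ⟶ U` is étale and its image contains the image
of `r₀`. -/
theorem exists_slice {U X RX A : Over S} (sX : RX ⟶ U) (tX : RX ⟶ X) (f : X ⟶ A)
    [Smooth A.hom] [Etale (prod.lift sX (tX ≫ f)).left] (r₀ : RX.left) :
    ∃ (W : Over S) (gW : W ⟶ X),
      Etale (pullback.fst tX gW ≫ sX).left ∧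
      sX.left r₀ ∈ Set.range (pullback.fst tX gW ≫ sX).left := by
  have sqP := isPullback_prod_left U A
  have hΦ1 : (prod.lift sX (tX ≫ f)).left ≫ (prod.fst : U ⨯ A ⟶ U).left = sX.left := by
    rw [← Over.comp_left, prod.lift_fst]
  have hΦ2 : (prod.lift sX (tX ≫ f)).left ≫ (prod.snd : U ⨯ A ⟶ A).left = tX.left ≫ f.left := by
    rw [← Over.comp_left, prod.lift_snd, Over.comp_left]
  let Ω : (U ⨯ A).left.Opens := ⟨Set.range (prod.lift sX (tX ≫ f)).left,
    (prod.lift sX (tX ≫ f)).left.isOpenMap.isOpen_range⟩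
  obtain ⟨O, hO0, hO⟩ := exists_open_of_fibre sqP.flip Ω ((prod.lift sX (tX ≫ f)).left r₀)
    ⟨r₀, rfl⟩
  have hsmO : Smooth (O.ι ≫ A.hom) := inferInstance
  obtain ⟨Z, i, z, -, het, hz⟩ :=
    Groth.Agent.H52.exists_etale_slice_of_smooth (O.ι ≫ A.hom) ⟨_, hO0⟩
  let S' : Over S := Over.mk (i ≫ O.ι ≫ A.hom)
  let c : S' ⟶ A := Over.homMk (i ≫ O.ι) (by simp [S'])
  refine ⟨pullback f c, pullback.fst f c, ?_, ?_⟩
  · have sq := (isPullback_slice sX tX f c).map (Over.forget S)
    have h1 : Etale (prod.lift (pullback.fst tX (pullback.fst f c) ≫ sX)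
        (pullback.snd tX (pullback.fst f c) ≫ pullback.snd f c)).left :=
      MorphismProperty.of_isPullback (P := @Etale) sq.flip
        (inferInstance : Etale (prod.lift sX (tX ≫ f)).left)
    have h2 : Etale (prod.fst : U ⨯ S' ⟶ U).left :=
      MorphismProperty.of_isPullback (P := @Etale) (isPullback_prod_left U S').flip het
    have e : (pullback.fst tX (pullback.fst f c) ≫ sX).left =
        (prod.lift (pullback.fst tX (pullback.fst f c) ≫ sX)
          (pullback.snd tX (pullback.fst f c) ≫ pullback.snd f c)).left ≫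
          (prod.fst : U ⨯ S' ⟶ U).left := by
      rw [← Over.comp_left, prod.lift_fst]
    rw [e]
    infer_instance
  · have hAz : A.hom (O.ι (i z)) =
        U.hom ((prod.fst : U ⨯ A ⟶ U).left ((prod.lift sX (tX ≫ f)).left r₀)) := by
      have h1 : A.hom (O.ι (i z)) = (O.ι ≫ A.hom) (i z) := rfl
      have h2 : (O.ι ≫ A.hom) ⟨_, hO0⟩ = ((prod.snd : U ⨯ A ⟶ A).left ≫ A.hom)
          ((prod.lift sX (tX ≫ f)).left r₀) := rfl
      have h3 : ((prod.snd : U ⨯ A ⟶ A).left ≫ A.hom) ((prod.lift sX (tX ≫ f)).left r₀) =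
          ((prod.fst : U ⨯ A ⟶ U).left ≫ U.hom) ((prod.lift sX (tX ≫ f)).left r₀) := by
        rw [sqP.w]
      exact h1.trans (hz.trans (h2.trans h3))
    obtain ⟨ω, ⟨r, hr⟩, hω1, hω2⟩ := hO (O.ι (i z)) (i z).2 hAz
    have hsr : sX.left r = sX.left r₀ := by
      rw [← hΦ1, Scheme.Hom.comp_apply, Scheme.Hom.comp_apply]
      change (prod.fst : U ⨯ A ⟶ U).left ((prod.lift sX (tX ≫ f)).left r) = _
      rw [hr, hω1]
    have hfr : f.left (tX.left r) = c.left z := by
      have h1 : f.left (tX.left r) = (tX.left ≫ f.left) r := rfl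
      rw [h1, ← hΦ2, Scheme.Hom.comp_apply]
      change (prod.snd : U ⨯ A ⟶ A).left ((prod.lift sX (tX ≫ f)).left r) = _
      rw [hr, hω2]
      rfl
    have sqW := (IsPullback.of_hasPullback f c).map (Over.forget S)
    obtain ⟨w, hw1, hw2⟩ := AlgebraicGeometry.Scheme.exists_preimage_of_isPullback sqW
      (tX.left r) z hfr
    have sqQ := (IsPullback.of_hasPullback tX (pullback.fst f c)).map (Over.forget S)
    obtain ⟨q, hq1, hq2⟩ := AlgebraicGeometry.Scheme.exists_preimage_of_isPullback sqQ
      r w hw1.symm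
    refine ⟨q, ?_⟩
    rw [Over.comp_left, Scheme.Hom.comp_apply]
    change sX.left ((pullback.fst tX (pullback.fst f c)).left q) = _
    have hq1' : (pullback.fst tX (pullback.fst f c)).left q = r := hq1
    rw [hq1', hsr]

end Groth.Agent.Lib.Helper66.SmBoot
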