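import Groth.Agent.Lib.Helper66.SmBoot5b
import Groth.Agent.Lib.Helper66.SmBoot6b
import Groth.Agent.Lib.Helper66.SmBoot7a
import Groth.Agent.Lib.Helper7.AffineChart
import Groth.Agent.Lib.Helper16.FibreSurj

/-!
# Helper66, smooth bootstrap 7b: étale slices through every point of a smooth chart
-/

set_option autoImplicit false

universe u

open CategoryTheory CategoryTheory.Limits AlgebraicGeometry

namespace Groth.Agent.Lib.Helper66.SmBoot

open AlgSp

variable {S : Scheme.{u}} {F : Sp S} {U : Over S}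

theorem smooth_affOver_hom (n : Type u) [Finite n] : Smooth (affOver S n).hom :=
  Groth.Agent.Lib.Helper7.AffineChart.smooth_affineSpace_over n S

/-- `RepWith` is monotone in the property. -/
theorem repWith_mono {P P' : MorphismProperty Scheme.{u}} (h : ∀ ⦃A B : Scheme.{u}⦄ (f : A ⟶ B), P f → P' f)
    {G H : Sp S} {f : G ⟶ H} (hf : RepWith P f) : RepWith P' f :=
  ⟨hf.rep, fun _ _ g fst snd sq => h _ (hf.2 g fst snd sq)⟩

/-- **Étale slices.**  Through every point `u` of a smooth chart `p : h_U ⟶ F` there is a slice `w : W ⟶ U` such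
that `U ×_F W ⟶ U` is étale with `u` in its image. -/
theorem exists_etale_slice_chart (p : (yon S).obj U ⟶ F) (hsm : RepWith @Smooth p) (u : U.left) :
    ∃ (W : Over S) (w : W ⟶ U) (Q : Over S) (a : Q ⟶ U) (b : Q ⟶ W),
      IsPullback ((yon S).map a) ((yon S).map b) p ((yon S).map w ≫ p) ∧ Etale a.left ∧
      u ∈ Set.range a.left := by
  classical
  have hrep : Representable p := hsm.rep
  -- an affine open neighbourhood of `u`
  obtain ⟨_, ⟨V, hV, rfl⟩, hu, -⟩ := U.left.isBasis_affineOpens.exists_subset_of_mem_open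
    (Set.mem_univ u) isOpen_univ
  let Vo : Over S := Over.mk (hV.fromSpec ≫ U.hom)
  let j : Vo ⟶ U := Over.homMk hV.fromSpec rfl
  have hx : RepWith @Smooth ((yon S).map j ≫ p) :=
    (RepWith (S := S) @Smooth).comp_mem _ _
      ((repWith_yon_map_iff @Smooth j).2 (by change Smooth hV.fromSpec; infer_instance)) hsm
  -- `RX = U ×_F V`
  obtain ⟨RX, sX', tX, sqX'⟩ : ∃ (RX : Over S) (sX' : (yon S).obj RX ⟶ (yon S).obj U)
      (tX : RX ⟶ Vo), IsPullback sX' ((yon S).map tX) p ((yon S).map j ≫ p) :=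
    ⟨_, _, _, hrep.isPullback _⟩
  obtain ⟨sX, rfl⟩ := (yon S).map_surjective sX'
  have hsXsm : Smooth sX.left := hx.2 p _ sX sqX'.flip
  have htXsm : Smooth tX.left := hsm.2 _ _ tX sqX'
  -- the diagonal point
  obtain ⟨e, he⟩ := (yon S).map_surjective (sqX'.lift ((yon S).map j) (𝟙 _) (by simp))
  have he1 : e ≫ sX = j := by
    apply (yon S).map_injective
    rw [Functor.map_comp, he, sqX'.lift_fst]
  have he2 : e ≫ tX = 𝟙 _ := by
    apply (yon S).map_injective
    rw [Functor.map_comp, he, sqX'.lift_snd]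
    exact ((yon S).map_id _).symm
  let v₀ : Vo.left := hV.primeIdealOf ⟨u, hu⟩
  have hv₀ : j.left v₀ = u := hV.fromSpec_primeIdealOf ⟨u, hu⟩
  let z₀ : _ := e.left v₀
  have hz₀s : sX.left z₀ = u := by
    have h1 : (e ≫ sX).left v₀ = j.left v₀ := congrArg (fun k => k.left v₀) he1
    exact h1.trans hv₀
  have hz₀t : tX.left z₀ = v₀ := by
    have : (e ≫ tX).left v₀ = v₀ := by rw [he2]; rfl
    exact this
  -- the étale chart at `z₀`
  obtain ⟨n, hn, v, hchart⟩ := exists_etaleAt_chart p hV sX tX sqX' z₀ (by rw [hz₀s]; exact hu)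
  have hAsm : Smooth (affOver S n).hom := smooth_affOver_hom n
  obtain ⟨f, hf⟩ : ∃ f : Vo ⟶ affOver S n, f = vecHom Vo v := ⟨_, rfl⟩
  rw [← hf] at hchart
  have hΦlfp : LocallyOfFinitePresentation (prod.lift sX (tX ≫ f)).left := by
    have h1 : (prod.lift sX (tX ≫ f)).left ≫ (prod.fst : U ⨯ affOver S n ⟶ U).left = sX.left := by
      rw [← Over.comp_left, prod.lift_fst]
    have h2 : LocallyOfFiniteType (prod.fst : U ⨯ affOver S n ⟶ U).left := by
      have h3 : LocallyOfFinitePresentation (prod.fst : U ⨯ affOver S n ⟶ U).left :=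
        MorphismProperty.of_isPullback (P := @LocallyOfFinitePresentation)
          (isPullback_prod_left U (affOver S n)).flip inferInstance
      infer_instance
    exact Groth.Agent.Lib.Helper16.locallyOfFinitePresentation_of_comp _ _
      (by rw [h1]; infer_instance) h2
  -- the kernel pair of `p`
  obtain ⟨R₀, s₀', t₀, sq₀⟩ : ∃ (R₀ : Over S) (s₀' : (yon S).obj R₀ ⟶ (yon S).obj U)
      (t₀ : R₀ ⟶ U), IsPullback s₀' ((yon S).map t₀) p p := ⟨_, _, _, hrep.isPullback _⟩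
  obtain ⟨s₀, rfl⟩ := (yon S).map_surjective s₀'
  have ht₀ : Flat t₀.left := by
    have : Smooth t₀.left := hsm.2 _ _ t₀ sq₀
    infer_instance
  -- saturation
  have hsat : ∀ z z' : RX.left, tX.left z = tX.left z' →
      EtaleAt (prod.lift sX (tX ≫ f)).left z → EtaleAt (prod.lift sX (tX ≫ f)).left z' :=
    fun z z' h hz => etaleAt_prod_of_same_image p _ s₀ t₀ sq₀ sX tX sqX' f z z' h hz
  -- the open `V₁`
  let V₁ : Vo.left.Opens := ⟨tX.left '' (etaleLocus (prod.lift sX (tX ≫ f)).left : Set RX.left),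
    tX.left.isOpenMap _ (etaleLocus (prod.lift sX (tX ≫ f)).left).2⟩
  have hv₀V₁ : v₀ ∈ V₁ := ⟨z₀, hchart, hz₀t⟩
  have hV₁ : ∀ z' : RX.left, tX.left z' ∈ V₁ → EtaleAt (prod.lift sX (tX ≫ f)).left z' := by
    rintro z' ⟨z, hz, hzz'⟩
    exact hsat z z' hzz' hz
  -- restrict to `V₁`
  let X₁ : Over S := Over.mk (V₁.ι ≫ Vo.hom)
  let j₁ : X₁ ⟶ Vo := Over.homMk V₁.ι rfl
  obtain ⟨k, hkdef⟩ : ∃ k : pullback tX j₁ ⟶ RX, k = pullback.fst tX j₁ := ⟨_, rfl⟩
  obtain ⟨tX₁, htX₁def⟩ : ∃ tX₁ : pullback tX j₁ ⟶ X₁, tX₁ = pullback.snd tX j₁ := ⟨_, rfl⟩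
  have sqk : IsPullback k tX₁ tX j₁ := by
    rw [hkdef, htX₁def]; exact IsPullback.of_hasPullback tX j₁
  have sq₁ : IsPullback ((yon S).map (k ≫ sX)) ((yon S).map tX₁) p
      ((yon S).map j₁ ≫ (yon S).map j ≫ p) := by
    rw [Functor.map_comp]
    exact (sqk.map (yon S)).paste_horiz sqX'
  have hko : IsOpenImmersion k.left := by
    have h1 := sqk.map (Over.forget S)
    exact MorphismProperty.of_isPullback (P := @IsOpenImmersion) h1.flip
      (by change IsOpenImmersion V₁.ι; infer_instance)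
  have hΦ₁ : prod.lift (k ≫ sX) (tX₁ ≫ j₁ ≫ f) = k ≫ prod.lift sX (tX ≫ f) := by
    apply Limits.prod.hom_ext
    · rw [prod.lift_fst, Category.assoc, prod.lift_fst]
    · rw [prod.lift_snd, Category.assoc, prod.lift_snd, ← Category.assoc, ← sqk.w, Category.assoc]
  have hΦ₁et : Etale (prod.lift (k ≫ sX) (tX₁ ≫ j₁ ≫ f)).left := by
    rw [hΦ₁, Over.comp_left]
    apply etale_comp_of_forall_etaleAt
    intro y
    apply hV₁
    have h1 : tX.left (k.left y) = (k ≫ tX).left y := rfl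
    rw [h1, sqk.w]
    exact (tX₁.left y).2
  -- a point over `z₀`
  obtain ⟨r₀, hr₀, -⟩ := AlgebraicGeometry.Scheme.exists_preimage_of_isPullback
    (sqk.map (Over.forget S)) z₀ ⟨v₀, hv₀V₁⟩ hz₀t
  have hr₀s : (k ≫ sX).left r₀ = u := by
    have h1 : (k ≫ sX).left r₀ = sX.left (k.left r₀) := rfl
    have h2 : k.left r₀ = z₀ := hr₀
    rw [h1, h2, hz₀s]
  -- slice
  obtain ⟨W, gW, hWet, hWu⟩ := exists_slice (k ≫ sX) tX₁ (j₁ ≫ f) r₀
  rw [hr₀s] at hWu
  refine ⟨W, gW ≫ j₁ ≫ j, pullback tX₁ gW, pullback.fst tX₁ gW ≫ k ≫ sX, pullback.snd tX₁ gW,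
    ?_, hWet, hWu⟩
  have h1 := ((IsPullback.of_hasPullback tX₁ gW).map (yon S)).paste_horiz sq₁
  rw [← Functor.map_comp] at h1
  simp only [Functor.map_comp, Category.assoc]
  simpa only [Functor.map_comp, Category.assoc] using h1

end Groth.Agent.Lib.Helper66.SmBoot
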