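import Groth.Agent.Lib.Helper66.SmBoot7b

/-!
# Helper66, smooth bootstrap 8: a sheaf with representable diagonal and a smooth surjective chart from a scheme
is an algebraic space
-/

set_option autoImplicit false

universe u

open CategoryTheory CategoryTheory.Limits AlgebraicGeometry

namespace Groth.Agent.Lib.Helper66.SmBoot

open AlgSp

variable {S : Scheme.{u}} {F : Sp S} {U : Over S}

/-- **Smooth charts can be refined to étale charts.** -/
theorem exists_etale_atlas (p : (yon S).obj U ⟶ F) (hΔ : Representable (Limits.diag F))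
    (hsm : RepWith @Smooth p) (hsurj : RepWith @Surjective p) :
    ∃ (W : Over S) (q : (yon S).obj W ⟶ F), RepWith @Etale q ∧ RepWith @Surjective q := by
  classical
  choose W w Q a b sq het hu using fun u : U.left => exists_etale_slice_chart p hsm u
  have hfl : RepWith @Flat p := repWith_mono (fun _ _ f hf => by have : Smooth f := hf; infer_instance) hsm
  have hlfp : RepWith @LocallyOfFinitePresentation p :=
    repWith_mono (fun _ _ f hf => by have : Smooth f := hf; infer_instance) hsm
  let c : Cofan W := Cofan.mk _ (Groth.Agent.Lib.Helper51.sigmaOverι (fun u => (W u).left)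
    (fun u => (W u).hom))
  have hc : IsColimit c := Groth.Agent.Lib.Helper51.isColimitSigmaOver _ _
  let wtot : c.pt ⟶ U := Cofan.IsColimit.desc hc w
  have hwtot : ∀ u, c.inj u ≫ wtot = w u := fun u => Cofan.IsColimit.fac hc w u
  have hq : Representable ((yon S).map wtot ≫ p) := Functor.relativelyRepresentable.of_diag hΔ _
  have hqu : ∀ u, (yon S).map (c.inj u) ≫ (yon S).map wtot ≫ p = (yon S).map (w u) ≫ p := by
    intro u
    rw [← Category.assoc, ← Functor.map_comp, hwtot]
  refine ⟨c.pt, (yon S).map wtot ≫ p, ?_, ?_⟩
  · refine repWith_of_cofan c hc _ hq (fun u => ?_)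
    rw [hqu]
    exact repWith_of_fppf_base_change @Etale (sq u).flip
      (Functor.relativelyRepresentable.of_diag hΔ _) hfl hlfp hsurj
      ((repWith_yon_map_iff @Etale (a u)).2 (het u))
  · haveI := descendsAlong_surjective_fppf.{u}
    have sqP := IsPullback.of_hasPullback ((yon S).map wtot ≫ p) p
    refine repWith_of_fppf_base_change @Surjective sqP hq hfl hlfp hsurj ?_
    have hrep' : Representable (pullback.snd ((yon S).map wtot ≫ p) p) :=
      MorphismProperty.of_isPullback sqP hq
    refine ⟨hrep', fun T V g fst snd sqT => ?_⟩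
    obtain ⟨g₀, rfl⟩ := (yon S).map_surjective g
    change Surjective snd.left
    constructor
    intro t
    obtain ⟨qu, hqu'⟩ := hu (g₀.left t)
    obtain ⟨t', ht'1, -⟩ := AlgebraicGeometry.Scheme.exists_preimage_of_isPullback
      ((IsPullback.of_hasPullback g₀ (a (g₀.left t))).map (Over.forget S)) t qu hqu'.symm
    have hcond : (yon S).map (pullback.snd g₀ (a (g₀.left t)) ≫ b (g₀.left t) ≫ c.inj (g₀.left t)) ≫
        (yon S).map wtot ≫ p =
        (yon S).map (pullback.snd g₀ (a (g₀.left t)) ≫ a (g₀.left t)) ≫ p := by
      rw [← Category.assoc, ← Functor.map_comp, Category.assoc, Category.assoc, hwtot,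
        Functor.map_comp, Functor.map_comp, Functor.map_comp, Category.assoc, Category.assoc,
        ← (sq (g₀.left t)).w, Category.assoc]
    have hl : pullback.lift _ _ hcond ≫ pullback.snd ((yon S).map wtot ≫ p) p =
        (yon S).map (pullback.fst g₀ (a (g₀.left t))) ≫ (yon S).map g₀ := by
      rw [pullback.lift_snd, ← Functor.map_comp, ← pullback.condition]
    obtain ⟨l₀, hl₀⟩ := (yon S).map_surjective (sqT.lift _ _ hl)
    have hl₀s : l₀ ≫ snd = pullback.fst g₀ (a (g₀.left t)) := by
      apply (yon S).map_injective
      rw [Functor.map_comp, hl₀, sqT.lift_snd]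
    refine ⟨l₀.left t', ?_⟩
    have h1 : snd.left (l₀.left t') = (l₀ ≫ snd).left t' := rfl
    rw [h1, hl₀s]
    exact ht'1

end Groth.Agent.Lib.Helper66.SmBoot
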