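import Groth.Agent.Lib.Helper66.SmBoot10
import Groth.Agent.Lib.Helper68.SmoothEtSheaf

/-!
# Helper66: an algebraic stack for the étale topology which is fibred in setoids is representable by an algebraic space
-/

set_option autoImplicit false

universe u

open CategoryTheory CategoryTheory.Limits AlgebraicGeometry

namespace Groth.Agent.Lib.Helper66.SmBoot

open AlgSp Groth.Agent.Lib.Helper65 FibCat

variable {S : Scheme.{u}}

/-- **An étale stack fibred in setoids with a smooth surjective atlas is representable by an algebraic space.** -/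
theorem repByAlgSp_of_isStack_etale_of_isFibSetoid {𝒳 : AlgSt.Cat S}
    (hst : Stk.IsStack (QuotSh.J Scheme.etalePrecoverage S) 𝒳)
    (hatlas : AlgSt.HasAtlas (AlgSp.LocP @Smooth) 𝒳) (hset : FibCat.IsFibSetoid 𝒳.p) :
    AlgSt.RepByAlgSp 𝒳 := by
  obtain ⟨P, E, hE⟩ := exists_psh_of_isFibSetoid hset
  obtain ⟨E', hE', -, -⟩ := exists_inverse_equivOver E hE
  have hst' : Stk.IsStack (QuotSh.J Scheme.etalePrecoverage S) (Stk.ofPsh P) :=
    (isStack_iff_of_equivOver _ E' hE').mp hst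
  have hatlas' : AlgSt.HasAtlas (AlgSp.LocP @Smooth) (Stk.ofPsh P) :=
    hasAtlas_of_equivOver _ E' hE' hatlas
  have hP : Presheaf.IsSheaf (QuotSh.J Scheme.etalePrecoverage S) P :=
    (isSheaf_iff_isSheaf_of_type _ _).2 ((isStack_ofPsh_iff _ P).1 hst')
  obtain ⟨U, x, hx1, hx2⟩ := hatlas'
  let y : Stk.ofPsh ((pyon S).obj U) ⥤ᵇ Stk.ofPsh P := BasedFunctor.comp (AlgSt.toOverCat U) x
  let p₀ : (pyon S).obj U ⟶ P := pshMapOf y
  have hsq : ∀ (Q : MorphismProperty (Sp S)), AlgSt.RepByAlgSpWith Q x →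
      AlgSt.RepByAlgSpWith Q (Stk.ofPshMap p₀) := by
    intro Q hQ
    refine repByAlgSpWith_of_square Q x (Stk.ofPshMap p₀) (AlgSt.toOverCat U) (BasedFunctor.id _)
      (toOverCat_isEquivOver U) (isEquivOver_id _) ?_ hQ
    exact (isoOfPshMap y).symm
  have h1 := hsq _ hx1
  have h2 := hsq _ hx2
  have hrep : RepBySp p₀ := by
    apply repBySp_of_repByAlgSp1
    intro V z
    obtain ⟨G, e, he, -⟩ := h1 V z
    exact ⟨G, e, he⟩
  have hp1 : RepBySpWith (LocP @Smooth) p₀ := repBySpWith_of_repByAlgSpWith p₀ _ hrep h1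
  have hp2 : RepBySpWith IsSurjectiveMor p₀ := repBySpWith_of_repByAlgSpWith p₀ _ hrep h2
  have hp : RepBySpWith (IsSurjectiveMor ⊓ LocP @Smooth) p₀ := by
    intro V ξ F' fst snd sq
    obtain ⟨hsh, hA, hs⟩ := hp2 ξ fst snd sq
    obtain ⟨_, _, hsm⟩ := hp1 ξ fst snd sq
    exact ⟨hsh, hA, hs, hsm⟩
  obtain ⟨hsh, hF⟩ :=
    Groth.Agent.Lib.Helper68.SmoothEtSheaf.isAlgSpaceP_of_etale_sheaf_of_repBySpWith_smooth P hP
      ((yon S).obj U) (IsAlgSpace.yon_obj U) p₀ hp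
  exact ⟨⟨⟨P, hsh⟩, hF⟩, E, hE⟩

end Groth.Agent.Lib.Helper66.SmBoot
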