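import Groth.Agent.H53.SourceLocal

/-!
# Properties of morphisms of schemes that are smooth local on the source

`g : V' ⟶ V` smooth surjective and `P (g ≫ f)` imply `P f` for `P` locally of finite type and locally of
finite presentation.  Port of `Groth.Agent.H53.SourceLocal` (etale covers) using
`Algebra.Smooth.exists_subalgebra_fg`.
-/

set_option autoImplicit false
universe u
open CategoryTheory CategoryTheory.Limits AlgebraicGeometry MorphismProperty TensorProduct

namespace Groth.Agent.Lib.Helper66.SmoothSourceLocal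

open Groth.Agent.H53

/-- Special case of source-descent: if the smooth cover of the source is the base change of a
smooth map to the target whose image contains the image of `f`, fpqc descent on the target
applies. -/
theorem descends_of_smooth_of_isPullback {P : MorphismProperty Scheme.{u}}
    [P.DescendsAlong (@Surjective ⊓ @Flat ⊓ @QuasiCompact)]
    [P.IsStableUnderComposition]
    (hP : ∀ {X Y : Scheme.{u}} (j : X ⟶ Y) [IsOpenImmersion j], P j)
    {X T T' W : Scheme.{u}} [IsAffine T] [IsAffine T'] (f : X ⟶ T) (h : T' ⟶ T) [Smooth h]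
    (fst : W ⟶ X) (snd : W ⟶ T') (sq : IsPullback fst snd f h) [Surjective fst]
    (hsnd : P snd) : P f := by
  let O : T.Opens := ⟨Set.range h, h.isOpenMap.isOpen_range⟩
  have hO : Set.range O.ι = Set.range h := Scheme.Opens.range_ι O
  have hf : Set.range f ⊆ Set.range O.ι := by
    rintro _ ⟨x, rfl⟩
    obtain ⟨w, rfl⟩ := fst.surjective x
    rw [hO]
    refine ⟨snd w, ?_⟩
    rw [← Scheme.Hom.comp_apply, ← sq.w, Scheme.Hom.comp_apply]
  have hh : Set.range h ⊆ Set.range O.ι := by rw [hO]
  have hf₀ : IsOpenImmersion.lift O.ι f hf ≫ O.ι = f := IsOpenImmersion.lift_fac _ _ _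
  have hh₀ : IsOpenImmersion.lift O.ι h hh ≫ O.ι = h := IsOpenImmersion.lift_fac _ _ _
  generalize IsOpenImmersion.lift O.ι f hf = f₀ at hf₀
  generalize IsOpenImmersion.lift O.ι h hh = h₀ at hh₀
  have sq₀ : IsPullback fst snd f₀ h₀ := isPullback_of_comp_mono O.ι (by rwa [hf₀, hh₀])
  have : Flat h₀ := by
    have : Flat (h₀ ≫ O.ι) := by rw [hh₀]; infer_instance
    exact MorphismProperty.of_postcomp (W := @Flat) (W' := @IsOpenImmersion) h₀ O.ι inferInstance this
  have : Surjective h₀ := ⟨fun o => by
    obtain ⟨t', ht'⟩ : O.ι o ∈ Set.range h := by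
      rw [← hO]; exact ⟨o, rfl⟩
    refine ⟨t', ?_⟩
    apply O.ι.injective
    rw [← Scheme.Hom.comp_apply, hh₀]
    exact ht'⟩
  have : QuasiCompact h₀ := by
    have : QuasiCompact (h₀ ≫ O.ι) := by rw [hh₀]; infer_instance
    exact QuasiCompact.of_comp h₀ O.ι
  have key : P f₀ := DescendsAlong.of_isPullback (P := P)
    (Q := @Surjective ⊓ @Flat ⊓ @QuasiCompact) sq₀.flip ⟨⟨‹_›, inferInstance⟩, ‹_›⟩ hsnd
  rw [← hf₀]
  exact P.comp_mem _ _ key (hP O.ι)

/-- Ring-level special case of source descent, stated for a general scheme-level property `P`. -/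
theorem spec_descends_of_smooth_tensor {P : MorphismProperty Scheme.{u}}
    [P.DescendsAlong (@Surjective ⊓ @Flat ⊓ @QuasiCompact)]
    [P.IsStableUnderComposition]
    (hP : ∀ {X Y : Scheme.{u}} (j : X ⟶ Y) [IsOpenImmersion j], P j)
    (R B D : Type u) [CommRing R] [CommRing B] [CommRing D] [Algebra R B] [Algebra R D]
    [Algebra.Smooth R D] (hff : Module.FaithfullyFlat B (B ⊗[R] D))
    (h : P (Spec.map (CommRingCat.ofHom
      (Algebra.TensorProduct.includeRight.toRingHom : D →+* B ⊗[R] D)))) :
    P (Spec.map (CommRingCat.ofHom (algebraMap R B))) := by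
  have po := CommRingCat.isPushout_tensorProduct R B D
  have sq := isPullback_SpecMap_of_isPushout _ _ _ _ po
  have hsurj : Surjective (Spec.map (CommRingCat.ofHom
      (Algebra.TensorProduct.includeLeftRingHom : B →+* B ⊗[R] D))) := by
    apply surjective_SpecMap_of_faithfullyFlat
    exact (RingHom.faithfullyFlat_algebraMap_iff).mpr hff
  have hSm : Smooth (Spec.map (CommRingCat.ofHom (algebraMap R D))) :=
    (HasRingHomProperty.Spec_iff (P := @Smooth)).mpr (RingHom.smooth_algebraMap.mpr inferInstance)
  exact descends_of_smooth_of_isPullback (P := P) hP _ _ _ _ sq h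

theorem finiteType_of_comp_of_smooth_faithfullyFlat (A B C : Type u) [CommRing A] [CommRing B]
    [CommRing C] [Algebra A B] [Algebra B C] [Algebra A C] [IsScalarTower A B C]
    [Algebra.Smooth B C] [Module.FaithfullyFlat B C] [Algebra.FiniteType A C] :
    Algebra.FiniteType A B := by
  obtain ⟨B₀, C₀, _, _, hfg, het, ⟨e⟩⟩ := Algebra.Smooth.exists_subalgebra_fg A B C
  have h1 : Algebra.FiniteType A B₀ := (Subalgebra.fg_iff_finiteType B₀).mp hfg
  suffices h2 : Algebra.FiniteType B₀ B from Algebra.FiniteType.trans h1 h2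
  have hff : Module.FaithfullyFlat B (B ⊗[B₀] C₀) :=
    Module.FaithfullyFlat.of_linearEquiv B C e.symm.toLinearEquiv
  have hsnd : LocallyOfFiniteType (Spec.map (CommRingCat.ofHom
      (Algebra.TensorProduct.includeRight.toRingHom : C₀ →+* B ⊗[B₀] C₀))) := by
    refine (HasRingHomProperty.Spec_iff (P := @LocallyOfFiniteType)).mpr ?_
    have hθ : ((e : C →+* B ⊗[B₀] C₀).comp (algebraMap A C)).FiniteType :=
      (RingHom.finiteType_algebraMap.mpr inferInstance).comp_surjective e.surjective
    rw [comp_eq_includeRight_comp A B₀ B C C₀ e] at hθ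
    exact hθ.of_comp_finiteType
  have key := spec_descends_of_smooth_tensor (P := @LocallyOfFiniteType)
    (fun j _ => inferInstance) B₀ B C₀ hff hsnd
  exact RingHom.finiteType_algebraMap.mp
    ((HasRingHomProperty.Spec_iff (P := @LocallyOfFiniteType)).mp key)

/-- Core of the finite presentation descent: a smooth model of `C` over a finitely presented
quotient `R` of `A`. -/
theorem finitePresentation_of_model (A R B C B₀ C₀ : Type u) [CommRing A] [CommRing R] [CommRing B]
    [CommRing C] [CommRing B₀] [CommRing C₀]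
    [Algebra A R] [Algebra R B] [Algebra A B] [IsScalarTower A R B]
    [Algebra B C] [Algebra A C] [IsScalarTower A B C]
    [Algebra B₀ R] [Algebra B₀ B] [IsScalarTower B₀ R B] [Algebra B₀ C₀] [Algebra.Smooth B₀ C₀]
    (e : C ≃ₐ[B] B ⊗[B₀] C₀) [Module.FaithfullyFlat B C] [Algebra.FinitePresentation A C]
    [Algebra.FinitePresentation A R] : Algebra.FinitePresentation A B := by
  let ε : C ≃ₐ[B] B ⊗[R] (R ⊗[B₀] C₀) :=
    e.trans (Algebra.TensorProduct.cancelBaseChange B₀ R B B C₀).symm
  have hff : Module.FaithfullyFlat B (B ⊗[R] (R ⊗[B₀] C₀)) :=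
    Module.FaithfullyFlat.of_linearEquiv B C ε.symm.toLinearEquiv
  have key : LocallyOfFinitePresentation
      (Spec.map (CommRingCat.ofHom (algebraMap R B))) := by
    refine spec_descends_of_smooth_tensor (P := @LocallyOfFinitePresentation)
      (fun j _ => inferInstance) R B (R ⊗[B₀] C₀) hff ?_
    refine (HasRingHomProperty.Spec_iff (P := @LocallyOfFinitePresentation)).mpr ?_
    have hθ : ((ε : C →+* B ⊗[R] (R ⊗[B₀] C₀)).comp
        (algebraMap A C)).FinitePresentation :=
      (RingHom.FinitePresentation.of_bijective ε.bijective).comp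
        (RingHom.finitePresentation_algebraMap.mpr inferInstance)
    rw [comp_eq_includeRight_comp A R B C (R ⊗[B₀] C₀) ε] at hθ
    refine RingHom.FinitePresentation.of_comp_finiteType _ hθ ?_
    have h1 : (algebraMap A R).FiniteType :=
      RingHom.finiteType_algebraMap.mpr inferInstance
    have h2 : (algebraMap R (R ⊗[B₀] C₀)).FiniteType :=
      RingHom.finiteType_algebraMap.mpr inferInstance
    exact h2.comp h1
  have h3 : Algebra.FinitePresentation R B := RingHom.finitePresentation_algebraMap.mp
    ((HasRingHomProperty.Spec_iff (P := @LocallyOfFinitePresentation)).mp key)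
  exact Algebra.FinitePresentation.trans A R B

theorem finitePresentation_of_surjective_of_comp (A B C : Type u) [CommRing A] [CommRing B]
    [CommRing C] [Algebra A B] [Algebra B C] [Algebra A C] [IsScalarTower A B C]
    (hs : Function.Surjective (algebraMap A B))
    [Algebra.Smooth B C] [Module.FaithfullyFlat B C] [Algebra.FinitePresentation A C] :
    Algebra.FinitePresentation A B := by
  obtain ⟨B₀, C₀, _, _, hfg, het, ⟨e⟩⟩ := Algebra.Smooth.exists_subalgebra_fg ℤ B C
  obtain ⟨J, hJle, ρ, hJ, hρ⟩ := exists_ideal_lift_of_fg A B hs B₀ hfg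
  let _ : Algebra B₀ (A ⧸ J) := ρ.toAlgebra
  let _ : Algebra (A ⧸ J) B :=
    (Ideal.Quotient.lift J (algebraMap A B) (fun a ha => hJle ha)).toAlgebra
  have : IsScalarTower B₀ (A ⧸ J) B := IsScalarTower.of_algebraMap_eq (fun b₀ => (hρ b₀).symm)
  have : IsScalarTower A (A ⧸ J) B := IsScalarTower.of_algebraMap_eq (fun a => rfl)
  have : Algebra.FinitePresentation A (A ⧸ J) := Algebra.FinitePresentation.quotient hJ
  exact finitePresentation_of_model A (A ⧸ J) B C B₀ C₀ e

theorem finitePresentation_of_comp_of_smooth_faithfullyFlat (A B C : Type u) [CommRing A]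
    [CommRing B] [CommRing C] [Algebra A B] [Algebra B C] [Algebra A C] [IsScalarTower A B C]
    [Algebra.Smooth B C] [Module.FaithfullyFlat B C] [Algebra.FinitePresentation A C] :
    Algebra.FinitePresentation A B := by
  have hft : Algebra.FiniteType A B := finiteType_of_comp_of_smooth_faithfullyFlat A B C
  obtain ⟨n, f, hf⟩ := Algebra.FiniteType.iff_quotient_mvPolynomial''.mp hft
  let _ : Algebra (MvPolynomial (Fin n) A) B := f.toRingHom.toAlgebra
  let _ : Algebra (MvPolynomial (Fin n) A) C := ((algebraMap B C).comp f.toRingHom).toAlgebra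
  have : IsScalarTower (MvPolynomial (Fin n) A) B C := IsScalarTower.of_algebraMap_eq (fun _ => rfl)
  have : IsScalarTower A (MvPolynomial (Fin n) A) B :=
    IsScalarTower.of_algebraMap_eq (fun a => (f.commutes a).symm)
  have : IsScalarTower A (MvPolynomial (Fin n) A) C :=
    IsScalarTower.of_algebraMap_eq (fun a => by
      change algebraMap A C a = algebraMap B C (f (algebraMap A _ a))
      rw [f.commutes, ← IsScalarTower.algebraMap_apply])
  have : Algebra.FinitePresentation (MvPolynomial (Fin n) A) C :=
    Algebra.FinitePresentation.of_restrict_scalars_finitePresentation A _ C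
  have : Algebra.FinitePresentation (MvPolynomial (Fin n) A) B :=
    finitePresentation_of_surjective_of_comp (MvPolynomial (Fin n) A) B C hf
  exact Algebra.FinitePresentation.trans A (MvPolynomial (Fin n) A) B

end Groth.Agent.Lib.Helper66.SmoothSourceLocal
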