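import Groth.Agent.Lib.Helper66.SmoothSourceLocal

/-!
# Smooth-local on the source: scheme-level globalisation

`g : V' ⟶ V` smooth surjective and `P (g ≫ f)` imply `P f` for `P` locally of finite type and
locally of finite presentation (port of the globalisation in `Groth.Agent.H53.SourceLocal`).
-/

set_option autoImplicit false
universe u
open CategoryTheory CategoryTheory.Limits AlgebraicGeometry MorphismProperty TensorProduct

namespace Groth.Agent.Lib.Helper66.SmoothSourceLocal

open Groth.Agent.H53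

/-- A property `Q` of ring homomorphisms descends on the source along smooth faithfully flat
maps. -/
def RingSourceLocalSm (Q : ∀ {R S : Type u} [CommRing R] [CommRing S], (R →+* S) → Prop) : Prop :=
  ∀ {A B C : Type u} [CommRing A] [CommRing B] [CommRing C] (φ : A →+* B) (ψ : B →+* C),
    ψ.Smooth → ψ.FaithfullyFlat → Q (ψ.comp φ) → Q φ

theorem ringSourceLocalSm_finiteType : RingSourceLocalSm.{u} @RingHom.FiniteType := by
  intro A B C _ _ _ φ ψ h1 h2 h3
  algebraize [φ, ψ, ψ.comp φ]
  have : Module.FaithfullyFlat B C := h2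
  have : Algebra.Smooth B C := h1
  have : Algebra.FiniteType A C := h3
  exact finiteType_of_comp_of_smooth_faithfullyFlat A B C

theorem ringSourceLocalSm_finitePresentation :
    RingSourceLocalSm.{u} @RingHom.FinitePresentation := by
  intro A B C _ _ _ φ ψ h1 h2 h3
  algebraize [φ, ψ, ψ.comp φ]
  have : Module.FaithfullyFlat B C := h2
  have : Algebra.Smooth B C := h1
  have : Algebra.FinitePresentation A C := h3
  exact finitePresentation_of_comp_of_smooth_faithfullyFlat A B C

/-- Over a quasi-compact open of the target of an open surjective morphism there is an affine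
scheme etale over the source whose image is that open. -/
theorem exists_affine_etale_of_isCompact_of_isOpenMap {V' V : Scheme.{u}} (g : V' ⟶ V)
    (hg : IsOpenMap g) [Surjective g] (W : V.Opens) (hW : IsCompact (W : Set V)) :
    ∃ (V'' : Scheme.{u}) (k : V'' ⟶ V'), IsAffine V'' ∧ Etale k ∧
      Set.range (k ≫ g) = (W : Set V) := by
  have h1 : ∀ w : W, ∃ N : V'.Opens, IsAffineOpen N ∧ N ≤ g ⁻¹ᵁ W ∧ (w : V) ∈ g '' (N : Set V') := by
    intro w
    obtain ⟨v', hv'⟩ := g.surjective w
    have hv'W : v' ∈ g ⁻¹ᵁ W := by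
      change g v' ∈ W
      rw [hv']; exact w.2
    obtain ⟨_, ⟨N, hN : IsAffineOpen N, rfl⟩, hvN, hNle⟩ :=
      V'.isBasis_affineOpens.exists_subset_of_mem_open hv'W (g ⁻¹ᵁ W).2
    exact ⟨N, hN, hNle, v', hvN, hv'⟩
  choose N hNaff hNle hNmem using h1
  obtain ⟨t, ht⟩ := hW.elim_finite_subcover (fun w : W => g '' (N w : Set V'))
    (fun w => hg _ (N w).2) (fun w hw => Set.mem_iUnion.2 ⟨⟨w, hw⟩, hNmem ⟨w, hw⟩⟩)
  let V'₀ : V'.Opens := ⨆ w : t, N w.1
  have hcpt : IsCompact (V'₀ : Set V') := by
    rw [TopologicalSpace.Opens.coe_iSup]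
    exact isCompact_iUnion (fun w => (hNaff w.1).isCompact)
  have : CompactSpace ↥(V'₀.toScheme) := isCompact_iff_compactSpace.mp hcpt
  obtain ⟨V'', p, haff, hpe, hps⟩ := exists_affine_etale_surjective' V'₀.toScheme
  refine ⟨V'', p ≫ V'₀.ι, haff, inferInstance, ?_⟩
  have hr : Set.range (p ≫ V'₀.ι) = (V'₀ : Set V') := by
    rw [Scheme.Hom.comp_base, TopCat.coe_comp, Set.range_comp, p.surjective.range_eq,
      Set.image_univ, Scheme.Opens.range_ι]
  rw [Scheme.Hom.comp_base (p ≫ V'₀.ι) g, TopCat.coe_comp, Set.range_comp, hr]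
  apply Set.Subset.antisymm
  · rintro _ ⟨v', hv', rfl⟩
    rw [TopologicalSpace.Opens.coe_iSup] at hv'
    obtain ⟨w, hw⟩ := Set.mem_iUnion.1 hv'
    exact hNle w.1 hw
  · intro w hw
    obtain ⟨i, hi, hwi⟩ := Set.mem_iUnion₂.1 (ht hw)
    obtain ⟨v', hv', rfl⟩ := hwi
    refine ⟨v', ?_, rfl⟩
    rw [TopologicalSpace.Opens.coe_iSup]
    exact Set.mem_iUnion.2 ⟨⟨i, hi⟩, hv'⟩

/-- Main globalisation: a property of morphisms of schemes induced by a ring-hom property that
descends on the source along smooth faithfully flat maps is smooth local on the source. -/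
theorem of_comp_smooth_surjective {P : MorphismProperty Scheme.{u}}
    {Q : ∀ {R S : Type u} [CommRing R] [CommRing S], (R →+* S) → Prop} [HasRingHomProperty P Q]
    (hQ : RingSourceLocalSm @Q) [P.IsStableUnderBaseChange]
    (hPsm : ∀ {X Y Z : Scheme.{u}} (k : X ⟶ Y) (f : Y ⟶ Z) [Smooth k], P f → P (k ≫ f))
    {V' V T : Scheme.{u}} (g : V' ⟶ V) (f : V ⟶ T) [Smooth g] [Surjective g] (h : P (g ≫ f)) :
    P f := by
  rw [HasRingHomProperty.iff_appLE (P := P)]
  intro U W e
  obtain ⟨V'', k, haff, hk, hr⟩ :=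
    exists_affine_etale_of_isCompact_of_isOpenMap g g.isOpenMap W.1 W.2.isCompact
  have hle : Set.range (k ≫ g) ⊆ Set.range W.1.ι := by rw [hr, Scheme.Opens.range_ι]
  have ha₀ : IsOpenImmersion.lift W.1.ι (k ≫ g) hle ≫ W.1.ι = k ≫ g :=
    IsOpenImmersion.lift_fac _ _ _
  generalize IsOpenImmersion.lift W.1.ι (k ≫ g) hle = a at ha₀
  have : IsAffine W.1.toScheme := W.2
  have : IsAffine U.1.toScheme := U.2
  have hksm : Smooth k := inferInstance
  have hae : Smooth a := by
    have : Smooth (a ≫ W.1.ι) := by rw [ha₀]; infer_instance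
    exact MorphismProperty.of_postcomp (W := @Smooth) (W' := @IsOpenImmersion) a W.1.ι
      inferInstance this
  have has : Surjective a := ⟨fun w => by
    have : W.1.ι w ∈ Set.range (k ≫ g) := by rw [hr]; exact w.2
    obtain ⟨x, hx⟩ := this
    refine ⟨x, W.1.ι.injective ?_⟩
    rw [← Scheme.Hom.comp_apply, ha₀]; exact hx⟩
  have hb : f.resLE U.1 W.1 e ≫ U.1.ι = W.1.ι ≫ f := Scheme.Hom.resLE_comp_ι _ _
  have hab : P (a ≫ f.resLE U.1 W.1 e) := by
    apply P.of_postcomp (W' := @IsOpenImmersion) _ U.1.ι inferInstance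
    rw [Category.assoc, hb, ← Category.assoc, ha₀, Category.assoc]
    exact hPsm k _ h
  rw [HasRingHomProperty.iff_of_isAffine (P := P), Scheme.Hom.comp_appTop,
    CommRingCat.hom_comp] at hab
  have hQb : Q ((f.resLE U.1 W.1 e).appTop).hom :=
    hQ _ _ ((HasRingHomProperty.iff_of_isAffine (P := @Smooth)).mp hae)
      ((Flat.flat_and_surjective_iff_faithfullyFlat_of_isAffine (f := a)).mp ⟨inferInstance, has⟩) hab
  have hPb : P (f.resLE U.1 W.1 e) := (HasRingHomProperty.iff_of_isAffine (P := P)).mpr hQb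
  have key := HasRingHomProperty.appLE P _ hPb ⟨⊤, isAffineOpen_top _⟩ ⟨⊤, isAffineOpen_top _⟩
    le_top
  rw [Scheme.Hom.resLE_appLE] at key
  exact (Scheme.Hom.appLE_congr f _ (by simp) (by simp) (fun φ => Q φ.hom)).mp key

variable {V' V T : Scheme.{u}} (g : V' ⟶ V) (f : V ⟶ T) [Smooth g] [Surjective g]

theorem locallyOfFiniteType_of_comp_smooth_surjective (h : LocallyOfFiniteType (g ≫ f)) :
    LocallyOfFiniteType f :=
  of_comp_smooth_surjective (P := @LocallyOfFiniteType) ringSourceLocalSm_finiteType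
    (fun k f _ hf => by
      have : LocallyOfFiniteType f := hf
      exact (inferInstance : LocallyOfFiniteType (k ≫ f))) g f h

theorem locallyOfFinitePresentation_of_comp_smooth_surjective
    (h : LocallyOfFinitePresentation (g ≫ f)) : LocallyOfFinitePresentation f :=
  of_comp_smooth_surjective (P := @LocallyOfFinitePresentation)
    ringSourceLocalSm_finitePresentation
    (fun k f _ hf => by
      have : LocallyOfFinitePresentation f := hf
      exact (inferInstance : LocallyOfFinitePresentation (k ≫ f))) g f h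

end Groth.Agent.Lib.Helper66.SmoothSourceLocal
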