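import Groth.Prelude.Def_AlgSt6
import Groth.Agent.Lib.Helper31.FibCat

/-!
# Helper66: `[X/G]` with sheaf torsors is fibred in groupoids over `(Sch/S)`

Pullback objects of `AlgSt.SpQuotObj K G aX` along morphisms of the base scheme (for a precoverage `K` stable under
base change), and strong cartesianness of every morphism.
-/

set_option autoImplicit false
set_option backward.isDefEq.respectTransparency false
set_option backward.isDefEq.respectTransparency.types false
set_option linter.unusedSimpArgs false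
set_option linter.unusedVariables false

universe u

open CategoryTheory CategoryTheory.Limits MonoidalCategory CartesianMonoidalCategory MonObj GrpObj AlgebraicGeometry

namespace Groth.Agent.Lib.Helper66.SpQuotFib

open AlgSt

variable {S : Scheme.{u}} {K : Precoverage Scheme.{u}} {B : AlgSp.Sp S} {G : Over B} [GrpObj G] {X : Over B}
  {aX : AlgSp.GAction G X}

section Pb

variable (A : SpQuotObj K G aX) {V : Over S} {P' : Over B} {f : V ⟶ A.base}
  {b' : (AlgSp.yon S).obj V ⟶ B} (w : (AlgSp.yon S).map f ≫ A.b = b')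
  {p₁ : P' ⟶ A.P} {p₂ : P' ⟶ Over.mk b'}
  (sq : IsPullback p₁ p₂ A.π (bHom f w))

include sq in
theorem pbAct_aux : ((G ◁ p₁) ≫ A.act.act) ≫ A.π = (snd G P' ≫ p₂) ≫ bHom f w := by
  rw [Category.assoc, A.cart.w, ← Category.assoc, whiskerLeft_snd, Category.assoc, sq.w, Category.assoc]

/-- the action on a pullback of the torsor -/
noncomputable def pbActMor : G ⊗ P' ⟶ P' :=
  sq.lift ((G ◁ p₁) ≫ A.act.act) (snd G P' ≫ p₂) (pbAct_aux A w sq)

@[reassoc]
theorem pbActMor_fst : pbActMor A w sq ≫ p₁ = (G ◁ p₁) ≫ A.act.act := sq.lift_fst _ _ _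

@[reassoc]
theorem pbActMor_snd : pbActMor A w sq ≫ p₂ = snd G P' ≫ p₂ := sq.lift_snd _ _ _

/-- the action on a pullback of the torsor -/
noncomputable def pbAct : AlgSp.GAction G P' where
  act := pbActMor A w sq
  one_act := by
    apply sq.hom_ext
    · rw [Category.assoc, pbActMor_fst, ← Category.assoc, ← whisker_exchange, Category.assoc, A.act.one_act,
        leftUnitor_naturality]
    · rw [Category.assoc, pbActMor_snd, ← Category.assoc, whiskerRight_snd, leftUnitor_hom]
  mul_act := by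
    apply sq.hom_ext
    · rw [Category.assoc, pbActMor_fst, ← Category.assoc, ← whisker_exchange, Category.assoc, A.act.mul_act]
      simp only [Category.assoc]
      rw [pbActMor_fst, ← MonoidalCategory.whiskerLeft_comp_assoc, pbActMor_fst,
        MonoidalCategory.whiskerLeft_comp, Category.assoc, associator_naturality_right_assoc]
    · simp only [Category.assoc]
      rw [pbActMor_snd, whiskerRight_snd_assoc, whiskerLeft_snd_assoc, pbActMor_snd,
        associator_hom_snd_snd_assoc]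

@[simp] theorem pbAct_act : (pbAct A w sq).act = pbActMor A w sq := rfl

theorem pb_cart : IsPullback (pbActMor A w sq) (snd G P') p₂ p₂ := by
  have outer : IsPullback ((G ◁ p₁) ≫ A.act.act) (snd G P') A.π (p₁ ≫ A.π) :=
    (isPullback_whiskerLeft' (G := G) p₁).paste_horiz A.cart
  have outer' : IsPullback (pbActMor A w sq ≫ p₁) (snd G P') A.π (p₂ ≫ bHom f w) := by
    rw [pbActMor_fst, ← sq.w]
    exact outer
  exact IsPullback.of_right outer' (pbActMor_snd A w sq) sq

include sq in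
theorem pb_loc [K.IsStableUnderBaseChange] : HasSecLoc K p₂.left := by
  obtain ⟨R, hR, hsec⟩ := A.loc
  have sq' : IsPullback p₁.left p₂.left A.π.left ((AlgSp.yon S).map f) := sq.map (Over.forget B)
  refine ⟨R.pullbackArrows f.left, Precoverage.pullbackArrows_mem f.left hR, ?_⟩
  rintro S' g ⟨Z, h, hh⟩
  obtain ⟨s, hs⟩ := hsec h hh
  have e0 : pullback.fst h f.left ≫ h ≫ A.base.hom = pullback.snd h f.left ≫ V.hom := by
    rw [← Over.w f, ← Category.assoc, ← Category.assoc, pullback.condition]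
  let m1 : Over.mk (pullback.snd h f.left ≫ V.hom) ⟶ Over.mk (h ≫ A.base.hom) :=
    Over.homMk (pullback.fst h f.left) e0
  let m2 : Over.mk (pullback.snd h f.left ≫ V.hom) ⟶ V := Over.homMk (pullback.snd h f.left)
  have e1 : m1 ≫ (Over.homMk h : Over.mk (h ≫ A.base.hom) ⟶ A.base) = m2 ≫ f :=
    Over.OverMorphism.ext pullback.condition
  refine ⟨sq'.lift ((AlgSp.yon S).map m1 ≫ s) ((AlgSp.yon S).map m2) ?_, ?_⟩
  · rw [Category.assoc, hs, ← Functor.map_comp, ← Functor.map_comp, e1]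
  · exact sq'.lift_snd _ _ _

/-- the pullback of an object of `[X/G]` along a morphism to its base, on a given fibre product -/
noncomputable def pbObj [K.IsStableUnderBaseChange] : SpQuotObj K G aX where
  base := V
  b := b'
  P := P'
  act := pbAct A w sq
  π := p₂
  cart := pb_cart A w sq
  loc := pb_loc A w sq
  φ := p₁ ≫ A.φ
  eqv := by
    change pbActMor A w sq ≫ p₁ ≫ A.φ = (G ◁ (p₁ ≫ A.φ)) ≫ aX.act
    rw [pbActMor_fst_assoc, A.eqv, MonoidalCategory.whiskerLeft_comp, Category.assoc]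

/-- the projection from the pullback -/
noncomputable def pbHom [K.IsStableUnderBaseChange] : pbObj A w sq ⟶ A where
  base := f
  wb := w
  top := p₁
  eqv := pbActMor_fst A w sq
  cart := sq
  wφ := rfl

end Pb

section Cart

theorem factor_wb {A A' Z : SpQuotObj K G aX} (φ : A' ⟶ A) (ψ : Z ⟶ A) (g : Z.base ⟶ A'.base)
    (hg : g ≫ φ.base = ψ.base) : (AlgSp.yon S).map g ≫ A'.b = Z.b := by
  rw [← ψ.wb, ← hg, Functor.map_comp, Category.assoc, φ.wb]

theorem factor_bHom {A A' Z : SpQuotObj K G aX} (φ : A' ⟶ A) (ψ : Z ⟶ A) (g : Z.base ⟶ A'.base)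
    (hg : g ≫ φ.base = ψ.base) : bHom g (factor_wb φ ψ g hg) ≫ bHom φ.base φ.wb = bHom ψ.base ψ.wb := by
  ext
  simp [← hg]

/-- the total map of the factorisation -/
noncomputable def factorTop {A A' Z : SpQuotObj K G aX} (φ : A' ⟶ A) (ψ : Z ⟶ A) (g : Z.base ⟶ A'.base)
    (hg : g ≫ φ.base = ψ.base) : Z.P ⟶ A'.P :=
  φ.cart.lift ψ.top (Z.π ≫ bHom g (factor_wb φ ψ g hg)) (by
    rw [Category.assoc, factor_bHom φ ψ g hg, ψ.cart.w])

theorem factorTop_fst {A A' Z : SpQuotObj K G aX} (φ : A' ⟶ A) (ψ : Z ⟶ A) (g : Z.base ⟶ A'.base)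
    (hg : g ≫ φ.base = ψ.base) : factorTop φ ψ g hg ≫ φ.top = ψ.top := φ.cart.lift_fst _ _ _

theorem factorTop_snd {A A' Z : SpQuotObj K G aX} (φ : A' ⟶ A) (ψ : Z ⟶ A) (g : Z.base ⟶ A'.base)
    (hg : g ≫ φ.base = ψ.base) : factorTop φ ψ g hg ≫ A'.π = Z.π ≫ bHom g (factor_wb φ ψ g hg) :=
  φ.cart.lift_snd _ _ _

/-- factorisation through a morphism of `[X/G]` (every morphism is strongly cartesian) -/
noncomputable def factor {A A' Z : SpQuotObj K G aX} (φ : A' ⟶ A) (ψ : Z ⟶ A) (g : Z.base ⟶ A'.base)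
    (hg : g ≫ φ.base = ψ.base) : Z ⟶ A' where
  base := g
  wb := factor_wb φ ψ g hg
  top := factorTop φ ψ g hg
  eqv := by
    apply φ.cart.hom_ext
    · rw [Category.assoc, factorTop_fst, ψ.eqv, Category.assoc, φ.eqv,
        ← MonoidalCategory.whiskerLeft_comp_assoc, factorTop_fst]
    · rw [Category.assoc, factorTop_snd, Category.assoc, A'.cart.w, whiskerLeft_snd_assoc,
        factorTop_snd, ← Category.assoc, Z.cart.w, Category.assoc]
  cart := by
    have h1 : IsPullback (factorTop φ ψ g hg ≫ φ.top) Z.π A.π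
        (bHom g (factor_wb φ ψ g hg) ≫ bHom φ.base φ.wb) := by
      rw [factorTop_fst, factor_bHom φ ψ g hg]
      exact ψ.cart
    exact IsPullback.of_right h1 (factorTop_snd φ ψ g hg) φ.cart
  wφ := by rw [← φ.wφ, ← Category.assoc, factorTop_fst, ψ.wφ]

@[simp] theorem factor_base {A A' Z : SpQuotObj K G aX} (φ : A' ⟶ A) (ψ : Z ⟶ A) (g : Z.base ⟶ A'.base)
    (hg : g ≫ φ.base = ψ.base) : (factor φ ψ g hg).base = g := rfl

theorem factor_comp {A A' Z : SpQuotObj K G aX} (φ : A' ⟶ A) (ψ : Z ⟶ A) (g : Z.base ⟶ A'.base)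
    (hg : g ≫ φ.base = ψ.base) : factor φ ψ g hg ≫ φ = ψ := by
  apply SpQuotObj.hom_ext
  · exact hg
  · exact factorTop_fst φ ψ g hg

theorem factor_unique {A A' Z : SpQuotObj K G aX} (φ : A' ⟶ A) (ψ : Z ⟶ A) (g : Z.base ⟶ A'.base)
    (hg : g ≫ φ.base = ψ.base) (χ : Z ⟶ A') (h1 : χ.base = g) (h2 : χ ≫ φ = ψ) : χ = factor φ ψ g hg := by
  apply SpQuotObj.hom_ext
  · exact h1
  · apply φ.cart.hom_ext
    · rw [show (factor φ ψ g hg).top ≫ φ.top = ψ.top from factorTop_fst φ ψ g hg]
      exact congrArg SpQuotObj.Hom.top h2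
    · rw [show (factor φ ψ g hg).top ≫ A'.π = Z.π ≫ bHom g (factor_wb φ ψ g hg) from
        factorTop_snd φ ψ g hg, χ.cart.w]
      congr 1
      ext
      simp [h1]

end Cart

/-- **`[X/G]` with sheaf torsors is fibred in groupoids over `(Sch/S)`** (for `K` stable under base change). -/
theorem isFibGrpd_spQuotSt [K.IsStableUnderBaseChange] : FibCat.IsFibGrpd (SpQuotSt K G aX).p := by
  refine ⟨?_, ?_⟩
  · intro A V f
    have sq : IsPullback (pullback.fst A.π (bHom f rfl)) (pullback.snd A.π (bHom f rfl)) A.π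
        (bHom f (rfl : (AlgSp.yon S).map f ≫ A.b = (AlgSp.yon S).map f ≫ A.b)) := IsPullback.of_hasPullback _ _
    exact ⟨pbObj A rfl sq, pbHom A rfl sq,
      inferInstanceAs ((SpQuotObj.forget K G aX).IsHomLift ((SpQuotObj.forget K G aX).map (pbHom A rfl sq))
        (pbHom A rfl sq))⟩
  · intro A' A φ
    refine { toIsHomLift := inferInstance, universal_property' := ?_ }
    intro Z g ψ hψ
    have e1 : g ≫ φ.base = ψ.base :=
      IsHomLift.eq_of_isHomLift (SpQuotObj.forget K G aX) (g ≫ (SpQuotObj.forget K G aX).map φ) ψ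
    obtain ⟨g', hg'⟩ : ∃ g' : Z.base ⟶ A'.base, g' = g := ⟨g, rfl⟩
    have e1' : g' ≫ φ.base = ψ.base := by rw [hg']; exact e1
    refine ⟨factor φ ψ g' e1', ⟨?_, factor_comp φ ψ g' e1'⟩, ?_⟩
    · rw [← hg']
      exact inferInstanceAs ((SpQuotObj.forget K G aX).IsHomLift
        ((SpQuotObj.forget K G aX).map (factor φ ψ g' e1')) (factor φ ψ g' e1'))
    · rintro χ' ⟨hχ'1, hχ'2⟩
      have : g = χ'.base := IsHomLift.eq_of_isHomLift (SpQuotObj.forget K G aX) g χ'
      exact factor_unique φ ψ g' e1' χ' (this.symm.trans hg'.symm) hχ'2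

end Groth.Agent.Lib.Helper66.SpQuotFib
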