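import Groth.Agent.Lib.Helper51.SpPullbackPts
import Groth.Prelude.Def_AlgSt6

/-!
# Helper66: morphisms out of a sheaf over a representable sheaf, locally on the base

For a map of fppf sheaves `π : P ⟶ h_T` and a covering sieve `R` of `T`: morphisms out of `P` are determined by, and
glue from, their values on the points of `P` lying over arrows of `R`.
-/

set_option autoImplicit false
set_option backward.isDefEq.respectTransparency false
set_option backward.isDefEq.respectTransparency.types false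
set_option linter.unusedSimpArgs false
set_option linter.unusedVariables false

universe u

open CategoryTheory CategoryTheory.Limits AlgebraicGeometry

namespace Groth.Agent.Lib.Helper66.SpSieveGlue

open AlgSp Groth.Agent.Lib.Helper51

variable {S : Scheme.{u}} {T : Over S} {P Z : Sp S} (π : P ⟶ (yon S).obj T) {R : Sieve T} (hR : R ∈ J S T)

/-- the arrow of the base under a point of `P` -/
noncomputable def baseOf {Y : Over S} (q : (yon S).obj Y ⟶ P) : Y ⟶ T := (yon S).preimage (q ≫ π)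

theorem yon_baseOf {Y : Over S} (q : (yon S).obj Y ⟶ P) : (yon S).map (baseOf π q) = q ≫ π :=
  (yon S).map_preimage _

theorem baseOf_comp {Y Y' : Over S} (m : Y' ⟶ Y) (q : (yon S).obj Y ⟶ P) :
    baseOf π ((yon S).map m ≫ q) = m ≫ baseOf π q := by
  apply (yon S).map_injective
  rw [yon_baseOf, Functor.map_comp, yon_baseOf, Category.assoc]

include hR in
/-- morphisms out of `P` which agree on the points over arrows of a covering sieve agree -/
theorem hom_ext_of_sieve {a b : P ⟶ Z}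
    (h : ∀ ⦃Y : Over S⦄ (k : Y ⟶ T), R k → ∀ q : (yon S).obj Y ⟶ P, q ≫ π = (yon S).map k → q ≫ a = q ≫ b) :
    a = b := by
  apply Groth.Agent.H52.sp_hom_ext
  intro U' x
  refine yon_hom_ext_of_mem_J ((J S).pullback_stable (baseOf π x) hR) ?_
  intro Y m hm
  rw [← Category.assoc, ← Category.assoc]
  refine h (m ≫ baseOf π x) hm _ ?_
  rw [Functor.map_comp, yon_baseOf, Category.assoc]

include hR in
/-- **gluing of morphisms out of `P`** from their values on the points over arrows of a covering sieve -/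
theorem exists_glue_of_sieve
    (x : ∀ ⦃Y : Over S⦄ (k : Y ⟶ T), R k → ∀ q : (yon S).obj Y ⟶ P, q ≫ π = (yon S).map k → ((yon S).obj Y ⟶ Z))
    (hx : ∀ ⦃Y Y' : Over S⦄ (m : Y' ⟶ Y) (k : Y ⟶ T) (hk : R k) (q : (yon S).obj Y ⟶ P)
      (hq : q ≫ π = (yon S).map k) (k' : Y' ⟶ T) (hk' : R k') (q' : (yon S).obj Y' ⟶ P)
      (hq' : q' ≫ π = (yon S).map k'), (yon S).map m ≫ q = q' →
      x k' hk' q' hq' = (yon S).map m ≫ x k hk q hq) :
    ∃ a : P ⟶ Z, ∀ ⦃Y : Over S⦄ (k : Y ⟶ T) (hk : R k) (q : (yon S).obj Y ⟶ P) (hq : q ≫ π = (yon S).map k),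
      q ≫ a = x k hk q hq := by
  have hqm : ∀ ⦃U' Y : Over S⦄ (w : (yon S).obj U' ⟶ P) (m : Y ⟶ U'),
      ((yon S).map m ≫ w) ≫ π = (yon S).map (m ≫ baseOf π w) := by
    intro U' Y w m
    rw [Functor.map_comp, yon_baseOf, Category.assoc]
  -- the value on an arbitrary point, by gluing
  have hex : ∀ ⦃U' : Over S⦄ (w : (yon S).obj U' ⟶ P), ∃ ξ : (yon S).obj U' ⟶ Z,
      ∀ ⦃Y : Over S⦄ (m : Y ⟶ U') (hm : R (m ≫ baseOf π w)),
        (yon S).map m ≫ ξ = x (m ≫ baseOf π w) hm ((yon S).map m ≫ w) (hqm w m) := by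
    intro U' w
    refine exists_yon_glue ((J S).pullback_stable (baseOf π w) hR)
      (fun Y m hm => x (m ≫ baseOf π w) hm ((yon S).map m ≫ w) (hqm w m)) ?_
    intro Y Y' m hm r
    exact (hx r (m ≫ baseOf π w) hm ((yon S).map m ≫ w) (hqm w m) ((r ≫ m) ≫ baseOf π w) _
      ((yon S).map (r ≫ m) ≫ w) (hqm w (r ≫ m)) (by rw [Functor.map_comp, Category.assoc])).symm
  choose G hG using hex
  have hnat : ∀ ⦃U' U'' : Over S⦄ (r : U'' ⟶ U') (w : (yon S).obj U' ⟶ P),
      G ((yon S).map r ≫ w) = (yon S).map r ≫ G w := by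
    intro U' U'' r w
    refine yon_hom_ext_of_mem_J ((J S).pullback_stable (baseOf π ((yon S).map r ≫ w)) hR) ?_
    intro Y m hm
    have hm' : R ((m ≫ r) ≫ baseOf π w) := by
      have e : (m ≫ r) ≫ baseOf π w = m ≫ baseOf π ((yon S).map r ≫ w) := by
        rw [baseOf_comp, Category.assoc]
      rw [e]; exact hm
    refine (hG _ m hm).trans ?_
    refine (hx (𝟙 Y) ((m ≫ r) ≫ baseOf π w) hm' ((yon S).map (m ≫ r) ≫ w) (hqm w (m ≫ r))
      (m ≫ baseOf π ((yon S).map r ≫ w)) hm ((yon S).map m ≫ (yon S).map r ≫ w) (hqm _ m) (by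
      rw [CategoryTheory.Functor.map_id, Category.id_comp, Functor.map_comp, Category.assoc])).trans ?_
    have h3 : (yon S).map (𝟙 Y) ≫ x ((m ≫ r) ≫ baseOf π w) hm' ((yon S).map (m ≫ r) ≫ w) (hqm w (m ≫ r)) =
        x ((m ≫ r) ≫ baseOf π w) hm' ((yon S).map (m ≫ r) ≫ w) (hqm w (m ≫ r)) := by
      rw [CategoryTheory.Functor.map_id]; exact Category.id_comp _
    refine h3.trans ?_
    refine (hG w (m ≫ r) hm').symm.trans ?_
    rw [Functor.map_comp, Category.assoc]
  refine ⟨homOfYon G hnat, ?_⟩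
  intro Y k hk q hq
  rw [comp_homOfYon]
  have hb : baseOf π q = k := (yon S).map_injective (by rw [yon_baseOf, hq])
  have hk1 : R (𝟙 Y ≫ baseOf π q) := by rw [Category.id_comp, hb]; exact hk
  have h1 := hG q (𝟙 Y) hk1
  have h0 : (yon S).map (𝟙 Y) ≫ G q = G q := by
    rw [CategoryTheory.Functor.map_id]; exact Category.id_comp _
  refine h0.symm.trans (h1.trans ?_)
  refine (hx (𝟙 Y) k hk q hq (𝟙 Y ≫ baseOf π q) hk1 ((yon S).map (𝟙 Y) ≫ q) (hqm q (𝟙 Y)) rfl).trans ?_
  rw [CategoryTheory.Functor.map_id]; exact Category.id_comp _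

end Groth.Agent.Lib.Helper66.SpSieveGlue
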