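import Groth.Agent.Lib.Helper66.SpQuotFib
import Groth.Agent.Lib.Helper66.SpSieveGlue
import Groth.Agent.Lib.Helper66.SpTorsor1
import Groth.Agent.Lib.Helper66.StackCrit

/-!
# Helper66: gluing of morphisms of `[X/G]` with sheaf torsors

An equivariant morphism of fppf sheaf torsors over a morphism of the bases is cartesian; morphisms of
`AlgSt.SpQuotSt` over an identity are separated and glue; hence `SpQuotSt` is a prestack for the fppf topology.
-/

set_option autoImplicit false
set_option backward.isDefEq.respectTransparency false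
set_option backward.isDefEq.respectTransparency.types false
set_option linter.unusedSimpArgs false
set_option linter.unusedVariables false

universe u

open CategoryTheory CategoryTheory.Limits MonoidalCategory CartesianMonoidalCategory MonObj GrpObj AlgebraicGeometry

namespace Groth.Agent.Lib.Helper66.SpQuotGlue

open AlgSt Groth.Agent.Lib.Helper66.SpQuotFib Groth.Agent.Lib.Helper66.SpSieveGlue Groth.Agent.Lib.Helper51

variable {S : Scheme.{u}} {K : Precoverage Scheme.{u}} {B : AlgSp.Sp S} {G : Over B} [GrpObj G] {X : Over B}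
  {aX : AlgSp.GAction G X}

section Torsor

/-- `1 · y = y` on points. -/
theorem act_one_pt {T Y : Over B} (a : AlgSp.GAction G Y) (y : T ⟶ Y) :
    lift (1 : T ⟶ G) y ≫ a.act = y := by
  have h1 : lift (1 : T ⟶ G) y = lift (toUnit T) y ≫ (η[G] ▷ Y) := by
    apply CartesianMonoidalCategory.hom_ext
    · simp only [Hom.one_def, Category.assoc, lift_fst, whiskerRight_fst, lift_fst_assoc]
    · simp only [Category.assoc, lift_snd, whiskerRight_snd]
  rw [h1, Category.assoc, a.one_act, leftUnitor_hom, lift_snd]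

/-- two points of a torsor over the same point of the base differ by a point of the group -/
theorem exists_transl (A : SpQuotObj K G aX) {T : Over B} (p p' : T ⟶ A.P) (h : p ≫ A.π = p' ≫ A.π) :
    ∃ gg : T ⟶ G, lift gg p' ≫ A.act.act = p := by
  refine ⟨A.cart.lift p p' h ≫ fst G A.P, ?_⟩
  have e : lift (A.cart.lift p p' h ≫ fst G A.P) p' = A.cart.lift p p' h := by
    apply CartesianMonoidalCategory.hom_ext
    · rw [lift_fst]
    · rw [lift_snd]; exact (A.cart.lift_snd p p' h).symm
  rw [e]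
  exact A.cart.lift_fst p p' h

theorem transl_unique (A : SpQuotObj K G aX) {T : Over B} (p' : T ⟶ A.P) (gg gg' : T ⟶ G)
    (h : lift gg p' ≫ A.act.act = lift gg' p' ≫ A.act.act) : gg = gg' := by
  have e : lift gg p' = lift gg' p' := by
    apply A.cart.hom_ext
    · exact h
    · rw [lift_snd, lift_snd]
  have := congrArg (fun t => t ≫ fst G A.P) e
  simpa using this

theorem lift_act_comp {Y Y' : Over B} (a : AlgSp.GAction G Y) (a' : AlgSp.GAction G Y') (top : Y ⟶ Y')
    (heq : a.act ≫ top = (G ◁ top) ≫ a'.act) {T : Over B} (gg : T ⟶ G) (p : T ⟶ Y) :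
    (lift gg p ≫ a.act) ≫ top = lift gg (p ≫ top) ≫ a'.act := by
  rw [Category.assoc, heq, ← Category.assoc]
  congr 1
  apply CartesianMonoidalCategory.hom_ext
  · rw [Category.assoc, whiskerLeft_fst, lift_fst, lift_fst]
  · rw [Category.assoc, whiskerLeft_snd, lift_snd_assoc, lift_snd]

theorem lift_act_π (A : SpQuotObj K G aX) {T : Over B} (gg : T ⟶ G) (p : T ⟶ A.P) :
    (lift gg p ≫ A.act.act) ≫ A.π = p ≫ A.π := by
  rw [Category.assoc, A.cart.w, ← Category.assoc, lift_snd]

/-- an equivariant morphism of pseudo-torsors is injective on the points over a given point of the base -/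
theorem equivariant_mono (A A' : SpQuotObj K G aX) (top : A.P ⟶ A'.P)
    (heq : A.act.act ≫ top = (G ◁ top) ≫ A'.act.act) {T : Over B} (p p' : T ⟶ A.P)
    (h1 : p ≫ top = p' ≫ top) (h2 : p ≫ A.π = p' ≫ A.π) : p = p' := by
  obtain ⟨gg, hgg⟩ := exists_transl A p p' h2
  have e1 : lift gg (p' ≫ top) ≫ A'.act.act = lift (1 : T ⟶ G) (p' ≫ top) ≫ A'.act.act := by
    rw [← lift_act_comp A.act A'.act top heq, hgg, h1, act_one_pt]
  have e2 : gg = 1 := transl_unique A' (p' ≫ top) gg 1 e1
  rw [← hgg, e2, act_one_pt]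

theorem hom_P (A : SpQuotObj K G aX) : A.π.left ≫ A.b = A.P.hom := Over.w A.π

/-- the same, on points of the underlying sheaves -/
theorem pt_unique (A A' : SpQuotObj K G aX) (top : A.P ⟶ A'.P)
    (heq : A.act.act ≫ top = (G ◁ top) ≫ A'.act.act) {T : Over S}
    (a a' : (AlgSp.yon S).obj T ⟶ A.P.left) (h1 : a ≫ top.left = a' ≫ top.left)
    (h2 : a ≫ A.π.left = a' ≫ A.π.left) : a = a' := by
  have hβ : a' ≫ A.P.hom = a ≫ A.P.hom := by
    rw [← hom_P A, ← Category.assoc, ← Category.assoc, h2]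
  let pB : Over.mk (a ≫ A.P.hom) ⟶ A.P := Over.homMk a rfl
  let pB' : Over.mk (a ≫ A.P.hom) ⟶ A.P := Over.homMk a' hβ
  have h : pB = pB' := equivariant_mono A A' top heq pB pB' (Over.OverMorphism.ext h1)
    (Over.OverMorphism.ext h2)
  exact congrArg CommaMorphism.left h

end Torsor

section Equivariant

/-- **An equivariant morphism of fppf sheaf torsors over a morphism of the bases is cartesian.** -/
theorem isPullback_of_equivariant (A A' : SpQuotObj Scheme.fppfPrecoverage G aX) (f : A.base ⟶ A'.base)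
    (wb : (AlgSp.yon S).map f ≫ A'.b = A.b) (top : A.P ⟶ A'.P)
    (heq : A.act.act ≫ top = (G ◁ top) ≫ A'.act.act) (hw : top ≫ A'.π = A.π ≫ bHom f wb) :
    IsPullback top A.π A'.π (bHom f wb) := by
  refine IsPullback.of_map (Over.forget B) hw ?_
  change IsPullback top.left A.π.left A'.π.left ((AlgSp.yon S).map f)
  have hwl : top.left ≫ A'.π.left = A.π.left ≫ (AlgSp.yon S).map f := congrArg CommaMorphism.left hw
  refine isPullback_of_forall_yon _ _ _ _ hwl ?_
  intro T q c hqc
  obtain ⟨c₀, rfl⟩ := (AlgSp.yon S).map_surjective c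
  -- existence, by gluing local lifts
  have hSv : (SpTorsor.liftSieve A).pullback c₀ ∈ AlgSp.J S T :=
    (AlgSp.J S).pullback_stable c₀ (SpTorsor.liftSieve_mem A)
  have hloc : ∀ ⦃Y : Over S⦄ (k : Y ⟶ T), (SpTorsor.liftSieve A).pullback c₀ k →
      ∃ p : (AlgSp.yon S).obj Y ⟶ A.P.left, p ≫ top.left = (AlgSp.yon S).map k ≫ q ∧
        p ≫ A.π.left = (AlgSp.yon S).map k ≫ (AlgSp.yon S).map c₀ := by
    rintro Y k ⟨σ, hσ⟩
    have hσ' : σ ≫ A.π.left = (AlgSp.yon S).map k ≫ (AlgSp.yon S).map c₀ := by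
      rw [hσ, Functor.map_comp]
    have hβ : σ ≫ A.P.hom = ((AlgSp.yon S).map k ≫ q) ≫ A'.P.hom := by
      rw [← hom_P A, ← hom_P A', ← Category.assoc, hσ', Category.assoc ((AlgSp.yon S).map k) q,
        ← Category.assoc q, hqc]
      simp only [Category.assoc, wb]
    let kq : Over.mk (((AlgSp.yon S).map k ≫ q) ≫ A'.P.hom) ⟶ A'.P := Over.homMk ((AlgSp.yon S).map k ≫ q) rfl
    let σB : Over.mk (((AlgSp.yon S).map k ≫ q) ≫ A'.P.hom) ⟶ A.P := Over.homMk σ hβ
    have h1 : kq ≫ A'.π = (σB ≫ top) ≫ A'.π := by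
      apply Over.OverMorphism.ext
      change ((AlgSp.yon S).map k ≫ q) ≫ A'.π.left = (σ ≫ top.left) ≫ A'.π.left
      rw [Category.assoc, hqc, Category.assoc, hwl, ← Category.assoc σ, hσ', Category.assoc]
    obtain ⟨gg, hgg⟩ := exists_transl A' kq (σB ≫ top) h1
    refine ⟨(lift gg σB ≫ A.act.act).left, ?_, ?_⟩
    · have := congrArg CommaMorphism.left ((lift_act_comp A.act A'.act top heq gg σB).trans hgg)
      exact this
    · have := congrArg CommaMorphism.left (lift_act_π A gg σB)
      exact this.trans hσ'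
  choose pl hpl1 hpl2 using hloc
  obtain ⟨p, hp⟩ := exists_yon_glue hSv pl (by
    intro Y Z k hk m
    apply pt_unique A A' top heq
    · rw [Category.assoc, hpl1 k hk, hpl1 (m ≫ k) _, Functor.map_comp, Category.assoc]
    · rw [Category.assoc, hpl2 k hk, hpl2 (m ≫ k) _, Functor.map_comp, Category.assoc])
  refine ⟨p, ⟨?_, ?_⟩, ?_⟩
  · refine yon_hom_ext_of_mem_J hSv ?_
    intro Y k hk
    rw [← Category.assoc, hp k hk, hpl1 k hk]
  · refine yon_hom_ext_of_mem_J hSv ?_
    intro Y k hk
    rw [← Category.assoc, hp k hk, hpl2 k hk]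
  · rintro a ⟨ha1, ha2⟩
    apply pt_unique A A' top heq
    · rw [ha1]
      refine yon_hom_ext_of_mem_J hSv ?_
      intro Y k hk
      rw [← Category.assoc, hp k hk, hpl1 k hk]
    · rw [ha2]
      refine yon_hom_ext_of_mem_J hSv ?_
      intro Y k hk
      rw [← Category.assoc, hp k hk, hpl2 k hk]

end Equivariant

end Groth.Agent.Lib.Helper66.SpQuotGlue
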