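import Groth.Agent.Lib.Helper66.SpQuotGlue

/-!
# Helper66: `[X/G]` with fppf sheaf torsors is a prestack

Morphisms of `AlgSt.SpQuotSt Scheme.fppfPrecoverage G aX` over an identity are separated and glue
(`StackCrit.HomSep`, `StackCrit.HomGlue`), hence `SpQuotSt` is a prestack for the fppf topology `AlgSp.J S`.
-/

set_option autoImplicit false
set_option backward.isDefEq.respectTransparency false
set_option backward.isDefEq.respectTransparency.types false
set_option linter.unusedSimpArgs false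
set_option linter.unusedVariables false

universe u

open CategoryTheory CategoryTheory.Limits MonoidalCategory CartesianMonoidalCategory MonObj GrpObj AlgebraicGeometry

namespace Groth.Agent.Lib.Helper66.SpQuotGlue

open AlgSt Groth.Agent.Lib.Helper66.SpQuotFib Groth.Agent.Lib.Helper66.SpSieveGlue Groth.Agent.Lib.Helper51

variable {S : Scheme.{u}} {K : Precoverage Scheme.{u}} {B : AlgSp.Sp S} {G : Over B} [GrpObj G] {X : Over B}
  {aX : AlgSp.GAction G X}

section Canon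

variable [K.IsStableUnderBaseChange]

theorem pbHom_isHomLift (x : SpQuotObj K G aX) {W : Over S} (g : W ⟶ x.base)
    {b' : (AlgSp.yon S).obj W ⟶ B} (w : (AlgSp.yon S).map g ≫ x.b = b') {P' : Over B} {p₁ : P' ⟶ x.P}
    {p₂ : P' ⟶ Over.mk b'} (sq : IsPullback p₁ p₂ x.π (bHom g w)) :
    (SpQuotSt K G aX).p.IsHomLift g (pbHom x w sq) :=
  inferInstanceAs ((SpQuotObj.forget K G aX).IsHomLift ((SpQuotObj.forget K G aX).map (pbHom x w sq))
    (pbHom x w sq))

theorem hom_isHomLift_base {s x : SpQuotObj K G aX} (ψ : s ⟶ x) :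
    (SpQuotSt K G aX).p.IsHomLift ψ.base ψ :=
  inferInstanceAs ((SpQuotObj.forget K G aX).IsHomLift ((SpQuotObj.forget K G aX).map ψ) ψ)

/-- the object of `Over B` of a scheme mapping to the base of `x` -/
abbrev yB (x : SpQuotObj K G aX) {W : Over S} (g : W ⟶ x.base) : Over B :=
  Over.mk ((AlgSp.yon S).map g ≫ x.b)

/-- the structure morphism `h_W ⟶ h_{x.base}` over `B` -/
abbrev yBhom (x : SpQuotObj K G aX) {W : Over S} (g : W ⟶ x.base) : yB x g ⟶ Over.mk x.b :=
  bHom g rfl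

theorem yBmap_w (x : SpQuotObj K G aX) {W W' : Over S} (g : W ⟶ x.base) (g' : W' ⟶ x.base) (l : W' ⟶ W)
    (hl : l ≫ g = g') : (AlgSp.yon S).map l ≫ (AlgSp.yon S).map g ≫ x.b = (AlgSp.yon S).map g' ≫ x.b := by
  rw [← hl, Functor.map_comp, Category.assoc]

/-- the transition morphisms over `B` -/
abbrev yBmap (x : SpQuotObj K G aX) {W W' : Over S} (g : W ⟶ x.base) (g' : W' ⟶ x.base) (l : W' ⟶ W)
    (hl : l ≫ g = g') : yB x g' ⟶ yB x g :=
  bHom l (yBmap_w x g g' l hl)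

theorem yBmap_hom (x : SpQuotObj K G aX) {W W' : Over S} (g : W ⟶ x.base) (g' : W' ⟶ x.base) (l : W' ⟶ W)
    (hl : l ≫ g = g') : yBmap x g g' l hl ≫ yBhom x g = yBhom x g' := by
  apply Over.OverMorphism.ext
  change (AlgSp.yon S).map l ≫ (AlgSp.yon S).map g = (AlgSp.yon S).map g'
  rw [← hl, Functor.map_comp]

/-- the canonical pullback square -/
theorem sqOf (x : SpQuotObj K G aX) {W : Over S} (g : W ⟶ x.base) :
    IsPullback (pullback.fst x.π (yBhom x g)) (pullback.snd x.π (yBhom x g)) x.π (yBhom x g) :=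
  IsPullback.of_hasPullback _ _

/-- the canonical pullback of an object of `[X/G]` -/
noncomputable abbrev cObj (x : SpQuotObj K G aX) {W : Over S} (g : W ⟶ x.base) : SpQuotObj K G aX :=
  pbObj x rfl (sqOf x g)

/-- its projection -/
noncomputable abbrev cHom (x : SpQuotObj K G aX) {W : Over S} (g : W ⟶ x.base) : cObj x g ⟶ x :=
  pbHom x rfl (sqOf x g)

theorem cHom_isHomLift (x : SpQuotObj K G aX) {W : Over S} (g : W ⟶ x.base) :
    (SpQuotSt K G aX).p.IsHomLift g (cHom x g) := pbHom_isHomLift x g rfl (sqOf x g)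

/-- the comparison between canonical pullbacks -/
noncomputable abbrev cMap (x : SpQuotObj K G aX) {W W' : Over S} (g : W ⟶ x.base) (g' : W' ⟶ x.base)
    (l : W' ⟶ W) (hl : l ≫ g = g') : cObj x g' ⟶ cObj x g :=
  factor (cHom x g) (cHom x g') l hl

theorem cMap_isHomLift (x : SpQuotObj K G aX) {W W' : Over S} (g : W ⟶ x.base) (g' : W' ⟶ x.base)
    (l : W' ⟶ W) (hl : l ≫ g = g') : (SpQuotSt K G aX).p.IsHomLift l (cMap x g g' l hl) :=
  hom_isHomLift_base (factor (cHom x g) (cHom x g') l hl)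

theorem cMap_comp (x : SpQuotObj K G aX) {W W' : Over S} (g : W ⟶ x.base) (g' : W' ⟶ x.base)
    (l : W' ⟶ W) (hl : l ≫ g = g') : cMap x g g' l hl ≫ cHom x g = cHom x g' :=
  factor_comp _ _ _ _

/-- the comparison between canonical pullbacks, on total spaces -/
noncomputable def cMapTop (x : SpQuotObj K G aX) {W W' : Over S} (g : W ⟶ x.base) (g' : W' ⟶ x.base)
    (l : W' ⟶ W) (hl : l ≫ g = g') : pullback x.π (yBhom x g') ⟶ pullback x.π (yBhom x g) :=
  (cMap x g g' l hl).top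

@[reassoc]
theorem cMapTop_fst (x : SpQuotObj K G aX) {W W' : Over S} (g : W ⟶ x.base) (g' : W' ⟶ x.base)
    (l : W' ⟶ W) (hl : l ≫ g = g') :
    cMapTop x g g' l hl ≫ pullback.fst x.π (yBhom x g) = pullback.fst x.π (yBhom x g') :=
  congrArg SpQuotObj.Hom.top (cMap_comp x g g' l hl)

@[reassoc]
theorem cMapTop_snd (x : SpQuotObj K G aX) {W W' : Over S} (g : W ⟶ x.base) (g' : W' ⟶ x.base)
    (l : W' ⟶ W) (hl : l ≫ g = g') :
    cMapTop x g g' l hl ≫ pullback.snd x.π (yBhom x g) = pullback.snd x.π (yBhom x g') ≫ yBmap x g g' l hl :=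
  (cMap x g g' l hl).cart.w

/-- the section of the canonical pullback attached to a point of the torsor -/
noncomputable def sec (x : SpQuotObj K G aX) {Y : Over S} (g : Y ⟶ x.base) (q : yB x g ⟶ x.P)
    (hq : q ≫ x.π = yBhom x g) : yB x g ⟶ pullback x.π (yBhom x g) :=
  pullback.lift q (𝟙 _) (by rw [Category.id_comp, hq])

@[reassoc (attr := simp)]
theorem sec_fst (x : SpQuotObj K G aX) {Y : Over S} (g : Y ⟶ x.base) (q : yB x g ⟶ x.P)
    (hq : q ≫ x.π = yBhom x g) : sec x g q hq ≫ pullback.fst x.π (yBhom x g) = q :=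
  pullback.lift_fst _ _ _

@[reassoc (attr := simp)]
theorem sec_snd (x : SpQuotObj K G aX) {Y : Over S} (g : Y ⟶ x.base) (q : yB x g ⟶ x.P)
    (hq : q ≫ x.π = yBhom x g) : sec x g q hq ≫ pullback.snd x.π (yBhom x g) = 𝟙 _ :=
  pullback.lift_snd _ _ _

/-- a point of the torsor over `g`, as a morphism over `B` -/
noncomputable def ptOf (x : SpQuotObj K G aX) {Y : Over S} (g : Y ⟶ x.base)
    (q : (AlgSp.yon S).obj Y ⟶ x.P.left) (hq : q ≫ x.π.left = (AlgSp.yon S).map g) : yB x g ⟶ x.P :=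
  Over.homMk q (by
    change q ≫ x.P.hom = (AlgSp.yon S).map g ≫ x.b
    rw [← hom_P x, ← Category.assoc, hq])

@[simp] theorem ptOf_left (x : SpQuotObj K G aX) {Y : Over S} (g : Y ⟶ x.base)
    (q : (AlgSp.yon S).obj Y ⟶ x.P.left) (hq : q ≫ x.π.left = (AlgSp.yon S).map g) :
    (ptOf x g q hq).left = q := rfl

theorem ptOf_π (x : SpQuotObj K G aX) {Y : Over S} (g : Y ⟶ x.base)
    (q : (AlgSp.yon S).obj Y ⟶ x.P.left) (hq : q ≫ x.π.left = (AlgSp.yon S).map g) :
    ptOf x g q hq ≫ x.π = yBhom x g :=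
  Over.OverMorphism.ext hq

theorem ptOf_eq (x : SpQuotObj K G aX) {Y : Over S} (g : Y ⟶ x.base) (qB : yB x g ⟶ x.P)
    (hq : qB ≫ x.π = yBhom x g) :
    ptOf x g qB.left (congrArg CommaMorphism.left hq) = qB :=
  Over.OverMorphism.ext rfl

/-- the action on the canonical pullback -/
noncomputable def cAct (x : SpQuotObj K G aX) {W : Over S} (g : W ⟶ x.base) :
    G ⊗ pullback x.π (yBhom x g) ⟶ pullback x.π (yBhom x g) :=
  pbActMor x rfl (sqOf x g)

theorem cAct_fst (x : SpQuotObj K G aX) {W : Over S} (g : W ⟶ x.base) :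
    cAct x g ≫ pullback.fst x.π (yBhom x g) = (G ◁ pullback.fst x.π (yBhom x g)) ≫ x.act.act :=
  pbActMor_fst x rfl (sqOf x g)

theorem cAct_snd (x : SpQuotObj K G aX) {W : Over S} (g : W ⟶ x.base) :
    cAct x g ≫ pullback.snd x.π (yBhom x g) = snd G _ ≫ pullback.snd x.π (yBhom x g) :=
  pbActMor_snd x rfl (sqOf x g)

end Canon

section Sep

variable [K.IsStableUnderBaseChange]

/-- **Morphisms of `[X/G]` (sheaf torsors) over an identity are determined locally.** -/
theorem homSep_spQuotSt : StackCrit.HomSep (AlgSp.J S) (SpQuotSt K G aX) := by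
  intro V R hR x y φ φ' hφ hφ' hloc
  have hx : x.base = V := IsHomLift.domain_eq (SpQuotSt K G aX).p (𝟙 V) φ
  subst hx
  apply SpQuotObj.hom_ext
  · have e1 := IsHomLift.fac' (SpQuotSt K G aX).p (𝟙 x.base) φ
    have e2 := IsHomLift.fac' (SpQuotSt K G aX).p (𝟙 x.base) φ'
    exact e1.trans e2.symm
  · apply Over.OverMorphism.ext
    refine hom_ext_of_sieve x.π.left hR ?_
    intro Y k hk q hq
    have h := hloc k hk (cObj x k) (cHom x k) (cHom_isHomLift x k)
    have htop : pullback.fst x.π (yBhom x k) ≫ φ.top = pullback.fst x.π (yBhom x k) ≫ φ'.top :=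
      congrArg SpQuotObj.Hom.top h
    have e : ptOf x k q hq ≫ φ.top = ptOf x k q hq ≫ φ'.top := by
      rw [← sec_fst x k (ptOf x k q hq) (ptOf_π x k q hq), Category.assoc, Category.assoc, htop]
    exact congrArg CommaMorphism.left e

end Sep


section Glue

/-- morphisms out of an object of `Over B` are determined by the points of the underlying sheaf -/
theorem overB_hom_ext {P Q : Over B} {a b : P ⟶ Q}
    (h : ∀ ⦃Z : Over S⦄ (z : (AlgSp.yon S).obj Z ⟶ P.left), z ≫ a.left = z ≫ b.left) : a = b :=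
  Over.OverMorphism.ext (Groth.Agent.H52.sp_hom_ext h)

section Data

variable [K.IsStableUnderBaseChange] {x y : SpQuotObj K G aX} (hy : y.base = x.base) {R : Sieve x.base}
  (k : ∀ ⦃W : Over S⦄ (g : W ⟶ x.base), R g → ∀ (s : SpQuotObj K G aX) (ψ : s ⟶ x),
    (SpQuotSt K G aX).p.IsHomLift g ψ → (s ⟶ y))
  (hk : ∀ ⦃W : Over S⦄ (g : W ⟶ x.base) (hg : R g) (s : SpQuotObj K G aX) (ψ : s ⟶ x)
    (hψ : (SpQuotSt K G aX).p.IsHomLift g ψ), (SpQuotSt K G aX).p.IsHomLift g (k g hg s ψ hψ))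
  (knat : ∀ ⦃W W' : Over S⦄ (g : W ⟶ x.base) (hg : R g) (g' : W' ⟶ x.base) (hg' : R g') (l : W' ⟶ W)
      (hl : l ≫ g = g') (s : SpQuotObj K G aX) (ψ : s ⟶ x) (hψ : (SpQuotSt K G aX).p.IsHomLift g ψ)
      (s' : SpQuotObj K G aX) (ψ' : s' ⟶ x) (hψ' : (SpQuotSt K G aX).p.IsHomLift g' ψ') (m : s' ⟶ s)
      (hm : (SpQuotSt K G aX).p.IsHomLift l m) (hmψ : m ≫ ψ = ψ'),
      k g' hg' s' ψ' hψ' = m ≫ k g hg s ψ hψ)

/-- the canonical local morphisms -/
noncomputable def kc {W : Over S} (g : W ⟶ x.base) (hg : R g) : cObj x g ⟶ y :=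
  k g hg (cObj x g) (cHom x g) (cHom_isHomLift x g)

/-- the canonical local morphisms, on total spaces -/
noncomputable def kcTop {W : Over S} (g : W ⟶ x.base) (hg : R g) : pullback x.π (yBhom x g) ⟶ y.P :=
  (kc k g hg).top

include knat in
theorem kc_nat {W W' : Over S} (g : W ⟶ x.base) (hg : R g) (g' : W' ⟶ x.base) (hg' : R g') (l : W' ⟶ W)
    (hl : l ≫ g = g') : kc k g' hg' = cMap x g g' l hl ≫ kc k g hg :=
  knat g hg g' hg' l hl _ _ _ _ _ _ _ (cMap_isHomLift x g g' l hl) (cMap_comp x g g' l hl)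

include knat in
theorem kcTop_nat {W W' : Over S} (g : W ⟶ x.base) (hg : R g) (g' : W' ⟶ x.base) (hg' : R g') (l : W' ⟶ W)
    (hl : l ≫ g = g') : kcTop k g' hg' = cMapTop x g g' l hl ≫ kcTop k g hg :=
  congrArg SpQuotObj.Hom.top (kc_nat k knat g hg g' hg' l hl)

include hk in
theorem kc_base {W : Over S} (g : W ⟶ x.base) (hg : R g) : (kc k g hg).base = g ≫ eqToHom hy.symm := by
  haveI : (SpQuotSt K G aX).p.IsHomLift g (kc k g hg) := hk g hg (cObj x g) (cHom x g) (cHom_isHomLift x g)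
  have h1 := IsHomLift.fac' (SpQuotSt K G aX).p g (kc k g hg)
  have h2 : (SpQuotSt K G aX).p.map (kc k g hg) = (kc k g hg).base := rfl
  rw [← h2, h1]
  simp

theorem kcTop_eqv {W : Over S} (g : W ⟶ x.base) (hg : R g) :
    cAct x g ≫ kcTop k g hg = (G ◁ kcTop k g hg) ≫ y.act.act := (kc k g hg).eqv

theorem kcTop_π {W : Over S} (g : W ⟶ x.base) (hg : R g) :
    kcTop k g hg ≫ y.π = pullback.snd x.π (yBhom x g) ≫ bHom (kc k g hg).base (kc k g hg).wb :=
  (kc k g hg).cart.w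

theorem kcTop_φ {W : Over S} (g : W ⟶ x.base) (hg : R g) :
    kcTop k g hg ≫ y.φ = pullback.fst x.π (yBhom x g) ≫ x.φ := (kc k g hg).wφ

/-- the local pieces of the glued morphism of torsors, over `B` -/
noncomputable def mqB {Y : Over S} (g : Y ⟶ x.base) (hg : R g) (q : yB x g ⟶ x.P) (hq : q ≫ x.π = yBhom x g) :
    yB x g ⟶ y.P :=
  sec x g q hq ≫ kcTop k g hg

theorem mqB_eq {Y : Over S} (g : Y ⟶ x.base) (hg : R g) (q : yB x g ⟶ x.P) (hq : q ≫ x.π = yBhom x g)
    (σ : yB x g ⟶ pullback x.π (yBhom x g)) (h1 : σ ≫ pullback.fst x.π (yBhom x g) = q)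
    (h2 : σ ≫ pullback.snd x.π (yBhom x g) = 𝟙 _) : mqB k g hg q hq = σ ≫ kcTop k g hg := by
  have : σ = sec x g q hq := by
    apply pullback.hom_ext
    · rw [h1, sec_fst]
    · rw [h2, sec_snd]
  rw [this]
  rfl

theorem mqB_congr {Y : Over S} (g : Y ⟶ x.base) (hg : R g) (q : yB x g ⟶ x.P) (hq : q ≫ x.π = yBhom x g)
    (q' : yB x g ⟶ x.P) (hq' : q' ≫ x.π = yBhom x g) (h : q = q') : mqB k g hg q hq = mqB k g hg q' hq' := by
  subst h
  rfl

include knat in
theorem mqB_nat {Y Y' : Over S} (g : Y ⟶ x.base) (hg : R g) (g' : Y' ⟶ x.base) (hg' : R g') (l : Y' ⟶ Y)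
    (hl : l ≫ g = g') (q : yB x g ⟶ x.P) (hq : q ≫ x.π = yBhom x g) (q' : yB x g' ⟶ x.P)
    (hq' : q' ≫ x.π = yBhom x g') (hqq : yBmap x g g' l hl ≫ q = q') :
    mqB k g' hg' q' hq' = yBmap x g g' l hl ≫ mqB k g hg q hq := by
  have e' := kcTop_nat k knat g hg g' hg' l hl
  have e'' : sec x g' q' hq' ≫ cMapTop x g g' l hl = yBmap x g g' l hl ≫ sec x g q hq := by
    apply pullback.hom_ext
    · rw [Category.assoc, cMapTop_fst, sec_fst, Category.assoc, sec_fst, hqq]
    · rw [Category.assoc, cMapTop_snd, sec_snd_assoc, Category.assoc, sec_snd, Category.comp_id]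
  unfold mqB
  rw [e', reassoc_of% e'']

/-- the local pieces of the glued morphism of torsors -/
noncomputable def mq {Y : Over S} (g : Y ⟶ x.base) (hg : R g) (q : (AlgSp.yon S).obj Y ⟶ x.P.left)
    (hq : q ≫ x.π.left = (AlgSp.yon S).map g) : (AlgSp.yon S).obj Y ⟶ y.P.left :=
  (mqB k g hg (ptOf x g q hq) (ptOf_π x g q hq)).left

end Data

section Data2

variable [K.IsStableUnderBaseChange] {x y : SpQuotObj K G aX} (hy : y.base = x.base) {R : Sieve x.base}
  (k : ∀ ⦃W : Over S⦄ (g : W ⟶ x.base), R g → ∀ (s : SpQuotObj K G aX) (ψ : s ⟶ x),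
    (SpQuotSt K G aX).p.IsHomLift g ψ → (s ⟶ y))
  (hk : ∀ ⦃W : Over S⦄ (g : W ⟶ x.base) (hg : R g) (s : SpQuotObj K G aX) (ψ : s ⟶ x)
    (hψ : (SpQuotSt K G aX).p.IsHomLift g ψ), (SpQuotSt K G aX).p.IsHomLift g (k g hg s ψ hψ))
  (knat : ∀ ⦃W W' : Over S⦄ (g : W ⟶ x.base) (hg : R g) (g' : W' ⟶ x.base) (hg' : R g') (l : W' ⟶ W)
      (hl : l ≫ g = g') (s : SpQuotObj K G aX) (ψ : s ⟶ x) (hψ : (SpQuotSt K G aX).p.IsHomLift g ψ)
      (s' : SpQuotObj K G aX) (ψ' : s' ⟶ x) (hψ' : (SpQuotSt K G aX).p.IsHomLift g' ψ') (m : s' ⟶ s)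
      (hm : (SpQuotSt K G aX).p.IsHomLift l m) (hmψ : m ≫ ψ = ψ'),
      k g' hg' s' ψ' hψ' = m ≫ k g hg s ψ hψ)
  (hR : R ∈ AlgSp.J S x.base)

include knat hR in
theorem exists_top : ∃ top : x.P.left ⟶ y.P.left,
    ∀ ⦃Y : Over S⦄ (g : Y ⟶ x.base) (hg : R g) (q : (AlgSp.yon S).obj Y ⟶ x.P.left)
      (hq : q ≫ x.π.left = (AlgSp.yon S).map g), q ≫ top = mq k g hg q hq := by
  refine exists_glue_of_sieve x.π.left hR (fun Y g hg q hq => mq k g hg q hq) ?_
  intro Y Y' m g hg q hq g' hg' q' hq' hqq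
  have hl : m ≫ g = g' := by
    apply (AlgSp.yon S).map_injective
    rw [Functor.map_comp, ← hq, ← Category.assoc, hqq, hq']
  have := mqB_nat k knat g hg g' hg' m hl (ptOf x g q hq) (ptOf_π x g q hq) (ptOf x g' q' hq')
    (ptOf_π x g' q' hq') (Over.OverMorphism.ext hqq)
  exact congrArg CommaMorphism.left this

variable (top : x.P.left ⟶ y.P.left)
  (htop : ∀ ⦃Y : Over S⦄ (g : Y ⟶ x.base) (hg : R g) (q : (AlgSp.yon S).obj Y ⟶ x.P.left)
      (hq : q ≫ x.π.left = (AlgSp.yon S).map g), q ≫ top = mq k g hg q hq)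

include hk hR in
theorem wb_glued : (AlgSp.yon S).map (eqToHom hy.symm) ≫ y.b = x.b := by
  refine yon_hom_ext_of_mem_J hR ?_
  intro Y g hg
  have h1 := (kc k g hg).wb
  rw [kc_base hy k hk g hg, Functor.map_comp, Category.assoc] at h1
  exact h1

include hk htop hR in
theorem top_hom : top ≫ y.P.hom = x.P.hom := by
  refine hom_ext_of_sieve x.π.left hR ?_
  intro Y g hg q hq
  rw [← Category.assoc, htop g hg q hq]
  have h1 : (mqB k g hg (ptOf x g q hq) (ptOf_π x g q hq)).left ≫ y.P.hom = (AlgSp.yon S).map g ≫ x.b :=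
    Over.w (mqB k g hg (ptOf x g q hq) (ptOf_π x g q hq))
  refine h1.trans ?_
  rw [← hom_P x, ← Category.assoc, hq]

/-- the glued morphism of total sheaves, over `B` -/
noncomputable def topB : x.P ⟶ y.P := Over.homMk top (top_hom k hk hR top htop)

include htop in
theorem topB_pt {Y : Over S} (g : Y ⟶ x.base) (hg : R g) (q : yB x g ⟶ x.P) (hq : q ≫ x.π = yBhom x g) :
    q ≫ topB k hk hR top htop = mqB k g hg q hq := by
  apply Over.OverMorphism.ext
  have h1 := htop g hg q.left (congrArg CommaMorphism.left hq)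
  refine h1.trans ?_
  exact congrArg CommaMorphism.left (mqB_congr k g hg _ _ _ _ (ptOf_eq x g q hq))

include knat in
theorem top_fst {W : Over S} (g : W ⟶ x.base) (hg : R g) :
    pullback.fst x.π (yBhom x g) ≫ topB k hk hR top htop = kcTop k g hg := by
  apply overB_hom_ext
  intro Z z
  -- the point `z` lies over some `l : Z ⟶ W`
  obtain ⟨l, hl⟩ := (AlgSp.yon S).map_surjective (z ≫ (pullback.snd x.π (yBhom x g)).left)
  have hlg : R (l ≫ g) := R.downward_closed hg l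
  have hzw : z ≫ (pullback x.π (yBhom x g)).hom = (AlgSp.yon S).map (l ≫ g) ≫ x.b := by
    have h1 : (pullback.snd x.π (yBhom x g)).left ≫ ((AlgSp.yon S).map g ≫ x.b) =
        (pullback x.π (yBhom x g)).hom := Over.w (pullback.snd x.π (yBhom x g))
    rw [← h1, ← Category.assoc, ← hl, Functor.map_comp, Category.assoc]
  let zB : yB x (l ≫ g) ⟶ pullback x.π (yBhom x g) := Over.homMk z hzw
  have hz2 : zB ≫ pullback.snd x.π (yBhom x g) = yBmap x g (l ≫ g) l rfl :=
    Over.OverMorphism.ext hl.symm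
  have hq : (zB ≫ pullback.fst x.π (yBhom x g)) ≫ x.π = yBhom x (l ≫ g) := by
    rw [Category.assoc, pullback.condition, ← Category.assoc, hz2, yBmap_hom]
  have h1 := topB_pt k hk hR top htop (l ≫ g) hlg (zB ≫ pullback.fst x.π (yBhom x g)) hq
  have h2 : sec x (l ≫ g) (zB ≫ pullback.fst x.π (yBhom x g)) hq ≫ cMapTop x g (l ≫ g) l rfl = zB := by
    apply pullback.hom_ext
    · rw [Category.assoc, cMapTop_fst, sec_fst]
    · rw [Category.assoc, cMapTop_snd, sec_snd_assoc, hz2]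
  have h3 : (zB ≫ pullback.fst x.π (yBhom x g)) ≫ topB k hk hR top htop = zB ≫ kcTop k g hg := by
    rw [h1]
    unfold mqB
    rw [kcTop_nat k knat g hg (l ≫ g) hlg l rfl, ← Category.assoc, h2]
  have h4 := congrArg CommaMorphism.left h3
  exact (Category.assoc _ _ _).symm.trans h4

end Data2


section Data3

variable {x y : SpQuotObj Scheme.fppfPrecoverage G aX} (hy : y.base = x.base) {R : Sieve x.base}
  (k : ∀ ⦃W : Over S⦄ (g : W ⟶ x.base), R g → ∀ (s : SpQuotObj Scheme.fppfPrecoverage G aX) (ψ : s ⟶ x),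
    (SpQuotSt Scheme.fppfPrecoverage G aX).p.IsHomLift g ψ → (s ⟶ y))
  (hk : ∀ ⦃W : Over S⦄ (g : W ⟶ x.base) (hg : R g) (s : SpQuotObj Scheme.fppfPrecoverage G aX) (ψ : s ⟶ x)
    (hψ : (SpQuotSt Scheme.fppfPrecoverage G aX).p.IsHomLift g ψ),
    (SpQuotSt Scheme.fppfPrecoverage G aX).p.IsHomLift g (k g hg s ψ hψ))
  (knat : ∀ ⦃W W' : Over S⦄ (g : W ⟶ x.base) (hg : R g) (g' : W' ⟶ x.base) (hg' : R g') (l : W' ⟶ W)
      (hl : l ≫ g = g') (s : SpQuotObj Scheme.fppfPrecoverage G aX) (ψ : s ⟶ x)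
      (hψ : (SpQuotSt Scheme.fppfPrecoverage G aX).p.IsHomLift g ψ)
      (s' : SpQuotObj Scheme.fppfPrecoverage G aX) (ψ' : s' ⟶ x)
      (hψ' : (SpQuotSt Scheme.fppfPrecoverage G aX).p.IsHomLift g' ψ') (m : s' ⟶ s)
      (hm : (SpQuotSt Scheme.fppfPrecoverage G aX).p.IsHomLift l m) (hmψ : m ≫ ψ = ψ'),
      k g' hg' s' ψ' hψ' = m ≫ k g hg s ψ hψ)
  (hR : R ∈ AlgSp.J S x.base)
  (top : x.P.left ⟶ y.P.left)
  (htop : ∀ ⦃Y : Over S⦄ (g : Y ⟶ x.base) (hg : R g) (q : (AlgSp.yon S).obj Y ⟶ x.P.left)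
      (hq : q ≫ x.π.left = (AlgSp.yon S).map g), q ≫ top = mq k g hg q hq)

include htop in
theorem top_eqv : x.act.act ≫ topB k hk hR top htop = (G ◁ topB k hk hR top htop) ≫ y.act.act := by
  apply Over.OverMorphism.ext
  refine hom_ext_of_sieve (snd G x.P ≫ x.π).left hR ?_
  intro Y g hg w hw
  have hwB : w ≫ (G ⊗ x.P).hom = (AlgSp.yon S).map g ≫ x.b := by
    have h1 : (snd G x.P ≫ x.π).left ≫ x.b = (G ⊗ x.P).hom := Over.w (snd G x.P ≫ x.π)
    rw [← h1, ← Category.assoc, hw]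
  let wB : yB x g ⟶ G ⊗ x.P := Over.homMk w hwB
  have hwπ : (wB ≫ snd G x.P) ≫ x.π = yBhom x g := by
    apply Over.OverMorphism.ext
    exact hw
  obtain ⟨gg, q, hgq, hq⟩ : ∃ (gg : yB x g ⟶ G) (q : yB x g ⟶ x.P), wB = lift gg q ∧ q ≫ x.π = yBhom x g :=
    ⟨wB ≫ fst G x.P, wB ≫ snd G x.P, by
      apply CartesianMonoidalCategory.hom_ext
      · rw [lift_fst]
      · rw [lift_snd], hwπ⟩
  have hq' : (lift gg q ≫ x.act.act) ≫ x.π = yBhom x g := by
    rw [lift_act_π, hq]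
  have h1 : (lift gg (sec x g q hq) ≫ cAct x g) ≫ pullback.fst x.π (yBhom x g) = lift gg q ≫ x.act.act := by
    rw [Category.assoc, cAct_fst, ← Category.assoc, lift_whiskerLeft, sec_fst]
  have h2 : (lift gg (sec x g q hq) ≫ cAct x g) ≫ pullback.snd x.π (yBhom x g) = 𝟙 _ := by
    rw [Category.assoc, cAct_snd, ← Category.assoc, lift_snd, sec_snd]
  have key : wB ≫ x.act.act ≫ topB k hk hR top htop =
      wB ≫ (G ◁ topB k hk hR top htop) ≫ y.act.act := by
    rw [hgq, ← Category.assoc, topB_pt k hk hR top htop g hg _ hq', mqB_eq k g hg _ hq' _ h1 h2,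
      Category.assoc, kcTop_eqv, ← Category.assoc, lift_whiskerLeft, ← Category.assoc, lift_whiskerLeft,
      topB_pt k hk hR top htop g hg q hq]
    rfl
  exact congrArg CommaMorphism.left key

include htop in
theorem top_π : topB k hk hR top htop ≫ y.π =
    x.π ≫ bHom (eqToHom hy.symm) (wb_glued hy k hk hR) := by
  apply Over.OverMorphism.ext
  refine hom_ext_of_sieve x.π.left hR ?_
  intro Y g hg q hq
  have h1 := topB_pt k hk hR top htop g hg (ptOf x g q hq) (ptOf_π x g q hq)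
  have h2 : (ptOf x g q hq ≫ topB k hk hR top htop) ≫ y.π =
      yBhom x g ≫ bHom (eqToHom hy.symm) (wb_glued hy k hk hR) := by
    rw [h1]
    unfold mqB
    rw [Category.assoc, kcTop_π, sec_snd_assoc]
    apply Over.OverMorphism.ext
    change (AlgSp.yon S).map (kc k g hg).base = (AlgSp.yon S).map g ≫ (AlgSp.yon S).map (eqToHom hy.symm)
    rw [kc_base hy k hk g hg, Functor.map_comp]
  have h3 := congrArg CommaMorphism.left h2
  have h4 : q ≫ (topB k hk hR top htop ≫ y.π).left = (AlgSp.yon S).map g ≫ (AlgSp.yon S).map (eqToHom hy.symm) :=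
    (Category.assoc _ _ _).symm.trans h3
  refine h4.trans ?_
  change _ = q ≫ x.π.left ≫ (AlgSp.yon S).map (eqToHom hy.symm)
  rw [← Category.assoc, hq]

include htop in
theorem top_φ : topB k hk hR top htop ≫ y.φ = x.φ := by
  apply Over.OverMorphism.ext
  refine hom_ext_of_sieve x.π.left hR ?_
  intro Y g hg q hq
  have h1 := topB_pt k hk hR top htop g hg (ptOf x g q hq) (ptOf_π x g q hq)
  have h2 : (ptOf x g q hq ≫ topB k hk hR top htop) ≫ y.φ = ptOf x g q hq ≫ x.φ := by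
    rw [h1]
    unfold mqB
    rw [Category.assoc, kcTop_φ, sec_fst_assoc]
  have h3 := congrArg CommaMorphism.left h2
  exact (Category.assoc _ _ _).symm.trans h3

/-- the glued morphism -/
noncomputable def glued : x ⟶ y where
  base := eqToHom hy.symm
  wb := wb_glued hy k hk hR
  top := topB k hk hR top htop
  eqv := top_eqv k hk hR top htop
  cart := isPullback_of_equivariant x y (eqToHom hy.symm) (wb_glued hy k hk hR) (topB k hk hR top htop)
    (top_eqv k hk hR top htop) (top_π hy k hk hR top htop)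
  wφ := top_φ k hk hR top htop

theorem glued_isHomLift :
    (SpQuotSt Scheme.fppfPrecoverage G aX).p.IsHomLift (𝟙 x.base) (glued hy k hk hR top htop) := by
  apply IsHomLift.of_fac' (SpQuotSt Scheme.fppfPrecoverage G aX).p (𝟙 x.base) (glued hy k hk hR top htop) rfl hy
  change eqToHom hy.symm = _
  simp

include knat in
theorem glued_spec {W : Over S} (g : W ⟶ x.base) (hg : R g) (s : SpQuotObj Scheme.fppfPrecoverage G aX)
    (ψ : s ⟶ x) (hψ : (SpQuotSt Scheme.fppfPrecoverage G aX).p.IsHomLift g ψ) :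
    ψ ≫ glued hy k hk hR top htop = k g hg s ψ hψ := by
  have hs : s.base = W := IsHomLift.domain_eq (SpQuotSt Scheme.fppfPrecoverage G aX).p g ψ
  subst hs
  have hbase : ψ.base = g := by
    have h1 := IsHomLift.fac' (SpQuotSt Scheme.fppfPrecoverage G aX).p g ψ
    have h2 : (SpQuotSt Scheme.fppfPrecoverage G aX).p.map ψ = ψ.base := rfl
    rw [← h2, h1]
    simp
  have e1 : (𝟙 s.base) ≫ (cHom x g).base = ψ.base := by
    rw [Category.id_comp, hbase]; rfl
  let m : s ⟶ cObj x g := factor (cHom x g) ψ (𝟙 s.base) e1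
  have hm : (SpQuotSt Scheme.fppfPrecoverage G aX).p.IsHomLift (𝟙 s.base) m := hom_isHomLift_base m
  have hmψ : m ≫ cHom x g = ψ := factor_comp _ _ _ _
  have e2 : k g hg s ψ hψ = m ≫ kc k g hg :=
    knat g hg g hg (𝟙 s.base) (Category.id_comp g) _ _ (cHom_isHomLift x g) s ψ hψ m hm hmψ
  rw [e2]
  have e3 : cHom x g ≫ glued hy k hk hR top htop = kc k g hg := by
    apply SpQuotObj.hom_ext
    · rw [kc_base hy k hk]; rfl
    · exact top_fst k hk knat hR top htop g hg
  rw [← e3, ← Category.assoc, hmψ]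

end Data3

/-- **Compatible local families of morphisms of `[X/G]` (fppf sheaf torsors) over an identity glue.** -/
theorem homGlue_spQuotSt : StackCrit.HomGlue (AlgSp.J S) (SpQuotSt Scheme.fppfPrecoverage G aX) := by
  intro V R hR x y hx hy k hk hcompat
  have hx' : x.base = V := hx
  subst hx'
  have hy' : y.base = x.base := hy
  have knat : ∀ ⦃W W' : Over S⦄ (g : W ⟶ x.base) (hg : R g) (g' : W' ⟶ x.base) (hg' : R g') (l : W' ⟶ W)
      (hl : l ≫ g = g') (s : SpQuotObj Scheme.fppfPrecoverage G aX) (ψ : s ⟶ x)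
      (hψ : (SpQuotSt Scheme.fppfPrecoverage G aX).p.IsHomLift g ψ)
      (s' : SpQuotObj Scheme.fppfPrecoverage G aX) (ψ' : s' ⟶ x)
      (hψ' : (SpQuotSt Scheme.fppfPrecoverage G aX).p.IsHomLift g' ψ') (m : s' ⟶ s)
      (hm : (SpQuotSt Scheme.fppfPrecoverage G aX).p.IsHomLift l m) (hmψ : m ≫ ψ = ψ'),
      k g' hg' s' ψ' hψ' = m ≫ k g hg s ψ hψ := by
    intro W W' g hg g' hg' l hl s ψ hψ s' ψ' hψ' m hm hmψ
    subst hl
    subst hmψ
    exact hcompat g hg l s ψ hψ s' m hm hψ'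
  obtain ⟨top, htop⟩ := exists_top k knat hR
  exact ⟨glued hy' k hk hR top htop, glued_isHomLift hy' k hk hR top htop,
    fun W g hg s ψ hψ => glued_spec hy' k hk knat hR top htop g hg s ψ hψ⟩

/-- **`[X/G]` with fppf sheaf torsors is a prestack** for the fppf topology. -/
theorem isPrestack_spQuotSt : Stk.IsPrestack (AlgSp.J S) (SpQuotSt Scheme.fppfPrecoverage G aX) :=
  StackCrit.isPrestack_of_crit isFibGrpd_spQuotSt homSep_spQuotSt homGlue_spQuotSt

end Glue

end Groth.Agent.Lib.Helper66.SpQuotGlue
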