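import Mathlib.LinearAlgebra.DirectSum.Finsupp
import Mathlib.Algebra.Module.Projective
import Mathlib.RingTheory.Finiteness.Cardinality
import Mathlib.LinearAlgebra.TensorProduct.Tower

/-!
# Tensoring a projective module with a submodule of a product

For jointly injective linear maps `g i : P → T i` and a projective module `M`, the maps
`M ⊗ g i : M ⊗ P → M ⊗ T i` are jointly injective.  For an inverse system and a finite projective `M`
the image consists of the compatible sequences.
-/

set_option autoImplicit false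
universe u v w

namespace Groth.Agent.Lib.Helper66

open TensorProduct

section
variable {R : Type u} [CommRing R] {J : Type v} [DecidableEq J]
  {N : Type w} [AddCommGroup N] [Module R N] {N' : Type w} [AddCommGroup N'] [Module R N']

/-- naturality of `finsuppScalarLeft` -/
theorem finsuppScalarLeft_lTensor (h : N →ₗ[R] N') (x : (J →₀ R) ⊗[R] N) (j : J) :
    TensorProduct.finsuppScalarLeft R N' J (LinearMap.lTensor (J →₀ R) h x) j =
      h (TensorProduct.finsuppScalarLeft R N J x j) := by
  induction x using TensorProduct.induction_on with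
  | zero => simp
  | tmul p n => simp [TensorProduct.finsuppScalarLeft_apply_tmul_apply]
  | add x y hx hy => simp only [map_add, Finsupp.add_apply, hx, hy]

end

section Inj
variable {R : Type u} [CommRing R] {ι : Type v} {T : ι → Type u} [∀ i, AddCommGroup (T i)]
  [∀ i, Module R (T i)] {P : Type u} [AddCommGroup P] [Module R P] (g : ∀ i, P →ₗ[R] T i)
  (hg : ∀ p : P, (∀ i, g i p = 0) → p = 0)

include hg in
theorem eq_zero_of_lTensor_eq_zero_free (J : Type u) (x : (J →₀ R) ⊗[R] P)
    (hx : ∀ i, LinearMap.lTensor (J →₀ R) (g i) x = 0) : x = 0 := by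
  classical
  apply (TensorProduct.finsuppScalarLeft R P J).injective
  rw [map_zero]
  ext j
  apply hg
  intro i
  rw [← finsuppScalarLeft_lTensor, hx i]
  simp

include hg in
theorem eq_zero_of_lTensor_eq_zero (M : Type u) [AddCommGroup M] [Module R M] [Module.Projective R M]
    (x : M ⊗[R] P) (hx : ∀ i, LinearMap.lTensor M (g i) x = 0) : x = 0 := by
  obtain ⟨s, hs⟩ := (Module.projective_def' (R := R) (P := M)).mp inferInstance
  have h1 : LinearMap.rTensor P s x = 0 := by
    apply eq_zero_of_lTensor_eq_zero_free g hg M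
    intro i
    rw [← LinearMap.comp_apply, LinearMap.lTensor_comp_rTensor, ← LinearMap.rTensor_comp_lTensor,
      LinearMap.comp_apply, hx i, map_zero]
  have h2 : x = LinearMap.rTensor P (Finsupp.linearCombination R id) (LinearMap.rTensor P s x) := by
    rw [← LinearMap.comp_apply, ← LinearMap.rTensor_comp, hs, LinearMap.rTensor_id, LinearMap.id_apply]
  rw [h2, h1, map_zero]

include hg in
/-- joint injectivity of `M ⊗ g i` for projective `M` -/
theorem injective_pi_lTensor (M : Type u) [AddCommGroup M] [Module R M] [Module.Projective R M] :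
    Function.Injective (LinearMap.pi fun i => LinearMap.lTensor M (g i) :
      M ⊗[R] P →ₗ[R] (∀ i, M ⊗[R] T i)) := by
  rw [← LinearMap.ker_eq_bot, LinearMap.ker_eq_bot']
  intro x hx
  apply eq_zero_of_lTensor_eq_zero g hg M x
  intro i
  have := congrFun hx i
  simpa using this

end Inj

section Range
variable {R : Type u} [CommRing R] {T : ℕ → Type u} [∀ i, AddCommGroup (T i)]
  [∀ i, Module R (T i)] (φ : ∀ i, T (i + 1) →ₗ[R] T i)
  {P : Type u} [AddCommGroup P] [Module R P] (g : ∀ i, P →ₗ[R] T i)
  (hcompat : ∀ i, φ i ∘ₗ g (i + 1) = g i)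
  (hsurj : ∀ t : ∀ i, T i, (∀ i, φ i (t (i + 1)) = t i) → ∃ p : P, ∀ i, g i p = t i)

include hcompat in
theorem compat_of_mem_range (M : Type u) [AddCommGroup M] [Module R M] (x : M ⊗[R] P) (i : ℕ) :
    LinearMap.lTensor M (φ i) (LinearMap.lTensor M (g (i + 1)) x) = LinearMap.lTensor M (g i) x := by
  rw [← LinearMap.comp_apply, ← LinearMap.lTensor_comp, hcompat]

include hsurj in
theorem exists_of_compat_free (J : Type u) [Finite J] (y : ∀ i, (J →₀ R) ⊗[R] T i)
    (hy : ∀ i, LinearMap.lTensor (J →₀ R) (φ i) (y (i + 1)) = y i) :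
    ∃ x : (J →₀ R) ⊗[R] P, ∀ i, LinearMap.lTensor (J →₀ R) (g i) x = y i := by
  classical
  have := Fintype.ofFinite J
  have h1 : ∀ j : J, ∃ p : P, ∀ i, g i p = TensorProduct.finsuppScalarLeft R (T i) J (y i) j := by
    intro j
    apply hsurj
    intro i
    rw [← finsuppScalarLeft_lTensor, hy i]
  choose p hp using h1
  refine ⟨(TensorProduct.finsuppScalarLeft R P J).symm (Finsupp.equivFunOnFinite.symm p), ?_⟩
  intro i
  apply (TensorProduct.finsuppScalarLeft R (T i) J).injective
  ext j
  rw [finsuppScalarLeft_lTensor, LinearEquiv.apply_symm_apply]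
  simp [hp j i]

include hsurj in
theorem exists_of_compat (M : Type u) [AddCommGroup M] [Module R M] [Module.Finite R M]
    [Module.Projective R M] (y : ∀ i, M ⊗[R] T i)
    (hy : ∀ i, LinearMap.lTensor M (φ i) (y (i + 1)) = y i) :
    ∃ x : M ⊗[R] P, ∀ i, LinearMap.lTensor M (g i) x = y i := by
  obtain ⟨n, π₀, hπ₀⟩ := Module.Finite.exists_fin' R M
  let π : (ULift.{u} (Fin n) →₀ R) →ₗ[R] M :=
    π₀ ∘ₗ (LinearMap.funLeft R R (ULift.up : Fin n → ULift.{u} (Fin n))) ∘ₗ
      (Finsupp.linearEquivFunOnFinite R R (ULift.{u} (Fin n))).toLinearMap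
  have hπ : Function.Surjective π := by
    intro m
    obtain ⟨f, rfl⟩ := hπ₀ m
    refine ⟨(Finsupp.linearEquivFunOnFinite R R (ULift.{u} (Fin n))).symm (fun i => f i.down), ?_⟩
    simp only [π, LinearMap.comp_apply, LinearEquiv.coe_coe, LinearEquiv.apply_symm_apply]
    congr 1
  obtain ⟨s, hs⟩ := Module.projective_lifting_property π LinearMap.id hπ
  obtain ⟨x', hx'⟩ := exists_of_compat_free φ g hsurj (ULift.{u} (Fin n))
    (fun i => LinearMap.rTensor (T i) s (y i)) (fun i => by
      rw [← LinearMap.comp_apply, LinearMap.lTensor_comp_rTensor, ← LinearMap.rTensor_comp_lTensor,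
        LinearMap.comp_apply, hy i])
  refine ⟨LinearMap.rTensor P π x', fun i => ?_⟩
  rw [← LinearMap.comp_apply, LinearMap.lTensor_comp_rTensor, ← LinearMap.rTensor_comp_lTensor,
    LinearMap.comp_apply, hx' i, ← LinearMap.comp_apply, ← LinearMap.rTensor_comp, hs,
    LinearMap.rTensor_id, LinearMap.id_apply]

end Range

end Groth.Agent.Lib.Helper66
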