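import Groth.Agent.Lib.Helper54.MonoField
import Groth.Agent.Lib.Helper24.UnramifiedLocus

/-!
# Helper66: a morphism from a sheaf to a scheme, locally of finite type in charts, whose geometric fibres are
monomorphisms, is unramified in charts
-/

set_option autoImplicit false
universe u

open CategoryTheory CategoryTheory.Limits AlgebraicGeometry Opposite

namespace Groth.Agent.Lib.Helper66.UnramGeomFibre

open AlgSp

variable {S : Scheme.{u}}

/-- The base point over `S` of a morphism `tb : Spec k ⟶ T.left`. -/
noncomputable abbrev geomBase (T : Over S) {k : Type u} [Field k] (tb : Spec (CommRingCat.of k) ⟶ T.left) :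
    Over S := Over.mk (tb ≫ T.hom)

/-- The morphism `tb` as a morphism over `S`. -/
noncomputable abbrev geomMap (T : Over S) {k : Type u} [Field k] (tb : Spec (CommRingCat.of k) ⟶ T.left) :
    geomBase T tb ⟶ T := Over.homMk tb rfl

set_option backward.isDefEq.respectTransparency false in
set_option backward.isDefEq.respectTransparency.types false in
/-- Key step: for a chart `a : h_U ⟶ F` (representable étale) of a sheaf `F` with a morphism `q : F ⟶ h_T`, and a field
point `tb : Spec k ⟶ T` such that the base change of `q` along `tb` is a monomorphism, the base change of `U ⟶ T` along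
`tb` is formally unramified at every point. -/
theorem formallyUnramified_stalkMap_snd {F : Sp S} {T : Over S} (q : F ⟶ (yon S).obj T)
    {U : Over S} (a : (yon S).obj U ⟶ F) (ha : RepWith @Etale a) (g : U ⟶ T)
    (hg : (yon S).map g = a ≫ q) {k : Type u} [Field k] (tb : Spec (CommRingCat.of k) ⟶ T.left)
    [Mono (pullback.snd q ((yon S).map (geomMap T tb)))]
    (p : ↥(pullback g (geomMap T tb)).left) :
    ((pullback.snd g (geomMap T tb)).left.stalkMap p).hom.FormallyUnramified := by
  let tb' := geomMap T tb
  let PO : Over S := pullback g tb'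
  let pf : PO ⟶ U := pullback.fst g tb'
  let ps : PO ⟶ geomBase T tb := pullback.snd g tb'
  let m := pullback.snd q ((yon S).map tb')
  have sqO : IsPullback ((yon S).map pf) ((yon S).map ps) ((yon S).map g) ((yon S).map tb') :=
    (IsPullback.of_hasPullback g tb').map (yon S)
  have sqR : IsPullback (pullback.fst q ((yon S).map tb')) m q ((yon S).map tb') :=
    IsPullback.of_hasPullback q ((yon S).map tb')
  have hw : ((yon S).map pf ≫ a) ≫ q = (yon S).map ps ≫ (yon S).map tb' := by
    rw [Category.assoc, ← hg]; exact sqO.w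
  let a' : (yon S).obj PO ⟶ pullback q ((yon S).map tb') := pullback.lift ((yon S).map pf ≫ a) ((yon S).map ps) hw
  have ha'1 : a' ≫ pullback.fst q ((yon S).map tb') = (yon S).map pf ≫ a := pullback.lift_fst _ _ _
  have ha'2 : a' ≫ m = (yon S).map ps := pullback.lift_snd _ _ _
  have sqL : IsPullback a' ((yon S).map pf) (pullback.fst q ((yon S).map tb')) a := by
    refine IsPullback.of_right ?_ ha'1 sqR.flip
    rw [ha'2, ← hg]
    exact sqO.flip
  have ha' : RepWith @Etale a' :=
    MorphismProperty.of_isPullback (P := RepWith (S := S) @Etale) sqL.flip ha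
  -- an affine open neighbourhood of `p`
  obtain ⟨_, ⟨U₀, hU₀ : IsAffineOpen U₀, rfl⟩, hpU₀, -⟩ :=
    PO.left.isBasis_affineOpens.exists_subset_of_mem_open (Set.mem_univ p) isOpen_univ
  have : IsAffine (Groth.Agent.H52.overOpen PO U₀).left := hU₀
  have : Nonempty ↥(Groth.Agent.H52.overOpen PO U₀).left := ⟨⟨p, hpU₀⟩⟩
  have : (RepWith (S := S) @Etale).IsMultiplicative := repWith_isMultiplicative _
  let a₀ : (yon S).obj (Groth.Agent.H52.overOpen PO U₀) ⟶ pullback q ((yon S).map tb') :=
    (yon S).map (Groth.Agent.H52.overOpenι PO U₀) ≫ a'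
  have ha₀ : RepWith @Etale a₀ :=
    (RepWith @Etale).comp_mem _ _ (Groth.Agent.H52.repWith_etale_overOpenι PO U₀) ha'
  let c : Groth.Agent.H52.overOpen PO U₀ ⟶ geomBase T tb := Groth.Agent.H52.overOpenι PO U₀ ≫ ps
  have hc : (yon S).map c = a₀ ≫ m := by
    change (yon S).map (Groth.Agent.H52.overOpenι PO U₀ ≫ ps) = ((yon S).map _ ≫ a') ≫ m
    rw [Functor.map_comp, Category.assoc, ha'2]
  have hce : Etale c.left :=
    Groth.Agent.Lib.Helper54.etale_of_mono_of_etale_chart (str := tb ≫ T.hom) m a₀ ha₀ c hc
  have hcu : FormallyUnramified (Scheme.Opens.ι (X := PO.left) U₀ ≫ ps.left) := by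
    have : Etale (Scheme.Opens.ι (X := PO.left) U₀ ≫ ps.left) := hce
    infer_instance
  exact (Groth.Agent.Lib.Helper24.formallyUnramified_ι_comp_iff ps.left U₀).mp hcu p hpU₀

set_option backward.isDefEq.respectTransparency false in
set_option backward.isDefEq.respectTransparency.types false in
/-- A morphism `q : F ⟶ h_T` which is locally of finite type in charts and whose base changes to all geometric points
of `T` are monomorphisms is unramified in charts. -/
theorem locP_unramified_of_geometric_mono {F : Sp S} {T : Over S} (q : F ⟶ (yon S).obj T)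
    (hlft : LocP @LocallyOfFiniteType q)
    (hmono : ∀ (k : Type u) [Field k] [IsAlgClosed k] (tb : Spec (CommRingCat.of k) ⟶ T.left),
      Mono (pullback.snd q ((yon S).map (geomMap T tb)))) :
    LocP (@LocallyOfFiniteType ⊓ @FormallyUnramified) q := by
  intro U V a b h ha hb w
  refine ⟨hlft a b h ha hb w, ?_⟩
  have hh : LocallyOfFiniteType h.left := hlft a b h ha hb w
  obtain ⟨β, rfl⟩ := (yon S).map_surjective b
  have hβ : Etale β.left := (repWith_yon_map_iff @Etale β).1 hb
  let g : U ⟶ T := h ≫ β
  have hg : (yon S).map g = a ≫ q := by rw [Functor.map_comp]; exact w.symm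
  have hgl : LocallyOfFiniteType g.left := by
    change LocallyOfFiniteType (h.left ≫ β.left); infer_instance
  suffices FormallyUnramified g.left by
    have : FormallyUnramified (h.left ≫ β.left) := this
    exact FormallyUnramified.of_comp h.left β.left
  refine HasRingHomProperty.of_stalkMap RingHom.FormallyUnramified.ofLocalizationPrime fun x => ?_
  let y := g.left x
  let k := AlgebraicClosure (T.left.residueField y)
  let tb : Spec (CommRingCat.of k) ⟶ T.left :=
    Spec.map (CommRingCat.ofHom (algebraMap (T.left.residueField y) k)) ≫ T.left.fromSpecResidueField y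
  haveI := hmono k tb
  have sq : IsPullback (pullback.fst g (geomMap T tb)).left (pullback.snd g (geomMap T tb)).left g.left tb :=
    (IsPullback.of_hasPullback g (geomMap T tb)).map (Over.forget S)
  obtain ⟨z⟩ : Nonempty ↥(Spec (CommRingCat.of k)) := inferInstance
  have hz : tb z = y := by
    change (Spec.map _ ≫ T.left.fromSpecResidueField y) z = y
    rw [Scheme.Hom.comp_apply, Scheme.fromSpecResidueField_apply]
  obtain ⟨p, hp1, -⟩ := Scheme.exists_preimage_of_isPullback sq x z hz.symm
  have h1 := formallyUnramified_stalkMap_snd q a ha g hg tb p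
  have h2 := (Groth.Agent.Lib.Helper24.formallyUnramified_stalkMap_iff_of_isPullback sq p).mp h1
  have gen : ∀ x' : ↥U.left, x' = x → (g.left.stalkMap x').hom.FormallyUnramified →
      (g.left.stalkMap x).hom.FormallyUnramified := by
    rintro _ rfl h
    exact h
  exact gen _ hp1 h2

set_option backward.isDefEq.respectTransparency false in
set_option backward.isDefEq.respectTransparency.types false in
/-- The base change of `q : F ⟶ h_T` along `τ : Tb ⟶ T` is a monomorphism as soon as `q` is injective on sections
whose image factors through `τ`. -/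
theorem mono_snd_of_sections {F : Sp S} {T Tb : Over S} (q : F ⟶ (yon S).obj T) (τ : Tb ⟶ T)
    (h : ∀ (T' : Over S) (x y : F.obj.obj (op T')) (r : T' ⟶ Tb),
      q.hom.app (op T') x = ⟨r ≫ τ⟩ → q.hom.app (op T') y = ⟨r ≫ τ⟩ → x = y) :
    Mono (pullback.snd q ((yon S).map τ)) := by
  have sqP : IsPullback (pullback.fst q ((yon S).map τ)).hom (pullback.snd q ((yon S).map τ)).hom q.hom
      ((yon S).map τ).hom :=
    (IsPullback.of_hasPullback q ((yon S).map τ)).map (sheafToPresheaf (AlgSp.J S) (Type (u + 1)))
  have : Mono (pullback.snd q ((yon S).map τ)).hom := by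
    have : ∀ T', Mono ((pullback.snd q ((yon S).map τ)).hom.app T') := by
      intro T'
      rw [mono_iff_injective]
      intro z z' hzz
      have sqT := sqP.map ((evaluation (Over S)ᵒᵖ (Type (u + 1))).obj T')
      refine Limits.Types.ext_of_isPullback sqT ?_ hzz
      have hr : ∀ z₀ : (pullback q ((yon S).map τ)).obj.obj T',
          q.hom.app T' ((pullback.fst q ((yon S).map τ)).hom.app T' z₀) =
            ⟨((pullback.snd q ((yon S).map τ)).hom.app T' z₀).down ≫ τ⟩ := by
        intro z₀
        exact ConcreteCategory.congr_hom sqT.w z₀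
      exact h T'.unop _ _ _ (hr z) ((hr z').trans
        (congrArg (fun r : ULift (T'.unop ⟶ Tb) => (⟨r.down ≫ τ⟩ : ULift (T'.unop ⟶ T))) hzz.symm))
    exact NatTrans.mono_of_mono_app _
  exact Sheaf.Hom.mono_of_presheaf_mono _ _ _

/-- Sections form of `locP_unramified_of_geometric_mono`. -/
theorem locP_unramified_of_sections {F : Sp S} {T : Over S} (q : F ⟶ (yon S).obj T)
    (hlft : LocP @LocallyOfFiniteType q)
    (h : ∀ (k : Type u) [Field k] [IsAlgClosed k] (tb : Spec (CommRingCat.of k) ⟶ T.left)
      (T' : Over S) (x y : F.obj.obj (op T')) (r : T' ⟶ geomBase T tb),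
      q.hom.app (op T') x = ⟨r ≫ geomMap T tb⟩ → q.hom.app (op T') y = ⟨r ≫ geomMap T tb⟩ → x = y) :
    LocP (@LocallyOfFiniteType ⊓ @FormallyUnramified) q :=
  locP_unramified_of_geometric_mono q hlft fun k _ _ tb =>
    mono_snd_of_sections q (geomMap T tb) (h k tb)

end Groth.Agent.Lib.Helper66.UnramGeomFibre
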