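import Groth.Agent.Lib.Helper66.ValSpecialize

/-!
# Extensions of valuation rings along flat morphisms (scheme level)
-/

set_option autoImplicit false
universe u

open CategoryTheory CategoryTheory.Limits AlgebraicGeometry Opposite IsLocalRing

namespace Groth.Agent.Lib.Helper66.ValFlat

open Groth.Agent.Lib.Helper66.ValSpecialize

/-- A flat morphism to the spectrum of a valuation ring `A` hitting the closed point admits a section
after an extension of valuation rings `A → A'`. -/
theorem exists_valuationRing_ext_of_flat {W₀ : Scheme.{u}} {A : Type u} [CommRing A] [IsDomain A]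
    [ValuationRing A] (k₀ : W₀ ⟶ Spec (CommRingCat.of A)) [Flat k₀] (w₀ : W₀)
    (hw₀ : k₀ w₀ = closedPoint A) :
    ∃ (A' : Type u) (_ : CommRing A') (_ : IsDomain A') (_ : ValuationRing A') (φ : A →+* A'),
      Function.Injective φ ∧ IsLocalHom φ ∧
      ∃ i : Spec (CommRingCat.of A') ⟶ W₀, i ≫ k₀ = Spec.map (CommRingCat.ofHom φ) := by
  let η : Spec (CommRingCat.of A) := (⟨⊥, Ideal.isPrime_bot⟩ : PrimeSpectrum A)
  have hη : η ⤳ k₀ w₀ := by
    rw [hw₀]
    exact (PrimeSpectrum.le_iff_specializes (⟨⊥, Ideal.isPrime_bot⟩ : PrimeSpectrum A) (closedPoint A)).1 bot_le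
  obtain ⟨w', hw', hkw'⟩ := (Flat.generalizingMap k₀) hη
  obtain ⟨A₀, i₂, hsq, hcl⟩ := exists_valuationSubring_of_specializes (𝟙 W₀) w' w₀ hw'
  let φ : CommRingCat.of A ⟶ CommRingCat.of A₀ := Spec.preimage (i₂ ≫ k₀)
  have hφ : Spec.map φ = i₂ ≫ k₀ := Spec.map_preimage _
  refine ⟨A₀, inferInstance, inferInstance, inferInstance, φ.hom, ?_, ?_, i₂, hφ.symm⟩
  · -- injective
    let pt : Spec (W₀.residueField w') := closedPoint (W₀.residueField w')
    let gen : Spec (CommRingCat.of A₀) := (⟨⊥, Ideal.isPrime_bot⟩ : PrimeSpectrum A₀)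
    have h2 : (Spec.map (CommRingCat.ofHom (algebraMap A₀ (W₀.residueField w')))) pt = gen := by
      apply PrimeSpectrum.ext
      change Ideal.comap (algebraMap A₀ (W₀.residueField w')) (maximalIdeal _) = ⊥
      rw [IsLocalRing.maximalIdeal_eq_bot, ← RingHom.ker_eq_comap_bot,
        (RingHom.injective_iff_ker_eq_bot _).1 (FaithfulSMul.algebraMap_injective A₀ (W₀.residueField w'))]
    have h4 : i₂ gen = w' := by
      rw [← h2]
      change (Spec.map (CommRingCat.ofHom (algebraMap A₀ (W₀.residueField w'))) ≫ i₂) pt = w'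
      rw [← hsq, Category.comp_id]
      exact Scheme.fromSpecResidueField_apply w' _
    have h1 : (Spec.map φ) gen = η := by
      rw [hφ]
      change k₀ (i₂ gen) = η
      rw [h4, hkw']
    have h3 : Ideal.comap φ.hom ⊥ = ⊥ := congrArg PrimeSpectrum.asIdeal h1
    rw [RingHom.injective_iff_ker_eq_bot, RingHom.ker_eq_comap_bot]
    exact h3
  · -- local
    have h1 : (Spec.map φ) (closedPoint A₀ : Spec (CommRingCat.of A₀)) = closedPoint A := by
      rw [hφ]
      change k₀ (i₂ (closedPoint A₀)) = _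
      rw [hcl, hw₀]
    have h3 : Ideal.comap φ.hom (maximalIdeal A₀) = maximalIdeal A :=
      congrArg PrimeSpectrum.asIdeal h1
    exact ((IsLocalRing.local_hom_TFAE φ.hom).out 0 4).2 h3

end Groth.Agent.Lib.Helper66.ValFlat
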