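import Mathlib

/-!
# Valuation rings realising specialisations (scheme level)
-/

set_option autoImplicit false
universe u

open CategoryTheory CategoryTheory.Limits AlgebraicGeometry Opposite IsLocalRing

namespace Groth.Agent.Lib.Helper66.ValSpecialize

/-- A specialisation `f x' ⤳ y` is realised by a valuation subring of the residue field of `x'`
(extracted from the proof of `ValuativeCriterion.Existence.specializingMap`). -/
theorem exists_valuationSubring_of_specializes {X Y : Scheme.{u}} (f : X ⟶ Y) (x' : X) (y : Y)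
    (h : f x' ⤳ y) :
    ∃ (A : ValuationSubring (X.residueField x')) (i₂ : Spec (.of A) ⟶ Y),
      X.fromSpecResidueField x' ≫ f =
        Spec.map (CommRingCat.ofHom (algebraMap A (X.residueField x'))) ≫ i₂ ∧
      i₂ (closedPoint A) = y := by
  let stalk_y_to_residue_x' : Y.presheaf.stalk y ⟶ X.residueField x' :=
    Y.presheaf.stalkSpecializes h ≫ f.stalkMap x' ≫ X.residue x'
  obtain ⟨A, hA, hA_local⟩ := exists_factor_valuationRing stalk_y_to_residue_x'.hom
  let stalk_y_to_A : Y.presheaf.stalk y ⟶ .of A :=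
    CommRingCat.ofHom (stalk_y_to_residue_x'.hom.codRestrict _ hA)
  have w : X.fromSpecResidueField x' ≫ f =
      Spec.map (CommRingCat.ofHom (algebraMap A (X.residueField x'))) ≫
        Spec.map stalk_y_to_A ≫ Y.fromSpecStalk y := by
    rw [Scheme.fromSpecResidueField, Category.assoc, ← Scheme.SpecMap_stalkMap_fromSpecStalk,
      ← Scheme.SpecMap_stalkSpecializes_fromSpecStalk h]
    simp_rw [← Spec.map_comp_assoc]
    rfl
  refine ⟨A, Spec.map stalk_y_to_A ≫ Y.fromSpecStalk y, w, ?_⟩
  have : Spec.map stalk_y_to_A (closedPoint A) = closedPoint (Y.presheaf.stalk y) :=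
    comap_closedPoint (S := A) (stalk_y_to_residue_x'.hom.codRestrict A.toSubring hA)
  rw [Scheme.Hom.comp_apply, this, Y.fromSpecStalk_closedPoint]

/-- For a morphism of affine schemes, a point in the closure of the image is a specialisation of a
point of the image. -/
theorem exists_specializes_of_mem_closure_range {W V : Scheme.{u}} [IsAffine W] [IsAffine V]
    (k : W ⟶ V) (v₀ : V) (hv : v₀ ∈ closure (Set.range k)) : ∃ w₁ : W, k w₁ ⤳ v₀ := by
  let φ := k.appTop
  have nat : k ≫ V.toSpecΓ = W.toSpecΓ ≫ Spec.map φ := Scheme.toSpecΓ_naturality k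
  let p : PrimeSpectrum Γ(V, ⊤) := V.toSpecΓ v₀
  have hp : p ∈ closure (Set.range (Spec.map φ)) := by
    have h1 : p ∈ V.toSpecΓ '' closure (Set.range k) := ⟨v₀, hv, rfl⟩
    have h2 := image_closure_subset_closure_image V.toSpecΓ.continuous h1
    refine closure_mono ?_ h2
    rintro _ ⟨_, ⟨w, rfl⟩, rfl⟩
    refine ⟨W.toSpecΓ w, ?_⟩
    rw [← Scheme.Hom.comp_apply, ← nat, Scheme.Hom.comp_apply]
  have hker : RingHom.ker φ.hom ≤ p.asIdeal := by
    have h3 : p ∈ closure (Set.range (PrimeSpectrum.comap φ.hom)) := hp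
    rw [PrimeSpectrum.closure_range_comap] at h3
    exact h3
  obtain ⟨Q, -, hQ, hQp⟩ := Ideal.exists_ideal_comap_le_prime (f := φ.hom) p.asIdeal ⊥ hker
  let q : Spec Γ(W, ⊤) := ⟨Q, hQ⟩
  refine ⟨W.isoSpec.inv q, ?_⟩
  have hinj : Topology.IsInducing V.toSpecΓ :=
    (V.isoSpec.hom.homeomorph).isInducing
  rw [← hinj.specializes_iff]
  have e1 : V.toSpecΓ (k (W.isoSpec.inv q)) = Spec.map φ q := by
    rw [← Scheme.Hom.comp_apply, nat, Scheme.Hom.comp_apply]
    congr 1
    change (W.isoSpec.hom) (W.isoSpec.inv q) = q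
    rw [← Scheme.Hom.comp_apply, Iso.inv_hom_id]
    rfl
  rw [e1]
  exact (PrimeSpectrum.le_iff_specializes (PrimeSpectrum.comap φ.hom q) p).1 hQp

/-- For a morphism of affine schemes, a point in the closure of the image is the image of the closed point of
a valuation ring whose generic point lifts to the source. -/
theorem exists_valuationRing_of_mem_closure_range {W V : Scheme.{u}} [IsAffine W] [IsAffine V]
    (k : W ⟶ V) (v₀ : V) (hv : v₀ ∈ closure (Set.range k)) :
    ∃ (A : Type u) (_ : CommRing A) (_ : IsDomain A) (_ : ValuationRing A)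
      (i₂ : Spec (CommRingCat.of A) ⟶ V) (i₁ : Spec (CommRingCat.of (FractionRing A)) ⟶ W),
      Spec.map (CommRingCat.ofHom (algebraMap A (FractionRing A))) ≫ i₂ = i₁ ≫ k ∧
      i₂ (closedPoint A) = v₀ := by
  obtain ⟨w₁, hw₁⟩ := exists_specializes_of_mem_closure_range k v₀ hv
  obtain ⟨A₀, i₂, hsq, hcl⟩ := exists_valuationSubring_of_specializes k w₁ v₀ hw₁
  let e : FractionRing A₀ ≃ₐ[A₀] (W.residueField w₁) := FractionRing.algEquiv A₀ (W.residueField w₁)
  let ψ : (W.residueField w₁) →+* FractionRing A₀ := e.symm.toAlgHom.toRingHom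
  have hψ : ψ.comp (algebraMap A₀ (W.residueField w₁)) = algebraMap A₀ (FractionRing A₀) := by
    ext a
    exact e.symm.commutes a
  refine ⟨A₀, inferInstance, inferInstance, inferInstance, i₂,
    Spec.map (CommRingCat.ofHom ψ) ≫ W.fromSpecResidueField w₁, ?_, hcl⟩
  rw [Category.assoc, hsq, ← Spec.map_comp_assoc, ← CommRingCat.ofHom_comp, hψ]

end Groth.Agent.Lib.Helper66.ValSpecialize
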